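import Cfsg.Agent.Mrg.Omega.HOne.QuadAbs
import Mathlib
import Cfsg.Agent.Lib.NormalAbelian
import Cfsg.Agent.Omega.NatPair.Mod
import Cfsg.Agent.Mrg.Omega.Transv.Basic
import Cfsg.Agent.Mrg.Omega.Transv.Point
import Cfsg.Prelude.Def_Transfer
import Cfsg.Agent.Lib.SL2Mat
import Cfsg.Agent.Omega.KM.Bridge_m3
import Cfsg.Agent.Lib.AutSL2Out
import Cfsg.Agent.TwoFusion.SLTwoFacts
import Cfsg.Agent.LieRecognition.FieldSemilinear
import Cfsg.Agent.Mrg.ParSys.Core
import Cfsg.Agent.Lib.Refl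
import Cfsg.Agent.Lib.FinFast
import Cfsg.Agent.Nodes.TypeD
import Cfsg.Agent.LieRecognition.BNCox
import Cfsg.Agent.Mrg.ParSys.FreeTrans
import Cfsg.Agent.Mrg.Omega.EH3.NodeHom
import Cfsg.Agent.FastGrp
import Cfsg.Agent.Prune
set_option linter.all false

section
prune_inst 0x7ffcfcf9abb8a9dfdfff7e7fa79ecffc19901fffa6dffd4bffe0e9ff1b9f030009e52bad8de010fc0fd6621410b87853f97eca3fe26bd87ffffd1ff45ffbee0fb5e7bd08519688340fb80ff703f0778e7f3fffffffffffffffffffffffffffbeffbdffffffff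

-- part: Mrg/Omega/HOne/TvTail
section
prune_inst 0x302044406200000018058611003e468e00059200280001802006460688cf600d002121bc0035021818224400380028134c00d0004000000400000001180080002810041100a000420086000084000000000000000000000000000000000004000000000
set_option linter.all false
open scoped Cfsg.Agent.FastGrp

-- merged: Cfsg.Agent.Mrg.Omega.HOne.TvOpp
section

section


/-!
# II.0h1, `q = 2`, case (beta): (4), (5), (6) of #15959

* `TvH.jOpp : JOpp M r t Q N`;
* `TvH.jNon : JNon M r t N`.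
-/

set_option autoImplicit false
set_option linter.unusedSectionVars false

namespace Cfsg.Agent.Omega.HOne.TvDef

open Subgroup

variable {G : Type*} [Group G] {M : Subgroup G} {r t : G} {Q N : G → Subgroup G}

/-- the elements of `I_s` moved by `n` modulo `K_s` -/
def mvs (M : Subgroup G) (r : G) (Q : G → Subgroup G) (s n : G) : Set G :=
  {u | u ∈ UU M r ∧ u ∈ Q s ∧ n * u * n⁻¹ * u⁻¹ ∉ ZC Q s}

namespace TvH

variable (h : TvH M r t Q N)
include h

theorem Adj_UU {s a : G} (ha : Adj M r t s a) : a ∈ UU M r := Om_le_UU (h.Adj_right ha)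

/-- `x y x = y` in `U` -/
theorem UU_cancel {x y : G} (hx : x ∈ UU M r) (hy : y ∈ UU M r) : x * y * x = y := by
  rw [h.UU_comm hx hy, mul_assoc, h.UU_sq hx, mul_one]

theorem UU_cancel' {x : G} (hx : x ∈ UU M r) (y : G) : x * (x * y) = y := by
  rw [← mul_assoc, h.UU_sq hx, one_mul]

/-- `[n, u]` for `n ∈ N a`, `u ∈ I_s` -/
theorem cm {s a u n : G} (ha : Adj M r t s a) (hu : u ∈ UU M r) (hus : u ∈ Q s) (hn : n ∈ N a) :
    n * u * n⁻¹ * u⁻¹ ∈ UU M r ∧ n * u * n⁻¹ * u⁻¹ ∈ ZC Q a ∧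
      (n * u * n⁻¹ * u⁻¹ ∈ ZC Q s ∨ a * (n * u * n⁻¹ * u⁻¹) ∈ ZC Q s) := by
  have h1 := UU_comm_mem (h.N_le_M (h.Adj_right ha) hn) hu
  have h2 := h.UU_inv h1
  have e : n * u * n⁻¹ * u⁻¹ = u * n * u⁻¹ * n⁻¹ := by
    rw [← h2]; group
  obtain ⟨h3, -, h4⟩ := h.comm_IN ha hu hus hn
  rw [← e] at h3 h4
  exact ⟨h1, h3, h4⟩

/-- if `n ∈ N a` fixes the line `⟨s, b⟩` modulo `K_s` then it centralises `b` -/
theorem fix_of {s a b n : G} (ha : Adj M r t s a) (hb : Adj M r t s b) (hn : n ∈ N a)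
    (hz : n * b * n⁻¹ * b⁻¹ ∈ ZC Q s) : n * b * n⁻¹ = b := by
  have hbU := h.Adj_UU hb
  have hb' := h.Adj_N ha hb hn
  have hbU' := h.Adj_UU hb'
  have e : n * b * n⁻¹ * b⁻¹ = b * (n * b * n⁻¹) := by
    rw [h.UU_inv hbU, h.UU_comm hbU' hbU]
  rw [e] at hz
  rcases h.noPar_at hb hb' hz with h1 | h1
  · exact h1
  · exfalso
    have h2 := (h.cm ha hbU (h.Adj_mem hb) hn).2.1
    rw [h1, mul_inv_cancel_right] at h2
    exact h.not_both ha h2

/-- `n` commutes with the elements of `Z(Q a)` -/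
theorem N_ZC {a n c : G} (ha : a ∈ Om M r) (hn : n ∈ N a) (hc : c ∈ ZC Q a) : n * c * n⁻¹ = c := by
  rw [← h.ZC_comm hc (h.N_le_Q ha hn), mul_inv_cancel_right]

theorem N_fix_self {a n : G} (ha : a ∈ Om M r) (hn : n ∈ N a) : n * a * n⁻¹ = a :=
  h.N_ZC ha hn (h.mem_ZC ha)

theorem N_fix_s {s a n : G} (ha : Adj M r t s a) (hn : n ∈ N a) : n * s * n⁻¹ = s := by
  rw [h.N_comm ha hn, mul_inv_cancel_right]

/-- if `n ∈ N a` moves `b` -/
theorem mv_c {s a b n : G} (ha : Adj M r t s a) (hb : Adj M r t s b) (hn : n ∈ N a)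
    (hne : n * b * n⁻¹ ≠ b) :
    ∃ c, c ∈ UU M r ∧ c ∈ ZC Q s ∧ c ∈ ZC Q a ∧ n * b * n⁻¹ = a * b * c := by
  have hbU := h.Adj_UU hb
  have haU := h.Adj_UU ha
  obtain ⟨h1, h2, h3⟩ := h.cm ha hbU (h.Adj_mem hb) hn
  have h4 := h3.resolve_left fun hz => hne (h.fix_of ha hb hn hz)
  refine ⟨a * (n * b * n⁻¹ * b⁻¹), mul_mem haU h1, h4, mul_mem (h.mem_ZC (h.Adj_right ha)) h2, ?_⟩
  have e := h.UU_comm haU hbU
  calc n * b * n⁻¹ = b * (n * b * n⁻¹ * b⁻¹) := by
        rw [h.UU_comm hbU h1]; group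
    _ = b * (a * a) * (n * b * n⁻¹ * b⁻¹) := by rw [h.UU_sq haU, mul_one]
    _ = a * b * (a * (n * b * n⁻¹ * b⁻¹)) := by rw [e]; group

theorem mv_uniq {s a b n m c : G} (ha : Adj M r t s a) (hb : Adj M r t s b) (hn : n ∈ N a) (hm : m ∈ N a)
    (hcU : c ∈ UU M r) (hcs : c ∈ ZC Q s) (hnb : n * b * n⁻¹ = a * b * c) :
    m * b * m⁻¹ = b ∨ m * b * m⁻¹ = a * b * c := by
  by_cases hne : m * b * m⁻¹ = b
  · exact Or.inl hne
  right
  obtain ⟨c', hcU', hcs', hca', e'⟩ := h.mv_c ha hb hm hne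
  have hbU := h.Adj_UU hb
  have haU := h.Adj_UU ha
  have hA := h.Adj_right ha
  have e1 : n * m * b * (n * m)⁻¹ = b * (c * c') := by
    calc n * m * b * (n * m)⁻¹ = n * (m * b * m⁻¹) * n⁻¹ := by group
      _ = (n * a * n⁻¹) * (n * b * n⁻¹) * (n * c' * n⁻¹) := by rw [e']; group
      _ = a * (a * b * c) * c' := by rw [h.N_fix_self hA hn, hnb, h.N_ZC hA hn hca']
      _ = (a * a) * b * c * c' := by group
      _ = b * (c * c') := by rw [h.UU_sq haU]; group
  have h1 := h.fix_of ha hb (mul_mem hn hm) (by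
    rw [e1, h.UU_comm hbU (mul_mem hcU hcU'), mul_inv_cancel_right]
    exact mul_mem hcs hcs')
  rw [e1, mul_eq_left] at h1
  have h2 : c' = c := by
    have h3 : c * (c * c') = c * 1 := by rw [h1]
    rwa [h.UU_cancel' hcU, mul_one] at h3
  rw [e', h2]

/-! ### the action modulo `K_s` -/

/-- `K_s` is normalised by the elements commuting with `s` -/
theorem K_conj {s g x : G} (hg : g * s = s * g) (hx : x ∈ ZC Q s) : g * x * g⁻¹ ∈ ZC Q s :=
  (h.ZC_fix hg).2 hx

theorem inv_comm {g s : G} (hg : g * s = s * g) : g⁻¹ * s = s * g⁻¹ := by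
  have _ := h
  rw [inv_mul_eq_iff_eq_mul, ← mul_assoc, hg, mul_inv_cancel_right]

/-- `[m⁻¹, u] ∈ K_s` iff `[m, u] ∈ K_s` -/
theorem cm_inv {s m u : G} (hm : m * s = s * m) (hz : m * u * m⁻¹ * u⁻¹ ∈ ZC Q s) : m⁻¹ * u * m⁻¹⁻¹ * u⁻¹ ∈ ZC Q s := by
  have h1 := h.K_conj (h.inv_comm hm) (inv_mem hz)
  have e : m⁻¹ * (m * u * m⁻¹ * u⁻¹)⁻¹ * m⁻¹⁻¹ = m⁻¹ * u * m⁻¹⁻¹ * u⁻¹ := by group
  rwa [e] at h1

/-- the functional of a commutator -/
theorem mvs_comm {s a b n m c : G} (ha : Adj M r t s a) (hb : Adj M r t s b) (hn : n ∈ N a) (hm : m ∈ N b)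
    (hma : m * a * m⁻¹ = a) (hcs : c ∈ ZC Q s) (hnb : n * b * n⁻¹ = a * b * c) :
    mvs M r Q s (m * n * m⁻¹ * n⁻¹) = mvs M r Q s m := by
  have hbU := h.Adj_UU hb
  have haU := h.Adj_UU ha
  have hA := h.Adj_right ha
  have hB := h.Adj_right hb
  have hnM := h.N_le_M hA hn
  have hmM := h.N_le_M hB hm
  have hns := h.N_comm ha hn
  have hms := h.N_comm hb hm
  have key : ∀ u ∈ UU M r, u ∈ Q s → (m * n * m⁻¹ * n⁻¹ * u * (m * n * m⁻¹ * n⁻¹)⁻¹ * u⁻¹ ∈ ZC Q s ↔
      m * u * m⁻¹ * u⁻¹ ∈ ZC Q s) := by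
    intro u hu hus
    -- `v = n⁻¹ u n = d₁ u`
    obtain ⟨d₁, hd₁⟩ : ∃ d, d = n⁻¹ * u * n⁻¹⁻¹ * u⁻¹ := ⟨_, rfl⟩
    obtain ⟨hd₁U, -, hd₁'⟩ := h.cm ha hu hus (inv_mem hn)
    rw [← hd₁] at hd₁U hd₁'
    obtain ⟨v, hv⟩ : ∃ v, v = n⁻¹ * u * n⁻¹⁻¹ := ⟨_, rfl⟩
    have hvU : v ∈ UU M r := by rw [hv]; exact UU_conj (M.inv_mem hnM) hu
    have hvs : v ∈ Q s := by rw [hv]; exact (h.Q_fix (h.inv_comm hns)).2 hus
    have hvd : v = d₁ * u := by rw [hv, hd₁]; group
    -- `m⁻¹` on `d₁`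
    have hmd : m⁻¹ * d₁ * m⁻¹⁻¹ * d₁⁻¹ ∈ ZC Q s := by
      rcases hd₁' with h1 | h1
      · exact mul_mem (h.K_conj (h.inv_comm hms) h1) (inv_mem h1)
      · have h2 : m⁻¹ * a * m⁻¹⁻¹ = a := by
          nth_rewrite 1 [← hma]; group
        have h3 := mul_mem (h.K_conj (h.inv_comm hms) h1) (inv_mem h1)
        have e : m⁻¹ * (a * d₁) * m⁻¹⁻¹ * (a * d₁)⁻¹ = m⁻¹ * d₁ * m⁻¹⁻¹ * d₁⁻¹ := by
          have h4 := h.UU_comm haU (mul_mem (UU_conj (M.inv_mem hmM) hd₁U) (inv_mem hd₁U))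
          calc m⁻¹ * (a * d₁) * m⁻¹⁻¹ * (a * d₁)⁻¹
              = (m⁻¹ * a * m⁻¹⁻¹) * (m⁻¹ * d₁ * m⁻¹⁻¹ * d₁⁻¹) * a⁻¹ := by group
            _ = (a * (m⁻¹ * d₁ * m⁻¹⁻¹ * d₁⁻¹)) * a⁻¹ := by rw [h2]
            _ = _ := by rw [h4, mul_inv_cancel_right]
        rwa [e] at h3
    -- `m⁻¹` moves `v` iff `m` moves `u`
    obtain ⟨d₂, hd₂⟩ : ∃ d, d = m⁻¹ * v * m⁻¹⁻¹ * v⁻¹ := ⟨_, rfl⟩
    obtain ⟨hd₂U, -, hd₂'⟩ := h.cm hb hvU hvs (inv_mem hm)
    rw [← hd₂] at hd₂U hd₂'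
    have e2 : d₂ = (m⁻¹ * d₁ * m⁻¹⁻¹ * d₁⁻¹) * (m⁻¹ * u * m⁻¹⁻¹ * u⁻¹) := by
      have h4 := h.UU_comm (inv_mem hd₁U) (mul_mem (UU_conj (M.inv_mem hmM) hu) (inv_mem hu))
      calc d₂ = (m⁻¹ * d₁ * m⁻¹⁻¹) * ((m⁻¹ * u * m⁻¹⁻¹ * u⁻¹) * d₁⁻¹) := by rw [hd₂, hvd]; group
        _ = _ := by rw [← h4]; group
    have e3 : d₂ ∈ ZC Q s ↔ m * u * m⁻¹ * u⁻¹ ∈ ZC Q s := by
      rw [e2, mul_mem_cancel_left hmd]
      constructor
      · intro h1
        have h2 := h.cm_inv (h.inv_comm hms) h1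
        rwa [inv_inv] at h2
      · exact h.cm_inv hms
    -- the commutator
    have e4 : m * n * m⁻¹ * n⁻¹ * u * (m * n * m⁻¹ * n⁻¹)⁻¹ * u⁻¹ =
        (m * n * d₂ * (m * n)⁻¹) * (m * u * m⁻¹ * u⁻¹) := by
      calc m * n * m⁻¹ * n⁻¹ * u * (m * n * m⁻¹ * n⁻¹)⁻¹ * u⁻¹
          = m * n * (m⁻¹ * v * m⁻¹⁻¹) * (m * n)⁻¹ * u⁻¹ := by rw [hv]; group
        _ = m * n * (d₂ * v) * (m * n)⁻¹ * u⁻¹ := by rw [hd₂]; group
        _ = _ := by rw [hv]; group
    have hmn : m * n * s = s * (m * n) := by rw [mul_assoc, hns, ← mul_assoc, hms, mul_assoc]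
    rw [e4]
    by_cases hd : d₂ ∈ ZC Q s
    · rw [mul_mem_cancel_left (h.K_conj hmn hd)]
    · have h1 := hd₂'.resolve_left hd
      -- `d₂ = b k`
      have hdm := fun x => hd (e3.2 x)
      refine iff_of_false ?_ hdm
      have h2 := (h.cm hb hu hus hm).2.2.resolve_left hdm
      intro h3
      -- `m n d₂ ... = a b k'`
      have e5 : m * n * (b * d₂) * (m * n)⁻¹ = a * b * (m * c * m⁻¹) * (m * n * d₂ * (m * n)⁻¹) := by
        calc m * n * (b * d₂) * (m * n)⁻¹ = m * (n * b * n⁻¹) * m⁻¹ * (m * n * d₂ * (m * n)⁻¹) := by group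
          _ = (m * a * m⁻¹) * (m * b * m⁻¹) * (m * c * m⁻¹) * (m * n * d₂ * (m * n)⁻¹) := by
            rw [hnb]; group
          _ = _ := by rw [hma, h.N_fix_self hB hm]
      have h6 := h.K_conj hmn h1
      have hk := h.K_conj hms hcs
      rw [e5] at h6
      have hcU' : m * c * m⁻¹ ∈ ZC Q s := hk
      -- `a b (m n d₂ ...) ∈ K_s`
      obtain ⟨x, hx⟩ : ∃ x, x = m * n * d₂ * (m * n)⁻¹ := ⟨_, rfl⟩
      obtain ⟨y, hy⟩ : ∃ y, y = m * u * m⁻¹ * u⁻¹ := ⟨_, rfl⟩
      have hxU : x ∈ UU M r := by rw [hx]; exact UU_conj (mul_mem hmM hnM) hd₂U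
      have hyU : y ∈ UU M r := by rw [hy]; exact UU_comm_mem hmM hu
      rw [← hx] at h6 h3
      rw [← hy] at h3 h2
      have hcUU : c ∈ UU M r := by
        have : c = (a * b)⁻¹ * (n * b * n⁻¹) := by rw [hnb]; group
        rw [this]
        exact mul_mem (inv_mem (mul_mem haU hbU)) (UU_conj hnM hbU)
      have hkU : m * c * m⁻¹ ∈ UU M r := UU_conj hmM hcUU
      have h7 : a * b * x ∈ ZC Q s := by
        have e6 : a * b * x = (a * b * (m * c * m⁻¹) * x) * (m * c * m⁻¹)⁻¹ := by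
          rw [mul_assoc (a * b), h.UU_comm hkU hxU]; group
        rw [e6]
        exact mul_mem h6 (inv_mem hk)
      -- `a ∈ K_s`
      have h8 : a ∈ ZC Q s := by
        have e7 : a = (a * b * x) * (x * y) * (b * y) := by
          have e8 := h.UU_comm hyU hbU
          calc a = a * (b * (x * x) * (y * (y * b))) := by
                rw [h.UU_sq hxU, h.UU_cancel' hyU, mul_one, h.UU_sq hbU, mul_one]
            _ = (a * b * x) * (x * y) * (y * b) := by group
            _ = _ := by rw [e8]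
        rw [e7]
        exact mul_mem (mul_mem h7 h3) h2
      exact h.Adj_not_mem ha h8
  ext u
  constructor
  · rintro ⟨hu, hus, h1⟩
    exact ⟨hu, hus, fun h2 => h1 ((key u hu hus).2 h2)⟩
  · rintro ⟨hu, hus, h1⟩
    exact ⟨hu, hus, fun h2 => h1 ((key u hu hus).1 h2)⟩

/-- conjugation of `mvs` -/
theorem mvs_conj {s g n : G} (hg : g ∈ M) (hgs : g * s = s * g) :
    mvs M r Q s (g * n * g⁻¹) = (fun x => g * x * g⁻¹) '' mvs M r Q s n := by
  have hg' := h.inv_comm hgs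
  ext u
  constructor
  · rintro ⟨hu, hus, h1⟩
    refine ⟨g⁻¹ * u * g, ⟨?_, ?_, ?_⟩, by group⟩
    · have := UU_conj (M.inv_mem hg) hu
      rwa [inv_inv] at this
    · have := (h.Q_fix hg').2 hus
      rwa [inv_inv] at this
    · intro h2
      apply h1
      have h3 := h.K_conj hgs h2
      have e : g * (n * (g⁻¹ * u * g) * n⁻¹ * (g⁻¹ * u * g)⁻¹) * g⁻¹ =
        g * n * g⁻¹ * u * (g * n * g⁻¹)⁻¹ * u⁻¹ := by group
      rwa [e] at h3
  · rintro ⟨v, ⟨hv, hvs, h1⟩, rfl⟩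
    refine ⟨UU_conj hg hv, (h.Q_fix hgs).2 hvs, fun h2 => h1 ?_⟩
    have h3 := h.K_conj hg' h2
    have e : g⁻¹ * (g * n * g⁻¹ * (g * v * g⁻¹) * (g * n * g⁻¹)⁻¹ * (g * v * g⁻¹)⁻¹) * g⁻¹⁻¹ =
      n * v * n⁻¹ * v⁻¹ := by group
    rwa [e] at h3

/-- `opp` is symmetric -/
theorem opp_symm [Finite G] {s a b : G} (H : Opp M r t N s a b) : Opp M r t N s b a := by
  obtain ⟨ha, hb, n, hn, hne⟩ := H
  refine ⟨hb, ha, ?_⟩
  by_contra hcon
  push Not at hcon
  obtain ⟨c, -, hcs, -, hnb⟩ := h.mv_c ha hb hn hne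
  -- the two families
  set A : Set (Set G) := {X | ∃ n ∈ N a, X = mvs M r Q s n} with hA
  set B : Set (Set G) := {X | ∃ n ∈ N b, X = mvs M r Q s n} with hB
  obtain ⟨m₁, hm₁, e1, e2⟩ := ha
  obtain ⟨m₂, hm₂, e3, e4⟩ := hb
  have ha : Adj M r t s a := ⟨m₁, hm₁, e1, e2⟩
  have hb : Adj M r t s b := ⟨m₂, hm₂, e3, e4⟩
  set g := m₂ * m₁⁻¹ with hg
  have hgM : g ∈ M := M.mul_mem hm₂ (M.inv_mem hm₁)
  have hgs' : g * s * g⁻¹ = s := by
    calc g * s * g⁻¹ = m₂ * (m₁⁻¹ * s * m₁) * m₂⁻¹ := by rw [hg]; group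
      _ = m₂ * r * m₂⁻¹ := by rw [← e1]; group
      _ = s := e3
  have hgs : g * s = s * g := mul_inv_eq_iff_eq_mul.1 hgs'
  have hga : g * a * g⁻¹ = b := by
    calc g * a * g⁻¹ = m₂ * (m₁⁻¹ * a * m₁) * m₂⁻¹ := by rw [hg]; group
      _ = m₂ * t * m₂⁻¹ := by rw [← e2]; group
      _ = b := e4
  have hBA : B ⊆ A := by
    rintro X ⟨m, hm, rfl⟩
    refine ⟨m * n * m⁻¹ * n⁻¹, ?_, (h.mvs_comm ha hb hn hm (hcon m hm) hcs hnb).symm⟩
    exact mul_mem ((h.N_fix (mul_inv_eq_iff_eq_mul.1 (hcon m hm))).2 hn) (inv_mem hn)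
  have hAB : A.ncard ≤ B.ncard := by
    have h1 : (fun X : Set G => (fun x => g * x * g⁻¹) '' X) '' A ⊆ B := by
      rintro _ ⟨_, ⟨n, hn, rfl⟩, rfl⟩
      refine ⟨g * n * g⁻¹, ?_, (h.mvs_conj hgM hgs).symm⟩
      rw [← hga]
      exact h.N_conj.2 hn
    have hinj : Function.Injective (fun X : Set G => (fun x => g * x * g⁻¹) '' X) := by
      apply Set.image_injective.2
      intro x y hxy
      exact mul_left_cancel (mul_right_cancel hxy)
    rw [← Set.ncard_image_of_injective A hinj]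
    exact Set.ncard_le_ncard h1 (Set.toFinite _)
  have hE : B = A := Set.eq_of_subset_of_ncard_le hBA hAB (Set.toFinite _)
  have h1 : mvs M r Q s n ∈ B := by
    rw [hE]
    exact ⟨n, hn, rfl⟩
  obtain ⟨m, hm, e⟩ := h1
  have h2 : b ∈ mvs M r Q s n :=
    ⟨h.Adj_UU hb, h.Adj_mem hb, fun hz => hne (h.fix_of ha hb hn hz)⟩
  rw [e] at h2
  apply h2.2.2
  rw [h.N_fix_self (h.Adj_right hb) hm, mul_inv_cancel]
  exact one_mem _

/-- `n` moves `s b` iff it moves `b` -/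
theorem opp_right {s a b : G} (H : Opp M r t N s a b) : Opp M r t N s a (s * b) := by
  obtain ⟨ha, hb, n, hn, hne⟩ := H
  refine ⟨ha, h.Adj_mul hb, n, hn, fun e => hne ?_⟩
  have e1 : n * (s * b) * n⁻¹ = s * (n * b * n⁻¹) := by
    calc n * (s * b) * n⁻¹ = (n * s * n⁻¹) * (n * b * n⁻¹) := by group
      _ = _ := by rw [h.N_fix_s ha hn]
  rw [e1] at e
  exact mul_left_cancel e

theorem opp_left [Finite G] {s a b : G} (H : Opp M r t N s a b) : Opp M r t N s (s * a) b :=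
  h.opp_symm (h.opp_right (h.opp_symm H))

/-- **(4), (5) of #15959** -/
theorem jOpp [Finite G] : JOpp M r t Q N := by
  intro s a b H
  have H' := h.opp_symm H
  refine ⟨H', h.opp_left H, h.opp_right H, ?_, ?_, ?_⟩
  · rintro rfl
    obtain ⟨ha, -, n, hn, hne⟩ := H
    exact hne (h.N_fix_self (h.Adj_right ha) hn)
  · rintro rfl
    obtain ⟨ha, -, n, hn, hne⟩ := H
    apply hne
    calc n * (s * a) * n⁻¹ = (n * s * n⁻¹) * (n * a * n⁻¹) := by group
      _ = s * a := by rw [h.N_fix_s ha hn, h.N_fix_self (h.Adj_right ha) hn]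
  obtain ⟨ha, hb, n, hn, hne⟩ := H
  obtain ⟨-, -, n', hn', hne'⟩ := H'
  have haU := h.Adj_UU ha
  have hbU := h.Adj_UU hb
  have hA := h.Adj_right ha
  have hB := h.Adj_right hb
  have hS := ha.left
  have hsU : s ∈ UU M r := Om_le_UU hS
  obtain ⟨c, hcU, hcs, hca, hnb⟩ := h.mv_c ha hb hn hne
  obtain ⟨c', hcU', hcs', hcb', hnb'⟩ := h.mv_c hb ha hn' hne'
  have hab := h.UU_comm haU hbU
  rw [← hab] at hnb'
  have hT : Adj M r t s (a * b * c) := by rw [← hnb]; exact h.Adj_N ha hb hn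
  have hT' : Adj M r t s (a * b * c') := by rw [← hnb']; exact h.Adj_N hb ha hn'
  -- `c' ∈ {c, s c}`
  have h1 : a * b * c * (a * b * c') ∈ ZC Q s := by
    have e : a * b * c * (a * b * c') = c * c' := by
      have h2 := h.UU_comm (mul_mem haU hbU) hcU
      calc a * b * c * (a * b * c') = (a * b) * (c * (a * b)) * c' := by group
        _ = ((a * b) * (a * b)) * c * c' := by rw [← h2]; group
        _ = c * c' := by rw [h.UU_sq (mul_mem haU hbU), one_mul]
    rw [e]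
    exact mul_mem hcs hcs'
  have h2 : c' = c ∨ c' = s * c := by
    rcases h.noPar_at hT hT' h1 with h3 | h3
    · left
      exact mul_left_cancel h3
    · right
      have h4 : s * (a * b * c) = a * b * (s * c) := by
        rw [← mul_assoc s, h.UU_comm hsU (mul_mem haU hbU), mul_assoc]
      rw [h4] at h3
      exact mul_left_cancel h3
  -- `c ∈ C(Q (a b c'))`, `c' ∈ C(Q (a b c))`
  have hnc' : n * c' * n⁻¹ = c' := by
    rcases h2 with h3 | h3
    · rw [h3]; exact h.N_ZC hA hn hca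
    · rw [h3]
      calc n * (s * c) * n⁻¹ = (n * s * n⁻¹) * (n * c * n⁻¹) := by group
        _ = s * c := by rw [h.N_fix_s ha hn, h.N_ZC hA hn hca]
  have hnc : n' * c * n'⁻¹ = c := by
    have h4 : c = c' ∨ c = s * c' := by
      rcases h2 with h3 | h3
      · exact Or.inl h3.symm
      · right; rw [h3, h.UU_cancel' hsU]
    rcases h4 with h3 | h3
    · rw [h3]; exact h.N_ZC hB hn' hcb'
    · rw [h3]
      calc n' * (s * c') * n'⁻¹ = (n' * s * n'⁻¹) * (n' * c' * n'⁻¹) := by group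
        _ = s * c' := by rw [h.N_fix_s hb hn', h.N_ZC hB hn' hcb']
  have h5 : c' ∈ ZC Q (a * b * c) := by
    have := (h.ZC_conj (g := n)).2 hcb'
    rwa [hnc', hnb] at this
  have h6 : c ∈ ZC Q (a * b * c') := by
    have := (h.ZC_conj (g := n')).2 hca
    rwa [hnc, hnb'] at this
  have h7 : c ∈ ZC Q (a * b * c) := by
    rcases h2 with h3 | h3
    · rwa [h3] at h6
    · have h8 := h.Adj_CV hT' hcs h6
      have h9 : s * (a * b * c') = a * b * c := by
        have h4 : s * (a * b * c) = a * b * (s * c) := by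
          rw [← mul_assoc s, h.UU_comm hsU (mul_mem haU hbU), mul_assoc]
        rw [h3, ← h4, h.UU_cancel' hsU]
      rwa [h9] at h8
  have h8 : c' = c := by
    rcases h2 with h3 | h3
    · exact h3
    · exfalso
      have h9 : s ∈ ZC Q (a * b * c) := by
        have : s = c' * c := by rw [h3, mul_assoc, h.UU_sq hcU, mul_one]
        rw [this]
        exact mul_mem h5 h7
      exact h.not_both hT h9
  rw [h8] at hnb' hcb'
  refine ⟨c, ?_, hcU, hcs, hca, hcb', h7, hT, fun m hm => h.mv_uniq ha hb hn hm hcU hcs hnb, ?_⟩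
  · rintro rfl
    rw [mul_one] at hnb
    have h9 := h.red_at hA hbU (by
      intro m hm
      have h10 : m * b * m⁻¹ = b ∨ m * b * m⁻¹ = a * b := by
        have := h.mv_uniq ha hb hn hm hcU hcs (by rw [mul_one]; exact hnb)
        rwa [mul_one] at this
      have e : b * m * b⁻¹ * m⁻¹ = b * (m * b * m⁻¹)⁻¹ := by group
      rcases h10 with h11 | h11
      · left; rw [e, h11, mul_inv_cancel]
      · right
        rw [e, h11, hab, mul_inv_rev, h.UU_inv haU]
        rw [h.UU_comm haU (inv_mem hbU), ← mul_assoc, mul_inv_cancel, one_mul]) n hn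
    apply hne
    rw [← h9, mul_inv_cancel_right]
  · intro m hm
    have h9 := h.mv_uniq hb ha hn' hm hcU hcs (by rw [← hab]; exact hnb')
    rwa [← hab] at h9

/-! ### (6) -/

/-- lines on `s` which are not opposite: there is `y ∈ Q a` fixing `s` and moving `b` -/
theorem exists_y {s a b : G} (ha : Adj M r t s a) (hb : Adj M r t s b) (h1 : b ≠ a) (h2 : b ≠ s * a)
    (hba : b ∈ Q a) : ∃ y ∈ Q a, y * s = s * y ∧ y * b * y⁻¹ = a * b := by
  have hA := h.Adj_right ha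
  have haU := h.Adj_UU ha
  have hbU := h.Adj_UU hb
  have hS := ha.left
  have hsU : s ∈ UU M r := Om_le_UU hS
  have has := h.Adj_symm ha
  have hcm : ∀ y ∈ Q a, ∀ x ∈ Q a, y * x * y⁻¹ = x ∨ y * x * y⁻¹ = a * x := by
    intro y hy x hx
    rcases h.comm_Q hA hy hx with h3 | h3
    · left; exact mul_inv_eq_one.1 h3
    · right; exact mul_inv_eq_iff_eq_mul.1 h3
  by_contra hcon
  push Not at hcon
  have hfix : ∀ y ∈ Q a, y * s = s * y → y * b * y⁻¹ = b := by
    intro y hy hys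
    exact (hcm y hy b hba).resolve_right (hcon y hy hys)
  obtain ⟨q, hq, hqs⟩ := h.Adj_q has
  -- every `y` or `q⁻¹ y` commutes with `s`
  have hsa : s ∈ Q a := h.Adj_mem has
  have hor : ∀ y ∈ Q a, y * s = s * y ∨ (q⁻¹ * y) * s = s * (q⁻¹ * y) := by
    intro y hy
    rcases hcm y hy s hsa with h3 | h3
    · left; exact mul_inv_eq_iff_eq_mul.1 h3
    · right
      apply mul_inv_eq_iff_eq_mul.1
      calc q⁻¹ * y * s * (q⁻¹ * y)⁻¹ = q⁻¹ * (y * s * y⁻¹) * q := by group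
        _ = q⁻¹ * (q * s * q⁻¹) * q := by rw [h3, hqs]
        _ = s := by group
  -- `b' = b` or `s b` is in `Z(Q a)`
  have key : ∀ x, x ∈ UU M r → q * x * q⁻¹ = x → (∀ y ∈ Q a, y * s = s * y → y * x * y⁻¹ = x) → x ∈ ZC Q a := by
    intro x _ hqx hyx
    rw [mem_centralizer_iff]
    intro y hy
    rcases hor y hy with h3 | h3
    · exact mul_inv_eq_iff_eq_mul.1 (hyx y hy h3)
    · have h4 := hyx (q⁻¹ * y) ((Q a).mul_mem ((Q a).inv_mem hq) hy) h3
      apply mul_inv_eq_iff_eq_mul.1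
      calc y * x * y⁻¹ = q * (q⁻¹ * y * x * (q⁻¹ * y)⁻¹) * q⁻¹ := by group
        _ = x := by rw [h4, hqx]
  have hsQ : s ∈ ZC Q s := h.mem_ZC hS
  rcases hcm q hq b hba with h3 | h3
  · have h4 := key b hbU h3 hfix
    rcases h.Adj_ZQ has h4 (h.Adj_mem hb) with h5 | h5
    · exact h.Adj_not_mem hb h5
    · rcases h.noPar_at ha hb h5 with h6 | h6
      · exact h1 h6
      · exact h2 h6
  · have h4 := key (s * b) (mul_mem hsU hbU) (by
      calc q * (s * b) * q⁻¹ = (q * s * q⁻¹) * (q * b * q⁻¹) := by group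
        _ = a * s * (a * b) := by rw [hqs, h3]
        _ = (a * s * a) * b := by group
        _ = s * b := by rw [h.UU_cancel haU hsU]) (by
      intro y hy hys
      calc y * (s * b) * y⁻¹ = (y * s) * y⁻¹ * (y * b * y⁻¹) := by group
        _ = s * b := by rw [hys, hfix y hy hys, mul_inv_cancel_right])
    rcases h.Adj_ZQ has h4 (mul_mem (h.mem_Q hS) (h.Adj_mem hb)) with h5 | h5
    · exact h.Adj_not_mem hb ((mul_mem_cancel_left hsQ).1 h5)
    · have e : a * (s * b) = s * (a * b) := by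
        rw [← mul_assoc, h.UU_comm haU hsU, mul_assoc]
      rw [e, mul_mem_cancel_left hsQ] at h5
      rcases h.noPar_at ha hb h5 with h6 | h6
      · exact h1 h6
      · exact h2 h6

/-- **(6) of #15959** -/
theorem jNon [Finite G] : JNon M r t N := by
  intro s a b ha hb h1 h2 hno
  have hA := h.Adj_right ha
  have hB := h.Adj_right hb
  have haU := h.Adj_UU ha
  have hbU := h.Adj_UU hb
  have hS := ha.left
  have hsU : s ∈ UU M r := Om_le_UU hS
  have hba : b ∈ Q a := by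
    refine h.UN_at hA hbU fun n hn => ?_
    by_contra hne
    exact hno ⟨ha, hb, n, hn, fun e => hne (mul_inv_eq_iff_eq_mul.1 e).symm⟩
  have hab : a ∈ Q b := by
    refine h.UN_at hB haU fun n hn => ?_
    by_contra hne
    exact hno (h.opp_symm ⟨hb, ha, n, hn, fun e => hne (mul_inv_eq_iff_eq_mul.1 e).symm⟩)
  have h1' : a ≠ b := fun e => h1 e.symm
  have h2' : a ≠ s * b := by
    intro e
    apply h2
    rw [e, h.UU_cancel' hsU]
  obtain ⟨y, hy, hys, hyb⟩ := h.exists_y ha hb h1 h2 hba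
  have hconj : ∀ {g s' x : G}, g ∈ M → g * s' = s' * g → Adj M r t s' x → Adj M r t s' (g * x * g⁻¹) := by
    intro g s' x hg hgs hx
    have := hx.conj hg
    rwa [hgs, mul_inv_cancel_right] at this
  have r1 : Adj M r t s (a * b) := by
    rw [← hyb]
    exact hconj (h.Q_le_M hA hy) hys hb
  refine ⟨r1, ?_⟩
  -- `x ∈ Q b`, `s^x = b s`, `a^x = a`
  obtain ⟨x, hx, hxs, hxa⟩ : ∃ x ∈ Q b, x * s * x⁻¹ = b * s ∧ x * a * x⁻¹ = a := by
    obtain ⟨q, hq, hqs⟩ := h.Adj_q (h.Adj_symm hb)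
    rcases h.comm_Q hB hq hab with h3 | h3
    · exact ⟨q, hq, hqs, mul_inv_eq_one.1 h3⟩
    · have h4 : q * a * q⁻¹ = b * a := mul_inv_eq_iff_eq_mul.1 h3
      obtain ⟨y', hy', hys', hya'⟩ := h.exists_y hb ha h1' h2' hab
      have hqb : q * b * q⁻¹ = b := by
        rw [← h.ZC_comm (h.mem_ZC hB) hq, mul_inv_cancel_right]
      refine ⟨q * y', mul_mem hq hy', ?_, ?_⟩
      · calc q * y' * s * (q * y')⁻¹ = q * (y' * s) * y'⁻¹ * q⁻¹ := by group
          _ = q * s * q⁻¹ := by rw [hys']; group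
          _ = b * s := hqs
      · calc q * y' * a * (q * y')⁻¹ = q * (y' * a * y'⁻¹) * q⁻¹ := by group
          _ = (q * b * q⁻¹) * (q * a * q⁻¹) := by rw [hya']; group
          _ = b * (b * a) := by rw [hqb, h4]
          _ = a := h.UU_cancel' hbU a
  -- `x' ∈ Q s`, `b^x' = s b`, `a^x' = a`
  obtain ⟨x', hx', hxb', hxa'⟩ : ∃ x ∈ Q s, x * b * x⁻¹ = s * b ∧ x * a * x⁻¹ = a := by
    have hcm : ∀ y ∈ Q s, ∀ x ∈ Q s, y * x * y⁻¹ = x ∨ y * x * y⁻¹ = s * x := by
      intro y hy x hx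
      rcases h.comm_Q hS hy hx with h3 | h3
      · left; exact mul_inv_eq_one.1 h3
      · right; exact mul_inv_eq_iff_eq_mul.1 h3
    have hQs : ∀ y ∈ Q s, y * s * y⁻¹ = s := by
      intro y hy
      rw [← h.ZC_comm (h.mem_ZC hS) hy, mul_inv_cancel_right]
    obtain ⟨q, hq, hqb⟩ := h.Adj_q hb
    rcases hcm q hq a (h.Adj_mem ha) with h3 | h3
    · exact ⟨q, hq, hqb, h3⟩
    · -- an element moving exactly one of `a, b`
      by_contra hcon
      push Not at hcon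
      have h4 : a * b ∈ ZC Q s := by
        rw [mem_centralizer_iff]
        intro x hx
        apply mul_inv_eq_iff_eq_mul.1
        have e : x * (a * b) * x⁻¹ = (x * a * x⁻¹) * (x * b * x⁻¹) := by group
        rw [e]
        rcases hcm x hx a (h.Adj_mem ha) with h5 | h5
        · rcases hcm x hx b (h.Adj_mem hb) with h6 | h6
          · rw [h5, h6]
          · exact absurd h5 (hcon x hx h6)
        · rcases hcm x hx b (h.Adj_mem hb) with h6 | h6
          · exfalso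
            refine hcon (q * x) (mul_mem hq hx) ?_ ?_
            · calc q * x * b * (q * x)⁻¹ = q * (x * b * x⁻¹) * q⁻¹ := by group
                _ = s * b := by rw [h6, hqb]
            · calc q * x * a * (q * x)⁻¹ = q * (x * a * x⁻¹) * q⁻¹ := by group
                _ = (q * s * q⁻¹) * (q * a * q⁻¹) := by rw [h5]; group
                _ = s * (s * a) := by rw [hQs q hq, h3]
                _ = a := h.UU_cancel' hsU a
          · rw [h5, h6]
            calc s * a * (s * b) = (s * a * s) * b := by group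
              _ = a * b := by rw [h.UU_cancel hsU haU]
      rcases h.noPar_at ha hb h4 with h6 | h6
      · exact h1 h6
      · exact h2 h6
  have r2 : Adj M r t a (b * s) := by
    rw [← hxs]
    exact hconj (h.Q_le_M hB hx) (mul_inv_eq_iff_eq_mul.1 hxa) (h.Adj_symm ha)
  have r3 := hconj (h.Q_le_M hS hx') (mul_inv_eq_iff_eq_mul.1 hxa') r2
  have e : x' * (b * s) * x'⁻¹ = b := by
    have hs' : x' * s * x'⁻¹ = s := by
      rw [← h.ZC_comm (h.mem_ZC hS) hx', mul_inv_cancel_right]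
    calc x' * (b * s) * x'⁻¹ = (x' * b * x'⁻¹) * (x' * s * x'⁻¹) := by group
      _ = s * b * s := by rw [hxb', hs']
      _ = b := h.UU_cancel hsU hbU
  rwa [e] at r3

end TvH

end Cfsg.Agent.Omega.HOne.TvDef

end

section


/-!
# II.0h1, `q = 2`, case (β): the dichotomy (7) of the transvection statement (helper865)

The residue at a point `s`, abstractly: `K ≤ W` subgroups of an abelian group `U` of exponent two, `Γ` a set of
representatives of the lines on `s` (`W - K = ⋃_{t ∈ Γ} tK`), `N t` acts on `W / K` by transvections with centre `tK`.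

* `relIndex_le_two`: three subgroups of the same order covering `W` have index at most two;
* `Res`: the hypotheses, `Res.opp`: opposite lines;
* `Res.dich`: either all pairs of distinct lines are opposite, or `n ∈ N t` moves all the opposites of `t` as soon as it
  moves one of them.
-/

set_option autoImplicit false

namespace Cfsg.Agent.Omega.HOne.TvLin

open Subgroup

variable {G : Type*} [Group G]

/-- Three subgroups of the same order covering `W` have index at most two in `W`. -/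
theorem card_le_two_mul [Finite G] {A B C W : Subgroup G} (hA : A ≤ W)
    (h : ∀ w ∈ W, w ∈ A ∨ w ∈ B ∨ w ∈ C) (hB : Nat.card B = Nat.card A) (hC : Nat.card C = Nat.card A) :
    Nat.card W ≤ 2 * Nat.card A := by
  classical
  have hfin : ∀ H : Subgroup G, (H : Set G).Finite := fun H => Set.toFinite _
  have hsub : (W : Set G) ⊆ {1} ∪ (((A : Set G) \ {1}) ∪ ((B : Set G) \ {1}) ∪ ((C : Set G) \ {1})) := by
    intro w hw
    by_cases h1 : w = 1
    · exact Or.inl h1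
    · right
      rcases h w hw with h2 | h2 | h2
      · exact Or.inl (Or.inl ⟨h2, h1⟩)
      · exact Or.inl (Or.inr ⟨h2, h1⟩)
      · exact Or.inr ⟨h2, h1⟩
  have hc : ∀ H : Subgroup G, ((H : Set G) \ {1}).ncard = Nat.card H - 1 := by
    intro H
    rw [Set.ncard_sdiff_singleton_of_mem H.one_mem]
    rfl
  have h1 : (W : Set G).ncard ≤ 1 + (Nat.card A - 1 + (Nat.card B - 1) + (Nat.card C - 1)) := by
    refine (Set.ncard_le_ncard hsub (Set.toFinite _)).trans ((Set.ncard_union_le _ _).trans ?_)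
    rw [Set.ncard_singleton]
    refine Nat.add_le_add_left ((Set.ncard_union_le _ _).trans ?_) 1
    rw [hc C]
    refine Nat.add_le_add_right ((Set.ncard_union_le _ _).trans ?_) _
    rw [hc A, hc B]
  have hpos : 0 < Nat.card A := Nat.card_pos
  have hW : (W : Set G).ncard = Nat.card W := rfl
  rw [hW, hB, hC] at h1
  obtain ⟨k, hk⟩ := card_dvd_of_le hA
  rw [hk] at h1 ⊢
  have h3 : k < 3 := by
    by_contra h3
    have h4 : Nat.card A * 3 ≤ Nat.card A * k := Nat.mul_le_mul le_rfl (not_lt.mp h3)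
    omega
  rw [mul_comm 2]
  exact Nat.mul_le_mul le_rfl (by omega)

/-- The residue at a point. -/
structure Res (U K W : Subgroup G) (Γ : Set G) (N : G → Subgroup G) : Prop where
  comm : ∀ a ∈ U, ∀ b ∈ U, a * b = b * a
  sq : ∀ a ∈ U, a * a = 1
  WU : W ≤ U
  KW : K ≤ W
  ΓW : ∀ t ∈ Γ, t ∈ W
  ΓK : ∀ t ∈ Γ, t ∉ K
  /-- the nonzero vectors of `W / K` are the lines -/
  cov : ∀ w ∈ W, w ∉ K → ∃ t ∈ Γ, t * w ∈ K
  /-- `N t` normalises `K` -/
  NK : ∀ t ∈ Γ, ∀ n ∈ N t, ∀ k ∈ K, n * k * n⁻¹ ∈ K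
  /-- transvections with centre `tK` -/
  tv : ∀ t ∈ Γ, ∀ n ∈ N t, ∀ w ∈ W, n * w * n⁻¹ * w ∈ K ∨ n * w * n⁻¹ * w * t ∈ K
  /-- `N t` centralises `t` -/
  Nt : ∀ t ∈ Γ, ∀ n ∈ N t, n * t = t * n
  /-- if `n ∈ N t` fixes the line of `t'`, it centralises `t'` -/
  fix : ∀ t ∈ Γ, ∀ n ∈ N t, ∀ t' ∈ Γ, n * t' * n⁻¹ * t' ∈ K → n * t' = t' * n
  /-- if `m ∈ N t'` centralises `t`, it normalises `N t` -/
  norm : ∀ t ∈ Γ, ∀ t' ∈ Γ, ∀ m ∈ N t', m * t = t * m → ∀ n ∈ N t, m * n * m⁻¹ ∈ N t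
  /-- opposite is symmetric -/
  symm : ∀ t ∈ Γ, ∀ t' ∈ Γ, (∃ n ∈ N t, n * t' ≠ t' * n) → ∃ n ∈ N t', n * t ≠ t * n
  /-- the lines are conjugate -/
  tran : ∀ t ∈ Γ, ∀ t' ∈ Γ, ∃ g : G, (∀ x, x ∈ K ↔ g * x * g⁻¹ ∈ K) ∧ (∀ x, x ∈ W ↔ g * x * g⁻¹ ∈ W) ∧
    ∀ x, x ∈ N t ↔ g * x * g⁻¹ ∈ N t'

namespace Res

variable {U K W : Subgroup G} {Γ : Set G} {N : G → Subgroup G} (h : Res U K W Γ N)

include h

/-- `C_W(N t mod K)` -/
def _root_.Cfsg.Agent.Omega.HOne.TvLin.fixSet (K W : Subgroup G) (T : Set G) : Set G :=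
  {w | w ∈ W ∧ ∀ n ∈ T, n * w * n⁻¹ * w ∈ K}

theorem conj_mem {t : G} (ht : t ∈ Γ) {n : G} (hn : n ∈ N t) {w : G} (hw : w ∈ W) : n * w * n⁻¹ ∈ W := by
  have hwU := h.WU hw
  rcases h.tv t ht n hn w hw with h1 | h1
  · have h2 : n * w * n⁻¹ = (n * w * n⁻¹ * w) * w := by rw [mul_assoc (n * w * n⁻¹) w w, h.sq w hwU, mul_one]
    rw [h2]
    exact W.mul_mem (h.KW h1) hw
  · have h2 : n * w * n⁻¹ = (n * w * n⁻¹ * w * t) * (t * w) := by
      have h3 := h.sq t (h.WU (h.ΓW t ht))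
      have h4 := h.sq w hwU
      calc n * w * n⁻¹ = n * w * n⁻¹ * (w * w) := by rw [h4, mul_one]
        _ = n * w * n⁻¹ * w * (t * t) * w := by rw [h3, mul_one]; group
        _ = _ := by group
    rw [h2]
    exact W.mul_mem (h.KW h1) (W.mul_mem (h.ΓW t ht) hw)

/-- The subgroup `C_W(T mod K)`. -/
def _root_.Cfsg.Agent.Omega.HOne.TvLin.Res.fixK (h : Res U K W Γ N) {t : G} (ht : t ∈ Γ) (T : Set G)
    (hT : T ⊆ N t) : Subgroup G where
  carrier := fixSet K W T
  one_mem' := ⟨W.one_mem, fun n _ => by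
    rw [mul_one, mul_one, mul_inv_cancel]
    exact K.one_mem⟩
  mul_mem' := by
    rintro a b ⟨ha, ha'⟩ ⟨hb, hb'⟩
    refine ⟨W.mul_mem ha hb, fun n hn => ?_⟩
    have h1 := h.comm a (h.WU ha) (n * b * n⁻¹) (h.WU (h.conj_mem ht (hT hn) hb))
    have h2 : n * (a * b) * n⁻¹ * (a * b) = (n * a * n⁻¹ * a) * (n * b * n⁻¹ * b) := by
      calc n * (a * b) * n⁻¹ * (a * b) = (n * a * n⁻¹) * ((n * b * n⁻¹) * a) * b := by group
        _ = (n * a * n⁻¹) * (a * (n * b * n⁻¹)) * b := by rw [h1]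
        _ = _ := by group
    rw [h2]
    exact K.mul_mem (ha' n hn) (hb' n hn)
  inv_mem' := by
    rintro a ⟨ha, ha'⟩
    have h1 : a⁻¹ = a := inv_eq_of_mul_eq_one_left (h.sq a (h.WU ha))
    rw [h1]
    exact ⟨ha, ha'⟩

theorem mem_fixK {t : G} (ht : t ∈ Γ) {T : Set G} (hT : T ⊆ N t) {w : G} :
    w ∈ h.fixK ht T hT ↔ w ∈ W ∧ ∀ n ∈ T, n * w * n⁻¹ * w ∈ K := Iff.rfl

/-- `A_t` -/
def _root_.Cfsg.Agent.Omega.HOne.TvLin.Res.A (h : Res U K W Γ N) {t : G} (ht : t ∈ Γ) : Subgroup G :=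
  h.fixK ht (N t) subset_rfl

theorem mem_A {t : G} (ht : t ∈ Γ) {w : G} : w ∈ h.A ht ↔ w ∈ W ∧ ∀ n ∈ N t, n * w * n⁻¹ * w ∈ K := Iff.rfl

theorem K_le {t : G} (ht : t ∈ Γ) {T : Set G} (hT : T ⊆ N t) : K ≤ h.fixK ht T hT :=
  fun k hk => ⟨h.KW hk, fun n hn => K.mul_mem (h.NK t ht n (hT hn) k hk) hk⟩

/-- `t' ∈ A_t` iff `N t` centralises `t'` -/
theorem mem_A_iff {t t' : G} (ht : t ∈ Γ) (ht' : t' ∈ Γ) : t' ∈ h.A ht ↔ ∀ n ∈ N t, n * t' = t' * n := by
  constructor
  · rintro ⟨-, h1⟩ n hn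
    exact h.fix t ht n hn t' ht' (h1 n hn)
  · intro h1
    refine ⟨h.ΓW t' ht', fun n hn => ?_⟩
    rw [h1 n hn, mul_inv_cancel_right, h.sq t' (h.WU (h.ΓW t' ht'))]
    exact K.one_mem

theorem mem_A_comm {t t' : G} (ht : t ∈ Γ) (ht' : t' ∈ Γ) : t' ∈ h.A ht ↔ t ∈ h.A ht' := by
  rw [h.mem_A_iff ht ht', h.mem_A_iff ht' ht]
  constructor
  · intro h1
    by_contra h2
    push Not at h2
    obtain ⟨n, hn, hn'⟩ := h.symm t' ht' t ht h2
    exact hn' (h1 n hn)
  · intro h1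
    by_contra h2
    push Not at h2
    obtain ⟨n, hn, hn'⟩ := h.symm t ht t' ht' h2
    exact hn' (h1 n hn)

/-- membership only depends on the coset of `K` -/
theorem mem_A_congr {t : G} (ht : t ∈ Γ) {w w' : G} (hw : w * w' ∈ K) (hw' : w' ∈ W) :
    w ∈ h.A ht ↔ w' ∈ h.A ht := by
  have hK : w * w' ∈ h.A ht := h.K_le ht subset_rfl hw
  have h1 : w = w * w' * w' := by rw [mul_assoc, h.sq w' (h.WU hw'), mul_one]
  constructor
  · intro h2
    exact (mul_mem_cancel_left h2).1 hK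
  · intro h2
    rw [h1]
    exact (h.A ht).mul_mem hK h2

/-- `N t` normalises `K`, both ways -/
theorem conj_K_iff {t : G} (ht : t ∈ Γ) {n : G} (hn : n ∈ N t) {x : G} : n * x * n⁻¹ ∈ K ↔ x ∈ K := by
  constructor
  · intro h1
    have h2 := h.NK t ht n⁻¹ ((N t).inv_mem hn) _ h1
    have h3 : n⁻¹ * (n * x * n⁻¹) * n⁻¹⁻¹ = x := by group
    rwa [h3] at h2
  · exact h.NK t ht n hn x

/-- **Step 1.** `m ∈ N t'` centralising `t` fixes all of `A_t` modulo `K`, for `t'` opposite to `t`. -/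
theorem step {t t' : G} (ht : t ∈ Γ) (ht' : t' ∈ Γ) (ho : t' ∉ h.A ht) {m : G} (hm : m ∈ N t')
    (hmt : m * t = t * m) {w : G} (hw : w ∈ h.A ht) : m * w * m⁻¹ * w ∈ K := by
  by_contra hcon
  obtain ⟨hwW, hw'⟩ := hw
  have hwU := h.WU hwW
  have htU := h.WU (h.ΓW t ht)
  have ht'U := h.WU (h.ΓW t' ht')
  -- `w ^ m = w t'` modulo `K`
  have h1 : m * w * m⁻¹ * w * t' ∈ K := (h.tv t' ht' m hm w hwW).resolve_left hcon
  -- `n ∈ N t` moving `t'`
  have h2 : ∃ n ∈ N t, n * t' * n⁻¹ * t' ∉ K := by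
    by_contra h3
    push Not at h3
    exact ho ⟨h.ΓW t' ht', h3⟩
  obtain ⟨n, hn, hnt'⟩ := h2
  have h3 : n * t' * n⁻¹ * t' * t ∈ K := (h.tv t ht n hn t' (h.ΓW t' ht')).resolve_left hnt'
  -- `m n m⁻¹ n⁻¹ ∈ N t` moves `w`
  have h4 : m * n * m⁻¹ * n⁻¹ ∈ N t := (N t).mul_mem (h.norm t ht t' ht' m hm hmt n hn) ((N t).inv_mem hn)
  have h5 := hw' _ h4
  -- the cosets
  set k1 := m * w * m⁻¹ * w * t' with hk1
  set k2 := n * t' * n⁻¹ * t' * t with hk2
  have sqt := h.sq t htU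
  have sqt' := h.sq t' ht'U
  have sqw := h.sq w hwU
  have e1 : m * w * m⁻¹ = k1 * (t' * w) := by
    rw [hk1]
    calc m * w * m⁻¹ = m * w * m⁻¹ * (w * w) := by rw [sqw, mul_one]
      _ = m * w * m⁻¹ * w * (t' * t') * w := by rw [sqt', mul_one]; group
      _ = _ := by group
  have e2 : n * t' * n⁻¹ = k2 * (t * t') := by
    rw [hk2]
    calc n * t' * n⁻¹ = n * t' * n⁻¹ * (t' * t') := by rw [sqt', mul_one]
      _ = n * t' * n⁻¹ * t' * (t * t) * t' := by rw [sqt, mul_one]; group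
      _ = _ := by group
  -- `w ^ n = w` modulo `K`
  have h6 := hw' n⁻¹ ((N t).inv_mem hn)
  set k3 := n⁻¹ * w * n⁻¹⁻¹ * w with hk3
  have e3 : n⁻¹ * w * n⁻¹⁻¹ = k3 * w := by
    rw [hk3, mul_assoc _ w w, sqw, mul_one]
  have hmi : m⁻¹ ∈ N t' := (N t').inv_mem hm
  -- `w ^ (m⁻¹)`
  have h7 : m⁻¹ * w * m⁻¹⁻¹ * w * t' ∈ K := by
    refine (h.tv t' ht' m⁻¹ hmi w hwW).resolve_left fun h8 => hcon ?_
    have h9 := h.NK t' ht' m hm _ h8
    have h10 : m * (m⁻¹ * w * m⁻¹⁻¹ * w) * m⁻¹ = w * (m * w * m⁻¹) := by group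
    rw [h10, h.comm w hwU _ (h.WU (h.conj_mem ht' hm hwW))] at h9
    exact h9
  set k4 := m⁻¹ * w * m⁻¹⁻¹ * w * t' with hk4
  have e4 : m⁻¹ * w * m⁻¹⁻¹ = k4 * (t' * w) := by
    rw [hk4]
    calc m⁻¹ * w * m⁻¹⁻¹ = m⁻¹ * w * m⁻¹⁻¹ * (w * w) := by rw [sqw, mul_one]
      _ = m⁻¹ * w * m⁻¹⁻¹ * w * (t' * t') * w := by rw [sqt', mul_one]; group
      _ = _ := by group
  have hnt : n * t * n⁻¹ = t := by rw [h.Nt t ht n hn, mul_inv_cancel_right]
  have hmt1 : m * t * m⁻¹ = t := by rw [hmt, mul_inv_cancel_right]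
  have hmt' : m⁻¹ * t' * m⁻¹⁻¹ = t' := by
    have := h.Nt t' ht' m⁻¹ hmi
    rw [this, mul_inv_cancel_right]
  have hmt'' : m * t' * m⁻¹ = t' := by rw [h.Nt t' ht' m hm, mul_inv_cancel_right]
  -- conjugate `w` by `m n m⁻¹ n⁻¹`
  have e5 : m * n * m⁻¹ * n⁻¹ * w * (m * n * m⁻¹ * n⁻¹)⁻¹ =
      (m * (n * (m⁻¹ * k3 * m⁻¹⁻¹) * n⁻¹) * m⁻¹) * (m * (n * k4 * n⁻¹) * m⁻¹) *
        (m * k2 * m⁻¹) * (t * t') * (m * (n * w * n⁻¹) * m⁻¹) := by
    calc m * n * m⁻¹ * n⁻¹ * w * (m * n * m⁻¹ * n⁻¹)⁻¹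
        = m * (n * (m⁻¹ * (n⁻¹ * w * n⁻¹⁻¹) * m⁻¹⁻¹) * n⁻¹) * m⁻¹ := by group
      _ = m * (n * (m⁻¹ * (k3 * w) * m⁻¹⁻¹) * n⁻¹) * m⁻¹ := by rw [e3]
      _ = m * (n * ((m⁻¹ * k3 * m⁻¹⁻¹) * (m⁻¹ * w * m⁻¹⁻¹)) * n⁻¹) * m⁻¹ := by group
      _ = m * (n * ((m⁻¹ * k3 * m⁻¹⁻¹) * (k4 * (t' * w))) * n⁻¹) * m⁻¹ := by rw [e4]
      _ = (m * (n * (m⁻¹ * k3 * m⁻¹⁻¹) * n⁻¹) * m⁻¹) * (m * (n * k4 * n⁻¹) * m⁻¹) *
            (m * (n * t' * n⁻¹) * m⁻¹) * (m * (n * w * n⁻¹) * m⁻¹) := by group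
      _ = (m * (n * (m⁻¹ * k3 * m⁻¹⁻¹) * n⁻¹) * m⁻¹) * (m * (n * k4 * n⁻¹) * m⁻¹) *
            (m * (k2 * (t * t')) * m⁻¹) * (m * (n * w * n⁻¹) * m⁻¹) := by rw [e2]
      _ = (m * (n * (m⁻¹ * k3 * m⁻¹⁻¹) * n⁻¹) * m⁻¹) * (m * (n * k4 * n⁻¹) * m⁻¹) *
            ((m * k2 * m⁻¹) * ((m * t * m⁻¹) * (m * t' * m⁻¹))) * (m * (n * w * n⁻¹) * m⁻¹) := by group
      _ = _ := by rw [hmt1, hmt'']; group
  have h8 := hw' n hn
  set k5 := n * w * n⁻¹ * w with hk5
  have e6 : n * w * n⁻¹ = k5 * w := by rw [hk5, mul_assoc _ w w, sqw, mul_one]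
  have e7 : m * (n * w * n⁻¹) * m⁻¹ = (m * k5 * m⁻¹) * (k1 * (t' * w)) := by
    rw [e6, ← e1]
    group
  -- all the `k`'s are in `K`
  have c1 : m * (n * (m⁻¹ * k3 * m⁻¹⁻¹) * n⁻¹) * m⁻¹ ∈ K :=
    h.NK t' ht' m hm _ (h.NK t ht n hn _ (h.NK t' ht' m⁻¹ hmi _ h6))
  have c2 : m * (n * k4 * n⁻¹) * m⁻¹ ∈ K := h.NK t' ht' m hm _ (h.NK t ht n hn _ h7)
  have c3 : m * k2 * m⁻¹ ∈ K := h.NK t' ht' m hm _ h3
  have c4 : m * k5 * m⁻¹ ∈ K := h.NK t' ht' m hm _ h8
  rw [e5, e7] at h5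
  set a := m * (n * (m⁻¹ * k3 * m⁻¹⁻¹) * n⁻¹) * m⁻¹ with ha
  set b := m * (n * k4 * n⁻¹) * m⁻¹ with hb
  set c := m * k2 * m⁻¹ with hc
  set d := m * k5 * m⁻¹ with hd
  -- `a b c (t t') d k1 (t' w) w ∈ K`, so `t ∈ K`
  have KU : K ≤ U := h.KW.trans h.WU
  have h9 : a * b * c * (t * t') * (d * (k1 * (t' * w))) * w = (a * b * c * d * k1) * t := by
    have f1 : (t * t') * (d * k1) = (d * k1) * (t * t') :=
      h.comm _ (U.mul_mem htU ht'U) _ (KU (K.mul_mem c4 h1))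
    calc a * b * c * (t * t') * (d * (k1 * (t' * w))) * w
        = a * b * c * ((t * t') * (d * k1)) * t' * (w * w) := by group
      _ = a * b * c * ((d * k1) * (t * t')) * t' * (w * w) := by rw [f1]
      _ = a * b * c * (d * k1) * t * (t' * t') * (w * w) := by group
      _ = _ := by rw [sqt', sqw]; group
  rw [h9] at h5
  refine h.ΓK t ht ((mul_mem_cancel_left ?_).1 h5)
  exact K.mul_mem (K.mul_mem (K.mul_mem (K.mul_mem c1 c2) c3) c4) h1

/-- one element does not move two vectors and their product -/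
theorem mv_mul {t n : G} (ht : t ∈ Γ) (hn : n ∈ N t) {w w' : G} (hw : w ∈ W) (hw' : w' ∈ W)
    (h1 : n * w * n⁻¹ * w ∉ K) (h2 : n * w' * n⁻¹ * w' ∉ K) : n * (w * w') * n⁻¹ * (w * w') ∈ K := by
  have h3 := (h.tv t ht n hn w hw).resolve_left h1
  have h4 := (h.tv t ht n hn w' hw').resolve_left h2
  have htU := h.WU (h.ΓW t ht)
  have KU : K ≤ U := h.KW.trans h.WU
  have h5 := h.comm w (h.WU hw) (n * w' * n⁻¹) (h.WU (h.conj_mem ht hn hw'))
  have h6 := h.comm t htU (n * w' * n⁻¹ * w') (U.mul_mem (h.WU (h.conj_mem ht hn hw')) (h.WU hw'))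
  have h7 : n * (w * w') * n⁻¹ * (w * w') = (n * w * n⁻¹ * w * t) * (n * w' * n⁻¹ * w' * t) := by
    calc n * (w * w') * n⁻¹ * (w * w') = (n * w * n⁻¹) * ((n * w' * n⁻¹) * w) * w' := by group
      _ = (n * w * n⁻¹) * (w * (n * w' * n⁻¹)) * w' := by rw [h5]
      _ = (n * w * n⁻¹ * w) * (n * w' * n⁻¹ * w') := by group
      _ = (n * w * n⁻¹ * w) * (t * t) * (n * w' * n⁻¹ * w') := by rw [h.sq t htU, mul_one]
      _ = (n * w * n⁻¹ * w * t) * (t * (n * w' * n⁻¹ * w')) := by group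
      _ = _ := by rw [h6]
  rw [h7]
  exact K.mul_mem h3 h4

theorem mv_mul_left {t n : G} (ht : t ∈ Γ) (hn : n ∈ N t) {w w' : G} (hw : w ∈ W) (hw' : w' ∈ W)
    (h1 : n * w * n⁻¹ * w ∉ K) (h2 : n * w' * n⁻¹ * w' ∈ K) : n * (w * w') * n⁻¹ * (w * w') ∉ K := by
  intro h3
  have hT : {n} ⊆ (N t : Set G) := Set.singleton_subset_iff.mpr hn
  have h4 : w' ∈ h.fixK ht {n} hT := (h.mem_fixK ht hT).2 ⟨hw', fun m hm => by rw [Set.mem_singleton_iff.mp hm]; exact h2⟩
  have h5 : w * w' ∈ h.fixK ht {n} hT :=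
    (h.mem_fixK ht hT).2 ⟨W.mul_mem hw hw', fun m hm => by rw [Set.mem_singleton_iff.mp hm]; exact h3⟩
  have h6 := (mul_mem_cancel_right h4).1 h5
  exact h1 (((h.mem_fixK ht hT).1 h6).2 n rfl)

/-- composition: `n` not moving `w`, then `n n'` moves `w` iff `n'` does. -/
theorem mv_comp_right {t n n' : G} (ht : t ∈ Γ) (hn : n ∈ N t) {w : G} (hw : w ∈ W)
    (h1 : n * w * n⁻¹ * w ∈ K) : (n * n') * w * (n * n')⁻¹ * w ∈ K ↔ n' * w * n'⁻¹ * w ∈ K := by
  have e : (n * n') * w * (n * n')⁻¹ * w = (n * (n' * w * n'⁻¹ * w) * n⁻¹) * (n * w * n⁻¹ * w)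
      := by
    have h2 : (n * w * n⁻¹) * (n * w * n⁻¹) = 1 := by
      calc (n * w * n⁻¹) * (n * w * n⁻¹) = n * (w * w) * n⁻¹ := by group
        _ = 1 := by rw [h.sq w (h.WU hw)]; group
    calc (n * n') * w * (n * n')⁻¹ * w = (n * (n' * w * n'⁻¹) * n⁻¹) * 1 * w := by group
      _ = (n * (n' * w * n'⁻¹) * n⁻¹) * ((n * w * n⁻¹) * (n * w * n⁻¹)) * w := by rw [h2]
      _ = _ := by group
  rw [e, mul_mem_cancel_right h1, h.conj_K_iff ht hn]

/-- two moving elements: their product does not move. -/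
theorem mv_comp {t n n' : G} (ht : t ∈ Γ) (hn : n ∈ N t) (hn' : n' ∈ N t) {w : G} (hw : w ∈ W)
    (h1 : n * w * n⁻¹ * w ∉ K) (h2 : n' * w * n'⁻¹ * w ∉ K) : (n * n') * w * (n * n')⁻¹ * w ∈ K := by
  have h3 := (h.tv t ht n hn w hw).resolve_left h1
  have h4 := (h.tv t ht n' hn' w hw).resolve_left h2
  have hwU := h.WU hw
  have htU := h.WU (h.ΓW t ht)
  have hnt : n * t * n⁻¹ = t := by rw [h.Nt t ht n hn, mul_inv_cancel_right]
  have e : (n * n') * w * (n * n')⁻¹ * w = (n * (n' * w * n'⁻¹ * w * t) * n⁻¹) * (n * w * n⁻¹ * w * t) := by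
    have h5 : t * (n * w * n⁻¹) = (n * w * n⁻¹) * t := h.comm t htU _ (h.WU (h.conj_mem ht hn hw))
    have h2 : (n * w * n⁻¹) * (n * w * n⁻¹) = 1 := by
      calc (n * w * n⁻¹) * (n * w * n⁻¹) = n * (w * w) * n⁻¹ := by group
        _ = 1 := by rw [h.sq w hwU]; group
    symm
    calc (n * (n' * w * n'⁻¹ * w * t) * n⁻¹) * (n * w * n⁻¹ * w * t)
        = (n * (n' * w * n'⁻¹) * n⁻¹) * (n * w * n⁻¹) * ((n * t * n⁻¹) * (n * w * n⁻¹)) * w * t := by group
      _ = (n * (n' * w * n'⁻¹) * n⁻¹) * (n * w * n⁻¹) * ((n * w * n⁻¹) * t) * w * t := by rw [hnt, h5]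
      _ = (n * (n' * w * n'⁻¹) * n⁻¹) * ((n * w * n⁻¹) * (n * w * n⁻¹)) * (t * w) * t := by group
      _ = (n * (n' * w * n'⁻¹) * n⁻¹) * (w * t) * t := by rw [h2, mul_one, h.comm t htU w hwU]
      _ = (n * (n' * w * n'⁻¹) * n⁻¹) * w * (t * t) := by group
      _ = _ := by rw [h.sq t htU]; group
  rw [e]
  exact K.mul_mem (h.NK t ht n hn _ h4) h3

/-- **Step 1'.** -/
theorem step' {t t' : G} (ht : t ∈ Γ) (ht' : t' ∈ Γ) (ho : t' ∉ h.A ht) {w : G} (hw : w ∈ h.A ht) :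
    w ∈ h.A ht' ∨ w * t ∈ h.A ht' := by
  by_cases h1 : w ∈ h.A ht'
  · exact Or.inl h1
  right
  have hwW : w ∈ W := hw.1
  have htW := h.ΓW t ht
  have h2 : ∃ m ∈ N t', m * w * m⁻¹ * w ∉ K := by
    by_contra h3
    push Not at h3
    exact h1 ⟨hwW, h3⟩
  obtain ⟨m₀, hm₀, hm₀w⟩ := h2
  have key : ∀ m ∈ N t', m * t * m⁻¹ * t ∈ K → m * w * m⁻¹ * w ∈ K := fun m hm hmt =>
    h.step ht ht' ho hm (h.fix t' ht' m hm t ht hmt) hw
  have hm₀t : m₀ * t * m₀⁻¹ * t ∉ K := fun h3 => hm₀w (key m₀ hm₀ h3)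
  refine ⟨W.mul_mem hwW htW, fun m hm => ?_⟩
  by_cases hmt : m * t * m⁻¹ * t ∈ K
  · by_contra h3
    have h4 := h.mv_mul_left ht' hm (W.mul_mem hwW htW) htW h3 hmt
    have h5 : w * t * t = w := by rw [mul_assoc, h.sq t (h.WU htW), mul_one]
    rw [h5] at h4
    exact h4 (key m hm hmt)
  · have h3 := key _ ((N t').mul_mem hm hm₀) (h.mv_comp ht' hm hm₀ htW hmt hm₀t)
    have h4 : m * w * m⁻¹ * w ∉ K := fun h5 => hm₀w ((h.mv_comp_right (n' := m₀) ht' hm hwW h5).1 h3)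
    exact h.mv_mul ht' hm hwW htW h4 hmt

theorem card_A [Finite G] {t t' : G} (ht : t ∈ Γ) (ht' : t' ∈ Γ) : Nat.card (h.A ht) = Nat.card (h.A ht') := by
  obtain ⟨g, hK, hW, hN⟩ := h.tran t ht t' ht'
  have h1 : ∀ w, w ∈ h.A ht ↔ g * w * g⁻¹ ∈ h.A ht' := by
    intro w
    rw [h.mem_A, h.mem_A, ← hW]
    refine and_congr Iff.rfl ⟨fun h2 n hn => ?_, fun h2 n hn => ?_⟩
    · have h3 := h2 (g⁻¹ * n * g) ((hN _).2 (by
        have : g * (g⁻¹ * n * g) * g⁻¹ = n := by group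
        rwa [this]))
      have h4 := (hK _).1 h3
      have h5 : g * (g⁻¹ * n * g * w * (g⁻¹ * n * g)⁻¹ * w) * g⁻¹ = n * (g * w * g⁻¹) * n⁻¹ * (g * w * g⁻¹) := by
        group
      rwa [h5] at h4
    · have h3 := h2 (g * n * g⁻¹) ((hN _).1 hn)
      rw [hK]
      have h5 : g * n * g⁻¹ * (g * w * g⁻¹) * (g * n * g⁻¹)⁻¹ * (g * w * g⁻¹) = g * (n * w * n⁻¹ * w) * g⁻¹ := by
        group
      rwa [h5] at h3
  refine Nat.card_congr
    { toFun := fun x => ⟨g * x * g⁻¹, (h1 x).1 x.2⟩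
      invFun := fun x => ⟨g⁻¹ * x * g, (h1 _).2 (by
        have : g * (g⁻¹ * (x : G) * g) * g⁻¹ = x := by group
        rw [this]
        exact x.2)⟩
      left_inv := fun x => Subtype.ext (by simp [mul_assoc])
      right_inv := fun x => Subtype.ext (by simp [mul_assoc]) }

/-- **The dichotomy (7).** Either two distinct lines are always opposite, or an element of `N t` that moves one of the
opposites of `t` moves all of them. -/
theorem dich [Finite G] :
    (∀ t ∈ Γ, ∀ t' ∈ Γ, t * t' ∉ K → ∃ n ∈ N t, n * t' ≠ t' * n) ∨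
      ∀ t ∈ Γ, ∀ t' ∈ Γ, ∀ u ∈ Γ, (∃ n ∈ N t, n * t' ≠ t' * n) → (∃ n ∈ N t, n * u ≠ u * n) →
        ∀ n ∈ N t, n * t' = t' * n → n * u = u * n := by
  by_cases hall : ∀ t ∈ Γ, ∀ t' ∈ Γ, t * t' ∉ K → ∃ n ∈ N t, n * t' ≠ t' * n
  · exact Or.inl hall
  right
  push Not at hall
  obtain ⟨x, hx, w, hw, hxw, hcen⟩ := hall
  have hwx : w ∈ h.A hx := (h.mem_A_iff hx hw).2 hcen
  obtain ⟨v, hv, hv'⟩ := h.cov (x * w) (W.mul_mem (h.ΓW x hx) (h.ΓW w hw)) hxw
  have hxwW : x * w ∈ W := W.mul_mem (h.ΓW x hx) (h.ΓW w hw)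
  have hcov : ∀ y ∈ W, y ∈ h.A hx ∨ y ∈ h.A hw ∨ y ∈ h.A hv := by
    intro y hy
    by_cases hyK : y ∈ K
    · exact Or.inl (h.K_le hx subset_rfl hyK)
    obtain ⟨t', ht', hty⟩ := h.cov y hy hyK
    have hc : ∀ {r : G} (hr : r ∈ Γ), t' ∈ h.A hr ↔ y ∈ h.A hr := fun hr => h.mem_A_congr hr hty hy
    rw [← hc hx, ← hc hw, ← hc hv]
    by_cases h1 : t' ∈ h.A hx
    · exact Or.inl h1
    right
    rcases h.step' hx ht' h1 hwx with h2 | h2
    · exact Or.inl ((h.mem_A_comm ht' hw).1 h2)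
    · right
      refine (h.mem_A_comm ht' hv).1 ((h.mem_A_congr ht' hv' hxwW).2 ?_)
      rwa [h.comm x (h.WU (h.ΓW x hx)) w (h.WU (h.ΓW w hw))]
  have hcard : Nat.card W ≤ 2 * Nat.card (h.A hx) :=
    card_le_two_mul (fun y hy => hy.1) hcov (h.card_A hw hx) (h.card_A hv hx)
  intro t ht t' ht' u hu ho' hou n hn hnt'
  by_contra hnu
  have hT : {n} ⊆ (N t : Set G) := Set.singleton_subset_iff.mpr hn
  have hF : h.A ht ≤ h.fixK ht {n} hT := fun y hy => ⟨hy.1, fun m hm => by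
    rw [Set.mem_singleton_iff.mp hm]
    exact hy.2 n hn⟩
  have hFW : h.fixK ht {n} hT ≤ W := fun y hy => hy.1
  have huF : u ∉ h.fixK ht {n} hT := fun h1 => hnu (h.fix t ht n hn u hu (h1.2 n rfl))
  have ht'F : t' ∈ h.fixK ht {n} hT := ⟨h.ΓW t' ht', fun m hm => by
    rw [Set.mem_singleton_iff.mp hm, hnt', mul_inv_cancel_right, h.sq t' (h.WU (h.ΓW t' ht'))]
    exact K.one_mem⟩
  have ht'A : t' ∉ h.A ht := by
    intro h1
    obtain ⟨m, hm, hm'⟩ := ho'
    exact hm' ((h.mem_A_iff ht ht').1 h1 m hm)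
  have hcard' : Nat.card W ≤ 2 * Nat.card (h.A ht) := by rwa [h.card_A ht hx]
  have h1 : Nat.card (h.fixK ht {n} hT) < Nat.card W := by
    refine lt_of_le_of_ne (Nat.le_of_dvd Nat.card_pos (card_dvd_of_le hFW)) fun h2 => huF ?_
    have h3 : h.fixK ht {n} hT = W := eq_of_le_of_card_ge hFW h2.ge
    rw [h3]
    exact h.ΓW u hu
  have h2 : Nat.card (h.A ht) < Nat.card (h.fixK ht {n} hT) := by
    refine lt_of_le_of_ne (Nat.le_of_dvd Nat.card_pos (card_dvd_of_le hF)) fun h2 => ht'A ?_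
    have h3 : h.A ht = h.fixK ht {n} hT := eq_of_le_of_card_ge hF h2.ge
    rw [h3]
    exact ht'F
  obtain ⟨a, ha⟩ := card_dvd_of_le hF
  obtain ⟨b, hb⟩ := card_dvd_of_le hFW
  have ha2 : 2 ≤ a := by
    by_contra h3
    have h4 : Nat.card (h.A ht) * a ≤ Nat.card (h.A ht) * 1 := Nat.mul_le_mul le_rfl (by omega)
    omega
  have hb2 : 2 ≤ b := by
    by_contra h3
    have h4 : Nat.card (h.fixK ht {n} hT) * b ≤ Nat.card (h.fixK ht {n} hT) * 1 :=
      Nat.mul_le_mul le_rfl (by omega)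
    omega
  have h4 : Nat.card (h.A ht) * 2 ≤ Nat.card (h.fixK ht {n} hT) := by
    rw [ha]
    exact Nat.mul_le_mul le_rfl ha2
  have h5 : Nat.card (h.fixK ht {n} hT) * 2 ≤ Nat.card W := by
    rw [hb]
    exact Nat.mul_le_mul le_rfl hb2
  have h6 : 0 < Nat.card (h.A ht) := Nat.card_pos
  omega

end Res

end Cfsg.Agent.Omega.HOne.TvLin

end

section


/-!
# II.0h1, `q = 2`, case (β): block (7) of the transvection statement #15959 (helper865)

* `Opp.conj`: opposite pairs are conjugate;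
* `exists_opp`: every line has an opposite line (at every point);
* `res`: the residue at a point in the sense of `TvLin.Res`;
* `dich`: JOINT (7), `AllOpp ∨ E1`.
-/

set_option autoImplicit false
set_option linter.unusedSectionVars false

namespace Cfsg.Agent.Omega.HOne.TvDef

open Subgroup

variable {G : Type*} [Group G] {M : Subgroup G} {r t : G} {Q N : G → Subgroup G}

namespace TvH

variable (h : TvH M r t Q N)
include h

theorem opp_conj {m s a b : G} (hm : m ∈ M) (ho : Opp M r t N s a b) :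
    Opp M r t N (m * s * m⁻¹) (m * a * m⁻¹) (m * b * m⁻¹) := by
  obtain ⟨h1, h2, n, hn, h3⟩ := ho
  refine ⟨h1.conj hm, h2.conj hm, m * n * m⁻¹, h.Nc m _ _ hn, fun h4 => h3 ?_⟩
  have h5 : m * n * m⁻¹ * (m * b * m⁻¹) * (m * n * m⁻¹)⁻¹ = m * (n * b * n⁻¹) * m⁻¹ := by group
  rw [h5] at h4
  exact (MulAut.conj m).injective h4

/-- **Every line has an opposite line.** -/
theorem exists_opp (hN : JNon M r t N) {s a : G} (hsa : Adj M r t s a) : ∃ b, Opp M r t N s a b := by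
  by_contra hno
  push Not at hno
  -- no opposite pairs at all
  have hno' : ∀ x y z, ¬ Opp M r t N x y z := by
    intro x y z ho
    obtain ⟨m, hm, rfl, rfl⟩ := hsa
    obtain ⟨p, hp, h1, h2⟩ := ho.1
    apply hno (m * p⁻¹ * z * (m * p⁻¹)⁻¹)
    have h3 := h.opp_conj (M.mul_mem hm (M.inv_mem hp)) ho
    have e1 : m * p⁻¹ * x * (m * p⁻¹)⁻¹ = m * r * m⁻¹ := by rw [← h1]; group
    have e2 : m * p⁻¹ * y * (m * p⁻¹)⁻¹ = m * t * m⁻¹ := by rw [← h2]; group
    rwa [e1, e2] at h3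
  -- the closed neighbourhoods of collinear points are equal
  have key : ∀ x y z, Adj M r t x y → (z = x ∨ Adj M r t x z) → z = y ∨ Adj M r t y z := by
    intro x y z hxy hz
    rcases hz with rfl | hz
    · exact Or.inr (h.Adj_symm hxy)
    by_cases h1 : z = y
    · exact Or.inl h1
    right
    by_cases h2 : z = x * y
    · rw [h2]
      exact h.Adj_mul' hxy
    · exact (hN x y z hxy hz h1 h2 (hno' x y z)).2
  have hall : ∀ z ∈ Om M r, z = r ∨ Adj M r t r z := by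
    intro z hz
    refine h.conn_ind (P := fun z => ∀ y, (y = z ∨ Adj M r t z y) → y = r ∨ Adj M r t r y) ?_ ?_ hz z
      (Or.inl rfl)
    · exact fun y hy => hy
    · intro x y hxy hx w hw
      exact hx w (key y x w (h.Adj_symm hxy) hw)
  obtain ⟨u, hu, hu'⟩ := h.beta
  apply hu'
  have hle : UU M r ≤ Q r := by
    unfold UU
    rw [Subgroup.closure_le]
    intro z hz
    rcases hall z hz with rfl | h1
    · exact h.mem_Q Om_base
    · exact h.Adj_mem h1
  exact hle hu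

/-- the full preimage of the set of the lines on `s` -/
def _root_.Cfsg.Agent.Omega.HOne.TvDef.TvH.WW (h : TvH M r t Q N) (hO : JOpp M r t Q N) (hN : JNon M r t N)
    (s : G) (hs : s ∈ Om M r) : Subgroup G where
  carrier := {w | w ∈ UU M r ∧ (w ∈ ZC Q s ∨ ∃ a, Adj M r t s a ∧ a * w ∈ ZC Q s)}
  one_mem' := ⟨(UU M r).one_mem, Or.inl (ZC Q s).one_mem⟩
  mul_mem' := by
    rintro x y ⟨hx, hx'⟩ ⟨hy, hy'⟩
    refine ⟨(UU M r).mul_mem hx hy, ?_⟩
    rcases hx' with hx' | ⟨a, ha, hax⟩ <;> rcases hy' with hy' | ⟨b, hb, hby⟩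
    · exact Or.inl (mul_mem hx' hy')
    · right
      refine ⟨b, hb, ?_⟩
      have e : b * (x * y) = x * (b * y) := by
        rw [← mul_assoc, h.UU_comm (Om_le_UU (h.Adj_right hb)) hx, mul_assoc]
      rw [e]
      exact mul_mem hx' hby
    · right
      refine ⟨a, ha, ?_⟩
      rw [← mul_assoc]
      exact mul_mem hax hy'
    · have haU := Om_le_UU (h.Adj_right ha)
      have hbU := Om_le_UU (h.Adj_right hb)
      have e : ∀ c ∈ UU M r, (a * b * c) * (x * y) = (a * x) * (b * y) * c := by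
        intro c hc
        have e1 := h.UU_comm hbU hx
        have e2 := h.UU_comm hc ((UU M r).mul_mem hx hy)
        calc (a * b * c) * (x * y) = a * b * (c * (x * y)) := by group
          _ = a * (b * x) * y * c := by rw [e2]; group
          _ = _ := by rw [e1]; group
      by_cases h1 : b = a
      · left
        subst h1
        have h2 := e 1 (UU M r).one_mem
        rw [mul_one, mul_one, h.Om_sq (h.Adj_right hb), one_mul] at h2
        rw [h2]
        exact mul_mem hax hby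
      by_cases h2 : b = s * a
      · left
        have hsU := Om_le_UU hs
        have h3 : a * b = s := by
          rw [h2, ← mul_assoc, h.UU_comm haU hsU, mul_assoc, h.Om_sq (h.Adj_right ha), mul_one]
        have h4 := e s hsU
        rw [h3, h.Om_sq hs, one_mul] at h4
        rw [h4]
        exact mul_mem (mul_mem hax hby) (h.mem_ZC hs)
      right
      by_cases ho : Opp M r t N s a b
      · obtain ⟨-, -, -, -, -, c, -, hcU, hcs, -, -, -, habc, -, -⟩ := hO s a b ho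
        refine ⟨a * b * c, habc, ?_⟩
        rw [e c hcU]
        exact mul_mem (mul_mem hax hby) hcs
      · refine ⟨a * b, (hN s a b ha hb h1 h2 ho).1, ?_⟩
        have h3 := e 1 (UU M r).one_mem
        rw [mul_one, mul_one] at h3
        rw [h3]
        exact mul_mem hax hby
  inv_mem' := by
    rintro x ⟨hx, hx'⟩
    rw [h.UU_inv hx]
    exact ⟨hx, hx'⟩

theorem mem_WW (hO : JOpp M r t Q N) (hN : JNon M r t N) {s : G} (hs : s ∈ Om M r) {w : G} :
    w ∈ h.WW hO hN s hs ↔ w ∈ UU M r ∧ (w ∈ ZC Q s ∨ ∃ a, Adj M r t s a ∧ a * w ∈ ZC Q s) := Iff.rfl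

theorem WW_le_Q (hO : JOpp M r t Q N) (hN : JNon M r t N) {s : G} (hs : s ∈ Om M r) {w : G}
    (hw : w ∈ h.WW hO hN s hs) : w ∈ Q s := by
  rcases hw.2 with h1 | ⟨a, ha, h1⟩
  · exact h.ZC_le_Q hs h1
  · exact (mul_mem_cancel_left (h.Adj_mem ha)).1 (h.ZC_le_Q hs h1)

/-- **The residue at `s`.** -/
theorem res (hO : JOpp M r t Q N) (hN : JNon M r t N) {s : G} (hs : s ∈ Om M r) :
    TvLin.Res (UU M r) (UU M r ⊓ ZC Q s) (h.WW hO hN s hs) {a | Adj M r t s a} N := by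
  have hcom : ∀ {x y : G}, x ∈ UU M r → y ∈ UU M r → x * y = y * x := fun hx hy => h.UU_comm hx hy
  have conjU : ∀ {a : G}, Adj M r t s a → ∀ {n : G}, n ∈ N a → ∀ {u : G}, u ∈ UU M r → n * u * n⁻¹ ∈ UU M r :=
    fun ha _ hn _ hu => UU_conj (h.N_le_M (h.Adj_right ha) hn) hu
  -- `[w, n] = w (n w n⁻¹)`
  have comm_eq : ∀ {a : G}, Adj M r t s a → ∀ {n : G}, n ∈ N a → ∀ {u : G}, u ∈ UU M r →
      u * n * u⁻¹ * n⁻¹ = n * u * n⁻¹ * u := by
    intro a ha n hn u hu
    have h1 := hcom hu (conjU ha hn hu)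
    rw [h.UU_inv hu, ← h1]
    group
  refine
    { comm := fun a ha b hb => hcom ha hb
      sq := fun a ha => h.UU_sq ha
      WU := fun w hw => hw.1
      KW := fun k hk => ⟨hk.1, Or.inl hk.2⟩
      ΓW := fun a ha => ⟨Om_le_UU (h.Adj_right ha), Or.inr ⟨a, ha, by
        rw [h.Om_sq (h.Adj_right ha)]
        exact (ZC Q s).one_mem⟩⟩
      ΓK := fun a ha hk => h.Adj_not_mem ha hk.2
      cov := ?_
      NK := fun a ha n hn k hk => ⟨conjU ha hn hk.1, (h.ZC_fix (h.N_comm ha hn)).2 hk.2⟩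
      tv := ?_
      Nt := fun a ha n hn => h.N_self (h.Adj_right ha) hn
      fix := ?_
      norm := fun a ha b hb m hm hma n hn => (h.N_fix hma).2 hn
      symm := ?_
      tran := ?_ }
  · intro w hw hwK
    rcases hw.2 with h1 | ⟨a, ha, h1⟩
    · exact absurd ⟨hw.1, h1⟩ hwK
    · exact ⟨a, ha, (UU M r).mul_mem (Om_le_UU (h.Adj_right ha)) hw.1, h1⟩
  · intro a ha n hn w hw
    have hwU : w ∈ UU M r := hw.1
    have haU := Om_le_UU (h.Adj_right ha)
    have h1 := h.comm_IN ha hwU (h.WW_le_Q hO hN hs hw) hn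
    rw [comm_eq ha hn hwU] at h1
    have hU : n * w * n⁻¹ * w ∈ UU M r := (UU M r).mul_mem (conjU ha hn hwU) hwU
    rcases h1.2.2 with h2 | h2
    · exact Or.inl ⟨hU, h2⟩
    · right
      rw [← hcom haU hU]
      exact ⟨(UU M r).mul_mem haU hU, h2⟩
  · intro a ha n hn b hb hK
    have hbU := Om_le_UU (h.Adj_right hb)
    have haU := Om_le_UU (h.Adj_right ha)
    have hsU := Om_le_UU hs
    rcases h.noPar_at (h.Adj_N ha hb hn) hb hK.2 with h1 | h1
    · have h2 : n * b * n⁻¹ * n = b * n := by rw [← h1]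
      rwa [inv_mul_cancel_right] at h2
    · exfalso
      -- `[b, n] = s`
      have h2 := (h.comm_IN ha hbU (h.Adj_mem hb) hn).1
      rw [comm_eq ha hn hbU] at h2
      have h3 : n * b * n⁻¹ * b = s := by
        have h4 : s * b = n * b * n⁻¹ := by
          conv_lhs => rw [h1]
          exact h.mul_cancel hs _
        rw [← h4, mul_assoc, h.Om_sq (h.Adj_right hb), mul_one]
      rw [h3] at h2
      exact h.not_both ha h2
  · rintro a ha b hb ⟨n, hn, hne⟩
    have ho : Opp M r t N s a b := ⟨ha, hb, n, hn, fun h1 => hne (by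
      have h2 : n * b * n⁻¹ * n = b * n := by rw [h1]
      rwa [inv_mul_cancel_right] at h2)⟩
    obtain ⟨-, -, m, hm, h1⟩ := (hO s a b ho).1
    exact ⟨m, hm, fun h2 => h1 (by rw [h2, mul_inv_cancel_right])⟩
  · intro a ha b hb
    obtain ⟨m, hm, hmr, hmt⟩ := ha
    obtain ⟨p, hp, hpr, hpt⟩ := hb
    have hgM : p * m⁻¹ ∈ M := M.mul_mem hp (M.inv_mem hm)
    have hgs : p * m⁻¹ * s * (p * m⁻¹)⁻¹ = s := by
      conv_lhs => rw [← hmr]
      conv_rhs => rw [← hpr]
      group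
    have hga : p * m⁻¹ * a * (p * m⁻¹)⁻¹ = b := by
      rw [← hmt, ← hpt]
      group
    set g := p * m⁻¹ with hg
    have hgs' : g * s = s * g := by
      have h1 : g * s * g⁻¹ * g = s * g := by rw [hgs]
      rwa [inv_mul_cancel_right] at h1
    have hUU : ∀ x, x ∈ UU M r ↔ g * x * g⁻¹ ∈ UU M r := by
      intro x
      refine ⟨UU_conj hgM, fun h1 => ?_⟩
      have h2 := UU_conj (M.inv_mem hgM) h1
      have e : g⁻¹ * (g * x * g⁻¹) * g⁻¹⁻¹ = x := by group
      rwa [e] at h2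
    have hZ : ∀ x, x ∈ ZC Q s ↔ g * x * g⁻¹ ∈ ZC Q s := fun x => (h.ZC_fix hgs').symm
    refine ⟨g, fun x => and_congr (hUU x) (hZ x), fun x => ?_, fun x => ?_⟩
    · refine and_congr (hUU x) (or_congr (hZ x) ⟨?_, ?_⟩)
      · rintro ⟨c, hc, hcx⟩
        refine ⟨g * c * g⁻¹, ?_, ?_⟩
        · have := hc.conj hgM
          rwa [hgs] at this
        · have := (hZ _).1 hcx
          have e : g * c * g⁻¹ * (g * x * g⁻¹) = g * (c * x) * g⁻¹ := by group
          rwa [e]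
      · rintro ⟨c, hc, hcx⟩
        refine ⟨g⁻¹ * c * g⁻¹⁻¹, ?_, ?_⟩
        · have h1 := hc.conj (M.inv_mem hgM)
          have e : g⁻¹ * s * g⁻¹⁻¹ = s := by
            conv_lhs => rw [← hgs]
            group
          rwa [e] at h1
        · refine (hZ _).2 ?_
          have e : g * (g⁻¹ * c * g⁻¹⁻¹ * x) * g⁻¹ = c * (g * x * g⁻¹) := by group
          rwa [e]
    · have h1 := h.N_conj (g := g) (s := a) (x := x)
      rw [hga] at h1
      exact h1.symm

/-- **JOINT (7).** -/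
theorem dich [Finite G] (hO : JOpp M r t Q N) (hN : JNon M r t N) : JDich M r t N := by
  have key : ∀ {n b : G}, n * b * n⁻¹ = b ↔ n * b = b * n := fun {n b} => mul_inv_eq_iff_eq_mul
  rcases (h.res hO hN Om_base).dich with h1 | h1
  · left
    rintro s a b ⟨m, hm, rfl, rfl⟩ hb hne hne'
    have hb' : Adj M r t r (m⁻¹ * b * m) := by
      have := hb.conj (M.inv_mem hm)
      simpa only [mul_assoc, _root_.inv_mul_cancel_left, _root_.inv_inv, _root_.inv_mul_cancel, _root_.mul_one] using this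
    have hK : t * (m⁻¹ * b * m) ∉ UU M r ⊓ ZC Q r := by
      intro hK
      rcases h.noPar_at Adj_base hb' hK.2 with h2 | h2
      · apply hne
        rw [← h2]
        group
      · apply hne'
        have : b = m * (m⁻¹ * b * m) * m⁻¹ := by group
        rw [this, h2]
        group
    obtain ⟨n, hn, hnb⟩ := h1 t Adj_base _ hb' hK
    have h3 : Opp M r t N r t (m⁻¹ * b * m) := ⟨Adj_base, hb', n, hn, fun h4 => hnb (key.1 h4)⟩
    have h4 := h.opp_conj hm h3
    have e : m * (m⁻¹ * b * m) * m⁻¹ = b := by group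
    rwa [e] at h4
  · right
    rintro s a b c hb hc n hn
    have main : ∀ x y, Opp M r t N s a x → Opp M r t N s a y → n * x = x * n → n * y = y * n := by
      intro x y hx hy hnx
      obtain ⟨m, hm, rfl, rfl⟩ := hx.1
      have hx' := h.opp_conj (M.inv_mem hm) hx
      have hy' := h.opp_conj (M.inv_mem hm) hy
      have e : ∀ z : G, m⁻¹ * (m * z * m⁻¹) * m⁻¹⁻¹ = z := fun z => by group
      rw [e, e] at hx' hy'
      have hn' : m⁻¹ * n * m⁻¹⁻¹ ∈ N t := by
        have := h.Nc m⁻¹ _ _ hn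
        rwa [e] at this
      obtain ⟨-, hx1, p, hp, hp'⟩ := hx'
      obtain ⟨-, hy1, q, hq, hq'⟩ := hy'
      have h2 := h1 t Adj_base _ hx1 _ hy1 ⟨p, hp, fun h4 => hp' (key.2 h4)⟩ ⟨q, hq, fun h4 => hq' (key.2 h4)⟩
        _ hn' (by
          have e1 : m⁻¹ * n * m⁻¹⁻¹ * (m⁻¹ * x * m⁻¹⁻¹) = m⁻¹ * (n * x) * m⁻¹⁻¹ := by group
          have e2 : m⁻¹ * x * m⁻¹⁻¹ * (m⁻¹ * n * m⁻¹⁻¹) = m⁻¹ * (x * n) * m⁻¹⁻¹ := by group
          rw [e1, e2, hnx])
      have e1 : m⁻¹ * n * m⁻¹⁻¹ * (m⁻¹ * y * m⁻¹⁻¹) = m⁻¹ * (n * y) * m⁻¹⁻¹ := by group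
      have e2 : m⁻¹ * y * m⁻¹⁻¹ * (m⁻¹ * n * m⁻¹⁻¹) = m⁻¹ * (y * n) * m⁻¹⁻¹ := by group
      rw [e1, e2] at h2
      exact (MulAut.conj m⁻¹).injective h2
    exact ⟨main b c hb hc, main c b hc hb⟩

end TvH

end Cfsg.Agent.Omega.HOne.TvDef

end

section


/-!
# II.0h1, `q = 2`, case (beta): (13) of #15959

`j13` : if `u₀ ∈ U` centralises `N0` (index 2 in `N r`, normalised by `S`) and `[u₀, n₁] = r c`, then
`[w, n₁] ∈ {1, r c}` for every `w ∈ C_U(N0)`.
-/

set_option autoImplicit false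
set_option linter.unusedSectionVars false

namespace Cfsg.Agent.Omega.HOne.TvThirteen

open Subgroup Cfsg.Agent.Omega.HOne.TvDef

variable {G : Type*} [Group G] {M S : Subgroup G} {r t : G} {Q N : G → Subgroup G}

theorem le_norm_of {H : Subgroup G} {S : Subgroup G} (hS : ∀ x ∈ S, ∀ y ∈ H, x * y * x⁻¹ ∈ H) :
    S ≤ normalizer (H : Set G) := by
  intro x hx
  rw [mem_normalizer_iff]
  intro y
  refine ⟨hS x hx y, fun hy => ?_⟩
  have := hS x⁻¹ (inv_mem hx) _ hy
  simpa [mul_assoc] using this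

/-- a nontrivial section `B / A` has a nontrivial fixed point under a 2-group -/
theorem exists_fixed_mod [Finite G] {S B A : Subgroup G} (hS : IsPGroup 2 S) (hB2 : IsPGroup 2 B)
    (hBn : ∀ x ∈ S, ∀ b ∈ B, x * b * x⁻¹ ∈ B) (hAn : ∀ x ∈ S, ∀ b ∈ A, x * b * x⁻¹ ∈ A)
    (hAB : ∀ x ∈ B, ∀ b ∈ A, x * b * x⁻¹ ∈ A) (hne : ¬ B ≤ A) :
    ∃ m ∈ B, m ∉ A ∧ ∀ t ∈ S, t * m * t⁻¹ * m⁻¹ ∈ A := by
  have : Fact (Nat.Prime 2) := ⟨Nat.prime_two⟩
  set T : Subgroup G := S ⊔ B with hTdef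
  have hSB : S ≤ normalizer (B : Set G) := le_norm_of hBn
  have hT : IsPGroup 2 T := IsPGroup.to_sup_of_normal_right' hS hB2 hSB
  have hBT : B ≤ T := le_sup_right
  have hB : T ≤ normalizer (B : Set G) := sup_le hSB le_normalizer
  have hA : T ≤ normalizer (A : Set G) := sup_le (le_norm_of hAn) (le_norm_of hAB)
  have hnA : (A.subgroupOf T).Normal := normal_subgroupOf_of_le_normalizer hA
  have hnB : (B.subgroupOf T).Normal := normal_subgroupOf_of_le_normalizer hB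
  have hp : IsPGroup 2 (T ⧸ A.subgroupOf T) := hT.to_quotient _
  have : Group.IsNilpotent (T ⧸ A.subgroupOf T) := hp.isNilpotent
  let K : Subgroup (T ⧸ A.subgroupOf T) := (B.subgroupOf T).map (QuotientGroup.mk' (A.subgroupOf T))
  have hK : K.Normal := hnB.map _ (QuotientGroup.mk'_surjective _)
  have hK1 : K ≠ ⊥ := by
    intro h
    apply hne
    intro x hx
    have h1 : QuotientGroup.mk' (A.subgroupOf T) ⟨x, hBT hx⟩ ∈ K := ⟨⟨x, hBT hx⟩, hx, rfl⟩
    rw [h, mem_bot] at h1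
    exact (QuotientGroup.eq_one_iff (⟨x, hBT hx⟩ : T)).1 h1
  have h2 := Lib.NormalAbelian.normal_inf_center_ne_bot K hK1
  obtain ⟨⟨y, hy⟩, hy1⟩ := Subgroup.ne_bot_iff_exists_ne_one.1 h2
  obtain ⟨⟨m, hm, rfl⟩, hyc⟩ := mem_inf.1 hy
  refine ⟨m, hm, fun h => hy1 ?_, fun t ht => ?_⟩
  · apply Subtype.ext
    exact (QuotientGroup.eq_one_iff m).2 h
  · have ht' : t ∈ T := (le_sup_left : S ≤ T) ht
    have h3 := mem_center_iff.1 hyc (QuotientGroup.mk' (A.subgroupOf T) ⟨t, ht'⟩)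
    rw [← map_mul, ← map_mul] at h3
    have h4 : QuotientGroup.mk' (A.subgroupOf T) (⟨t, ht'⟩ * m * (⟨t, ht'⟩ : T)⁻¹ * m⁻¹) = 1 := by
      rw [mul_assoc, map_mul, h3, ← map_mul]
      rw [show m * ⟨t, ht'⟩ * ((⟨t, ht'⟩ : T)⁻¹ * m⁻¹) = 1 by group, map_one]
    have h5 := (QuotientGroup.eq_one_iff ((⟨t, ht'⟩ : T) * m * (⟨t, ht'⟩ : T)⁻¹ * m⁻¹)).1 h4
    exact h5

/-- (13), general form: only `c ∈ U ∩ C_V` fixed by `S` -/
theorem j13' [Finite G] (h : TvH M r t Q N) (hS : TvS M S r t N) {c : G} (hcU : c ∈ UU M r)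
    (hcr : c ∈ ZC Q r) (hct : c ∈ ZC Q t) (hcS : ∀ x ∈ S, x * c = c * x)
    {N0 : Subgroup G} {n1 u0 : G} (hN0 : N0 ≤ N r) (hn1 : n1 ∈ N r)
    (hcov : ∀ n ∈ N r, n ∈ N0 ∨ n1 * n ∈ N0) (hSN : ∀ x ∈ S, ∀ n ∈ N0, x * n * x⁻¹ ∈ N0)
    (hu0 : u0 ∈ UU M r) (hu0N : ∀ n ∈ N0, u0 * n = n * u0) (hu0n : u0 * n1 * u0⁻¹ = n1 * (r * c)) :
    ∀ w ∈ UU M r, (∀ n ∈ N0, w * n = n * w) → w * n1 * w⁻¹ = n1 ∨ w * n1 * w⁻¹ = n1 * (r * c) := by
  have hrU : r ∈ UU M r := Om_le_UU Om_base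
  have hrcU : r * c ∈ UU M r := mul_mem hrU hcU
  have hrcZ : r * c ∈ ZC Q r := mul_mem (h.mem_ZC Om_base) hcr
  have hNM : N r ≤ M := h.N_le_M Om_base
  have hNQ : N r ≤ Q r := h.N_le_Q Om_base
  -- `r c ∉ ZC t`
  have hrct : r * c ∉ ZC Q t := by
    intro h1
    have h2 : r ∈ ZC Q t := by
      have : r = (r * c) * c⁻¹ := by group
      rw [this]; exact mul_mem h1 (inv_mem hct)
    exact h.not_both Adj_base h2
  have hrc1 : r * c ≠ 1 := fun e => hrct (e ▸ one_mem _)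
  -- the group of commutators
  let CC : Subgroup G :=
    { carrier := {a | a ∈ UU M r ∧ a ∈ ZC Q r ∧ ∃ w ∈ UU M r, (∀ n ∈ N0, w * n = n * w) ∧
        w * n1 * w⁻¹ = n1 * a}
      one_mem' := ⟨one_mem _, one_mem _, 1, one_mem _, fun n _ => by simp, by simp⟩
      mul_mem' := by
        rintro a b ⟨ha, ha', w, hw, hwN, hwa⟩ ⟨hb, hb', v, hv, hvN, hvb⟩
        refine ⟨mul_mem ha hb, mul_mem ha' hb', v * w, mul_mem hv hw, ?_, ?_⟩
        · intro n hn
          calc v * w * n = v * (w * n) := by group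
            _ = (v * n) * w := by rw [hwN n hn]; group
            _ = n * (v * w) := by rw [hvN n hn]; group
        · calc v * w * n1 * (v * w)⁻¹ = v * (w * n1 * w⁻¹) * v⁻¹ := by group
            _ = (v * n1 * v⁻¹) * (v * a * v⁻¹) := by rw [hwa]; group
            _ = n1 * b * a := by rw [hvb, h.UU_comm hv ha]; group
            _ = n1 * (a * b) := by rw [h.UU_comm ha hb]; group
      inv_mem' := by
        rintro a ⟨ha, ha', w, hw, hwN, hwa⟩
        have : a⁻¹ = a := h.UU_inv ha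
        rw [this]
        exact ⟨ha, ha', w, hw, hwN, hwa⟩ }
  have memCC : ∀ w ∈ UU M r, (∀ n ∈ N0, w * n = n * w) → n1⁻¹ * (w * n1 * w⁻¹) ∈ CC := by
    intro w hw hwN
    have e1 : n1⁻¹ * (w * n1 * w⁻¹) = n1⁻¹ * w * n1⁻¹⁻¹ * w⁻¹ := by group
    refine ⟨?_, ?_, w, hw, hwN, by group⟩
    · rw [e1]; exact UU_comm_mem (M.inv_mem (hNM hn1)) hw
    · have hwr : w * r = r * w := h.UU_comm hw hrU
      exact mul_mem (inv_mem (h.N_le_ZC Om_base hn1)) ((h.ZC_fix hwr).2 (h.N_le_ZC Om_base hn1))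
  -- `r ∉ CC`
  have hrCC : r ∉ CC := by
    rintro ⟨-, -, w, hw, hwN, hwa⟩
    have hwr : w * r = r * w := h.UU_comm hw hrU
    have hn1r : n1 * r = r * n1 := h.N_self Om_base hn1
    have h1 := h.red w hw (by
      intro n hn
      rcases hcov n hn with h2 | h2
      · left
        rw [hwN n h2]; group
      · right
        have h3 := hwN _ h2
        -- w n w⁻¹ = (w n1 w⁻¹)⁻¹ (n1 n)
        have h4 : w * n * w⁻¹ = (w * n1 * w⁻¹)⁻¹ * (n1 * n) := by
          calc w * n * w⁻¹ = (w * n1 * w⁻¹)⁻¹ * (w * (n1 * n) * w⁻¹) := by group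
            _ = _ := by rw [h3]; group
        have h5 : (r : G)⁻¹ = r := h.UU_inv hrU
        rw [h4, hwa]
        calc (n1 * r)⁻¹ * (n1 * n) * n⁻¹ = r⁻¹ := by group
          _ = r := h5)
    have h2 := h1 n1 hn1
    apply h.r_ne
    have h3 : n1 * r = n1 * 1 := by
      rw [← hwa, h2]; group
    exact mul_left_cancel h3
  -- `S`-invariance
  have hSCC : ∀ x ∈ S, ∀ a ∈ CC, x * a * x⁻¹ ∈ CC := by
    rintro x hx a ⟨ha, ha', w, hw, hwN, hwa⟩
    have hxM := hS.S_le hx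
    have hxr := hS.S_r x hx
    have hax : x * a * x⁻¹ ∈ UU M r := UU_conj hxM ha
    have hax' : x * a * x⁻¹ ∈ ZC Q r := (h.ZC_fix hxr).2 ha'
    have hwx : x * w * x⁻¹ ∈ UU M r := UU_conj hxM hw
    have hxn : x * n1 * x⁻¹ ∈ N r := (h.N_fix hxr).2 hn1
    have hwN' : ∀ n ∈ N0, (x * w * x⁻¹) * n = n * (x * w * x⁻¹) := by
      intro n hn
      have h1 : x⁻¹ * n * x ∈ N0 := by
        have := hSN x⁻¹ (inv_mem hx) n hn
        simpa using this
      have h2 := hwN _ h1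
      calc (x * w * x⁻¹) * n = x * (w * (x⁻¹ * n * x)) * x⁻¹ := by group
        _ = x * ((x⁻¹ * n * x) * w) * x⁻¹ := by rw [h2]
        _ = _ := by group
    refine ⟨hax, hax', x * w * x⁻¹, hwx, hwN', ?_⟩
    have key : (x * w * x⁻¹) * (x * n1 * x⁻¹) * (x * w * x⁻¹)⁻¹ = (x * n1 * x⁻¹) * (x * a * x⁻¹) := by
      calc (x * w * x⁻¹) * (x * n1 * x⁻¹) * (x * w * x⁻¹)⁻¹ = x * (w * n1 * w⁻¹) * x⁻¹ := by group
        _ = _ := by rw [hwa]; group
    rcases hcov _ hxn with h1 | h1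
    · -- then `n1 ∈ N0`, `a = 1`
      have h2 : n1 ∈ N0 := by
        have := hSN x⁻¹ (inv_mem hx) _ h1
        simpa [mul_assoc] using this
      have h3 : a = 1 := by
        have h4 : n1 * a = n1 * 1 := by
          rw [← hwa, hwN n1 h2]; group
        exact mul_left_cancel h4
      have h5 := hwN' n1 h2
      rw [h5, h3]; group
    · have h2 := hwN' _ h1
      -- w' n1 w'⁻¹ = n1 * ...
      have h3 : (x * w * x⁻¹) * n1 * (x * w * x⁻¹)⁻¹ =
          (n1 * (x * n1 * x⁻¹)) * ((x * w * x⁻¹) * (x * n1 * x⁻¹) * (x * w * x⁻¹)⁻¹)⁻¹ := by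
        calc (x * w * x⁻¹) * n1 * (x * w * x⁻¹)⁻¹ =
            ((x * w * x⁻¹) * (n1 * (x * n1 * x⁻¹)) * (x * w * x⁻¹)⁻¹) *
              ((x * w * x⁻¹) * (x * n1 * x⁻¹) * (x * w * x⁻¹)⁻¹)⁻¹ := by group
          _ = _ := by rw [h2]; group
      rw [h3, key]
      have h4 : (x * n1 * x⁻¹) * (x * a * x⁻¹) = (x * a * x⁻¹) * (x * n1 * x⁻¹) :=
        (h.ZC_comm hax' (hNQ hxn)).symm
      rw [h4]
      have h5 : (x * a * x⁻¹)⁻¹ = x * a * x⁻¹ := h.UU_inv hax
      calc (n1 * (x * n1 * x⁻¹)) * ((x * a * x⁻¹) * (x * n1 * x⁻¹))⁻¹ = n1 * (x * a * x⁻¹)⁻¹ := by group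
        _ = _ := by rw [h5]
  intro w hw hwN
  by_contra hno
  push Not at hno
  set a0 := n1⁻¹ * (w * n1 * w⁻¹) with ha0
  have ha0CC : a0 ∈ CC := memCC w hw hwN
  have ha0' : w * n1 * w⁻¹ = n1 * a0 := by rw [ha0]; group
  have ha01 : a0 ≠ 1 := by
    intro e; apply hno.1; rw [ha0', e, mul_one]
  have ha02 : a0 ≠ r * c := by
    intro e; apply hno.2; rw [ha0', e]
  let A : Subgroup G := Subgroup.zpowers (r * c)
  have hA : ∀ x, x ∈ A ↔ x = 1 ∨ x = r * c := by
    intro x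
    constructor
    · rintro ⟨k, rfl⟩
      have h2 : (r * c) ^ (2 : ℤ) = 1 := by
        rw [zpow_two]; exact h.UU_sq hrcU
      rcases Int.even_or_odd k with ⟨l, hl⟩ | ⟨l, hl⟩
      · left
        show (r * c) ^ k = 1
        rw [hl, ← two_mul, zpow_mul, h2, one_zpow]
      · right
        show (r * c) ^ k = r * c
        rw [hl, zpow_add, zpow_mul, h2, one_zpow, one_mul, zpow_one]
    · rintro (rfl | rfl)
      · exact one_mem _
      · exact Subgroup.mem_zpowers _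
  have hSrc : ∀ x ∈ S, x * (r * c) = (r * c) * x := by
    intro x hx
    have h1 := hS.S_r x hx
    have h2 := hcS x hx
    calc x * (r * c) = (x * r) * c := by group
      _ = r * (x * c) := by rw [h1]; group
      _ = _ := by rw [h2]; group
  have hCC2 : IsPGroup 2 CC := by
    intro g
    refine ⟨1, ?_⟩
    apply Subtype.ext
    have : (g : G) * g = 1 := h.UU_sq g.2.1
    simpa only [pow_two, _root_.pow_one, _root_.Subgroup.coe_mul, _root_.OneMemClass.coe_one] using this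
  obtain ⟨a, haCC, haA, haS⟩ := exists_fixed_mod (A := A) hS.S_p hCC2 hSCC
    (by
      intro x hx b hb
      rw [hA] at hb ⊢
      rcases hb with rfl | rfl
      · left; group
      · right; rw [hSrc x hx]; group)
    (by
      intro x hx b hb
      rw [hA] at hb ⊢
      rcases hb with rfl | rfl
      · left; group
      · right; rw [h.UU_comm hx.1 hrcU]; group)
    (by
      intro hle
      have := hle ha0CC
      rw [hA] at this
      rcases this with h1 | h1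
      · exact ha01 h1
      · exact ha02 h1)
  have haU := haCC.1
  have haZ := haCC.2.1
  have ha1 : a ≠ 1 := by rintro rfl; exact haA (one_mem _)
  have ha2 : a ≠ r * c := by rintro rfl; exact haA (Subgroup.mem_zpowers _)
  have haS' : ∀ x ∈ S, x * a * x⁻¹ = a ∨ x * a * x⁻¹ = a * (r * c) := by
    intro x hx
    have h1 := haS x hx
    rw [hA] at h1
    rcases h1 with h1 | h1
    · left
      calc x * a * x⁻¹ = (x * a * x⁻¹ * a⁻¹) * a := by group
        _ = a := by rw [h1, one_mul]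
    · right
      calc x * a * x⁻¹ = (x * a * x⁻¹ * a⁻¹) * a := by group
        _ = a * (r * c) := by rw [h1, h.UU_comm hrcU haU]
  -- `N t` centralises `a`
  have haN : ∀ n ∈ N t, a * n = n * a := by
    intro n hn
    have h1 := h.comm_KN Adj_base haU haZ hn
    rcases haS' n (hS.N_S hn) with h2 | h2
    · calc a * n = (n * a * n⁻¹) * n := by rw [h2]
        _ = _ := by group
    · exfalso
      -- a n a⁻¹ n⁻¹ = a (n a⁻¹ n⁻¹)
      have h3 : a * n * a⁻¹ * n⁻¹ = r * c := by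
        have ha' : a⁻¹ = a := h.UU_inv haU
        calc a * n * a⁻¹ * n⁻¹ = a * (n * a * n⁻¹) := by rw [ha']; group
          _ = (a * a) * (r * c) := by rw [h2]; group
          _ = r * c := by rw [h.UU_sq haU, one_mul]
      rw [h3] at h1
      exact hrct h1.1
  have haQt : a ∈ Q t := h.UN_at h.t_Om haU haN
  -- `S` centralises `a`
  have haC : ∀ x ∈ S, x * a = a * x := by
    intro x hx
    rcases haS' x hx with h1 | h1
    · calc x * a = (x * a * x⁻¹) * x := by group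
        _ = a * x := by rw [h1]
    · exfalso
      have hxr := hS.S_r x hx
      have hxM := hS.S_le hx
      -- C_V is `x`-invariant
      have inv : ∀ b, b ∈ ZC Q r → b ∈ ZC Q t → x * b * x⁻¹ ∈ ZC Q t := by
        intro b hb hb'
        have h2 : x * b * x⁻¹ ∈ ZC Q r := (h.ZC_fix hxr).2 hb
        have h3 : x * b * x⁻¹ ∈ ZC Q (x * t * x⁻¹) := h.ZC_conj.2 hb'
        rcases hS.S_t x hx with h4 | h4
        · rwa [h4] at h3
        · rw [h4] at h3
          have h5 := h.Adj_CV h.Adj_mul_base h2 h3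
          rwa [h.mul_cancel Om_base] at h5
      rcases h.Adj_ZQ Adj_base haZ haQt with h2 | h2
      · have h3 := inv a haZ h2
        rw [h1] at h3
        apply hrct
        have : r * c = a⁻¹ * (a * (r * c)) := by group
        rw [this]; exact mul_mem (inv_mem h2) h3
      · have h3 := inv (r * a) (mul_mem (h.mem_ZC Om_base) haZ) h2
        have h4 : x * (r * a) * x⁻¹ = r * a * (r * c) := by
          calc x * (r * a) * x⁻¹ = (x * r) * a * x⁻¹ := by group
            _ = r * (x * a * x⁻¹) := by rw [hxr]; group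
            _ = _ := by rw [h1]; group
        rw [h4] at h3
        apply hrct
        have : r * c = (r * a)⁻¹ * (r * a * (r * c)) := by group
        rw [this]; exact mul_mem (inv_mem h2) h3
  obtain ⟨-, -, u1, hu1, hu1N, hu1a⟩ := haCC
  -- memberships in `N0`
  have inN0 : ∀ b u, b ∈ UU M r → u ∈ UU M r → u * n1 * u⁻¹ = n1 * b → b ∈ N0 := by
    intro b u hb hu hub
    have hur : u * r = r * u := h.UU_comm hu hrU
    have h1 : b ∈ N r := by
      have : b = n1⁻¹ * (u * n1 * u⁻¹) := by rw [hub]; group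
      rw [this]
      exact mul_mem (inv_mem hn1) ((h.N_fix hur).2 hn1)
    rcases hcov b h1 with h2 | h2
    · exact h2
    · exfalso
      have h3 := hu0N _ h2
      have h4 : u0 * (n1 * b) * u0⁻¹ = n1 * (r * c) * b := by
        calc u0 * (n1 * b) * u0⁻¹ = (u0 * n1 * u0⁻¹) * (u0 * b * u0⁻¹) := by group
          _ = n1 * (r * c) * b := by rw [hu0n, h.UU_comm hu0 hb]; group
      rw [h3] at h4
      apply hrc1
      have h5 : n1 * (r * c) * b = n1 * 1 * b := by rw [← h4]; group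
      exact mul_left_cancel (mul_right_cancel h5)
  refine hS.hside N0 n1 u0 u1 (r * c) a hN0 hn1 hcov ?_ ?_ hu0N hu1N hu0n hu1a
    (inN0 _ u0 hrcU hu0 hu0n) (inN0 _ u1 haU hu1 hu1a) hSrc haC hrc1 ha1 ha2
  · rw [mem_centralizer_singleton_iff]
    exact h.UU_comm hu0 hrU
  · rw [mem_centralizer_singleton_iff]
    exact h.UU_comm hu1 hrU

/-- (13) -/
theorem j13 [Finite G] (h : TvH M r t Q N) (hS : TvS M S r t N) {c : G} (hc : JConst M r t Q N c)
    {N0 : Subgroup G} {n1 u0 : G} (hN0 : N0 ≤ N r) (hn1 : n1 ∈ N r)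
    (hcov : ∀ n ∈ N r, n ∈ N0 ∨ n1 * n ∈ N0) (hSN : ∀ x ∈ S, ∀ n ∈ N0, x * n * x⁻¹ ∈ N0)
    (hu0 : u0 ∈ UU M r) (hu0N : ∀ n ∈ N0, u0 * n = n * u0) (hu0n : u0 * n1 * u0⁻¹ = n1 * (r * c)) :
    ∀ w ∈ UU M r, (∀ n ∈ N0, w * n = n * w) → w * n1 * w⁻¹ = n1 ∨ w * n1 * w⁻¹ = n1 * (r * c) :=
  j13' h hS hc.2.1 (hc.2.2.1 r Om_base) (hc.2.2.1 t h.t_Om) (fun x hx => hc.2.2.2.1 x (hS.S_le hx))
    hN0 hn1 hcov hSN hu0 hu0N hu0n

end Cfsg.Agent.Omega.HOne.TvThirteen

end

end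

-- merged: Cfsg.Agent.Mrg.Omega.HOne.TvTail
section

section


/-!
# II.0h1, `q = 2`, case (β): (11) of #15959, the tail (helper865)

`s ~ t`, `s ∉ Q r` (so `⟨t,s⟩` is opposite to `V`), all pairs of lines are opposite.

* `comm_mem`     : (d) `[s, y] ∈ ⟨t⟩ Z(Q r)` for `y ∈ Q r` commuting with `t`;
* `not_zero`     : `[s, y] ∉ Z(Q r)` for some such `y`;
* `eleven_base`  : if `[s, N x] ≤ Q r` for all `x ~ r`, then there are exactly three lines on `r`;
* `jEleven_of_base` : transport to all points.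
-/

set_option autoImplicit false
set_option linter.unusedSectionVars false

namespace Cfsg.Agent.Omega.HOne.TvDef

open Subgroup

variable {G : Type*} [Group G] {M : Subgroup G} {r t : G} {Q N : G → Subgroup G}

namespace TvH

variable (h : TvH M r t Q N)
include h

theorem mul_of_mul {K : Subgroup G} {x y z : G} (_ : x ∈ UU M r) (hy : y ∈ UU M r) (hz : z ∈ UU M r)
    (h1 : x * z ∈ K) (h2 : y * z ∈ K) : x * y ∈ K := by
  have e : x * y = (x * z) * (y * z) := by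
    have e1 := h.UU_comm hz hy
    calc x * y = x * (z * z) * y := by rw [h.UU_sq hz, mul_one]
      _ = x * z * (z * y) := by group
      _ = _ := by rw [e1]
  rw [e]
  exact mul_mem h1 h2

/-- `r` commutes with `U` -/
theorem r_comm {u : G} (hu : u ∈ UU M r) : u * r = r * u := h.UU_comm hu (Om_le_UU Om_base)

/-- `[s, y] = s (y s y⁻¹) ∈ Q r` for `y ∈ Q r` -/
theorem br_mem {u : G} (hu : u ∈ UU M r) {x : G} (hx : x ∈ Om M r) {y : G} (hy : y ∈ Q x) :
    u * (y * u * y⁻¹) ∈ Q x ∧ u * (y * u * y⁻¹) ∈ UU M r := by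
  have hux : u * x = x * u := h.UU_comm hu (Om_le_UU hx)
  refine ⟨?_, mul_mem hu (UU_conj (h.Q_le_M hx hy) hu)⟩
  have e : u * (y * u * y⁻¹) = (u * y * u⁻¹) * y⁻¹ := by
    rw [h.UU_inv hu]
    group
  rw [e]
  exact mul_mem ((h.Q_fix hux).2 hy) (inv_mem hy)

/-- `[x y] = [x] [y]` up to `r` -/
theorem br_mul {u : G} (hu : u ∈ UU M r) {x y : G} (hx : x ∈ Q r) (hy : y ∈ Q r) :
    u * (x * y * u * (x * y)⁻¹) = (u * (x * u * x⁻¹)) * (u * (y * u * y⁻¹)) ∨
      u * (x * y * u * (x * y)⁻¹) = (u * (x * u * x⁻¹)) * (u * (y * u * y⁻¹)) * r := by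
  have hrO : r ∈ Om M r := Om_base
  obtain ⟨h1, h1'⟩ := h.br_mem hu hrO hx
  obtain ⟨h2, h2'⟩ := h.br_mem hu hrO hy
  set b := u * (y * u * y⁻¹) with hb
  have e1 : y * u * y⁻¹ = u * b := by rw [hb, ← mul_assoc, h.UU_sq hu, one_mul]
  have hxM := h.Q_le_M hrO hx
  have e2 : u * (x * y * u * (x * y)⁻¹) = (u * (x * u * x⁻¹)) * (x * b * x⁻¹) := by
    calc u * (x * y * u * (x * y)⁻¹) = u * (x * (y * u * y⁻¹) * x⁻¹) := by group
      _ = u * (x * (u * b) * x⁻¹) := by rw [e1]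
      _ = _ := by group
  rcases h.Q_comm x hx b h2 with h3 | h3
  · left
    have e3 : x * b * x⁻¹ = b := by rwa [mul_inv_eq_one] at h3
    rw [e2, e3]
  · right
    have e3 : x * b * x⁻¹ = r * b := by rwa [mul_inv_eq_iff_eq_mul] at h3
    rw [e2, e3, ← h.r_comm h2']
    exact (mul_assoc _ _ _).symm

/-- (d) -/
theorem comm_mem [Finite G] (hO : JOpp M r t Q N) (hA : AllOpp M r t N) {s : G} (hs : Adj M r t t s) {y : G}
    (hy : y ∈ Q r) (hyt : y * t = t * y) :
    s * (y * s * y⁻¹) ∈ ZC Q r ∨ t * (s * (y * s * y⁻¹)) ∈ ZC Q r := by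
  have hrO : r ∈ Om M r := Om_base
  have hsU := h.Adj_UU hs
  have htU : t ∈ UU M r := Om_le_UU h.t_Om
  have hrU : r ∈ UU M r := Om_le_UU hrO
  have hyM := h.Q_le_M hrO hy
  have eyt : y * t * y⁻¹ = t := by rw [hyt, mul_inv_cancel_right]
  obtain ⟨hiQ, hiU⟩ := h.br_mem hsU hrO hy
  have hs' : Adj M r t t (y * s * y⁻¹) := by
    have := hs.conj hyM
    rwa [eyt] at this
  have hs'U := h.Adj_UU hs'
  set s' := y * s * y⁻¹ with hs'def
  by_cases h1 : s' = s
  · left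
    rw [h1, h.UU_sq hsU]
    exact one_mem _
  by_cases h2 : s' = t * s
  · right
    have e : t * (s * s') = 1 := by
      rw [h2, ← mul_assoc s, ← h.UU_comm htU hsU, mul_assoc t, h.UU_sq hsU, mul_one, h.UU_sq htU]
    rw [e]
    exact one_mem _
  obtain ⟨-, -, -, -, -, h88⟩ := hO t s s' (hA t s s' hs hs' h1 h2)
  revert h88; rintro ⟨c, -, hcU, hct, -, h88⟩
  revert h88; rintro ⟨-, hcL, hL, -, -⟩
  have hic : s * s' * c ∈ UU M r := mul_mem hiU hcU
  have hNfix : ∀ n ∈ N r, n * (s * s' * c) * n⁻¹ = s * s' * c := by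
    intro n hn
    refine h.fix_of h.Adj_swap hL hn ?_
    have e1 : n * (s * s') * n⁻¹ = s * s' := by
      have := (h.mem_Q_iff hrO hiU).1 hiQ n hn
      rw [← this, mul_inv_cancel_right]
    have e2 : n * (s * s' * c) * n⁻¹ * (s * s' * c)⁻¹ = (n * c * n⁻¹) * c⁻¹ := by
      have hnc : n * c * n⁻¹ ∈ UU M r := UU_conj (h.N_le_M hrO hn) hcU
      calc n * (s * s' * c) * n⁻¹ * (s * s' * c)⁻¹
          = (n * (s * s') * n⁻¹) * ((n * c * n⁻¹) * c⁻¹) * (s * s')⁻¹ := by group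
        _ = (s * s') * ((n * c * n⁻¹) * c⁻¹) * (s * s')⁻¹ := by rw [e1]
        _ = _ := by rw [h.UU_comm hiU (mul_mem hnc (inv_mem hcU)), mul_inv_cancel_right]
    rw [e2]
    exact mul_mem (h.K_conj (h.N_comm h.Adj_swap hn) hct) (inv_mem hct)
  have hor : s * s' * c = r ∨ s * s' * c = t * r := by
    by_contra h3
    push Not at h3
    obtain ⟨-, -, n, hn, hne⟩ := hA t r _ h.Adj_swap hL h3.1 h3.2
    exact hne (hNfix n hn)
  have ei : s * s' = s * s' * c * c := by rw [mul_assoc (s * s'), h.UU_sq hcU, mul_one]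
  rcases hor with h3 | h3
  · left
    rw [h3] at hcL
    rw [ei, h3]
    exact mul_mem (h.mem_ZC hrO) hcL
  · right
    rw [h3] at hcL
    have h4 := h.Adj_CV (h.Adj_mul h.Adj_swap) hct hcL
    rw [h.mul_cancel h.t_Om] at h4
    rw [ei, h3, mul_assoc t, h.mul_cancel h.t_Om]
    exact mul_mem (h.mem_ZC hrO) h4

/-- `Dim 0` is impossible. -/
theorem not_zero [Finite G] (hA : AllOpp M r t N) {s : G} (hs : Adj M r t t s) (hsQ : s ∉ Q r) :
    ∃ y ∈ Q r, y * t = t * y ∧ s * (y * s * y⁻¹) ∉ ZC Q r := by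
  by_contra hall
  push Not at hall
  have hrO : r ∈ Om M r := Om_base
  have htO : t ∈ Om M r := h.t_Om
  have hsU := h.Adj_UU hs
  have htU : t ∈ UU M r := Om_le_UU htO
  have hrU : r ∈ UU M r := Om_le_UU hrO
  have hrt : r * t = t * r := h.Adj_comm Adj_base
  obtain ⟨q, hq, hqt⟩ := h.q12
  have hqM := h.Q_le_M hrO hq
  have hqr : q * r * q⁻¹ = r := by
    have := h.ZC_comm (h.mem_ZC hrO) hq
    rw [← this]; group
  obtain ⟨hiQ, hiU⟩ := h.br_mem hsU hrO hq
  set i := s * (q * s * q⁻¹) with hi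
  have hqs : q * s * q⁻¹ = s * i := by rw [hi, ← mul_assoc, h.UU_sq hsU, one_mul]
  -- `i` commutes with `q`
  have hiq : i * q = q * i := by
    have hqi : q * i * q⁻¹ ∈ UU M r := UU_conj hqM hiU
    have e1 : q * q * s * (q * q)⁻¹ = s * (i * (q * i * q⁻¹)) := by
      calc q * q * s * (q * q)⁻¹ = q * (q * s * q⁻¹) * q⁻¹ := by group
        _ = q * (s * i) * q⁻¹ := by rw [hqs]
        _ = (q * s * q⁻¹) * (q * i * q⁻¹) := by group
        _ = _ := by rw [hqs, mul_assoc]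
    have e2 : q * q * s * (q * q)⁻¹ = s := by
      rcases h.Q_sq q hq with h1 | h1
      · rw [h1]; group
      · rw [h1, ← h.r_comm hsU, mul_inv_cancel_right]
    rw [e2] at e1
    have e3 : i * (q * i * q⁻¹) = 1 := (mul_eq_left.mp e1.symm)
    have e4 : q * i * q⁻¹ = i := by
      have := h.UU_cancel' hiU (q * i * q⁻¹)
      rw [e3, mul_one] at this
      exact this.symm
    calc i * q = (q * i * q⁻¹) * q := by rw [e4]
      _ = q * i := by group
  -- `i` commutes with the `y`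
  have hiy : ∀ y ∈ Q r, y * t = t * y → i * y = y * i := by
    intro y hy hyt
    have hk := hall y hy hyt
    set k := s * (y * s * y⁻¹) with hk'
    have hkU : k ∈ UU M r := (h.br_mem hsU hrO hy).2
    have e1 : s * q * s⁻¹ = i * q := by rw [hi, h.UU_inv hsU]; group
    have e2 : s * y * s⁻¹ = k * y := by rw [hk', h.UU_inv hsU]; group
    have e3 : s * (q * y * q⁻¹ * y⁻¹) * s⁻¹ = q * y * q⁻¹ * y⁻¹ := by
      rcases h.Q_comm q hq y hy with h1 | h1
      · rw [h1]; group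
      · rw [h1, h.r_comm hsU, mul_inv_cancel_right]
    have e4 : s * (q * y * q⁻¹ * y⁻¹) * s⁻¹ = (i * q) * (k * y) * (i * q)⁻¹ * (k * y)⁻¹ := by
      rw [← e1, ← e2]; group
    have hkz : ∀ x ∈ Q r, k * x = x * k := fun x hx => h.ZC_comm hk hx
    have e5 : (i * q) * (k * y) * (i * q)⁻¹ * (k * y)⁻¹ = i * (q * y * q⁻¹) * i⁻¹ * y⁻¹ := by
      have h1 := hkz (i * q) (mul_mem hiQ hq)
      have h2 := hkz (i * (q * y * q⁻¹) * i⁻¹ * y⁻¹) (mul_mem (mul_mem (mul_mem hiQ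
        (mul_mem (mul_mem hq hy) (inv_mem hq))) (inv_mem hiQ)) (inv_mem hy))
      calc (i * q) * (k * y) * (i * q)⁻¹ * (k * y)⁻¹ = ((i * q) * k) * y * (i * q)⁻¹ * y⁻¹ * k⁻¹ := by group
        _ = (k * (i * q)) * y * (i * q)⁻¹ * y⁻¹ * k⁻¹ := by rw [h1]
        _ = (k * (i * (q * y * q⁻¹) * i⁻¹ * y⁻¹)) * k⁻¹ := by group
        _ = _ := by rw [h2, mul_inv_cancel_right]
    rw [e4, e5] at e3
    -- `i (q y q⁻¹) i⁻¹ y⁻¹ = q y q⁻¹ y⁻¹`
    have e6 : i * (q * y * q⁻¹) * i⁻¹ = q * y * q⁻¹ := mul_right_cancel e3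
    rcases h.Q_comm q hq y hy with h1 | h1
    · have e7 : q * y * q⁻¹ = y := mul_inv_eq_one.1 h1
      rw [e7] at e6
      exact mul_inv_eq_iff_eq_mul.1 e6
    · have e7 : q * y * q⁻¹ = r * y := mul_inv_eq_iff_eq_mul.1 h1
      rw [e7] at e6
      have e8 : i * (r * y) * i⁻¹ = r * (i * y * i⁻¹) := by
        calc i * (r * y) * i⁻¹ = (i * r) * y * i⁻¹ := by group
          _ = (r * i) * y * i⁻¹ := by rw [h.r_comm hiU]
          _ = _ := by group
      rw [e8] at e6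
      exact mul_inv_eq_iff_eq_mul.1 (mul_left_cancel e6)
  have hiZ : i ∈ ZC Q r := by
    rw [mem_centralizer_iff]
    intro x hx
    rcases h.Q_comm x hx t h.t_mem with h1 | h1
    · have h2 : x * t = t * x := by
        have := mul_inv_eq_one.1 h1
        exact mul_inv_eq_iff_eq_mul.1 this
      exact (hiy x hx h2).symm
    · have h2 : x * t * x⁻¹ = r * t := mul_inv_eq_iff_eq_mul.1 h1
      have h3 : (q⁻¹ * x) * t = t * (q⁻¹ * x) := by
        have h4 : q⁻¹ * (r * t) * q = t := by rw [← hqt]; group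
        calc (q⁻¹ * x) * t = q⁻¹ * (x * t * x⁻¹) * x := by group
          _ = q⁻¹ * (r * t) * q * (q⁻¹ * x) := by rw [h2]; group
          _ = _ := by rw [h4]
      have h5 := hiy _ (mul_mem (inv_mem hq) hx) h3
      calc x * i = q * ((q⁻¹ * x) * i) := by group
        _ = q * (i * (q⁻¹ * x)) := by rw [h5]
        _ = (q * i) * q⁻¹ * x := by group
        _ = (i * q) * q⁻¹ * x := by rw [hiq]
        _ = i * x := by group
  -- `g ∈ Q (r t)` swapping `r` and `t`
  have hart : Adj M r t (r * t) r := h.Adj_symm h.Adj_mul_base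
  obtain ⟨g, hg, hgr⟩ := h.Adj_q hart
  have hrtO : r * t ∈ Om M r := hart.left
  have hgM := h.Q_le_M hrtO hg
  have hgr' : g * r * g⁻¹ = t := by
    rw [hgr, hrt, mul_assoc, h.r_sq, mul_one]
  have hgrt : g * (r * t) * g⁻¹ = r * t := by
    have := h.ZC_comm (h.mem_ZC hrtO) hg
    rw [← this]; group
  have hgt : g * t * g⁻¹ = r := by
    have e1 : g * t * g⁻¹ = (g * r * g⁻¹)⁻¹ * (g * (r * t) * g⁻¹) := by group
    rw [e1, hgr', hgrt, h.UU_inv htU, hrt, h.mul_cancel htO]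
  have harx : Adj M r t r (g * s * g⁻¹) := by
    have := hs.conj hgM
    rwa [hgt] at this
  set x := g * s * g⁻¹ with hx
  have hxU := h.Adj_UU harx
  have h1 : s * x ∈ Q (r * t) := (h.br_mem hsU hrtO hg).1
  have h2 : q * s * q⁻¹ ∈ Q (r * t) := by
    have := hs.conj hqM
    rw [hqt] at this
    exact h.Adj_mem this
  have h3 : i * x ∈ Q (r * t) := by
    have e : i * x = (q * s * q⁻¹) * (s * x) := by
      rw [hi, h.UU_comm hsU (UU_conj hqM hsU), mul_assoc]
    rw [e]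
    exact mul_mem h2 h1
  have hNx : ∀ n ∈ N (r * t), n * x * n⁻¹ = x := by
    intro n hn
    refine h.fix_of h.Adj_mul_base harx hn ?_
    have h4 := (h.mem_Q_iff hrtO (mul_mem hiU hxU)).1 h3 n hn
    have h5 : n * (i * x) * n⁻¹ = i * x := by rw [← h4, mul_inv_cancel_right]
    have h6 : n * x * n⁻¹ * x⁻¹ = (n * i * n⁻¹)⁻¹ * i := by
      calc n * x * n⁻¹ * x⁻¹ = (n * i * n⁻¹)⁻¹ * (n * (i * x) * n⁻¹) * x⁻¹ := by group
        _ = (n * i * n⁻¹)⁻¹ * (i * x) * x⁻¹ := by rw [h5]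
        _ = _ := by group
    rw [h6]
    exact mul_mem (inv_mem (h.K_conj (h.N_comm h.Adj_mul_base hn) hiZ)) hiZ
  have hor : x = r * t ∨ x = r * (r * t) := by
    by_contra h4
    push Not at h4
    obtain ⟨-, -, n, hn, hne⟩ := hA r (r * t) x h.Adj_mul_base harx h4.1 h4.2
    exact hne (hNx n hn)
  have hs1 : ∀ z, x = g * z * g⁻¹ → s = z := by
    intro z hz
    have h4 : g * s * g⁻¹ = g * z * g⁻¹ := hz
    exact (MulAut.conj g).injective h4
  rcases hor with h4 | h4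
  · apply hsQ
    rw [hs1 (r * t) (by rw [h4, hgrt])]
    exact mul_mem h.r_mem h.t_mem
  · apply hsQ
    rw [h.mul_cancel hrO] at h4
    rw [hs1 r (by rw [h4, hgr'])]
    exact h.r_mem

/-- **(11) at the base point**, from `[s, N x] ≤ Q r` (`x ~ r`). -/
theorem eleven_base [Finite G] (hO : JOpp M r t Q N) (hA : AllOpp M r t N) {s : G} (hs : Adj M r t t s)
    (hsQ : s ∉ Q r) (path : ∀ x, Adj M r t r x → ∀ m ∈ N x, s * (m * s * m⁻¹) ∈ Q r) {b c : G}
    (hb : Opp M r t N r t b) (hc : Adj M r t r c) :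
    c = t ∨ c = r * t ∨ c = b ∨ c = r * b ∨ t * b * c ∈ ZC Q r := by
  have hrO : r ∈ Om M r := Om_base
  have htO : t ∈ Om M r := h.t_Om
  have hsU := h.Adj_UU hs
  have htU : t ∈ UU M r := Om_le_UU htO
  have hrU : r ∈ UU M r := Om_le_UU hrO
  have hrZ := h.mem_ZC hrO
  obtain ⟨q, hq, hqt⟩ := h.q12
  obtain ⟨hiQ, hiU⟩ := h.br_mem hsU hrO hq
  set i := s * (q * s * q⁻¹) with hi
  obtain ⟨y, hy, hyt, hyn⟩ := h.not_zero hA hs hsQ
  have hyt' := (h.comm_mem hO hA hs hy hyt).resolve_left hyn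
  obtain ⟨hkQ, hkU⟩ := h.br_mem hsU hrO hy
  set k := s * (y * s * y⁻¹) with hk
  -- the four cosets
  have four : ∀ x ∈ Q r, s * (x * s * x⁻¹) ∈ ZC Q r ∨ t * (s * (x * s * x⁻¹)) ∈ ZC Q r ∨
      i * (s * (x * s * x⁻¹)) ∈ ZC Q r ∨ t * i * (s * (x * s * x⁻¹)) ∈ ZC Q r := by
    intro x hx
    rcases h.Q_comm x hx t h.t_mem with h1 | h1
    · have h2 : x * t = t * x := mul_inv_eq_iff_eq_mul.1 (mul_inv_eq_one.1 h1)
      rcases h.comm_mem hO hA hs hx h2 with h3 | h3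
      · exact Or.inl h3
      · exact Or.inr (Or.inl h3)
    · have h2 : x * t * x⁻¹ = r * t := mul_inv_eq_iff_eq_mul.1 h1
      have h3 : (q⁻¹ * x) * t = t * (q⁻¹ * x) := by
        have h4 : q⁻¹ * (r * t) * q = t := by rw [← hqt]; group
        calc (q⁻¹ * x) * t = q⁻¹ * (x * t * x⁻¹) * x := by group
          _ = q⁻¹ * (r * t) * q * (q⁻¹ * x) := by rw [h2]; group
          _ = _ := by rw [h4]
      have hyQ : q⁻¹ * x ∈ Q r := mul_mem (inv_mem hq) hx
      have hl := h.comm_mem hO hA hs hyQ h3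
      have hlU := (h.br_mem hsU hrO hyQ).2
      set l := s * (q⁻¹ * x * s * (q⁻¹ * x)⁻¹) with hl'
      have hm := h.br_mul hsU hq hyQ
      have e0 : q * (q⁻¹ * x) = x := by group
      rw [e0, ← hi, ← hl'] at hm
      -- `[x] = i l` up to `r`
      have h5 : i * (s * (x * s * x⁻¹)) * l ∈ ZC Q r := by
        rcases hm with hm | hm
        · have e : i * (s * (x * s * x⁻¹)) * l = 1 := by
            rw [hm, h.UU_cancel' hiU, h.UU_sq hlU]
          rw [e]
          exact one_mem _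
        · have e : i * (s * (x * s * x⁻¹)) * l = r := by
            rw [hm]
            calc i * (i * l * r) * l = i * (i * (l * (r * l))) := by group
              _ = l * (r * l) := h.UU_cancel' hiU _
              _ = l * (l * r) := by rw [← h.r_comm hlU]
              _ = r := h.UU_cancel' hlU _
          rw [e]
          exact hrZ
      have hxU := (h.br_mem hsU hrO hx).2
      rcases hl with h6 | h6
      · right; right; left
        exact (mul_mem_cancel_right h6).1 h5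
      · right; right; right
        have e : t * i * (s * (x * s * x⁻¹)) = (i * (s * (x * s * x⁻¹)) * l) * (t * l) := by
          have e1 : (i * (s * (x * s * x⁻¹)) * l) * (t * l) = (i * (s * (x * s * x⁻¹))) * (l * (t * l)) := by group
          rw [e1, h.UU_comm htU hlU, h.UU_cancel' hlU, h.UU_comm (mul_mem hiU hxU) htU, mul_assoc t]
        rw [e]
        exact mul_mem h5 h6
  -- the other lines
  have E : ∀ b, Adj M r t r b → b ≠ t → b ≠ r * t → b * i ∈ ZC Q r ∨ b * t * i ∈ ZC Q r := by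
    intro b hb h1 h2
    have hbU := h.Adj_UU hb
    have hne : t ≠ r * b := by
      intro e
      apply h2
      rw [e, h.mul_cancel hrO]
    have ho : Opp M r t N r b t := hA r b t hb Adj_base (Ne.symm h1) hne
    obtain ⟨-, -, -, -, -, d, -, hdU, hdr, -, -, -, -, hmv, -⟩ := hO r b t ho
    obtain ⟨-, -, m, hm, hmt⟩ := ho
    have hmt' : m * t * m⁻¹ = b * t * d := (hmv m hm).resolve_left hmt
    have hmr : m * r = r * m := h.N_comm hb hm
    have hmM := h.N_le_M (h.Adj_right hb) hm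
    have hy' : m * y * m⁻¹ ∈ Q r := (h.Q_fix hmr).2 hy
    set y' := m * y * m⁻¹ with hy'def
    have haQ := path b hb m hm
    have haU : s * (m * s * m⁻¹) ∈ UU M r := mul_mem hsU (UU_conj hmM hsU)
    set a := s * (m * s * m⁻¹) with ha
    have ems : m * s * m⁻¹ = s * a := by rw [ha, ← mul_assoc, h.UU_sq hsU, one_mul]
    obtain ⟨hkQ', hkU'⟩ := h.br_mem hsU hrO hy'
    set k' := s * (y' * s * y'⁻¹) with hk'
    -- conjugate `t k ∈ ZC`
    have h3 : m * (t * k) * m⁻¹ ∈ ZC Q r := h.K_conj hmr hyt'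
    have h4 : m * (t * k) * m⁻¹ = (b * t * d) * (s * a * (y' * (s * a) * y'⁻¹)) := by
      have e1 : m * k * m⁻¹ = (m * s * m⁻¹) * (y' * (m * s * m⁻¹) * y'⁻¹) := by
        rw [hk, hy'def]; group
      calc m * (t * k) * m⁻¹ = (m * t * m⁻¹) * (m * k * m⁻¹) := by group
        _ = _ := by rw [hmt', e1, ems]
    have h5 : s * a * (y' * (s * a) * y'⁻¹) = k' * (a * (y' * a * y'⁻¹)) := by
      have hcU : y' * s * y'⁻¹ ∈ UU M r := UU_conj (h.Q_le_M hrO hy') hsU
      calc s * a * (y' * (s * a) * y'⁻¹) = s * (a * (y' * s * y'⁻¹)) * (y' * a * y'⁻¹) := by group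
        _ = s * ((y' * s * y'⁻¹) * a) * (y' * a * y'⁻¹) := by rw [h.UU_comm haU hcU]
        _ = _ := by rw [hk']; group
    have h6 : a * (y' * a * y'⁻¹) ∈ ZC Q r := by
      rcases h.Q_comm y' hy' a haQ with h7 | h7
      · rw [mul_inv_eq_one.1 h7, h.UU_sq haU]
        exact one_mem _
      · rw [mul_inv_eq_iff_eq_mul.1 h7, ← mul_assoc, h.r_comm haU, mul_assoc, h.UU_sq haU, mul_one]
        exact hrZ
    have h7 : b * t * k' ∈ ZC Q r := by
      rw [h4, h5] at h3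
      have e1 : (b * t * d) * (k' * (a * (y' * a * y'⁻¹))) = (b * t * k') * d * (a * (y' * a * y'⁻¹)) := by
        calc (b * t * d) * (k' * (a * (y' * a * y'⁻¹))) = b * t * (d * k') * (a * (y' * a * y'⁻¹)) := by group
          _ = b * t * (k' * d) * (a * (y' * a * y'⁻¹)) := by rw [h.UU_comm hdU hkU']
          _ = _ := by group
      rw [e1] at h3
      exact (mul_mem_cancel_right hdr).1 ((mul_mem_cancel_right h6).1 h3)
    have hbtU : b * t ∈ UU M r := mul_mem hbU htU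
    rcases four y' hy' with h8 | h8 | h8 | h8
    · exfalso
      have h9 : b * t ∈ ZC Q r := (mul_mem_cancel_right h8).1 h7
      rw [h.UU_comm hbU htU] at h9
      rcases h.noPar_at Adj_base hb h9 with h10 | h10
      · exact h1 h10
      · exact h2 h10
    · exfalso
      have h9 : b * t * t ∈ ZC Q r := h.mul_of_mul hbtU htU hkU' h7 h8
      rw [mul_assoc, h.UU_sq htU, mul_one] at h9
      exact h.Adj_not_mem hb h9
    · exact Or.inr (h.mul_of_mul hbtU hiU hkU' h7 h8)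
    · left
      have h9 := h.mul_of_mul hbtU (mul_mem htU hiU) hkU' h7 h8
      have e : b * t * (t * i) = b * i := by rw [mul_assoc, h.UU_cancel' htU]
      rwa [e] at h9
  obtain ⟨-, -, -, hbt, hbrt, -⟩ := hO r t b hb
  have hbA := hb.2.1
  have hbU := h.Adj_UU hbA
  have hcU := h.Adj_UU hc
  by_cases h1 : c = t
  · exact Or.inl h1
  by_cases h2 : c = r * t
  · exact Or.inr (Or.inl h2)
  right; right
  have htbU : ∀ x ∈ UU M r, ∀ y ∈ UU M r, x * i ∈ ZC Q r → y * i ∈ ZC Q r → x * y ∈ ZC Q r :=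
    fun x hx y hy => h.mul_of_mul hx hy hiU
  have fin1 : b * c ∈ ZC Q r → c = b ∨ c = r * b ∨ t * b * c ∈ ZC Q r := by
    intro h3
    rcases h.noPar_at hbA hc h3 with h4 | h4
    · exact Or.inl h4
    · exact Or.inr (Or.inl h4)
  have fin2 : b * t * c ∈ ZC Q r → c = b ∨ c = r * b ∨ t * b * c ∈ ZC Q r := by
    intro h3
    rw [h.UU_comm hbU htU] at h3
    exact Or.inr (Or.inr h3)
  rcases E b hbA hbt hbrt with h3 | h3 <;> rcases E c hc h1 h2 with h4 | h4
  · exact fin1 (htbU b hbU c hcU h3 h4)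
  · apply fin2
    have h5 := htbU b hbU (c * t) (mul_mem hcU htU) h3 h4
    have e : b * (c * t) = b * t * c := by rw [h.UU_comm hcU htU, mul_assoc]
    rwa [e] at h5
  · exact fin2 (htbU (b * t) (mul_mem hbU htU) c hcU h3 h4)
  · apply fin1
    have h5 := htbU (b * t) (mul_mem hbU htU) (c * t) (mul_mem hcU htU) h3 h4
    have e : b * t * (c * t) = b * c := by
      rw [h.UU_comm hcU htU, mul_assoc, h.UU_cancel' htU]
    rwa [e] at h5

/-- transport of (11) to all points -/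
theorem jEleven_of_base (hbase : AllOpp M r t N → ∀ b c, Opp M r t N r t b → Adj M r t r c →
    c = t ∨ c = r * t ∨ c = b ∨ c = r * b ∨ t * b * c ∈ ZC Q r) : JEleven M r t Q N := by
  intro hA s a b c hb hc
  obtain ⟨m, hm, rfl, rfl⟩ := hb.1
  have hb' := h.opp_conj (M.inv_mem hm) hb
  have hc' := hc.conj (M.inv_mem hm)
  have e : ∀ z : G, m⁻¹ * (m * z * m⁻¹) * m⁻¹⁻¹ = z := fun z => by group
  rw [e, e] at hb'
  rw [e] at hc'
  have ec : ∀ z : G, m⁻¹ * c * m⁻¹⁻¹ = z → c = m * z * m⁻¹ := by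
    rintro z rfl
    group
  rcases hbase hA _ _ hb' hc' with h1 | h1 | h1 | h1 | h1
  · exact Or.inl (ec _ h1)
  · right; left
    rw [ec _ h1]
    group
  · right; right; left
    rw [ec _ h1]
    group
  · right; right; right; left
    rw [ec _ h1]
    group
  · right; right; right; right
    have h2 := (h.ZC_conj (g := m)).2 h1
    have e2 : m * (t * (m⁻¹ * b * m⁻¹⁻¹) * (m⁻¹ * c * m⁻¹⁻¹)) * m⁻¹ = m * t * m⁻¹ * b * c := by group
    rwa [e2] at h2

end TvH

end Cfsg.Agent.Omega.HOne.TvDef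

end

section


/-!
# II.0h1, `q = 2`, case (β): (11) of #15959 with a variable `c` (helper865)

All pairs of lines are opposite.

* `factF`  : FACT F (helper916);
* `star`   : `g ∈ N r` moves `s` iff it moves `s ^ m`, `m ∈ N x`, `x ~ r`;
* `exists_sfix` : a point `s₀ ~ t` with `C_{N r}(s₀)` invariant under `S` and `c(t; r, s₀)` fixed by `S`;
* `jEleven`: JOINT (11) from `TvH`, `TvS` and `Q r ≤ S`.
-/

set_option autoImplicit false
set_option linter.unusedSectionVars false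

namespace Cfsg.Agent.Omega.HOne.TvDef

open Subgroup

variable {G : Type*} [Group G] {M S : Subgroup G} {r t : G} {Q N : G → Subgroup G}

namespace TvH

variable (h : TvH M r t Q N)
include h

theorem comm_of_conj {g x : G} (hx : g * x * g⁻¹ = x) : g * x = x * g := mul_inv_eq_iff_eq_mul.1 hx

/-- **FACT F.** -/
theorem factF (hO : JOpp M r t Q N) (hA : AllOpp M r t N) {x y b : G} (hx : Adj M r t r x) (hy : Adj M r t r y)
    (hb : b ∈ ZC Q r) (hby : b ∈ ZC Q y) : r * b ∉ ZC Q x := by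
  intro hrb
  have hnb : b ∉ ZC Q x := fun h1 => h.not_both hx ((mul_mem_cancel_right h1).1 hrb)
  by_cases h1 : y = x
  · exact hnb (h1 ▸ hby)
  by_cases h2 : y = r * x
  · apply hnb
    have h3 := h.Adj_CV hy hb hby
    rwa [h2, h.mul_cancel hx.left] at h3
  have ho := hA r x y hx hy h1 h2
  obtain ⟨hsymm, -, -, -, -, d, -, -, -, -, -, -, -, hmx, hmy⟩ := hO r x y ho
  obtain ⟨-, -, n, hn, hne⟩ := ho
  obtain ⟨-, -, m, hm, hme⟩ := hsymm
  have e1 := (hmx n hn).resolve_left hne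
  have e2 := (hmy m hm).resolve_left hme
  have hxO := h.Adj_right hx
  have hyO := h.Adj_right hy
  -- `n` commutes with `b`
  have h3 : n * (r * b) * n⁻¹ = r * b := h.N_ZC hxO hn hrb
  have h4 : n * r * n⁻¹ = r := h.N_fix_s hx hn
  have h5 : n * b * n⁻¹ = b := by
    have e : n * b * n⁻¹ = (n * r * n⁻¹)⁻¹ * (n * (r * b) * n⁻¹) := by group
    rw [e, h3, h4, inv_mul_cancel_left]
  have h6 : b ∈ ZC Q (x * y * d) := by
    have := (h.ZC_conj (g := n)).2 hby
    rwa [h5, e1] at this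
  have h7 : m * b * m⁻¹ = b := h.N_ZC hyO hm hby
  apply hnb
  rw [← e2] at h6
  rw [← h7] at h6
  exact h.ZC_conj.1 h6

/-- **STAR.** -/
theorem star (hO : JOpp M r t Q N) (hA : AllOpp M r t N) {s c : G} (hs : Adj M r t t s)
    (hcr : c ∈ ZC Q r) (hct : c ∈ ZC Q t) (hcU : c ∈ UU M r)
    (hmv : ∀ n ∈ N r, n * s * n⁻¹ = s ∨ n * s * n⁻¹ = r * s * c) {x m g : G} (hx : Adj M r t r x) (hm : m ∈ N x)
    (hg : g ∈ N r) : g * s = s * g ↔ g * (m * s * m⁻¹) = (m * s * m⁻¹) * g := by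
  have hrO : r ∈ Om M r := Om_base
  have hxO := h.Adj_right hx
  have hsU := h.Adj_UU hs
  have hrU : r ∈ UU M r := Om_le_UU hrO
  have hxU := h.Adj_UU hx
  have hmM := h.N_le_M hxO hm
  have hmr : m * r = r * m := h.N_comm hx hm
  have hgx : g * x = x * g := h.N_comm (h.Adj_symm hx) hg
  set s' := m * s * m⁻¹ with hs'
  have hs'U : s' ∈ UU M r := UU_conj hmM hsU
  have hc'U : m * c * m⁻¹ ∈ UU M r := UU_conj hmM hcU
  have hc'r : m * c * m⁻¹ ∈ ZC Q r := h.K_conj hmr hcr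
  have hc't : m * c * m⁻¹ ∈ ZC Q (m * t * m⁻¹) := h.ZC_conj.2 hct
  set c' := m * c * m⁻¹ with hc'
  have ht' : Adj M r t r (m * t * m⁻¹) := h.Adj_N hx Adj_base hm
  have hmv' : g * s' * g⁻¹ = s' ∨ g * s' * g⁻¹ = r * s' * c' := by
    have h1 : m⁻¹ * g * m ∈ N r := by
      have := (h.N_fix (g := m⁻¹) (x := g) (h.inv_comm hmr)).2 hg
      rwa [inv_inv] at this
    have e : g * s' * g⁻¹ = m * ((m⁻¹ * g * m) * s * (m⁻¹ * g * m)⁻¹) * m⁻¹ := by rw [hs']; group
    rcases hmv _ h1 with h2 | h2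
    · left
      rw [e, h2]
    · right
      rw [e, h2]
      calc m * (r * s * c) * m⁻¹ = (m * r) * s * c * m⁻¹ := by group
        _ = (r * m) * s * c * m⁻¹ := by rw [hmr]
        _ = _ := by rw [hs', hc']; group
  -- `w = s s' ∈ ZC x`
  have hsx : s * x = x * s := h.UU_comm hsU hxU
  have hw : s * s' ∈ ZC Q x := by
    have e : s * s' = (s * m * s⁻¹) * m⁻¹ := by rw [hs', h.UU_inv hsU]; group
    rw [e]
    exact mul_mem ((h.ZC_fix hsx).2 (h.N_le_ZC hxO hm)) (inv_mem (h.N_le_ZC hxO hm))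
  have hgw : g * (s * s') * g⁻¹ ∈ ZC Q x := h.K_conj hgx hw
  have key : (g * (s * s') * g⁻¹) * (s * s') ∈ ZC Q x := mul_mem hgw hw
  have e0 : g * (s * s') * g⁻¹ = (g * s * g⁻¹) * (g * s' * g⁻¹) := by group
  constructor
  · intro h1
    rcases hmv' with h2 | h2
    · exact h.comm_of_conj h2
    · exfalso
      have h3 : g * s * g⁻¹ = s := by rw [h1, mul_inv_cancel_right]
      have e : (g * (s * s') * g⁻¹) * (s * s') = r * c' := by
        rw [e0, h2, h3]
        calc s * (r * s' * c') * (s * s') = (s * r) * (s' * (c' * s)) * s' := by group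
          _ = (r * s) * (s' * (s * c')) * s' := by rw [h.r_comm hsU, h.UU_comm hc'U hsU]
          _ = r * (s * s' * s) * (c' * s') := by group
          _ = r * s' * (s' * c') := by
              rw [h.UU_cancel hsU hs'U, h.UU_comm hc'U hs'U]
          _ = r * (s' * (s' * c')) := by group
          _ = r * c' := by rw [h.UU_cancel' hs'U]
      rw [e] at key
      exact h.factF hO hA hx ht' hc'r hc't key
  · intro h1
    rcases hmv g hg with h2 | h2
    · exact h.comm_of_conj h2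
    · exfalso
      have h3 : g * s' * g⁻¹ = s' := by rw [h1, mul_inv_cancel_right]
      have e : (g * (s * s') * g⁻¹) * (s * s') = r * c := by
        rw [e0, h2, h3]
        calc r * s * c * s' * (s * s') = r * (s * (c * (s' * s * s'))) := by group
          _ = r * (s * (c * s)) := by rw [h.UU_cancel hs'U hsU]
          _ = r * (s * c * s) := by group
          _ = r * c := by rw [h.UU_cancel hsU hcU]
      rw [e] at key
      exact h.factF hO hA hx Adj_base hcr hct key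

/-- **The `S`-fixed functional.** -/
theorem exists_sfix [Finite G] (hS : TvS M S r t N) (hQS : Q r ≤ S) (hO : JOpp M r t Q N) (hN : JNon M r t N)
    (hA : AllOpp M r t N) :
    ∃ s c : G, Adj M r t t s ∧ s ∉ Q r ∧ c ∈ UU M r ∧ c ∈ ZC Q r ∧ c ∈ ZC Q t ∧
      (∀ n ∈ N r, n * s * n⁻¹ = s ∨ n * s * n⁻¹ = r * s * c) ∧ (∀ u ∈ S, u * c = c * u) ∧
      ∀ u ∈ S, ∀ g ∈ N r, g * s = s * g → (u * g * u⁻¹) * s = s * (u * g * u⁻¹) := by
  have hrO : r ∈ Om M r := Om_base
  have htO : t ∈ Om M r := h.t_Om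
  have hrU : r ∈ UU M r := Om_le_UU hrO
  have htU : t ∈ UU M r := Om_le_UU htO
  have hUfix : ∀ {u x : G}, u ∈ M → x ∈ UU M r → u * x * u⁻¹ ∈ UU M r := fun hu hx => UU_conj hu hx
  -- `W₀`
  let A : Subgroup G :=
    { carrier := {u | u ∈ UU M r ∧ (u ∈ ZC Q t ∨ r * u ∈ ZC Q t)}
      one_mem' := ⟨one_mem _, Or.inl (one_mem _)⟩
      mul_mem' := by
        rintro x y ⟨hx, hx'⟩ ⟨hy, hy'⟩
        refine ⟨mul_mem hx hy, ?_⟩
        have e1 : r * (x * y) = x * (r * y) := by rw [← mul_assoc, ← h.r_comm hx, mul_assoc]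
        rcases hx' with h1 | h1 <;> rcases hy' with h2 | h2
        · exact Or.inl (mul_mem h1 h2)
        · right
          rw [e1]
          exact mul_mem h1 h2
        · right
          rw [← mul_assoc]
          exact mul_mem h1 h2
        · left
          have e2 : x * y = (r * x) * (r * y) := by
            rw [mul_assoc r, ← e1, h.mul_cancel hrO]
          rw [e2]
          exact mul_mem h1 h2
      inv_mem' := by
        rintro x ⟨hx, hx'⟩
        rw [h.UU_inv hx]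
        exact ⟨hx, hx'⟩ }
  have hAmem : ∀ u, u ∈ A ↔ u ∈ UU M r ∧ (u ∈ ZC Q t ∨ r * u ∈ ZC Q t) := fun u => Iff.rfl
  let S₁ : Subgroup G := S ⊓ centralizer {t}
  have hS₁ : ∀ u, u ∈ S₁ → u ∈ S ∧ u * t = t * u := fun u hu => ⟨hu.1, mem_centralizer_singleton_iff.1 hu.2⟩
  have hS₁r : ∀ u, u ∈ S₁ → u * r = r * u := fun u hu => hS.S_r u hu.1
  have hAS : ∀ x ∈ S₁, ∀ b ∈ A, x * b * x⁻¹ ∈ A := by
    intro x hx b hb
    obtain ⟨hxS, hxt⟩ := hS₁ x hx
    refine ⟨hUfix (hS.S_le hxS) hb.1, ?_⟩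
    rcases hb.2 with h1 | h1
    · exact Or.inl (h.K_conj hxt h1)
    · right
      have e : r * (x * b * x⁻¹) = x * (r * b) * x⁻¹ := by
        calc r * (x * b * x⁻¹) = (r * x) * b * x⁻¹ := by group
          _ = (x * r) * b * x⁻¹ := by rw [hS₁r x hx]
          _ = _ := by group
      rw [e]
      exact h.K_conj hxt h1
  have hWS : ∀ x ∈ S₁, ∀ b ∈ h.WW hO hN t htO, x * b * x⁻¹ ∈ h.WW hO hN t htO := by
    intro x hx b hb
    obtain ⟨hxS, hxt⟩ := hS₁ x hx
    have hxM := hS.S_le hxS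
    refine ⟨hUfix hxM hb.1, ?_⟩
    rcases hb.2 with h1 | ⟨a, ha, h1⟩
    · exact Or.inl (h.K_conj hxt h1)
    · right
      refine ⟨x * a * x⁻¹, ?_, ?_⟩
      · have := ha.conj hxM
        rwa [hxt, mul_inv_cancel_right] at this
      · have e : x * a * x⁻¹ * (x * b * x⁻¹) = x * (a * b) * x⁻¹ := by group
        rw [e]
        exact h.K_conj hxt h1
  have hW2 : IsPGroup 2 (h.WW hO hN t htO) := by
    intro g
    refine ⟨1, Subtype.ext ?_⟩
    have : (g : G) * g = 1 := h.UU_sq g.2.1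
    simpa only [pow_two, _root_.pow_one, _root_.Subgroup.coe_mul, _root_.OneMemClass.coe_one] using this
  have hne : ¬ h.WW hO hN t htO ≤ A := by
    intro hle
    obtain ⟨b, hb⟩ := h.exists_opp hN h.Adj_swap
    obtain ⟨-, -, -, h1, h2, -⟩ := hO t r b hb
    have hbA : b ∈ A := hle ⟨h.Adj_UU hb.2.1, Or.inr ⟨b, hb.2.1, by
      rw [h.UU_sq (h.Adj_UU hb.2.1)]
      exact one_mem _⟩⟩
    rcases hbA.2 with h3 | h3
    · exact h.Adj_not_mem hb.2.1 h3
    · rcases h.noPar_at h.Adj_swap hb.2.1 h3 with h4 | h4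
      · exact h1 h4
      · exact h2 h4
  obtain ⟨m, hmW, hmA, hmS⟩ := TvThirteen.exists_fixed_mod (S := S₁) (B := h.WW hO hN t htO) (A := A)
    (hS.S_p.to_le inf_le_left) hW2 hWS hAS
    (by
      intro x hx b hb
      rw [h.UU_comm hx.1 hb.1, mul_inv_cancel_right]
      exact hb)
    hne
  obtain ⟨s, hs, hsm⟩ : ∃ s, Adj M r t t s ∧ s * m ∈ ZC Q t := by
    rcases hmW.2 with h1 | h1
    · exact absurd ⟨hmW.1, Or.inl h1⟩ hmA
    · exact h1
  have hsU := h.Adj_UU hs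
  have hmU := hmW.1
  have hsmA : s * m ∈ A := ⟨mul_mem hsU hmU, Or.inl hsm⟩
  have hsA : s ∉ A := fun h1 => hmA ((mul_mem_cancel_left h1).1 hsmA)
  have hsr : s ≠ r := fun e => hsA (e ▸ ⟨hrU, Or.inr (by rw [h.r_sq]; exact one_mem _)⟩)
  have hstr : s ≠ t * r := fun e => hsA (e ▸ ⟨mul_mem htU hrU, Or.inr (by
    rw [h.UU_comm htU hrU, h.mul_cancel hrO]
    exact h.mem_ZC htO)⟩)
  have ho : Opp M r t N t r s := hA t r s h.Adj_swap hs hsr hstr
  have hsQ : s ∉ Q r := by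
    intro h1
    obtain ⟨-, -, n, hn, hne⟩ := ho
    apply hne
    rw [← (h.mem_Q_iff hrO hsU).1 h1 n hn, mul_inv_cancel_right]
  obtain ⟨-, -, -, -, -, c, -, hcU, hct, hcr, -, -, hL, hmv, -⟩ := hO t r s ho
  -- the conjugates of `s` under `S₁`
  have hz : ∀ u ∈ S₁, ∃ z ∈ UU M r, z ∈ Q r ∧ u * s * u⁻¹ = z * s := by
    intro u hu
    obtain ⟨huS, hut⟩ := hS₁ u hu
    have huM := hS.S_le huS
    have hs1 : Adj M r t t (u * s * u⁻¹) := by
      have := hs.conj huM
      rwa [hut, mul_inv_cancel_right] at this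
    have hs1U := h.Adj_UU hs1
    have hk : u * s * u⁻¹ * s ∈ A := by
      have e : u * s * u⁻¹ * s = (u * (s * m) * u⁻¹) * (u * m * u⁻¹ * m⁻¹)⁻¹ * (s * m) := by
        have e1 : (u * (s * m) * u⁻¹) * (u * m * u⁻¹ * m⁻¹)⁻¹ = u * s * u⁻¹ * m * 1 := by
          have e2 := h.UU_comm hmU (hUfix huM (inv_mem hmU))
          calc (u * (s * m) * u⁻¹) * (u * m * u⁻¹ * m⁻¹)⁻¹
              = (u * s * u⁻¹) * (u * m * u⁻¹) * (m * (u * m⁻¹ * u⁻¹)) := by group
            _ = (u * s * u⁻¹) * (u * m * u⁻¹) * ((u * m⁻¹ * u⁻¹) * m) := by rw [e2]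
            _ = _ := by group
        rw [e1, mul_one, mul_assoc (u * s * u⁻¹), h.UU_comm hsU hmU, h.UU_cancel' hmU]
      rw [e]
      exact mul_mem (mul_mem (hAS u hu _ hsmA) (inv_mem (hmS u hu))) hsmA
    rcases hk.2 with h1 | h1
    · rcases h.noPar_at hs1 hs h1 with h2 | h2
      · exact ⟨1, one_mem _, one_mem _, by rw [one_mul, ← h2]⟩
      · refine ⟨t, htU, h.t_mem, ?_⟩
        conv_rhs => rw [h2]
        rw [h.mul_cancel htO]
    · have h3 : (u * s * u⁻¹) * (r * s * c) ∈ ZC Q t := by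
        have e : (u * s * u⁻¹) * (r * s * c) = (r * (u * s * u⁻¹ * s)) * c := by
          calc (u * s * u⁻¹) * (r * s * c) = ((u * s * u⁻¹) * r) * (s * c) := by group
            _ = (r * (u * s * u⁻¹)) * (s * c) := by rw [h.r_comm hs1U]
            _ = _ := by group
        rw [e]
        exact mul_mem h1 hct
      have hrcU : r * c ∈ UU M r := mul_mem hrU hcU
      have hrcQ : r * c ∈ Q r := mul_mem h.r_mem (h.ZC_le_Q hrO hcr)
      have e4 : r * s * c = r * c * s := by rw [mul_assoc, h.UU_comm hsU hcU, mul_assoc]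
      rcases h.noPar_at hs1 hL h3 with h4 | h4
      · exact ⟨r * c, hrcU, hrcQ, by rw [← h4, e4]⟩
      · refine ⟨t * (r * c), mul_mem htU hrcU, mul_mem h.t_mem hrcQ, ?_⟩
        have h5 : t * (r * s * c) = u * s * u⁻¹ := by rw [h4, h.mul_cancel htO]
        rw [← h5, e4, mul_assoc t]
  -- `N r` commutes with the `z`
  have hNz : ∀ z ∈ UU M r, z ∈ Q r → ∀ g ∈ N r, g * z = z * g := fun z hz hzQ g hg =>
    ((h.mem_Q_iff hrO hz).1 hzQ g hg).symm
  have hinv₁ : ∀ u ∈ S₁, ∀ g ∈ N r, g * s = s * g → (u * g * u⁻¹) * s = s * (u * g * u⁻¹) := by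
    intro u hu g hg hgs
    obtain ⟨z, hzU, hzQ, e⟩ := hz u⁻¹ (inv_mem hu)
    have h1 : g * (u⁻¹ * s * u⁻¹⁻¹) = (u⁻¹ * s * u⁻¹⁻¹) * g := by
      rw [e, ← mul_assoc, hNz z hzU hzQ g hg, mul_assoc, hgs, mul_assoc]
    calc (u * g * u⁻¹) * s = u * (g * (u⁻¹ * s * u⁻¹⁻¹)) * u⁻¹ := by group
      _ = u * ((u⁻¹ * s * u⁻¹⁻¹) * g) * u⁻¹ := by rw [h1]
      _ = _ := by group
  have hcS₁ : ∀ u ∈ S₁, u * c = c * u := by
    intro u hu
    obtain ⟨z, hzU, hzQ, e⟩ := hz u hu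
    obtain ⟨-, -, n, hn, hne⟩ := ho
    have hn' := (hmv n hn).resolve_left hne
    have huM := hS.S_le hu.1
    have hur := hS₁r u hu
    have hnu : u * n * u⁻¹ ∈ N r := (h.N_fix hur).2 hn
    have h1 : (u * n * u⁻¹) * (u * s * u⁻¹) * (u * n * u⁻¹)⁻¹ = r * (u * s * u⁻¹) * (u * c * u⁻¹) := by
      calc (u * n * u⁻¹) * (u * s * u⁻¹) * (u * n * u⁻¹)⁻¹ = u * (n * s * n⁻¹) * u⁻¹ := by group
        _ = (u * r) * s * c * u⁻¹ := by rw [hn']; group
        _ = (r * u) * s * c * u⁻¹ := by rw [hur]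
        _ = _ := by group
    have h2 : (u * n * u⁻¹) * (u * s * u⁻¹) * (u * n * u⁻¹)⁻¹ = z * ((u * n * u⁻¹) * s * (u * n * u⁻¹)⁻¹) := by
      rw [e, ← mul_assoc, hNz z hzU hzQ _ hnu]
      group
    have h3 : (u * n * u⁻¹) * s * (u * n * u⁻¹)⁻¹ = r * s * c := by
      refine (hmv _ hnu).resolve_left fun h4 => ?_
      rw [h4, ← e] at h2
      have h5 : n * s * n⁻¹ = s := by
        have e5 : n * s * n⁻¹ = u⁻¹ * ((u * n * u⁻¹) * (u * s * u⁻¹) * (u * n * u⁻¹)⁻¹) * u := by group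
        rw [e5, h2]
        group
      exact hne h5
    rw [h1, h3, e] at h2
    -- `r (z s) (u c u⁻¹) = z (r s c)`
    have h4 : r * (z * s) * (u * c * u⁻¹) = r * (z * s) * c := by
      rw [h2]
      calc z * (r * s * c) = (z * r) * s * c := by group
        _ = (r * z) * s * c := by rw [h.r_comm hzU]
        _ = _ := by group
    exact h.comm_of_conj (mul_left_cancel h4)
  -- from `S₁` to `S`
  have hdec : ∀ u ∈ S, ∃ q ∈ Q r, ∃ v ∈ S₁, u = q * v := by
    intro u hu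
    rcases hS.S_t u hu with h1 | h1
    · exact ⟨1, one_mem _, u, ⟨hu, mem_centralizer_singleton_iff.2 (h.comm_of_conj h1)⟩, (one_mul u).symm⟩
    · obtain ⟨q, hq, hqt⟩ := h.q12
      refine ⟨q, hq, q⁻¹ * u, Subgroup.mem_inf.2 ⟨S.mul_mem (S.inv_mem (hQS hq)) hu,
        mem_centralizer_singleton_iff.2 ?_⟩, by group⟩
      have h2 : q⁻¹ * (r * t) * q = t := by rw [← hqt]; group
      calc q⁻¹ * u * t = q⁻¹ * (u * t * u⁻¹) * u := by group
        _ = q⁻¹ * (r * t) * q * (q⁻¹ * u) := by rw [h1]; group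
        _ = _ := by rw [h2]
  refine ⟨s, c, hs, hsQ, hcU, hcr, hct, hmv, ?_, ?_⟩
  · intro u hu
    obtain ⟨q, hq, v, hv, rfl⟩ := hdec u hu
    have h1 : c * q = q * c := h.ZC_comm hcr hq
    calc q * v * c = q * (v * c) := by group
      _ = q * c * v := by rw [hcS₁ v hv]; group
      _ = _ := by rw [← h1]; group
  · intro u hu g hg hgs
    obtain ⟨q, hq, v, hv, rfl⟩ := hdec u hu
    have hvg : v * g * v⁻¹ ∈ N r := (h.N_fix (hS₁r v hv)).2 hg
    have h1 : (v * g * v⁻¹) * q = q * (v * g * v⁻¹) := h.ZC_comm (h.N_le_ZC hrO hvg) hq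
    have e : q * v * g * (q * v)⁻¹ = v * g * v⁻¹ := by
      calc q * v * g * (q * v)⁻¹ = (q * (v * g * v⁻¹)) * q⁻¹ := by group
        _ = _ := by rw [← h1, mul_inv_cancel_right]
    rw [e]
    exact hinv₁ v hv g hg hgs

/-- **JOINT (11).** -/
theorem jEleven [Finite G] (hS : TvS M S r t N) (hQS : Q r ≤ S) (hO : JOpp M r t Q N) (hN : JNon M r t N) :
    JEleven M r t Q N := by
  refine h.jEleven_of_base fun hA b c hb hc => ?_
  have hrO : r ∈ Om M r := Om_base
  have hrU : r ∈ UU M r := Om_le_UU hrO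
  obtain ⟨s, d, hs, hsQ, hdU, h88⟩ := h.exists_sfix hS hQS hO hN hA
  revert h88; rintro ⟨hdr, hdt, hmv, hdS, hSN⟩
  have hsU := h.Adj_UU hs
  -- `n₁`
  obtain ⟨n₁, hn₁, hne⟩ : ∃ n ∈ N r, n * s * n⁻¹ ≠ s := by
    by_contra h1
    push Not at h1
    exact hsQ ((h.mem_Q_iff hrO hsU).2 fun n hn => (h.comm_of_conj (h1 n hn)).symm)
  have hn₁' := (hmv n₁ hn₁).resolve_left hne
  have hNr : ∀ n ∈ N r, n * r * n⁻¹ = r := fun n hn => h.N_fix_self hrO hn
  have hNd : ∀ n ∈ N r, n * d * n⁻¹ = d := fun n hn => h.N_ZC hrO hn hdr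
  have hdd := h.UU_sq hdU
  have hss := h.UU_sq hsU
  have hrd : (r * d) * (r * d) = 1 := h.UU_sq (mul_mem hrU hdU)
  let N₀ : Subgroup G := N r ⊓ centralizer {s}
  have hN₀ : ∀ n, n ∈ N₀ ↔ n ∈ N r ∧ n * s = s * n := fun n => by
    rw [mem_inf, mem_centralizer_singleton_iff]
  have hcov : ∀ n ∈ N r, n ∈ N₀ ∨ n₁ * n ∈ N₀ := by
    intro n hn
    rcases hmv n hn with h1 | h1
    · exact Or.inl ((hN₀ n).2 ⟨hn, h.comm_of_conj h1⟩)
    · right
      refine (hN₀ _).2 ⟨mul_mem hn₁ hn, h.comm_of_conj ?_⟩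
      calc n₁ * n * s * (n₁ * n)⁻¹ = n₁ * (n * s * n⁻¹) * n₁⁻¹ := by group
        _ = (n₁ * r * n₁⁻¹) * (n₁ * s * n₁⁻¹) * (n₁ * d * n₁⁻¹) := by rw [h1]; group
        _ = r * (r * s * d) * d := by rw [hNr _ hn₁, hn₁', hNd _ hn₁]
        _ = (r * r) * s * (d * d) := by group
        _ = s := by rw [h.r_sq, hdd, one_mul, mul_one]
  have hinv : n₁⁻¹ * s * n₁ = r * s * d := by
    have h1 := hmv n₁⁻¹ (inv_mem hn₁)
    rw [inv_inv] at h1
    refine h1.resolve_left fun h2 => hne ?_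
    calc n₁ * s * n₁⁻¹ = n₁ * (n₁⁻¹ * s * n₁) * n₁⁻¹ := by rw [h2]
      _ = s := by group
  have hu0n : s * n₁ * s⁻¹ = n₁ * (r * d) := by
    calc s * n₁ * s⁻¹ = n₁ * (n₁⁻¹ * s * n₁) * s⁻¹ := by group
      _ = n₁ * (r * (s * d)) * s⁻¹ := by rw [hinv]; group
      _ = n₁ * (r * (d * s)) * s⁻¹ := by rw [h.UU_comm hsU hdU]
      _ = _ := by group
  have hcc := TvThirteen.j13' h hS hdU hdr hdt hdS (N0 := N₀) (n1 := n₁) (u0 := s) inf_le_left hn₁ hcov
    (fun x hx n hn => (hN₀ _).2 ⟨(h.N_fix (hS.S_r x hx)).2 ((hN₀ n).1 hn).1,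
      hSN x hx n ((hN₀ n).1 hn).1 ((hN₀ n).1 hn).2⟩)
    hsU (fun n hn => ((hN₀ n).1 hn).2.symm) hu0n
  refine h.eleven_base hO hA hs hsQ ?_ hb hc
  intro x hx m hm
  have hmM := h.N_le_M (h.Adj_right hx) hm
  have hs'U : m * s * m⁻¹ ∈ UU M r := UU_conj hmM hsU
  have hst : ∀ g ∈ N r, (g * s = s * g ↔ g * (m * s * m⁻¹) = (m * s * m⁻¹) * g) := fun g hg =>
    h.star hO hA hs hdr hdt hdU hmv hx hm hg
  set s' := m * s * m⁻¹ with hs'
  have h1 : s' * n₁ * s'⁻¹ = n₁ * (r * d) := by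
    refine (hcc s' hs'U fun n hn => ((hst n ((hN₀ n).1 hn).1).1 ((hN₀ n).1 hn).2).symm).resolve_left fun h2 => ?_
    have h3 : n₁ * s' = s' * n₁ := by
      calc n₁ * s' = (s' * n₁ * s'⁻¹) * s' := by rw [h2]
        _ = _ := by group
    have h4 := (hst n₁ hn₁).2 h3
    exact hne (by rw [h4, mul_inv_cancel_right])
  refine (h.mem_Q_iff hrO (mul_mem hsU hs'U)).2 fun n hn => ?_
  have hw₀ : ∀ n ∈ N₀, (s * s') * n = n * (s * s') := by
    intro n hn
    have h2 := ((hN₀ n).1 hn).2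
    have h3 := (hst n ((hN₀ n).1 hn).1).1 h2
    rw [mul_assoc, ← h3, ← mul_assoc, ← h2, mul_assoc]
  have hw₁ : (s * s') * n₁ = n₁ * (s * s') := by
    have h2 : (s * s') * n₁ * (s * s')⁻¹ = n₁ := by
      have hrdU : r * d ∈ UU M r := mul_mem hrU hdU
      calc (s * s') * n₁ * (s * s')⁻¹ = s * (s' * n₁ * s'⁻¹) * s⁻¹ := by group
        _ = (s * n₁ * s⁻¹) * (s * (r * d) * s⁻¹) := by rw [h1]; group
        _ = n₁ * (r * d) * (r * d) := by
            rw [hu0n, h.UU_comm hsU hrdU, mul_inv_cancel_right]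
        _ = n₁ := by rw [mul_assoc, hrd, mul_one]
    exact h.comm_of_conj h2
  rcases hcov n hn with h2 | h2
  · exact hw₀ n h2
  · have h3 := hw₀ _ h2
    have h4 : (s * s') * n₁⁻¹ = n₁⁻¹ * (s * s') := by
      calc (s * s') * n₁⁻¹ = n₁⁻¹ * (n₁ * (s * s')) * n₁⁻¹ := by group
        _ = n₁⁻¹ * ((s * s') * n₁) * n₁⁻¹ := by rw [hw₁]
        _ = _ := by group
    calc (s * s') * n = (s * s') * n₁⁻¹ * (n₁ * n) := by group
      _ = n₁⁻¹ * ((s * s') * (n₁ * n)) := by rw [h4, mul_assoc]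
      _ = n₁⁻¹ * (n₁ * n * (s * s')) := by rw [h3]
      _ = n * (s * s') := by group

end TvH

end Cfsg.Agent.Omega.HOne.TvDef

end

section


/-!
# II.0h1, `q = 2`, case (beta): (3) of #15959, no parallels

`exists_avg` : an `A`-invariant line `⟨r, e⟩` in a parallel class of odd length;
`noPar` : the field `noPar` of `TvH` from `TvH0`, `S` Sylow in `M`, `C_U(S) ∩ C_V` central in `M`.
-/

set_option autoImplicit false
set_option linter.unusedSectionVars false

namespace Cfsg.Agent.Omega.HOne.TvPar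

open Subgroup Cfsg.Agent.Omega.HOne.TvDef

variable {G : Type*} [Group G]

theorem exists_avg [Finite G] {A B U Z : Subgroup G} {r t : G}
    (hU : ∀ u ∈ U, ∀ v ∈ U, u * v = v * u) (hr : r ∈ U) (ht : t ∈ U) (hrr : r * r = 1) (htt : t * t = 1)
    (hAU : ∀ x ∈ A, ∀ u ∈ U, x * u * x⁻¹ ∈ U) (hAZ : ∀ x ∈ A, t * (x * t * x⁻¹) ∈ Z)
    (hB : ∀ x ∈ B, x * t * x⁻¹ = t ∨ x * t * x⁻¹ = r * t) (hAr : ∀ x ∈ A, x * r = r * x)
    (hBA : B ≤ A) (hodd : ¬ 2 ∣ B.relIndex A) :
    ∃ e ∈ U, t * e ∈ Z ∧ ∀ y ∈ A, y * e * y⁻¹ = e ∨ y * e * y⁻¹ = r * e := by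
  classical
  let _ : CommGroup U := { (inferInstance : Group U) with
    mul_comm := fun a b => Subtype.ext (hU a a.2 b b.2) }
  let X := A ⧸ B.subgroupOf A
  have : Fintype X := Fintype.ofFinite X
  let f : A → U := fun x => ⟨x * t * (x : G)⁻¹, hAU x x.2 t ht⟩
  let e : U := ∏ q : X, f q.out
  have hfz : ∀ x : A, t * (f x : G) ∈ Z := fun x => hAZ x x.2
  have h1 : ∀ s : Finset X, t ^ s.card * ((∏ q ∈ s, f q.out : U) : G) ∈ Z := by
    intro s
    induction s using Finset.induction_on with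
    | empty => simp only [_root_.Finset.card_empty, _root_.pow_zero, _root_.Finset.prod_empty, _root_.OneMemClass.coe_one, _root_.mul_one, _root_.OneMemClass.one_mem]
    | insert a s ha ih =>
      rw [Finset.prod_insert ha, Finset.card_insert_of_notMem ha, Subgroup.coe_mul, pow_succ]
      have hc : t ^ s.card * (t * (f a.out : G)) = (t * (f a.out : G)) * t ^ s.card := by
        have h2 : t * (f a.out : G) ∈ U := mul_mem ht (f a.out).2
        exact hU _ (pow_mem ht _) _ h2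
      have : t ^ s.card * t * ((f a.out : G) * ((∏ q ∈ s, f q.out : U) : G)) =
          (t * (f a.out : G)) * (t ^ s.card * ((∏ q ∈ s, f q.out : U) : G)) := by
        calc t ^ s.card * t * ((f a.out : G) * ((∏ q ∈ s, f q.out : U) : G)) =
            (t ^ s.card * (t * (f a.out : G))) * ((∏ q ∈ s, f q.out : U) : G) := by group
          _ = _ := by rw [hc]; group
      rw [this]
      exact mul_mem (hfz _) ih
  have hcard : ¬ 2 ∣ Fintype.card X := by
    rw [← Nat.card_eq_fintype_card]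
    exact hodd
  refine ⟨e, e.2, ?_, ?_⟩
  · have h2 := h1 Finset.univ
    rw [Finset.card_univ] at h2
    obtain ⟨k, hk⟩ := Nat.not_even_iff_odd.1 (fun he => hcard (even_iff_two_dvd.1 he))
    rw [hk, pow_add, pow_mul, pow_two, htt, one_pow, one_mul, pow_one] at h2
    exact h2
  · intro y hy
    let φ : U →* U :=
      { toFun := fun u => ⟨y * u * y⁻¹, hAU y hy u u.2⟩
        map_one' := Subtype.ext (by simp)
        map_mul' := fun a b => Subtype.ext (by
          change y * (a * b : G) * y⁻¹ = (y * a * y⁻¹) * (y * b * y⁻¹)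
          group) }
    have hφ : ∀ u : U, ((φ u : U) : G) = y * u * y⁻¹ := fun _ => rfl
    let y' : A := ⟨y, hy⟩
    let r' : U := ⟨r, hr⟩
    have hr' : r' * r' = 1 := Subtype.ext hrr
    have h3 : ∀ q : X, f (y' • q).out = φ (f q.out) ∨ f (y' • q).out = r' * φ (f q.out) := by
      intro q
      have h4 : ((y' • q).out : A)⁻¹ * (y' * q.out) ∈ B.subgroupOf A := by
        rw [← QuotientGroup.eq]
        have h5 : ((((y' • q).out : A)) : X) = y' • q := Quotient.out_eq _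
        rw [h5]
        have h6 : ((q.out : A) : X) = q := Quotient.out_eq _
        conv_lhs => rw [← h6]
        rfl
      set b := ((y' • q).out : A)⁻¹ * (y' * q.out) with hb
      have h7 : ((y' • q).out : A) = y' * q.out * b⁻¹ := by rw [hb]; group
      have hbB : (b : G) ∈ B := h4
      have hbt := hB _ (inv_mem hbB)
      have hxr : (y' * q.out : A) * r = r * ((y' * q.out : A) : G) := hAr _ (y' * q.out : A).2
      have e1 : ((f (y' • q).out : U) : G) =
          (y' * q.out : A) * ((b : G)⁻¹ * t * (b : G)⁻¹⁻¹) * ((y' * q.out : A) : G)⁻¹ := by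
        change (((y' • q).out : A) : G) * t * (((y' • q).out : A) : G)⁻¹ = _
        rw [h7]
        simp only [Subgroup.coe_mul, Subgroup.coe_inv]
        group
      have e2 : ((φ (f q.out) : U) : G) = (y' * q.out : A) * t * ((y' * q.out : A) : G)⁻¹ := by
        rw [hφ]
        change y * ((q.out : A) * t * ((q.out : A) : G)⁻¹) * y⁻¹ = _
        simp only [Subgroup.coe_mul, y']
        group
      rcases hbt with h8 | h8
      · left
        apply Subtype.ext
        rw [e1, e2, h8]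
      · right
        apply Subtype.ext
        rw [Subgroup.coe_mul, e1, e2, h8]
        change _ = r * _
        calc ((y' * q.out : A) : G) * (r * t) * ((y' * q.out : A) : G)⁻¹ =
            (((y' * q.out : A) : G) * r) * t * ((y' * q.out : A) : G)⁻¹ := by group
          _ = _ := by rw [hxr]; group
    have h4 : ∀ s : Finset X, ∏ q ∈ s, f (y' • q).out = ∏ q ∈ s, φ (f q.out) ∨
        ∏ q ∈ s, f (y' • q).out = r' * ∏ q ∈ s, φ (f q.out) := by
      intro s
      induction s using Finset.induction_on with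
      | empty => left; simp
      | insert a s ha ih =>
        rw [Finset.prod_insert ha, Finset.prod_insert ha]
        rcases h3 a with h5 | h5 <;> rcases ih with h6 | h6 <;> rw [h5, h6]
        · left; rfl
        · right; rw [mul_left_comm]
        · right; rw [mul_assoc]
        · left
          rw [mul_mul_mul_comm, hr', one_mul]
    have h5 := h4 Finset.univ
    have h6 : ∏ q : X, f (y' • q).out = e := by
      exact Fintype.prod_equiv (MulAction.toPerm y') _ _ (fun q => rfl)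
    rw [h6, ← map_prod] at h5
    have h7 : ((φ e : U) : G) = y * e * y⁻¹ := rfl
    rcases h5 with h8 | h8
    · left
      rw [← h7]
      exact congrArg _ h8.symm
    · right
      rw [← h7]
      have h9 : r' * e = φ e := by
        calc r' * e = r' * (r' * φ e) := congrArg _ h8
          _ = (r' * r') * φ e := by rw [mul_assoc]
          _ = φ e := by rw [hr', one_mul]
      exact (congrArg (fun u : U => (u : G)) h9).symm

variable {M S : Subgroup G} {r t : G} {Q N : G → Subgroup G}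

/-- **(3)** no parallels -/
theorem noPar [Finite G] (h : TvH0 M r t Q N) (hSM : S ≤ M) (hSr : ∀ x ∈ S, x * r = r * x)
    (hSt : ∀ x ∈ S, x * t * x⁻¹ = t ∨ x * t * x⁻¹ = r * t) (hNS : N t ≤ S)
    (hodd : ¬ 2 ∣ S.relIndex M)
    (hcen : ∀ c ∈ UU M r, c ∈ ZC Q r → c ∈ ZC Q t → (∀ x ∈ S, x * c = c * x) → ∀ m ∈ M, m * c = c * m) :
    ∀ a b, Adj M r t r a → Adj M r t r b → a * b ∈ ZC Q r → b = a ∨ b = r * a := by
  have hrU : r ∈ UU M r := Om_le_UU Om_base
  have htU : t ∈ UU M r := Om_le_UU h.t_Om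
  have htt : t * t = 1 := h.Om_sq h.t_Om
  -- `A = N_{M_1}(V K_1)`
  let A : Subgroup G :=
    { carrier := {x | x ∈ M ∧ x * r = r * x ∧ t * (x * t * x⁻¹) ∈ ZC Q r}
      one_mem' := ⟨one_mem _, by simp, by
        have : t * (1 * t * 1⁻¹) = 1 := by rw [one_mul, inv_one, mul_one, htt]
        rw [this]; exact one_mem _⟩
      mul_mem' := by
        rintro x y ⟨hx, hxr, hxt⟩ ⟨hy, hyr, hyt⟩
        refine ⟨mul_mem hx hy, ?_, ?_⟩
        · calc x * y * r = x * (y * r) := by group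
            _ = (x * r) * y := by rw [hyr]; group
            _ = r * (x * y) := by rw [hxr]; group
        · have e : t * (x * y * t * (x * y)⁻¹) =
              (t * (x * t * x⁻¹)) * (x * (t * (y * t * y⁻¹)) * x⁻¹) := by
            calc t * (x * y * t * (x * y)⁻¹) = t * (x * 1 * x⁻¹) * (x * y * t * (x * y)⁻¹) := by group
              _ = t * (x * (t * t) * x⁻¹) * (x * y * t * (x * y)⁻¹) := by rw [htt]
              _ = _ := by group
          rw [e]
          exact mul_mem hxt ((h.ZC_fix hxr).2 hyt)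
      inv_mem' := by
        rintro x ⟨hx, hxr, hxt⟩
        have hxr' : x⁻¹ * r = r * x⁻¹ := by
          calc x⁻¹ * r = x⁻¹ * (r * x) * x⁻¹ := by group
            _ = r * x⁻¹ := by rw [← hxr]; group
        refine ⟨inv_mem hx, hxr', ?_⟩
        have e : t * (x⁻¹ * t * x⁻¹⁻¹) = x⁻¹ * (t * (x * t * x⁻¹))⁻¹ * x⁻¹⁻¹ := by
          have ht' : t⁻¹ = t := h.UU_inv htU
          calc t * (x⁻¹ * t * x⁻¹⁻¹) = t * x⁻¹ * t * x := by group
            _ = t⁻¹ * x⁻¹ * t⁻¹ * x := by rw [ht']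
            _ = x⁻¹ * (x * t⁻¹ * x⁻¹ * t⁻¹) * x := by
                have h1 : t⁻¹ * (x⁻¹ * t⁻¹ * x) = (x⁻¹ * t⁻¹ * x) * t⁻¹ := by
                  have h2 : x⁻¹ * t⁻¹ * x ∈ UU M r := by
                    have := UU_conj (r := r) (inv_mem hx) (inv_mem htU)
                    simpa using this
                  exact h.UU_comm (inv_mem htU) h2
                calc t⁻¹ * x⁻¹ * t⁻¹ * x = t⁻¹ * (x⁻¹ * t⁻¹ * x) := by group
                  _ = (x⁻¹ * t⁻¹ * x) * t⁻¹ := h1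
                  _ = x⁻¹ * (t⁻¹ * (x * t⁻¹ * x⁻¹)) * x := by group
                  _ = x⁻¹ * ((x * t⁻¹ * x⁻¹) * t⁻¹) * x := by
                    rw [h.UU_comm (inv_mem htU) (UU_conj hx (inv_mem htU))]
                  _ = _ := by group
            _ = x⁻¹ * (t * (x * t * x⁻¹))⁻¹ * x⁻¹⁻¹ := by group
        rw [e]
        exact (h.ZC_fix hxr').2 (inv_mem hxt) }
  let B : Subgroup G :=
    { carrier := {x | x ∈ A ∧ (x * t * x⁻¹ = t ∨ x * t * x⁻¹ = r * t)}
      one_mem' := ⟨one_mem _, Or.inl (by group)⟩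
      mul_mem' := by
        rintro x y ⟨hx, hxt⟩ ⟨hy, hyt⟩
        refine ⟨mul_mem hx hy, ?_⟩
        have hxr : x * r = r * x := hx.2.1
        have e : x * y * t * (x * y)⁻¹ = x * (y * t * y⁻¹) * x⁻¹ := by group
        rw [e]
        rcases hyt with h1 | h1
        · rw [h1]; exact hxt
        · have e2 : x * (r * t) * x⁻¹ = r * (x * t * x⁻¹) := by
            calc x * (r * t) * x⁻¹ = (x * r) * t * x⁻¹ := by group
              _ = _ := by rw [hxr]; group
          rw [h1, e2]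
          rcases hxt with h2 | h2
          · right; rw [h2]
          · left; rw [h2, h.mul_cancel Om_base]
      inv_mem' := by
        rintro x ⟨hx, hxt⟩
        refine ⟨inv_mem hx, ?_⟩
        have hxr : x * r = r * x := hx.2.1
        have hxr' : x⁻¹ * r = r * x⁻¹ := by
          calc x⁻¹ * r = x⁻¹ * (r * x) * x⁻¹ := by group
            _ = r * x⁻¹ := by rw [← hxr]; group
        rcases hxt with h1 | h1
        · left
          calc x⁻¹ * t * x⁻¹⁻¹ = x⁻¹ * (x * t * x⁻¹) * x := by rw [h1]; group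
            _ = t := by group
        · right
          have e : x⁻¹ * (r * t) * x = t := by rw [← h1]; group
          calc x⁻¹ * t * x⁻¹⁻¹ = x⁻¹ * (r * (r * t)) * x := by rw [h.mul_cancel Om_base]; group
            _ = (x⁻¹ * r) * (r * t) * x := by group
            _ = r * (x⁻¹ * (r * t) * x) := by rw [hxr']; group
            _ = r * t := by rw [e] }
  have hSB : S ≤ B := by
    intro x hx
    refine ⟨⟨hSM hx, hSr x hx, ?_⟩, hSt x hx⟩
    rcases hSt x hx with h1 | h1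
    · rw [h1, htt]; exact one_mem _
    · have : t * (r * t) = r := by
        calc t * (r * t) = (t * r) * t := by group
          _ = r * (t * t) := by rw [h.UU_comm htU hrU]; group
          _ = r := by rw [htt, mul_one]
      rw [h1, this]; exact h.mem_ZC Om_base
  have hBA : B ≤ A := fun x hx => hx.1
  have hAM : A ≤ M := fun x hx => hx.1
  have hoddBA : ¬ 2 ∣ B.relIndex A := by
    intro hd
    apply hodd
    have h1 : S.relIndex A * A.relIndex M = S.relIndex M :=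
      Subgroup.relIndex_mul_relIndex _ _ _ (hSB.trans hBA) hAM
    have h2 : S.relIndex B * B.relIndex A = S.relIndex A :=
      Subgroup.relIndex_mul_relIndex _ _ _ hSB hBA
    rw [← h1, ← h2]
    exact Dvd.dvd.mul_right (Dvd.dvd.mul_left hd _) _
  obtain ⟨e, heU, heZ, heA⟩ := exists_avg (A := A) (B := B) (U := UU M r) (Z := ZC Q r)
    (fun u hu v hv => h.UU_comm hu hv) hrU htU h.r_sq htt
    (fun x hx u hu => UU_conj (hAM hx) hu) (fun x hx => hx.2.2) (fun x hx => hx.2)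
    (fun x hx => hx.2.1) hBA hoddBA
  set c1 := t * e with hc1
  have hc1U : c1 ∈ UU M r := mul_mem htU heU
  -- `r ∉ ZC t`
  have hrt : r ∉ ZC Q t := h.not_both Adj_base
  -- `[c1, S] ≤ R`
  have hc1S : ∀ x ∈ S, x * c1 * x⁻¹ = c1 ∨ x * c1 * x⁻¹ = r * c1 := by
    intro x hx
    have e1 : x * c1 * x⁻¹ = (x * t * x⁻¹) * (x * e * x⁻¹) := by rw [hc1]; group
    have hrc : t * (r * e) = r * (t * e) := by
      calc t * (r * e) = (t * r) * e := by group
        _ = r * (t * e) := by rw [h.UU_comm htU hrU]; group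
    rcases hSt x hx with h1 | h1 <;> rcases heA x (hBA (hSB hx)) with h2 | h2 <;> rw [e1, h1, h2]
    · left; rfl
    · right; rw [hrc]
    · right; rw [hc1]; group
    · left
      calc r * t * (r * e) = r * (t * (r * e)) := by group
        _ = r * (r * (t * e)) := by rw [hrc]
        _ = t * e := h.mul_cancel Om_base _
  -- `N t` centralises `c1`
  have hc1N : ∀ n ∈ N t, c1 * n = n * c1 := by
    intro n hn
    have h1 := h.comm_KN Adj_base hc1U heZ hn
    rcases hc1S n (hNS hn) with h2 | h2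
    · calc c1 * n = (n * c1 * n⁻¹) * n := by rw [h2]
        _ = _ := by group
    · exfalso
      have ha' : c1⁻¹ = c1 := h.UU_inv hc1U
      have h3 : c1 * n * c1⁻¹ * n⁻¹ = r := by
        calc c1 * n * c1⁻¹ * n⁻¹ = c1 * (n * c1 * n⁻¹) := by rw [ha']; group
          _ = c1 * (r * c1) := by rw [h2]
          _ = (c1 * r) * c1 := by group
          _ = r * (c1 * c1) := by rw [h.UU_comm hc1U hrU]; group
          _ = r := by rw [h.UU_sq hc1U, mul_one]
      rw [h3] at h1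
      exact hrt h1.1
  have hc1Q : c1 ∈ Q t := h.UN_at h.t_Om hc1U hc1N
  -- C_V is S-invariant
  have inv : ∀ x ∈ S, ∀ b, b ∈ ZC Q r → b ∈ ZC Q t → x * b * x⁻¹ ∈ ZC Q t := by
    intro x hx b hb hb'
    have hxr := hSr x hx
    have h2 : x * b * x⁻¹ ∈ ZC Q r := (h.ZC_fix hxr).2 hb
    have h3 : x * b * x⁻¹ ∈ ZC Q (x * t * x⁻¹) := h.ZC_conj.2 hb'
    rcases hSt x hx with h4 | h4
    · rwa [h4] at h3
    · rw [h4] at h3
      have h5 := h.Adj_CV h.Adj_mul_base h2 h3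
      rwa [h.mul_cancel Om_base] at h5
  -- `c' = c1` or `r c1` in `C_V`
  obtain ⟨c', hc'U, hc'r, hc't, hc'1⟩ : ∃ c', c' ∈ UU M r ∧ c' ∈ ZC Q r ∧ c' ∈ ZC Q t ∧
      (c1 = c' ∨ c1 = r * c') := by
    rcases h.Adj_ZQ Adj_base heZ hc1Q with h1 | h1
    · exact ⟨c1, hc1U, heZ, h1, Or.inl rfl⟩
    · exact ⟨r * c1, mul_mem hrU hc1U, mul_mem (h.mem_ZC Om_base) heZ, h1,
        Or.inr (h.mul_cancel Om_base _).symm⟩
  have hc'S : ∀ x ∈ S, x * c' = c' * x := by
    intro x hx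
    have hxr := hSr x hx
    have h1 : x * c' * x⁻¹ = c' ∨ x * c' * x⁻¹ = r * c' := by
      rcases hc'1 with h2 | h2
      · rw [← h2]; exact hc1S x hx
      · have h3 : c' = r * c1 := by rw [h2, h.mul_cancel Om_base]
        have h4 : x * c' * x⁻¹ = r * (x * c1 * x⁻¹) := by
          calc x * c' * x⁻¹ = (x * r) * c1 * x⁻¹ := by rw [h3]; group
            _ = _ := by rw [hxr]; group
        rcases hc1S x hx with h5 | h5
        · left; rw [h4, h5, ← h3]
        · right; rw [h4, h5, ← h3]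
    rcases h1 with h2 | h2
    · calc x * c' = (x * c' * x⁻¹) * x := by group
        _ = c' * x := by rw [h2]
    · exfalso
      have h3 := inv x hx c' hc'r hc't
      rw [h2] at h3
      apply hrt
      have : r = (r * c') * c'⁻¹ := by group
      rw [this]
      exact mul_mem h3 (inv_mem hc't)
  have hc'M := hcen c' hc'U hc'r hc't hc'S
  -- `A` normalises `V`
  have hAB : ∀ y ∈ A, y * t * y⁻¹ = t ∨ y * t * y⁻¹ = r * t := by
    intro y hy
    have hyr : y * r = r * y := hy.2.1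
    have hyM := hAM hy
    have hyc1 : y * c1 * y⁻¹ = c1 := by
      have h1 : y * c' * y⁻¹ = c' := by rw [hc'M y hyM]; group
      rcases hc'1 with h2 | h2
      · rw [h2]; exact h1
      · calc y * c1 * y⁻¹ = (y * r) * c' * y⁻¹ := by rw [h2]; group
          _ = r * (y * c' * y⁻¹) := by rw [hyr]; group
          _ = c1 := by rw [h1, h2]
    have ht : t = c1 * e := by
      have hee : e * e = 1 := h.UU_sq heU
      calc t = t * (e * e) := by rw [hee, mul_one]
        _ = c1 * e := by rw [hc1]; group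
    have h3 : y * t * y⁻¹ = c1 * (y * e * y⁻¹) := by
      calc y * t * y⁻¹ = y * (c1 * e) * y⁻¹ := by rw [← ht]
        _ = (y * c1 * y⁻¹) * (y * e * y⁻¹) := by group
        _ = _ := by rw [hyc1]
    rcases heA y hy with h4 | h4
    · left; rw [h3, h4, ← ht]
    · right
      rw [h3, h4]
      calc c1 * (r * e) = (c1 * r) * e := by group
        _ = r * (c1 * e) := by rw [h.UU_comm hc1U hrU]; group
        _ = r * t := by rw [← ht]
  -- conclusion
  intro a b ha hb hab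
  obtain ⟨m, hm, hmr, hma⟩ := ha
  obtain ⟨l, hl, hlr, hlb⟩ := hb
  have hmr' : m * r = r * m := by
    calc m * r = (m * r * m⁻¹) * m := by group
      _ = r * m := by rw [hmr]
  have hlr' : l * r = r * l := by
    calc l * r = (l * r * l⁻¹) * l := by group
      _ = r * l := by rw [hlr]
  have hmr'' : m⁻¹ * r = r * m⁻¹ := by
    calc m⁻¹ * r = m⁻¹ * (r * m) * m⁻¹ := by group
      _ = r * m⁻¹ := by rw [← hmr']; group
  have hx : m⁻¹ * l ∈ A := by
    refine ⟨mul_mem (inv_mem hm) hl, ?_, ?_⟩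
    · calc m⁻¹ * l * r = m⁻¹ * (l * r) := by group
        _ = (m⁻¹ * r) * l := by rw [hlr']; group
        _ = r * (m⁻¹ * l) := by rw [hmr'']; group
    · have e1 : t * (m⁻¹ * l * t * (m⁻¹ * l)⁻¹) = m⁻¹ * (a * b) * m⁻¹⁻¹ := by
        rw [← hma, ← hlb]; group
      rw [e1]
      exact (h.ZC_fix hmr'').2 hab
  rcases hAB _ hx with h1 | h1
  · left
    have : b = m * (m⁻¹ * l * t * (m⁻¹ * l)⁻¹) * m⁻¹ := by rw [← hlb]; group
    rw [this, h1, hma]
  · right
    have : b = m * (m⁻¹ * l * t * (m⁻¹ * l)⁻¹) * m⁻¹ := by rw [← hlb]; group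
    rw [this, h1]
    calc m * (r * t) * m⁻¹ = (m * r * m⁻¹) * (m * t * m⁻¹) := by group
      _ = r * a := by rw [hmr, hma]

end Cfsg.Agent.Omega.HOne.TvPar

end

section


/-!
# II.0h1, nonsplit case: the module `V` with `V / D` natural, `D` centralised

`Rig P V D π` : `V` elementary abelian, `V / D` a natural `SL₂(F)`-module for `P` (coordinates `π`), every element of
`SL₂(F)` is induced by an element of `P` centralising `D`, and elements of `P` centralising `D` and `V / D` centralise `V`.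

`Rig.form` : there are additive `e, f : F → V`, `g : F → D` with `π (e z) = (0, z)`, `π (f z) = (z, 0)` such that every
`x ∈ P` centralising `D` and inducing `lo (t²)` on `V / D` acts as `v ↦ e (t² β) g (t β) v`, `β = π v 0`; `g(F)` is
`P`-invariant; if `g = 1` then `V` splits.
-/

set_option autoImplicit false
set_option linter.unusedSectionVars false

namespace Cfsg.Agent.Omega.HOne.NSMod

open Subgroup Cfsg.Agent.Omega.NatPair Cfsg.Agent.Lib.SL2Mat

variable {G : Type*} [Group G] {F : Type*} [Field F]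

/-- `V / D` is natural for `P`, `D` centralised. -/
structure Rig (P V D : Subgroup G) (π : G → Fin 2 → F) : Prop where
  DV : D ≤ V
  Vn : ∀ p ∈ P, ∀ v ∈ V, p * v * p⁻¹ ∈ V
  Dn : ∀ p ∈ P, ∀ v ∈ D, p * v * p⁻¹ ∈ D
  Vc : ∀ v ∈ V, ∀ w ∈ V, v * w = w * v
  Vs : ∀ v ∈ V, v * v = 1
  mul : ∀ v ∈ V, ∀ w ∈ V, π (v * w) = π v + π w
  surj : ∀ x : Fin 2 → F, ∃ v ∈ V, π v = x
  ker : ∀ v ∈ V, π v = 0 ↔ v ∈ D
  lift : ∀ A : Matrix.SpecialLinearGroup (Fin 2) F, ∃ g ∈ P, (∀ v ∈ V, π (g * v * g⁻¹) = ap A (π v)) ∧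
    ∀ d ∈ D, g * d = d * g
  norm : ∀ g ∈ P, ∀ h ∈ P, ∀ A : Matrix.SpecialLinearGroup (Fin 2) F,
    (∀ v ∈ V, π (h * v * h⁻¹) = ap A (π v)) → ∃ B : Matrix.SpecialLinearGroup (Fin 2) F,
      ∀ v ∈ V, π (g * h * g⁻¹ * v * (g * h * g⁻¹)⁻¹) = ap B (π v)
  rig : ∀ g ∈ P, (∀ d ∈ D, g * d = d * g) → (∀ v ∈ V, π (g * v * g⁻¹) = π v) → ∀ v ∈ V, g * v = v * g

/-- `x` centralises `D` and induces `A` on `V / D`. -/
structure Is (P V D : Subgroup G) (π : G → Fin 2 → F) (x : G) (A : Matrix.SpecialLinearGroup (Fin 2) F) : Prop where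
  mem : x ∈ P
  act : ∀ v ∈ V, π (x * v * x⁻¹) = ap A (π v)
  cen : ∀ d ∈ D, x * d = d * x

variable {P V D : Subgroup G} {π : G → Fin 2 → F}

theorem ap_lo (a : F) (x : Fin 2 → F) : ap (lo a) x = ![x 0, a * x 0 + x 1] := by
  apply ext2
  · rw [ap_zero']; simp
  · rw [ap_one']; simp

theorem ap_dg (a : F) (ha : a ≠ 0) (x : Fin 2 → F) : ap (dg a ha) x = ![a * x 0, a⁻¹ * x 1] := by
  apply ext2
  · rw [ap_zero']; simp
  · rw [ap_one']; simp

theorem ap_wm (a : F) (ha : a ≠ 0) (x : Fin 2 → F) : ap (wm a ha) x = ![a * x 1, -a⁻¹ * x 0] := by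
  apply ext2
  · rw [ap_zero']; simp
  · rw [ap_one']; simp

namespace Rig

variable (r : Rig P V D π)

include r

theorem map_one : π 1 = 0 := (r.ker 1 (one_mem V)).2 (one_mem D)

theorem inv {v : G} (hv : v ∈ V) : v⁻¹ = v := inv_eq_of_mul_eq_one_left (r.Vs v hv)

theorem map_inv {v : G} (hv : v ∈ V) : π v⁻¹ = - π v := by
  have := r.mul v hv v⁻¹ (inv_mem hv)
  rw [mul_inv_cancel, r.map_one] at this
  exact (neg_eq_of_add_eq_zero_right this.symm).symm

theorem two : (2 : F) = 0 := by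
  obtain ⟨v, hv, hx⟩ := r.surj ![1, 0]
  have h1 := r.mul v hv v hv
  rw [r.Vs v hv, r.map_one, hx] at h1
  have h2 := congrFun h1 0
  simp only [Pi.zero_apply, Pi.add_apply, Matrix.cons_val_zero] at h2
  rw [← one_add_one_eq_two, ← h2]

theorem is_lift (A : Matrix.SpecialLinearGroup (Fin 2) F) : ∃ x, Is P V D π x A := by
  obtain ⟨g, hg, h1, h2⟩ := r.lift A
  exact ⟨g, hg, h1, h2⟩

theorem is_mul {x y : G} {A B : Matrix.SpecialLinearGroup (Fin 2) F} (hx : Is P V D π x A) (hy : Is P V D π y B) :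
    Is P V D π (x * y) (A * B) where
  mem := mul_mem hx.mem hy.mem
  act v hv := by
    have e : x * y * v * (x * y)⁻¹ = x * (y * v * y⁻¹) * x⁻¹ := by group
    rw [e, hx.act _ (r.Vn y hy.mem v hv), hy.act v hv, ap_mul]
  cen d hd := by
    rw [mul_assoc, hy.cen d hd, ← mul_assoc, hx.cen d hd, mul_assoc]

theorem is_inv {x : G} {A : Matrix.SpecialLinearGroup (Fin 2) F} (hx : Is P V D π x A) : Is P V D π x⁻¹ A⁻¹ where
  mem := inv_mem hx.mem
  act v hv := by
    have h1 := hx.act _ (r.Vn x⁻¹ (inv_mem hx.mem) v hv)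
    have e : x * (x⁻¹ * v * x⁻¹⁻¹) * x⁻¹ = v := by group
    rw [e] at h1
    rw [h1, ap_inv_ap]
  cen d hd := by
    have h1 := hx.cen d hd
    calc x⁻¹ * d = x⁻¹ * (d * x) * x⁻¹ := by group
      _ = x⁻¹ * (x * d) * x⁻¹ := by rw [h1]
      _ = _ := by group

theorem is_one : Is P V D π 1 1 where
  mem := one_mem _
  act v _ := by rw [one_mul, inv_one, mul_one, ap_one]
  cen d _ := by rw [one_mul, mul_one]

/-- the action of `x` on `V` is determined by the matrix -/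
theorem is_eq {x y : G} {A : Matrix.SpecialLinearGroup (Fin 2) F} (hx : Is P V D π x A) (hy : Is P V D π y A) :
    ∀ v ∈ V, x * v * x⁻¹ = y * v * y⁻¹ := by
  have h1 := r.is_mul (r.is_inv hy) hx
  rw [inv_mul_cancel] at h1
  intro v hv
  have h2 := r.rig _ h1.mem h1.cen (fun v hv => by rw [h1.act v hv, ap_one]) v hv
  have h3 : x * v = y * v * (y⁻¹ * x) := by
    calc x * v = y * (y⁻¹ * x * v) := by group
      _ = y * (v * (y⁻¹ * x)) := by rw [h2]
      _ = _ := by group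
  rw [h3]; group

theorem is_conj {p x : G} {A : Matrix.SpecialLinearGroup (Fin 2) F} (hp : p ∈ P) (hx : Is P V D π x A) :
    ∃ B, Is P V D π (p * x * p⁻¹) B := by
  obtain ⟨B, hB⟩ := r.norm p hp x hx.mem A hx.act
  refine ⟨B, mul_mem (mul_mem hp hx.mem) (inv_mem hp), hB, fun d hd => ?_⟩
  have h1 := hx.cen _ (r.Dn p⁻¹ (inv_mem hp) d hd)
  rw [inv_inv] at h1
  calc p * x * p⁻¹ * d = p * (x * (p⁻¹ * d * p)) * p⁻¹ := by group
    _ = p * (p⁻¹ * d * p * x) * p⁻¹ := by rw [h1]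
    _ = _ := by group

omit r in
/-- `[x, v]` -/
def cm (x v : G) : G := x * v * x⁻¹ * v⁻¹

theorem cm_mem {x : G} (hx : x ∈ P) {v : G} (hv : v ∈ V) : cm x v ∈ V := mul_mem (r.Vn x hx v hv) (inv_mem hv)

theorem cm_add {x : G} (hx : x ∈ P) {v w : G} (hv : v ∈ V) (hw : w ∈ V) : cm x (v * w) = cm x v * cm x w := by
  have h1 := r.Vc _ (inv_mem hv) _ (r.cm_mem hx hw)
  calc cm x (v * w) = x * v * x⁻¹ * (cm x w * v⁻¹) := by unfold cm; group
    _ = x * v * x⁻¹ * (v⁻¹ * cm x w) := by rw [h1]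
    _ = _ := by unfold cm; group

theorem cm_D {x : G} {A : Matrix.SpecialLinearGroup (Fin 2) F} (hx : Is P V D π x A) {d : G} (hd : d ∈ D) :
    cm x d = 1 := by
  unfold cm
  rw [hx.cen d hd]; group

theorem π_cm {x : G} {A : Matrix.SpecialLinearGroup (Fin 2) F} (hx : Is P V D π x A) {v : G} (hv : v ∈ V) :
    π (cm x v) = ap A (π v) - π v := by
  unfold cm
  rw [r.mul _ (r.Vn x hx.mem v hv) _ (inv_mem hv), hx.act v hv, r.map_inv hv, sub_eq_add_neg]

/-- two elements of `V` with the same image have the same `[x, v]` -/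
theorem cm_eq {x : G} {A : Matrix.SpecialLinearGroup (Fin 2) F} (hx : Is P V D π x A) {v w : G} (hv : v ∈ V)
    (hw : w ∈ V) (h : π v = π w) : cm x v = cm x w := by
  have h1 : v * w⁻¹ ∈ D := (r.ker _ (mul_mem hv (inv_mem hw))).1 (by
    rw [r.mul v hv _ (inv_mem hw), r.map_inv hw, h, add_neg_cancel])
  have h2 := r.cm_add hx.mem (r.DV h1) hw
  rw [inv_mul_cancel_right, r.cm_D hx h1, one_mul] at h2
  exact h2

/-- the complement `[V, t]` of `D`, `t` inducing `dg ω`, `ω ≠ 1`: the section `s` -/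
theorem exists_sec {ω : F} (h0 : ω ≠ 0) (h1 : ω ≠ 1) :
    ∃ s : (Fin 2 → F) → G, (∀ x, s x ∈ V) ∧ (∀ x, π (s x) = x) ∧ (∀ x y, s (x + y) = s x * s y) ∧
      (∀ t, Is P V D π t (dg ω h0) → ∀ v ∈ V, cm t v = s (π (cm t v))) ∧
      (∀ x, ∀ t, Is P V D π t (dg ω h0) → ∃ v ∈ V, cm t v = s x) := by
  obtain ⟨t, ht⟩ := r.is_lift (dg ω h0)
  have hω : ω - 1 ≠ 0 := sub_ne_zero.2 h1
  have hω' : ω⁻¹ - 1 ≠ 0 := sub_ne_zero.2 fun h => h1 (inv_eq_one.1 h)
  let y : (Fin 2 → F) → (Fin 2 → F) := fun x => ![(ω - 1)⁻¹ * x 0, (ω⁻¹ - 1)⁻¹ * x 1]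
  have hy : ∀ x, ap (dg ω h0) (y x) - y x = x := by
    intro x
    rw [ap_dg]
    apply ext2
    · change ω * ((ω - 1)⁻¹ * x 0) - (ω - 1)⁻¹ * x 0 = x 0
      have : ω * ((ω - 1)⁻¹ * x 0) - (ω - 1)⁻¹ * x 0 = (ω - 1) * (ω - 1)⁻¹ * x 0 := by ring
      rw [this, mul_inv_cancel₀ hω, one_mul]
    · change ω⁻¹ * ((ω⁻¹ - 1)⁻¹ * x 1) - (ω⁻¹ - 1)⁻¹ * x 1 = x 1
      have : ω⁻¹ * ((ω⁻¹ - 1)⁻¹ * x 1) - (ω⁻¹ - 1)⁻¹ * x 1 = (ω⁻¹ - 1) * (ω⁻¹ - 1)⁻¹ * x 1 := by ring
      rw [this, mul_inv_cancel₀ hω', one_mul]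
  have hyi : ∀ x x', ap (dg ω h0) x - x = ap (dg ω h0) x' - x' → x = x' := by
    intro x x' h
    rw [ap_dg, ap_dg] at h
    have e0 := congrFun h 0
    have e1 := congrFun h 1
    simp only [Pi.sub_apply, Matrix.cons_val_zero, Matrix.cons_val_one] at e0 e1
    apply ext2
    · apply mul_left_cancel₀ hω
      linear_combination e0
    · apply mul_left_cancel₀ hω'
      linear_combination e1
  choose u hu huπ using r.surj
  let s : (Fin 2 → F) → G := fun x => cm t (u (y x))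
  have hsπ : ∀ x, π (s x) = x := fun x => by
    rw [r.π_cm ht (hu _), huπ, hy]
  have hsV : ∀ x, s x ∈ V := fun x => r.cm_mem ht.mem (hu _)
  have hkey : ∀ v ∈ V, cm t v = s (π (cm t v)) := by
    intro v hv
    apply r.cm_eq ht hv (hu _)
    rw [huπ]
    apply hyi
    rw [hy, r.π_cm ht hv]
  refine ⟨s, hsV, hsπ, fun x x' => ?_, fun t' ht' v hv => ?_, fun x t' ht' => ⟨u (y x), hu _, ?_⟩⟩
  · change cm t _ = cm t _ * cm t _
    rw [← r.cm_add ht.mem (hu _) (hu _)]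
    apply r.cm_eq ht (hu _) (mul_mem (hu _) (hu _))
    rw [r.mul _ (hu _) _ (hu _), huπ, huπ, huπ]
    apply ext2 <;> simp only [y, _root_.Fin.isValue, _root_.Matrix.cons_val_zero, _root_.Pi.add_apply, _root_.Matrix.cons_val_one, _root_.Matrix.cons_val_fin_one] <;> ring
  · have e : cm t' v = cm t v := by
      unfold cm; rw [r.is_eq ht' ht v hv]
    rw [e]
    exact hkey v hv
  · unfold cm
    rw [r.is_eq ht' ht _ (hu _)]
    rfl

end Rig

/-- The coordinates of `V`. -/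
structure Form (P V D : Subgroup G) (π : G → Fin 2 → F) (e f g : F → G) (N : Subgroup G) : Prop where
  eV : ∀ z, e z ∈ V
  fV : ∀ z, f z ∈ V
  gD : ∀ z, g z ∈ D
  eπ : ∀ z, π (e z) = ![0, z]
  fπ : ∀ z, π (f z) = ![z, 0]
  e_add : ∀ x y, e (x + y) = e x * e y
  f_add : ∀ x y, f (x + y) = f x * f y
  g_add : ∀ x y, g (x + y) = g x * g y
  act : ∀ t x, Is P V D π x (lo (t ^ 2)) → ∀ v ∈ V, x * v * x⁻¹ = e (t ^ 2 * π v 0) * g (t * π v 0) * v
  gP : ∀ p ∈ P, ∀ y, ∃ y', p * g y * p⁻¹ = g y'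
  mN : ∀ z, z ∈ N ↔ ∃ a b y, z = e a * f b * g y
  cN : ∀ x A, Is P V D π x A → ∀ v ∈ V, x * v * x⁻¹ * v⁻¹ ∈ N
  ND : ∀ z ∈ N, z ∈ D → ∃ y, z = g y
  NP : ∀ p ∈ P, ∀ z ∈ N, p * z * p⁻¹ ∈ N

namespace Rig

variable (r : Rig P V D π)

include r

/-- **The module formula.** -/
theorem form [Finite G] (hsq : ∀ b : F, ∃ t, b = t ^ 2) (hω : ∃ ω : F, ω ≠ 0 ∧ ω ≠ 1)
    (hcen : ∀ b x, Is P V D π x (lo b) → ∀ v ∈ V, π v 0 = 0 → x * v = v * x) :
    ∃ (e f g : F → G) (N : Subgroup G), Form P V D π e f g N := by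
  obtain ⟨ω, h0, h1⟩ := hω
  obtain ⟨s, sV, sπ, sadd, st, st'⟩ := r.exists_sec h0 h1
  obtain ⟨t, ht⟩ := r.is_lift (dg ω h0)
  have h2 := r.two
  have hneg : ∀ x : F, -x = x := fun x => by linear_combination (-x) * h2
  have hVc := r.Vc
  have s0 : s 0 = 1 := by
    have := sadd 0 0
    rw [add_zero] at this
    exact left_eq_mul.1 this
  -- `I`
  have hI : ∀ x A, Is P V D π x A → (A * dg ω h0 * A⁻¹ = dg ω h0 ∨ A * dg ω h0 * A⁻¹ = (dg ω h0)⁻¹) → ∀ u,
      x * s u * x⁻¹ = s (ap A u) := by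
    intro x A hx hA u
    obtain ⟨v, hv, e1⟩ := st' u t ht
    have hxv : x * v * x⁻¹ ∈ V := r.Vn x hx.mem v hv
    have e2 : x * s u * x⁻¹ = cm (x * t * x⁻¹) (x * v * x⁻¹) := by rw [← e1]; unfold cm; group
    have hxt := r.is_mul (r.is_mul hx ht) (r.is_inv hx)
    have e3 : π (x * s u * x⁻¹) = ap A u := by rw [hx.act _ (sV u), sπ]
    rcases hA with hA | hA
    · rw [hA] at hxt
      have e4 := st _ hxt _ hxv
      rw [← e2, e3] at e4
      exact e4
    · rw [hA] at hxt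
      have ht' := r.is_inv hxt
      rw [inv_inv] at ht'
      obtain ⟨t', ht'd⟩ : ∃ t', t' = (x * t * x⁻¹)⁻¹ := ⟨_, rfl⟩
      rw [← ht'd] at ht'
      have hw : t'⁻¹ * (x * v * x⁻¹) * t' ∈ V := by
        have := r.Vn t'⁻¹ (inv_mem ht'.mem) _ hxv
        rwa [inv_inv] at this
      have e4 : cm t' (t'⁻¹ * (x * v * x⁻¹) * t') = (x * s u * x⁻¹)⁻¹ := by
        rw [e2, ht'd]; unfold cm; group
      rw [r.inv (r.Vn x hx.mem _ (sV u))] at e4
      have e5 := st _ ht' _ hw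
      rw [e4, e3] at e5
      exact e5
  have hdg : ∀ (a : F) (ha : a ≠ 0), dg a ha * dg ω h0 * (dg a ha)⁻¹ = dg ω h0 := by
    intro a ha
    rw [mul_inv_eq_iff_eq_mul]
    apply ext_ent <;> simp only [ent_mul, _root_.Fin.isValue, _root_.Cfsg.Agent.Lib.SL2Mat.dg_00, _root_.Cfsg.Agent.Lib.SL2Mat.dg_01, _root_.Cfsg.Agent.Lib.SL2Mat.dg_10, _root_.MulZeroClass.mul_zero, _root_.add_zero, _root_.Cfsg.Agent.Lib.SL2Mat.dg_11, _root_.MulZeroClass.zero_mul, _root_.zero_add] <;> ring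
  have hwm : wm (1 : F) one_ne_zero * dg ω h0 * (wm (1 : F) one_ne_zero)⁻¹ = (dg ω h0)⁻¹ := by
    rw [mul_inv_eq_iff_eq_mul, ← mul_right_inj (dg ω h0), mul_inv_cancel_left]
    apply ext_ent <;> simp [ent_mul, h0]
  let e : F → G := fun z => s ![0, z]
  let f : F → G := fun z => s ![z, 0]
  have e_add : ∀ x y, e (x + y) = e x * e y := fun x y => by
    change s _ = s _ * s _
    rw [← sadd]
    congr 1
    apply ext2 <;> simp
  have f_add : ∀ x y, f (x + y) = f x * f y := fun x y => by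
    change s _ = s _ * s _
    rw [← sadd]
    congr 1
    apply ext2 <;> simp
  have e0 : e 0 = 1 := by
    have := e_add 0 0
    rw [add_zero] at this
    exact left_eq_mul.1 this
  have f0 : f 0 = 1 := by
    have := f_add 0 0
    rw [add_zero] at this
    exact left_eq_mul.1 this
  have sef : ∀ u, s u = e (u 1) * f (u 0) := fun u => by
    change s u = s _ * s _
    rw [← sadd]
    congr 1
    apply ext2 <;> simp
  -- torus
  have dge : ∀ (a : F) (ha : a ≠ 0) (x : G), Is P V D π x (dg a ha) → ∀ z, x * e z * x⁻¹ = e (a⁻¹ * z) ∧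
      x * f z * x⁻¹ = f (a * z) := by
    intro a ha x hx z
    constructor
    · rw [hI x _ hx (Or.inl (hdg a ha)), ap_dg]
      congr 1
      apply ext2 <;> simp
    · rw [hI x _ hx (Or.inl (hdg a ha)), ap_dg]
      congr 1
      apply ext2 <;> simp
  -- `cm x (f z)` for `x` of type `lo b`
  have hγ : ∀ b x, Is P V D π x (lo b) → ∀ z, (e (b * z))⁻¹ * cm x (f z) ∈ D := by
    intro b x hx z
    rw [← r.ker _ (mul_mem (inv_mem (sV _)) (r.cm_mem hx.mem (sV _))),
      r.mul _ (inv_mem (sV _)) _ (r.cm_mem hx.mem (sV _)), r.map_inv (sV _), r.π_cm hx (sV _), sπ, sπ, ap_lo]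
    apply ext2 <;> simp
  choose l hl using fun b : F => r.is_lift (lo b)
  let γ : F → F → G := fun b z => (e (b * z))⁻¹ * cm (l b) (f z)
  have hγD : ∀ b z, γ b z ∈ D := fun b z => hγ b _ (hl b) z
  have hcm : ∀ b x, Is P V D π x (lo b) → ∀ z, cm x (f z) = e (b * z) * γ b z := by
    intro b x hx z
    have : cm x (f z) = cm (l b) (f z) := by unfold cm; rw [r.is_eq hx (hl b) _ (sV _)]
    rw [this]
    change _ = e (b * z) * ((e (b * z))⁻¹ * _)
    rw [mul_inv_cancel_left]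
  have hγz : ∀ b z z', γ b (z + z') = γ b z * γ b z' := by
    intro b z z'
    change (e (b * (z + z')))⁻¹ * cm (l b) (f (z + z')) = _
    rw [f_add, r.cm_add (hl b).mem (sV _) (sV _), mul_add, e_add, hcm b _ (hl b), hcm b _ (hl b)]
    have m1 := sV ![0, b * z]
    have m2 := sV ![0, b * z']
    have m3 := r.DV (hγD b z)
    have c1 := hVc _ m3 _ m2
    have c2 := hVc _ m1 _ m2
    change γ b z * e (b * z') = e (b * z') * γ b z at c1
    change e (b * z) * e (b * z') = e (b * z') * e (b * z) at c2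
    calc (e (b * z) * e (b * z'))⁻¹ * (e (b * z) * γ b z * (e (b * z') * γ b z'))
        = (e (b * z) * e (b * z'))⁻¹ * (e (b * z) * (γ b z * e (b * z')) * γ b z') := by group
      _ = (e (b * z) * e (b * z'))⁻¹ * (e (b * z) * (e (b * z') * γ b z) * γ b z') := by rw [c1]
      _ = _ := by group
  have hγt : ∀ a (_ : a ≠ 0) b z, γ (b * a⁻¹ ^ 2) (a * z) = γ b z := by
    intro a ha b z
    obtain ⟨y, hy⟩ := r.is_lift (dg a ha)
    have hyl := r.is_mul (r.is_mul hy (hl b)) (r.is_inv hy)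
    have e1 : dg a ha * lo b * (dg a ha)⁻¹ = lo (b * a⁻¹ ^ 2) := by
      rw [mul_inv_eq_iff_eq_mul]
      apply ext_ent <;> simp only [ent_mul, _root_.Fin.isValue, _root_.Cfsg.Agent.Lib.SL2Mat.dg_00, _root_.Cfsg.Agent.Lib.SL2Mat.lo_00, _root_.mul_one, _root_.Cfsg.Agent.Lib.SL2Mat.dg_01, _root_.Cfsg.Agent.Lib.SL2Mat.lo_10, _root_.MulZeroClass.zero_mul, _root_.add_zero, _root_.inv_pow, _root_.one_mul, _root_.Cfsg.Agent.Lib.SL2Mat.lo_01, _root_.Cfsg.Agent.Lib.SL2Mat.dg_10, _root_.MulZeroClass.mul_zero, _root_.Cfsg.Agent.Lib.SL2Mat.lo_11, _root_.Cfsg.Agent.Lib.SL2Mat.dg_11, _root_.zero_add]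
      field_simp
    rw [e1] at hyl
    have e2 : y * cm (l b) (f z) * y⁻¹ = cm (y * l b * y⁻¹) (y * f z * y⁻¹) := by unfold cm; group
    rw [(dge a ha y hy z).2, hcm _ _ hyl, hcm b _ (hl b)] at e2
    have e3 : y * (e (b * z) * γ b z) * y⁻¹ = (y * e (b * z) * y⁻¹) * γ b z := by
      have := hy.cen _ (hγD b z)
      calc y * (e (b * z) * γ b z) * y⁻¹ = (y * e (b * z) * y⁻¹) * (y * γ b z * y⁻¹) := by group
        _ = _ := by rw [this]; group
    rw [e3, (dge a ha y hy _).1] at e2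
    have e4 : a⁻¹ * (b * z) = b * a⁻¹ ^ 2 * (a * z) := by field_simp
    rw [e4] at e2
    exact (mul_left_cancel e2).symm
  let g : F → G := fun y => γ 1 y
  have gD : ∀ y, g y ∈ D := fun y => hγD 1 y
  have g_add : ∀ x y, g (x + y) = g x * g y := fun x y => hγz 1 x y
  have g0 : g 0 = 1 := by
    have := g_add 0 0
    rw [add_zero] at this
    exact left_eq_mul.1 this
  have hγ0 : ∀ z, γ 0 z = 1 := by
    intro z
    change (e (0 * z))⁻¹ * cm (l 0) (f z) = 1
    have h3 : cm (l 0) (f z) = cm 1 (f z) := by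
      unfold cm
      have := hl 0
      rw [lo_zero] at this
      rw [r.is_eq this r.is_one _ (sV _)]
    rw [h3, zero_mul, e0]
    unfold cm; group
  have hγsq : ∀ a z, γ (a ^ 2) z = g (a * z) := by
    intro a z
    by_cases ha : a = 0
    · subst ha
      rw [zero_pow two_ne_zero, hγ0, zero_mul, g0]
    · rw [← hγt a ha]
      change _ = γ 1 (a * z)
      congr 1
      field_simp
  have hact : ∀ t x, Is P V D π x (lo (t ^ 2)) → ∀ v ∈ V, cm x v = e (t ^ 2 * π v 0) * g (t * π v 0) := by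
    intro t x hx v hv
    have e1 : cm x v = cm x (f (π v 0) * e (π v 1)) := by
      apply r.cm_eq hx hv (mul_mem (sV _) (sV _))
      rw [r.mul _ (sV _) _ (sV _), sπ, sπ]
      apply ext2 <;> simp
    have e2 : cm x (e (π v 1)) = 1 := by
      have h3 : x * e (π v 1) = e (π v 1) * x := hcen _ x hx _ (sV _) (by rw [sπ]; simp)
      unfold cm
      rw [h3]
      group
    rw [e1, r.cm_add hx.mem (sV _) (sV _), e2, mul_one, hcm _ x hx, hγsq]
  have hDc : ∀ d ∈ D, ∀ v ∈ V, d * v = v * d := fun d hd v hv => hVc d (r.DV hd) v hv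
  -- `N`
  have smul : ∀ a b y a' b' y', (e a * f b * g y) * (e a' * f b' * g y') = e (a + a') * f (b + b') * g (y + y') := by
    intro a b y a' b' y'
    rw [e_add, f_add, g_add]
    have c1 := hDc _ (gD y) _ (mul_mem (sV ![0, a']) (sV ![b', 0]))
    change g y * (e a' * f b') = (e a' * f b') * g y at c1
    have c2 := hVc _ (sV ![b, 0]) _ (sV ![0, a'])
    change f b * e a' = e a' * f b at c2
    calc (e a * f b * g y) * (e a' * f b' * g y') = e a * f b * (g y * (e a' * f b')) * g y' := by group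
      _ = e a * f b * ((e a' * f b') * g y) * g y' := by rw [c1]
      _ = e a * (f b * e a') * f b' * g y * g y' := by group
      _ = e a * (e a' * f b) * f b' * g y * g y' := by rw [c2]
      _ = _ := by group
  let N : Subgroup G :=
    { carrier := {z | ∃ a b y, z = e a * f b * g y}
      one_mem' := ⟨0, 0, 0, by rw [e0, f0, g0]; simp⟩
      mul_mem' := by
        rintro _ _ ⟨a, b, y, rfl⟩ ⟨a', b', y', rfl⟩
        exact ⟨_, _, _, smul _ _ _ _ _ _⟩
      inv_mem' := by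
        rintro _ ⟨a, b, y, rfl⟩
        have h3 : e a * f b * g y ∈ V := mul_mem (mul_mem (sV _) (sV _)) (r.DV (gD y))
        exact ⟨a, b, y, r.inv h3⟩ }
  have hNs : ∀ u, s u ∈ N := fun u => ⟨u 1, u 0, 0, by rw [g0, mul_one, ← sef]⟩
  have hNg : ∀ y, g y ∈ N := fun y => ⟨0, 0, y, by rw [e0, f0]; simp⟩
  -- `SL₂` acts on `N`
  have hN1 : ∀ x A, Is P V D π x A → (∀ u, x * s u * x⁻¹ ∈ N) → ∀ z ∈ N, x * z * x⁻¹ ∈ N := by
    rintro x A hx hs z ⟨a, b, y, rfl⟩
    have h3 := hx.cen _ (gD y)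
    have h4 : x * (e a * f b * g y) * x⁻¹ = (x * e a * x⁻¹) * (x * f b * x⁻¹) * (x * g y * x⁻¹) := by group
    rw [h4, h3, mul_inv_cancel_right]
    exact mul_mem (mul_mem (hs _) (hs _)) (hNg y)
  let K : Subgroup (Matrix.SpecialLinearGroup (Fin 2) F) :=
    { carrier := {A | ∀ x, Is P V D π x A → ∀ z ∈ N, x * z * x⁻¹ ∈ N}
      one_mem' := fun x hx z hz => by
        have hzV : z ∈ V := by
          obtain ⟨a, b, y, rfl⟩ := hz
          exact mul_mem (mul_mem (sV _) (sV _)) (r.DV (gD y))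
        rw [r.is_eq hx r.is_one z hzV, one_mul, inv_one, mul_one]
        exact hz
      mul_mem' := by
        intro A B hA hB x hx z hz
        obtain ⟨y, hy⟩ := r.is_lift B
        have h3 := r.is_mul hx (r.is_inv hy)
        rw [mul_inv_cancel_right] at h3
        have h4 := hA _ h3 _ (hB y hy z hz)
        have h5 : x * y⁻¹ * (y * z * y⁻¹) * (x * y⁻¹)⁻¹ = x * z * x⁻¹ := by group
        rwa [h5] at h4
      inv_mem' := by
        intro A hA x hx z hz
        have h3 := r.is_inv hx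
        rw [inv_inv] at h3
        have h4 := hA _ h3
        have h5 : Function.Surjective (fun w : N => (⟨x⁻¹ * w * x⁻¹⁻¹, h4 w w.2⟩ : N)) := by
          apply Finite.surjective_of_injective
          intro a b hab
          have h6 : x⁻¹ * (a : G) * x⁻¹⁻¹ = x⁻¹ * b * x⁻¹⁻¹ := congrArg Subtype.val hab
          exact Subtype.ext (mul_left_cancel (mul_right_cancel h6))
        obtain ⟨w, hw⟩ := h5 ⟨z, hz⟩
        have h6 : x⁻¹ * (w : G) * x⁻¹⁻¹ = z := congrArg Subtype.val hw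
        have h7 : x * z * x⁻¹ = w := by rw [← h6]; group
        rw [h7]
        exact w.2 }
  have hlo : ∀ b, lo b ∈ K := by
    intro b x hx
    obtain ⟨a, rfl⟩ := hsq b
    refine hN1 x _ hx fun u => ?_
    have h3 := hact a x hx _ (sV u)
    have h4 : x * s u * x⁻¹ = cm x (s u) * s u := by unfold cm; group
    rw [h4, h3]
    exact mul_mem (mul_mem (hNs _) (hNg _)) (hNs _)
  have hwmK : wm (1 : F) one_ne_zero ∈ K := by
    intro x hx
    refine hN1 x _ hx fun u => ?_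
    rw [hI x _ hx (Or.inr hwm)]
    exact hNs _
  have hup : ∀ b, up b ∈ K := by
    intro b
    have h3 := wm_lo (1 : F) (-b) one_ne_zero
    rw [one_pow, mul_one, neg_neg] at h3
    have h4 : up b = wm (1 : F) one_ne_zero * lo (-b) * (wm (1 : F) one_ne_zero)⁻¹ := by
      rw [h3, mul_inv_cancel_right]
    rw [h4]
    exact mul_mem (mul_mem hwmK (hlo _)) (inv_mem hwmK)
  have hK : ∀ A, A ∈ K := by
    intro A
    obtain ⟨a, b, c, d, rfl⟩ := exists_up_lo A
    exact mul_mem (mul_mem (mul_mem (hup _) (hlo _)) (hup _)) (hlo _)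
  have hcN : ∀ x A, Is P V D π x A → ∀ v ∈ V, cm x v ∈ N := by
    intro x A hx v hv
    have h3 : cm x v = cm x (s (π v)) := r.cm_eq hx hv (sV _) (sπ _).symm
    rw [h3]
    exact mul_mem (hK A x hx _ (hNs _)) (inv_mem (hNs _))
  have hND : ∀ z ∈ N, z ∈ D → ∃ y, z = g y := by
    rintro _ ⟨a, b, y, rfl⟩ hD
    have h3 : π (e a * f b * g y) = 0 :=
      (r.ker _ (mul_mem (mul_mem (sV _) (sV _)) (r.DV (gD y)))).2 hD
    rw [r.mul _ (mul_mem (sV _) (sV _)) _ (r.DV (gD y)), r.mul _ (sV _) _ (sV _), sπ, sπ,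
      (r.ker _ (r.DV (gD y))).2 (gD y)] at h3
    have h4 := congrFun h3 0
    have h5 := congrFun h3 1
    simp at h4 h5
    subst h4 h5
    exact ⟨y, by rw [e0, f0]; simp⟩
  have hgP : ∀ p ∈ P, ∀ y, ∃ y', p * g y * p⁻¹ = g y' := by
    intro p hp y
    obtain ⟨x, hx⟩ := r.is_lift (lo (1 ^ 2 : F))
    have h3 := hact 1 x hx (f y) (sV _)
    have hfy : π (f y) 0 = y := by
      change π (s _) 0 = y
      rw [sπ]; simp
    rw [hfy, one_pow, one_mul] at h3
    obtain ⟨v, hv, h4⟩ := st' ![0, y] t ht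
    have h5 : g y = (cm t v)⁻¹ * cm x (f y) := by rw [h3, h4]; change g y = (e y)⁻¹ * _; group
    have h6 : p * g y * p⁻¹ = (cm (p * t * p⁻¹) (p * v * p⁻¹))⁻¹ * cm (p * x * p⁻¹) (p * f y * p⁻¹) := by
      rw [h5]; unfold cm; group
    obtain ⟨B, hB⟩ := r.is_conj hp ht
    obtain ⟨B', hB'⟩ := r.is_conj hp hx
    apply hND
    · rw [h6]
      exact mul_mem (inv_mem (hcN _ _ hB _ (r.Vn p hp v hv))) (hcN _ _ hB' _ (r.Vn p hp _ (sV _)))
    · exact r.Dn p hp _ (gD y)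
  refine ⟨e, f, g, N, fun z => sV _, fun z => sV _, gD, fun z => sπ _, fun z => sπ _, e_add, f_add, g_add,
    fun a x hx v hv => ?_, hgP, fun z => Iff.rfl, fun x A hx v hv => hcN x A hx v hv, hND, fun p hp z hz => ?_⟩
  · have h3 := hact a x hx v hv
    have h4 : x * v * x⁻¹ = cm x v * v := by unfold cm; group
    rw [h4, h3]
  · obtain ⟨a, b, y, rfl⟩ := hz
    obtain ⟨v, hv, h4⟩ := st' ![b, a] t ht
    have h5 : e a * f b = cm t v := by
      rw [h4, sef]; simp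
    obtain ⟨y', hy'⟩ := hgP p hp y
    obtain ⟨B, hB⟩ := r.is_conj hp ht
    have h6 : p * (e a * f b * g y) * p⁻¹ = cm (p * t * p⁻¹) (p * v * p⁻¹) * (p * g y * p⁻¹) := by
      rw [h5]; unfold cm; group
    rw [h6, hy']
    exact mul_mem (hcN _ _ hB _ (r.Vn p hp v hv)) (hNg _)

end Rig

end Cfsg.Agent.Omega.HOne.NSMod

end

end
end

-- part: Mrg/Omega/HOneTwo/TransSide
section
prune_inst 0x302444516202000018058611003e46de000592002b0000f1600c4605ceff60ad452721eca03f02081aae5428300068135c00c0426000000e000800411d04a1802852049348a10466008f80a086000000000000000000000000000000041004200000000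
set_option linter.all false
open scoped Cfsg.Agent.FastGrp

section


/-!
# II.0h1, `q = 2`, after the transvection statement: one side ((1) and (4) of #15507)

`Side`: an elementary abelian normal subgroup `U = ⟨Δ⟩` of `A`, `Δ` invariant under `A`, `z ∈ U ∩ Z(A)`, and for
`p ∈ Δ` a subgroup `N p ≤ A` which induces on `U` the transvection `u ↦ u (p z) ^ φ p u`, `φ p` with kernel `K p`.

* `Side.symm`: `φ p q = φ q p` for `p, q ∈ Δ`;
* `Side.inj`: if `A / C(U)` has no normal 2-subgroup then `Δ → U / rad` is injective.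
-/

set_option autoImplicit false
set_option linter.unusedSectionVars false

namespace Cfsg.Agent.Omega.HOneTwo.Trans

open Subgroup

universe u

/-- `x ^ c`, `c ∈ F₂` -/
def pw {G : Type u} [Group G] (x : G) (c : ZMod 2) : G := if c = 0 then 1 else x

section pw

variable {G : Type u} [Group G]

@[simp] theorem pw_zero (x : G) : pw x 0 = 1 := if_pos rfl

@[simp] theorem pw_one (x : G) : pw x 1 = x := if_neg (by decide)

theorem zmod_cases (c : ZMod 2) : c = 0 ∨ c = 1 := by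
  revert c; decide

theorem zmod_one {c : ZMod 2} (h : c ≠ 0) : c = 1 := (zmod_cases c).resolve_left h

theorem pw_add {x : G} (hx : x * x = 1) (a b : ZMod 2) : pw x (a + b) = pw x a * pw x b := by
  rcases zmod_cases a with rfl | rfl <;> rcases zmod_cases b with rfl | rfl
  · simp
  · simp
  · simp
  · have : (1 : ZMod 2) + 1 = 0 := by decide
    rw [this]; simp [hx]

theorem pw_inj {x : G} (hx : x ≠ 1) {a b : ZMod 2} (h : pw x a = pw x b) : a = b := by
  rcases zmod_cases a with rfl | rfl <;> rcases zmod_cases b with rfl | rfl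
  · rfl
  · simp only [pw_zero, pw_one] at h; exact absurd h.symm hx
  · simp only [pw_zero, pw_one] at h; exact absurd h hx
  · rfl

theorem pw_conj (g x : G) (c : ZMod 2) : g * pw x c * g⁻¹ = pw (g * x * g⁻¹) c := by
  rcases zmod_cases c with rfl | rfl <;> simp

end pw

/-- one side -/
structure Side (G : Type u) [Group G] where
  A : Subgroup G
  U : Subgroup G
  Δ : Set G
  z : G
  N : G → Subgroup G
  K : G → Subgroup G
  U_sq : ∀ u ∈ U, u * u = 1
  U_conj : ∀ m ∈ A, ∀ u ∈ U, m * u * m⁻¹ ∈ U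
  Δ_gen : closure Δ = U
  Δ_conj : ∀ m ∈ A, ∀ p ∈ Δ, m * p * m⁻¹ ∈ Δ
  z_mem : z ∈ U
  z_comm : ∀ m ∈ A, m * z = z * m
  N_le : ∀ p ∈ Δ, N p ≤ A
  N_conj : ∀ m ∈ A, ∀ p ∈ Δ, ∀ n ∈ N p, m * n * m⁻¹ ∈ N (m * p * m⁻¹)
  act : ∀ p ∈ Δ, ∀ n ∈ N p, (∀ u ∈ U, n * u * n⁻¹ = u) ∨
    (∀ u ∈ U, (u ∈ K p → n * u * n⁻¹ = u) ∧ (u ∉ K p → n * u * n⁻¹ = u * (p * z)))
  exN : ∀ p ∈ Δ, ∃ n ∈ N p, ∃ u ∈ U, n * u * n⁻¹ ≠ u
  zK : ∀ p ∈ Δ, z ∈ K p
  pK : ∀ p ∈ Δ, p ∈ K p

namespace Side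

variable {G : Type u} [Group G] (D : Side G)

open Classical in
/-- the functional -/
noncomputable def φ (p u : G) : ZMod 2 := if u ∈ D.K p then 0 else 1

theorem Δ_le {p : G} (hp : p ∈ D.Δ) : p ∈ D.U := by
  rw [← D.Δ_gen]; exact subset_closure hp

theorem U_comm {u v : G} (hu : u ∈ D.U) (hv : v ∈ D.U) : u * v = v * u := by
  have h1 := D.U_sq _ (D.U.mul_mem hu hv)
  have h2 := D.U_sq u hu
  have h3 := D.U_sq v hv
  calc u * v = u * (u * v * (u * v)) * v := by rw [h1, mul_one]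
    _ = (u * u) * (v * u) * (v * v) := by group
    _ = v * u := by rw [h2, h3, one_mul, mul_one]

theorem U_inv {u : G} (hu : u ∈ D.U) : u⁻¹ = u := inv_eq_of_mul_eq_one_left (D.U_sq u hu)

theorem pz_mem {p : G} (hp : p ∈ D.Δ) : p * D.z ∈ D.U := D.U.mul_mem (D.Δ_le hp) D.z_mem

theorem pz_sq {p : G} (hp : p ∈ D.Δ) : p * D.z * (p * D.z) = 1 := D.U_sq _ (D.pz_mem hp)

/-- elements of `N p` act as `1` or as the transvection -/
theorem act' {p : G} (hp : p ∈ D.Δ) {n : G} (hn : n ∈ D.N p) : (∀ u ∈ D.U, n * u * n⁻¹ = u) ∨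
    ∀ u ∈ D.U, n * u * n⁻¹ = u * pw (p * D.z) (D.φ p u) := by
  rcases D.act p hp n hn with h | h
  · exact Or.inl h
  · refine Or.inr fun u hu => ?_
    unfold φ
    by_cases h1 : u ∈ D.K p
    · rw [if_pos h1, pw_zero, mul_one]; exact (h u hu).1 h1
    · rw [if_neg h1, pw_one]; exact (h u hu).2 h1

theorem exists_t {p : G} (hp : p ∈ D.Δ) : ∃ t ∈ D.N p, ∀ u ∈ D.U, t * u * t⁻¹ = u * pw (p * D.z) (D.φ p u) := by
  obtain ⟨n, hn, u, hu, h⟩ := D.exN p hp
  exact ⟨n, hn, (D.act' hp hn).resolve_left fun h' => h (h' u hu)⟩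

open Classical in
/-- an element of `N p` that acts as the transvection -/
noncomputable def t (p : G) : G := if hp : p ∈ D.Δ then (D.exists_t hp).choose else 1

theorem t_mem {p : G} (hp : p ∈ D.Δ) : D.t p ∈ D.N p := by
  unfold t; rw [dif_pos hp]; exact (D.exists_t hp).choose_spec.1

theorem t_act {p : G} (hp : p ∈ D.Δ) {u : G} (hu : u ∈ D.U) :
    D.t p * u * (D.t p)⁻¹ = u * pw (p * D.z) (D.φ p u) := by
  unfold t; rw [dif_pos hp]; exact (D.exists_t hp).choose_spec.2 u hu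

theorem t_A {p : G} (hp : p ∈ D.Δ) : D.t p ∈ D.A := D.N_le p hp (D.t_mem hp)

theorem pz_ne {p : G} (hp : p ∈ D.Δ) : p * D.z ≠ 1 := by
  intro h
  obtain ⟨n, hn, u, hu, h1⟩ := D.exN p hp
  apply h1
  rcases D.act p hp n hn with h2 | h2
  · exact h2 u hu
  · by_cases h3 : u ∈ D.K p
    · exact (h2 u hu).1 h3
    · rw [(h2 u hu).2 h3, h, mul_one]

theorem φ_ne {p : G} (hp : p ∈ D.Δ) : ∃ u ∈ D.U, D.φ p u = 1 := by
  obtain ⟨n, hn, u, hu, h⟩ := D.exN p hp
  refine ⟨u, hu, zmod_one fun h0 => h ?_⟩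
  rcases D.act' hp hn with h1 | h1
  · exact h1 u hu
  · rw [h1 u hu, h0, pw_zero, mul_one]

theorem φ_eq {p n : G} (hp : p ∈ D.Δ) (hn : n ∈ D.N p) {v : G} (hv : v ∈ D.U) (hnv : n * v * n⁻¹ ≠ v)
    {u : G} (hu : u ∈ D.U) : n * u * n⁻¹ = u * pw (p * D.z) (D.φ p u) :=
  (D.act' hp hn).resolve_left (fun h => hnv (h v hv)) u hu

theorem φ_mul {p : G} (hp : p ∈ D.Δ) {u v : G} (hu : u ∈ D.U) (hv : v ∈ D.U) :
    D.φ p (u * v) = D.φ p u + D.φ p v := by
  apply pw_inj (D.pz_ne hp)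
  rw [pw_add (D.pz_sq hp)]
  have h1 := D.t_act hp (D.U.mul_mem hu hv)
  have h2 : D.t p * (u * v) * (D.t p)⁻¹ = (D.t p * u * (D.t p)⁻¹) * (D.t p * v * (D.t p)⁻¹) := by group
  rw [h2, D.t_act hp hu, D.t_act hp hv] at h1
  have h3 : pw (p * D.z) (D.φ p u) ∈ D.U := by
    rcases zmod_cases (D.φ p u) with h | h <;> rw [h]
    · rw [pw_zero]; exact D.U.one_mem
    · rw [pw_one]; exact D.pz_mem hp
  have h4 : u * pw (p * D.z) (D.φ p u) * (v * pw (p * D.z) (D.φ p v)) =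
      u * v * (pw (p * D.z) (D.φ p u) * pw (p * D.z) (D.φ p v)) := by
    rw [mul_assoc u, ← mul_assoc (pw _ _) v, D.U_comm h3 hv]
    group
  rw [h4] at h1
  exact (mul_left_cancel h1).symm

theorem φ_z {p : G} (hp : p ∈ D.Δ) : D.φ p D.z = 0 := if_pos (D.zK p hp)

theorem φ_self {p : G} (hp : p ∈ D.Δ) : D.φ p p = 0 := if_pos (D.pK p hp)

theorem φ_pz {p q : G} (hp : p ∈ D.Δ) (hq : q ∈ D.Δ) : D.φ q (p * D.z) = D.φ q p := by
  rw [D.φ_mul hq (D.Δ_le hp) D.z_mem, D.φ_z hq, add_zero]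

theorem φ_one {p : G} (hp : p ∈ D.Δ) : D.φ p 1 = 0 := by
  have := D.φ_mul hp D.U.one_mem D.U.one_mem
  rw [mul_one] at this
  exact left_eq_add.mp this

theorem pw_mem {x : G} (hx : x ∈ D.U) (c : ZMod 2) : pw x c ∈ D.U := by
  rcases zmod_cases c with rfl | rfl
  · rw [pw_zero]; exact D.U.one_mem
  · rw [pw_one]; exact hx

theorem φ_pw {p x : G} (hp : p ∈ D.Δ) (c : ZMod 2) : D.φ p (pw x c) = c * D.φ p x := by
  rcases zmod_cases c with rfl | rfl
  · rw [pw_zero, D.φ_one hp, zero_mul]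
  · rw [pw_one, one_mul]

/-- `φ` is invariant -/
theorem φ_conj {m p u : G} (hm : m ∈ D.A) (hp : p ∈ D.Δ) (hu : u ∈ D.U) :
    D.φ (m * p * m⁻¹) (m * u * m⁻¹) = D.φ p u := by
  have hp' := D.Δ_conj m hm p hp
  have hn := D.N_conj m hm p hp _ (D.t_mem hp)
  obtain ⟨v, hv, hv1⟩ := D.φ_ne hp
  have hpz : m * (p * D.z) * m⁻¹ = m * p * m⁻¹ * D.z := by
    calc m * (p * D.z) * m⁻¹ = m * p * m⁻¹ * (m * D.z) * m⁻¹ := by group
      _ = m * p * m⁻¹ * (D.z * m) * m⁻¹ := by rw [D.z_comm m hm]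
      _ = m * p * m⁻¹ * D.z := by group
  have key : ∀ w ∈ D.U, m * D.t p * m⁻¹ * (m * w * m⁻¹) * (m * D.t p * m⁻¹)⁻¹ =
      m * w * m⁻¹ * pw (m * p * m⁻¹ * D.z) (D.φ p w) := by
    intro w hw
    have h1 := D.t_act hp hw
    calc m * D.t p * m⁻¹ * (m * w * m⁻¹) * (m * D.t p * m⁻¹)⁻¹
        = m * (D.t p * w * (D.t p)⁻¹) * m⁻¹ := by group
      _ = m * w * m⁻¹ * (m * pw (p * D.z) (D.φ p w) * m⁻¹) := by rw [h1]; group
      _ = _ := by rw [pw_conj, hpz]
  have h2 := D.φ_eq hp' hn (D.U_conj m hm v hv) (by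
    rw [key v hv, hv1, pw_one]
    intro h
    exact D.pz_ne hp' (mul_eq_left.mp h)) (D.U_conj m hm u hu)
  rw [key u hu] at h2
  exact (pw_inj (D.pz_ne hp') (mul_left_cancel h2)).symm

/-- **(1)** -/
theorem symm {p q : G} (hp : p ∈ D.Δ) (hq : q ∈ D.Δ) : D.φ p q = D.φ q p := by
  -- it is enough to exclude `φ p q = 1`, `φ q p = 0`
  have key : ∀ p ∈ D.Δ, ∀ q ∈ D.Δ, D.φ p q = 1 → D.φ q p = 0 → False := by
    intro p hp q hq h1 h0
    have hp' := D.Δ_le hp
    have hq' := D.Δ_le hq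
    set s := D.t p with hs
    set t := D.t q with ht
    -- `t` centralises `p`
    have e1 : t * p * t⁻¹ = p := by rw [ht, D.t_act hq hp', h0, pw_zero, mul_one]
    -- `q' = q ^ s`
    have e2 : s * q * s⁻¹ = q * (p * D.z) := by rw [hs, D.t_act hp hq', h1, pw_one]
    -- `c = [t, s] ∈ N p`
    have hc : t * s * t⁻¹ * s⁻¹ ∈ D.N p := by
      have h2 := D.N_conj t (D.t_A hq) p hp s (D.t_mem hp)
      rw [e1] at h2
      exact (D.N p).mul_mem h2 ((D.N p).inv_mem (D.t_mem hp))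
    -- the action of `s t s⁻¹`
    have hst : ∀ u ∈ D.U, s * t * s⁻¹ * u * (s * t * s⁻¹)⁻¹ = u * pw (q * p) (D.φ q u) := by
      intro u hu
      have hu' : s⁻¹ * u * s ∈ D.U := by
        have := D.U_conj s⁻¹ (D.A.inv_mem (D.t_A hp)) u hu
        rwa [inv_inv] at this
      have h3 : D.φ q (s⁻¹ * u * s) = D.φ q u := by
        have h4 := D.t_act hp hu'
        have h5 : D.t p * (s⁻¹ * u * s) * (D.t p)⁻¹ = u := by rw [← hs]; group
        rw [h5] at h4
        have h6 := congrArg (D.φ q) h4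
        rw [D.φ_mul hq hu' (D.pw_mem (D.pz_mem hp) _), D.φ_pw hq, D.φ_pz hp hq, h0, mul_zero, add_zero] at h6
        exact h6.symm
      have h4 := D.t_act hq hu'
      rw [← ht, h3] at h4
      have h5 : s * (q * D.z) * s⁻¹ = q * p := by
        calc s * (q * D.z) * s⁻¹ = (s * q * s⁻¹) * (s * D.z * s⁻¹) := by group
          _ = q * (p * D.z) * D.z := by
            rw [e2, D.z_comm s (D.t_A hp), mul_inv_cancel_right]
          _ = q * p * (D.z * D.z) := by group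
          _ = q * p := by rw [D.U_sq _ D.z_mem, mul_one]
      calc s * t * s⁻¹ * u * (s * t * s⁻¹)⁻¹ = s * (t * (s⁻¹ * u * s) * t⁻¹) * s⁻¹ := by group
        _ = s * (s⁻¹ * u * s) * s⁻¹ * (s * pw (q * D.z) (D.φ q u) * s⁻¹) := by rw [h4]; group
        _ = u * pw (q * p) (D.φ q u) := by rw [pw_conj, h5]; group
    -- the action of `c = t (s t⁻¹ s⁻¹)`
    have hcu : ∀ u ∈ D.U, (t * s * t⁻¹ * s⁻¹) * u * (t * s * t⁻¹ * s⁻¹)⁻¹ = u * pw (p * D.z) (D.φ q u) := by
      intro u hu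
      -- `s t⁻¹ s⁻¹ u s t s⁻¹ = u * pw (q p) (φ q u)` as well
      have hqp : q * p ∈ D.U := D.U.mul_mem hq' hp'
      have h6 : D.φ q (u * pw (q * p) (D.φ q u)) = D.φ q u := by
        rw [D.φ_mul hq hu (D.pw_mem hqp _), D.φ_pw hq, D.φ_mul hq hq' hp', D.φ_self hq, h0, add_zero, mul_zero,
          add_zero]
      have h7 : (s * t * s⁻¹)⁻¹ * u * (s * t * s⁻¹) = u * pw (q * p) (D.φ q u) := by
        have hv := D.U.mul_mem hu (D.pw_mem hqp (D.φ q u))
        have h8 := hst _ hv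
        rw [h6, mul_assoc u, ← pw_add (D.U_sq _ hqp)] at h8
        have h9 : D.φ q u + D.φ q u = 0 := by
          rcases zmod_cases (D.φ q u) with h | h <;> rw [h] <;> decide
        rw [h9, pw_zero, mul_one] at h8
        calc (s * t * s⁻¹)⁻¹ * u * (s * t * s⁻¹) = (s * t * s⁻¹)⁻¹ * (s * t * s⁻¹ *
              (u * pw (q * p) (D.φ q u)) * (s * t * s⁻¹)⁻¹) * (s * t * s⁻¹) := by rw [h8]
          _ = u * pw (q * p) (D.φ q u) := by group
      have hv := D.U.mul_mem hu (D.pw_mem hqp (D.φ q u))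
      calc (t * s * t⁻¹ * s⁻¹) * u * (t * s * t⁻¹ * s⁻¹)⁻¹
          = t * ((s * t * s⁻¹)⁻¹ * u * (s * t * s⁻¹)) * t⁻¹ := by group
        _ = t * (u * pw (q * p) (D.φ q u)) * t⁻¹ := by rw [h7]
        _ = u * pw (q * p) (D.φ q u) * pw (q * D.z) (D.φ q u) := by
            rw [ht, D.t_act hq hv, h6]
        _ = u * pw (p * D.z) (D.φ q u) := by
            rw [mul_assoc]
            congr 1
            rcases zmod_cases (D.φ q u) with h | h
            · rw [h, pw_zero, pw_zero, pw_zero, mul_one]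
            · rw [h, pw_one, pw_one, pw_one, D.U_comm hq' hp', mul_assoc, ← mul_assoc q, D.U_sq q hq', one_mul]
    -- `c` acts nontrivially
    obtain ⟨v, hv, hv1⟩ := D.φ_ne hq
    have h3 := D.φ_eq hp hc hv (by
      rw [hcu v hv, hv1, pw_one]
      intro h
      exact D.pz_ne hp (mul_eq_left.mp h)) hq'
    rw [hcu q hq'] at h3
    have h4 := pw_inj (D.pz_ne hp) (mul_left_cancel h3)
    rw [D.φ_self hq, h1] at h4
    exact zero_ne_one h4
  rcases zmod_cases (D.φ p q) with h1 | h1 <;> rcases zmod_cases (D.φ q p) with h2 | h2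
  · rw [h1, h2]
  · exact (key q hq p hp h2 h1).elim
  · exact (key p hp q hq h1 h2).elim
  · rw [h1, h2]

/-! ### The radical -/

/-- the radical: `u ∈ U` with `φ p u = 0` for all `p ∈ Δ` -/
def U0 : Subgroup G where
  carrier := {u | u ∈ D.U ∧ ∀ p ∈ D.Δ, D.φ p u = 0}
  one_mem' := ⟨D.U.one_mem, fun _ hp => D.φ_one hp⟩
  mul_mem' := by
    rintro a b ⟨ha, ha'⟩ ⟨hb, hb'⟩
    exact ⟨D.U.mul_mem ha hb, fun p hp => by rw [D.φ_mul hp ha hb, ha' p hp, hb' p hp, add_zero]⟩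
  inv_mem' := by
    rintro a ⟨ha, ha'⟩
    rw [D.U_inv ha]
    exact ⟨ha, ha'⟩

theorem z_U0 : D.z ∈ D.U0 := ⟨D.z_mem, fun _ hp => D.φ_z hp⟩

/-- a homomorphism `U → F₂` that vanishes on `Δ` vanishes on `U` -/
theorem eq_zero_of_Δ {f : G → ZMod 2} (h1 : f 1 = 0) (hf : ∀ u ∈ D.U, ∀ v ∈ D.U, f (u * v) = f u + f v)
    (h : ∀ p ∈ D.Δ, f p = 0) {u : G} (hu : u ∈ D.U) : f u = 0 := by
  rw [← D.Δ_gen] at hu
  induction hu using closure_induction with
  | mem x hx => exact h x hx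
  | one => exact h1
  | mul x y hx hy hx' hy' => rw [D.Δ_gen] at hx hy; rw [hf x hx y hy, hx', hy', add_zero]
  | inv x hx hx' => rw [D.Δ_gen] at hx; rw [D.U_inv hx]; exact hx'

theorem exists_nbr {p : G} (hp : p ∈ D.Δ) : ∃ q ∈ D.Δ, D.φ p q = 1 := by
  by_contra hcon
  push Not at hcon
  obtain ⟨u, hu, h1⟩ := D.φ_ne hp
  have := D.eq_zero_of_Δ (D.φ_one hp) (fun u hu v hv => D.φ_mul hp hu hv)
    (fun q hq => (zmod_cases _).resolve_right (hcon q hq)) hu
  rw [this] at h1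
  exact zero_ne_one h1

theorem not_mem_U0 {p : G} (hp : p ∈ D.Δ) : p ∉ D.U0 := by
  intro h
  obtain ⟨q, hq, h1⟩ := D.exists_nbr hp
  rw [D.symm hp hq, h.2 q hq] at h1
  exact zero_ne_one h1

theorem z_notin {p : G} (hp : p ∈ D.Δ) : p ≠ D.z := fun h => D.not_mem_U0 hp (h ▸ D.z_U0)

theorem one_notin {p : G} (hp : p ∈ D.Δ) : p ≠ 1 := fun h => D.not_mem_U0 hp (h ▸ D.U0.one_mem)

theorem U0_conj {m u : G} (hm : m ∈ D.A) (hu : u ∈ D.U0) : m * u * m⁻¹ ∈ D.U0 := by
  refine ⟨D.U_conj m hm u hu.1, fun p hp => ?_⟩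
  have hp' : m⁻¹ * p * m ∈ D.Δ := by
    have := D.Δ_conj m⁻¹ (D.A.inv_mem hm) p hp
    rwa [inv_inv] at this
  have h1 := D.φ_conj hm hp' hu.1
  have e : m * (m⁻¹ * p * m) * m⁻¹ = p := by group
  rw [e] at h1
  rw [h1]
  exact hu.2 _ hp'

/-- the functionals of `p` and `p c`, `c ∈ U₀` agree -/
theorem φ_mul_left {p c : G} (hp : p ∈ D.Δ) (hpc : p * c ∈ D.Δ) (hc : c ∈ D.U0) {u : G} (hu : u ∈ D.U) :
    D.φ (p * c) u = D.φ p u := by
  have key : ∀ q ∈ D.Δ, D.φ (p * c) q = D.φ p q := by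
    intro q hq
    rw [D.symm hpc hq, D.φ_mul hq (D.Δ_le hp) hc.1, hc.2 q hq, add_zero, D.symm hq hp]
  have h1 := D.eq_zero_of_Δ (f := fun u => D.φ (p * c) u + D.φ p u)
    (by show D.φ (p * c) 1 + D.φ p 1 = 0; rw [D.φ_one hp, D.φ_one hpc, add_zero])
    (fun u hu v hv => by
      show D.φ (p * c) (u * v) + D.φ p (u * v) = (D.φ (p * c) u + D.φ p u) + (D.φ (p * c) v + D.φ p v)
      rw [D.φ_mul hpc hu hv, D.φ_mul hp hu hv]; ring)
    (fun q hq => by
      show D.φ (p * c) q + D.φ p q = 0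
      rw [key q hq]
      rcases zmod_cases (D.φ p q) with h | h <;> rw [h] <;> decide) hu
  have h2 : D.φ (p * c) u + D.φ p u = 0 := h1
  rcases zmod_cases (D.φ (p * c) u) with h | h <;> rcases zmod_cases (D.φ p u) with h' | h' <;>
    rw [h, h'] at h2 ⊢ <;> revert h2 <;> decide

/-- elements of `A` that act as `1` on `U / U₀` and on `U₀` -/
def Ker : Subgroup G where
  carrier := {a | a ∈ D.A ∧ (∀ u ∈ D.U, a * u * a⁻¹ * u⁻¹ ∈ D.U0) ∧ ∀ u ∈ D.U0, a * u * a⁻¹ = u}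
  one_mem' := ⟨D.A.one_mem, fun u _ => by
    have : 1 * u * (1 : G)⁻¹ * u⁻¹ = 1 := by group
    rw [this]; exact D.U0.one_mem, fun u _ => by group⟩
  mul_mem' := by
    rintro a b ⟨ha, ha1, ha2⟩ ⟨hb, hb1, hb2⟩
    refine ⟨D.A.mul_mem ha hb, fun u hu => ?_, fun u hu => ?_⟩
    · have e : a * b * u * (a * b)⁻¹ * u⁻¹ =
          (a * (b * u * b⁻¹) * a⁻¹ * (b * u * b⁻¹)⁻¹) * (b * u * b⁻¹ * u⁻¹) := by group
      rw [e]
      exact D.U0.mul_mem (ha1 _ (D.U_conj b hb u hu)) (hb1 u hu)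
    · have e : a * b * u * (a * b)⁻¹ = a * (b * u * b⁻¹) * a⁻¹ := by group
      rw [e, hb2 u hu, ha2 u hu]
  inv_mem' := by
    rintro a ⟨ha, ha1, ha2⟩
    refine ⟨D.A.inv_mem ha, fun u hu => ?_, fun u hu => ?_⟩
    · have hv : a⁻¹ * u * a ∈ D.U := by
        have := D.U_conj a⁻¹ (D.A.inv_mem ha) u hu
        rwa [inv_inv] at this
      have h1 := D.U0.inv_mem (ha1 _ hv)
      have e : a⁻¹ * u * a⁻¹⁻¹ * u⁻¹ = (a * (a⁻¹ * u * a) * a⁻¹ * (a⁻¹ * u * a)⁻¹)⁻¹ := by group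
      rw [e]; exact h1
    · have h1 := ha2 u hu
      calc a⁻¹ * u * a⁻¹⁻¹ = a⁻¹ * (a * u * a⁻¹) * a⁻¹⁻¹ := by rw [h1]
        _ = u := by group

/-- what `O₂(A / C(U)) = 1` gives -/
def O2 : Prop := ∀ B : Subgroup G, B ≤ D.A → (∀ m ∈ D.A, ∀ b ∈ B, m * b * m⁻¹ ∈ B) →
  (∀ b ∈ B, ∀ u ∈ D.U, b * b * u = u * (b * b)) → ∀ b ∈ B, ∀ u ∈ D.U, b * u = u * b

theorem ker_comm (hO : D.O2) {a : G} (ha : a ∈ D.Ker) {u : G} (hu : u ∈ D.U) : a * u = u * a := by
  refine hO D.Ker (fun a ha => ha.1) ?_ ?_ a ha u hu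
  · rintro m hm b ⟨hb, hb1, hb2⟩
    have key : ∀ u ∈ D.U, m⁻¹ * u * m ∈ D.U := by
      intro u hu
      have := D.U_conj m⁻¹ (D.A.inv_mem hm) u hu
      rwa [inv_inv] at this
    have key0 : ∀ u ∈ D.U0, m⁻¹ * u * m ∈ D.U0 := by
      intro u hu
      have := D.U0_conj (D.A.inv_mem hm) hu
      rwa [inv_inv] at this
    refine ⟨D.A.mul_mem (D.A.mul_mem hm hb) (D.A.inv_mem hm), fun u hu => ?_, fun u hu => ?_⟩
    · have e : m * b * m⁻¹ * u * (m * b * m⁻¹)⁻¹ * u⁻¹ =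
          m * (b * (m⁻¹ * u * m) * b⁻¹ * (m⁻¹ * u * m)⁻¹) * m⁻¹ := by group
      rw [e]
      exact D.U0_conj hm (hb1 _ (key u hu))
    · have e : m * b * m⁻¹ * u * (m * b * m⁻¹)⁻¹ = m * (b * (m⁻¹ * u * m) * b⁻¹) * m⁻¹ := by group
      rw [e, hb2 _ (key0 u hu)]
      group
  · rintro b ⟨hb, hb1, hb2⟩ u hu
    set c := b * u * b⁻¹ * u⁻¹ with hc
    have h1 : c ∈ D.U0 := hb1 u hu
    have e1 : b * u * b⁻¹ = c * u := by rw [hc]; group
    have e2 : b * (b * u * b⁻¹) * b⁻¹ = u := by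
      rw [e1]
      calc b * (c * u) * b⁻¹ = (b * c * b⁻¹) * (b * u * b⁻¹) := by group
        _ = c * (c * u) := by rw [hb2 c h1, e1]
        _ = u := by rw [← mul_assoc, D.U_sq c h1.1, one_mul]
    calc b * b * u = b * (b * u * b⁻¹) * b⁻¹ * (b * b) := by group
      _ = u * (b * b) := by rw [e2]

/-- **`Δ → U / U₀` is injective** -/
theorem inj (hO : D.O2) {p c : G} (hp : p ∈ D.Δ) (hpc : p * c ∈ D.Δ) (hc : c ∈ D.U0) : c = 1 := by
  have hp' := D.Δ_le hp
  have hz := D.z_mem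
  have key : ∀ u ∈ D.U, D.t (p * c) * D.t p * u * (D.t (p * c) * D.t p)⁻¹ = u * pw c (D.φ p u) := by
    intro u hu
    have e : D.t (p * c) * D.t p * u * (D.t (p * c) * D.t p)⁻¹ =
        D.t (p * c) * (D.t p * u * (D.t p)⁻¹) * (D.t (p * c))⁻¹ := by group
    have h1 : u * pw (p * D.z) (D.φ p u) ∈ D.U := D.U.mul_mem hu (D.pw_mem (D.pz_mem hp) _)
    rw [e, D.t_act hp hu, D.t_act hpc h1, D.φ_mul_left hp hpc hc h1, D.φ_mul hp hu (D.pw_mem (D.pz_mem hp) _),
      D.φ_pw hp, D.φ_pz hp hp, D.φ_self hp, mul_zero, add_zero, mul_assoc]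
    congr 1
    rcases zmod_cases (D.φ p u) with h | h <;> rw [h]
    · rw [pw_zero, pw_zero, pw_zero, mul_one]
    · rw [pw_one, pw_one, pw_one]
      calc p * D.z * (p * c * D.z) = p * D.z * (p * (D.z * c)) := by
            rw [mul_assoc p c, D.U_comm hc.1 hz]
        _ = (p * D.z * (p * D.z)) * c := by group
        _ = c := by rw [D.pz_sq hp, one_mul]
  have hker : D.t (p * c) * D.t p ∈ D.Ker := by
    refine ⟨D.A.mul_mem (D.t_A hpc) (D.t_A hp), fun u hu => ?_, fun u hu => ?_⟩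
    · rw [key u hu]
      have h2 : pw c (D.φ p u) ∈ D.U0 := by
        rcases zmod_cases (D.φ p u) with h | h <;> rw [h]
        · rw [pw_zero]; exact D.U0.one_mem
        · rw [pw_one]; exact hc
      rw [D.U_comm hu h2.1, mul_inv_cancel_right]
      exact h2
    · rw [key u hu.1, hu.2 p hp, pw_zero, mul_one]
  obtain ⟨u, hu, h1⟩ := D.φ_ne hp
  have h2 := D.ker_comm hO hker hu
  have h3 := key u hu
  rw [h2, mul_inv_cancel_right, h1, pw_one] at h3
  exact (mul_eq_left.mp h3.symm)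

end Side

end Cfsg.Agent.Omega.HOneTwo.Trans

end

section


/-!
# II.0h1, `q = 2`, after the transvection statement: the data `TS` and the two sides

`TS G`: `z`, `C(r 0) ∩ C(z) ≤ M ≤ C(z)`, the four-group `{1, r 0, r 1, r 2}`, `Q p = O₂(C(p))`,
`C = C_G(⟨Q₁, Q₂⟩)` and the facts of #15507: (a), (b), `TS(z)`. `U = ⟨(r 0)^M⟩`, `Δ = (r 0)^M`,
`N p = gen p z = ⟨z^{C(p)}⟩`. `TS.Ms`: the side `(M, U)`, `TS.Hs`: the side `(C(r 0), N (r 0))`.
-/

set_option autoImplicit false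
set_option linter.unusedSectionVars false

namespace Cfsg.Agent.Omega.HOneTwo.Trans

open Subgroup

universe u

variable {G : Type u} [Group G]

/-- `r ^ C(z)` -/
def Delta (z r : G) : Set G := {p | ∃ m, m * z = z * m ∧ p = m * r * m⁻¹}

/-- `⟨r ^ C(z)⟩` -/
def gen (z r : G) : Subgroup G := closure (Delta z r)

/-- `r ^ M` -/
def Dl (M : Subgroup G) (r : G) : Set G := {p | ∃ m ∈ M, p = m * r * m⁻¹}

/-- `⟨r ^ M⟩` -/
def gn (M : Subgroup G) (r : G) : Subgroup G := closure (Dl M r)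

/-- the centre of `Q` -/
def zt (Q : Subgroup G) : Subgroup G := Q ⊓ centralizer (Q : Set G)

theorem mem_zt {Q : Subgroup G} {x : G} : x ∈ zt Q ↔ x ∈ Q ∧ ∀ y ∈ Q, x * y = y * x := by
  unfold zt
  rw [mem_inf, mem_centralizer_iff]
  exact ⟨fun h => ⟨h.1, fun y hy => (h.2 y hy).symm⟩, fun h => ⟨h.1, fun y hy => (h.2 y hy).symm⟩⟩

/-- the data after the transvection statement -/
structure TS (G : Type u) [Group G] where
  z : G
  M : Subgroup G
  r : Fin 3 → G
  Q : G → Subgroup G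
  C : Subgroup G
  z_sq : z * z = 1
  z_ne : z ≠ 1
  r_prod : r 0 * r 1 * r 2 = 1
  M_z : ∀ m ∈ M, m * z = z * m
  M_r : ∀ g, g * r 0 = r 0 * g → g * z = z * g → g ∈ M
  r_Δ : ∀ i, r i ∈ Dl M (r 0)
  U_sq : ∀ u ∈ gn M (r 0), u * u = 1
  Q_conj : ∀ g p x, x ∈ Q p → g * x * g⁻¹ ∈ Q (g * p * g⁻¹)
  Q_cent : ∀ x ∈ Q (r 0), x * r 0 = r 0 * x
  Q_der : ∀ x ∈ Q (r 0), ∀ y ∈ Q (r 0), x * y = y * x ∨ x * y = r 0 * (y * x)
  r_Q : ∀ i j, r i ∈ Q (r j)
  C_le : ∀ i, C ≤ zt (Q (r i))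
  le_C : ∀ i j, i ≠ j → zt (Q (r i)) ⊓ zt (Q (r j)) ≤ C
  z_C : z ∈ C
  r_C : ∀ i, r i ∉ C
  a : ∀ i j, i ≠ j → ∀ x ∈ zt (Q (r i)), x ∈ Q (r j) → x ∈ C ∨ r i * x ∈ C
  b : ∀ i j, i ≠ j → ∀ x ∈ zt (Q (r i)), ∀ y ∈ zt (Q (r j)), x * y * x⁻¹ * y⁻¹ ∈ C
  /-- `|U : U ∩ Q₁| = 2` -/
  ts_idx : ∀ u ∈ gn M (r 0), ∀ u' ∈ gn M (r 0), u ∉ Q (r 0) → u' ∉ Q (r 0) → u * u' ∈ Q (r 0)
  /-- `[U, N₁] = ⟨z r 0⟩` -/
  ts_act : ∀ u ∈ gn M (r 0), ∀ n ∈ gen (r 0) z, n * u = u * n ∨ n * u = z * r 0 * (u * n)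
  ts_ne : ∃ u ∈ gn M (r 0), ∃ n ∈ gen (r 0) z, n * u ≠ u * n
  /-- `O₂(M / C_M(U)) = 1` -/
  o2 : ∀ B : Subgroup G, B ≤ M → (∀ m ∈ M, ∀ b ∈ B, m * b * m⁻¹ ∈ B) →
    (∀ b ∈ B, ∀ u ∈ gn M (r 0), b * b * u = u * (b * b)) → ∀ b ∈ B, ∀ u ∈ gn M (r 0), b * u = u * b

/-! ### `Delta`, `gen` -/

theorem self_mem_Delta (z r : G) : r ∈ Delta z r := ⟨1, by group, by group⟩

theorem self_mem_gen (z r : G) : r ∈ gen z r := subset_closure (self_mem_Delta z r)

theorem Delta_conj {z r x : G} (g : G) (hx : x ∈ Delta z r) : g * x * g⁻¹ ∈ Delta (g * z * g⁻¹) (g * r * g⁻¹) := by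
  obtain ⟨m, hm, rfl⟩ := hx
  refine ⟨g * m * g⁻¹, ?_, by group⟩
  calc g * m * g⁻¹ * (g * z * g⁻¹) = g * (m * z) * g⁻¹ := by group
    _ = g * (z * m) * g⁻¹ := by rw [hm]
    _ = _ := by group

theorem gen_conj {z r x : G} (g : G) (hx : x ∈ gen z r) : g * x * g⁻¹ ∈ gen (g * z * g⁻¹) (g * r * g⁻¹) := by
  unfold gen at hx
  induction hx using closure_induction with
  | mem x hx => exact subset_closure (Delta_conj g hx)
  | one => rw [mul_one, mul_inv_cancel]; exact one_mem _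
  | mul x y _ _ hx hy =>
    have : g * (x * y) * g⁻¹ = (g * x * g⁻¹) * (g * y * g⁻¹) := by group
    rw [this]; exact mul_mem hx hy
  | inv x _ hx =>
    have : g * x⁻¹ * g⁻¹ = (g * x * g⁻¹)⁻¹ := by group
    rw [this]; exact inv_mem hx

/-- `Delta z r` is invariant under `C(z)` -/
theorem Delta_inv {z r x g : G} (hg : g * z = z * g) (hx : x ∈ Delta z r) : g * x * g⁻¹ ∈ Delta z r := by
  obtain ⟨m, hm, rfl⟩ := hx
  refine ⟨g * m, ?_, by group⟩
  rw [mul_assoc, hm, ← mul_assoc, hg, mul_assoc]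

theorem gen_inv {z r x g : G} (hg : g * z = z * g) (hx : x ∈ gen z r) : g * x * g⁻¹ ∈ gen z r := by
  unfold gen at hx
  induction hx using closure_induction with
  | mem x hx => exact subset_closure (Delta_inv hg hx)
  | one => rw [mul_one, mul_inv_cancel]; exact one_mem _
  | mul x y _ _ hx hy =>
    have : g * (x * y) * g⁻¹ = (g * x * g⁻¹) * (g * y * g⁻¹) := by group
    rw [this]; exact mul_mem hx hy
  | inv x _ hx =>
    have : g * x⁻¹ * g⁻¹ = (g * x * g⁻¹)⁻¹ := by group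
    rw [this]; exact inv_mem hx

theorem conj_of_comm {g x : G} (h : g * x = x * g) : g * x * g⁻¹ = x := by rw [h, mul_inv_cancel_right]

theorem comm_of_conj {g x : G} (h : g * x * g⁻¹ = x) : g * x = x * g := by
  rw [mul_inv_eq_iff_eq_mul] at h; exact h

theorem inv_comm {g x : G} (h : g * x = x * g) : g⁻¹ * x = x * g⁻¹ := by
  rw [inv_mul_eq_iff_eq_mul, ← mul_assoc, h, mul_inv_cancel_right]

theorem inv_conj {g x : G} {X : Subgroup G} (h : ∀ y ∈ X, g⁻¹ * y * g⁻¹⁻¹ ∈ X) (hx : x ∈ X) : g⁻¹ * x * g ∈ X := by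
  have := h x hx
  rwa [inv_inv] at this

theorem Delta_inv' {z r x g : G} (hg : g * z = z * g) (hx : x ∈ Delta z r) : g⁻¹ * x * g ∈ Delta z r := by
  have := Delta_inv (inv_comm hg) hx
  rwa [inv_inv] at this

theorem gen_inv' {z r x g : G} (hg : g * z = z * g) (hx : x ∈ gen z r) : g⁻¹ * x * g ∈ gen z r := by
  have := gen_inv (inv_comm hg) hx
  rwa [inv_inv] at this

/-! ### `Dl`, `gn` -/

theorem self_mem_Dl (M : Subgroup G) (r : G) : r ∈ Dl M r := ⟨1, M.one_mem, by group⟩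

theorem self_mem_gn (M : Subgroup G) (r : G) : r ∈ gn M r := subset_closure (self_mem_Dl M r)

theorem Dl_inv {M : Subgroup G} {r x g : G} (hg : g ∈ M) (hx : x ∈ Dl M r) : g * x * g⁻¹ ∈ Dl M r := by
  obtain ⟨m, hm, rfl⟩ := hx
  exact ⟨g * m, mul_mem hg hm, by group⟩

theorem gn_inv {M : Subgroup G} {r x g : G} (hg : g ∈ M) (hx : x ∈ gn M r) : g * x * g⁻¹ ∈ gn M r := by
  unfold gn at hx
  induction hx using closure_induction with
  | mem x hx => exact subset_closure (Dl_inv hg hx)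
  | one => rw [mul_one, mul_inv_cancel]; exact one_mem _
  | mul x y _ _ hx hy =>
    have : g * (x * y) * g⁻¹ = (g * x * g⁻¹) * (g * y * g⁻¹) := by group
    rw [this]; exact mul_mem hx hy
  | inv x _ hx =>
    have : g * x⁻¹ * g⁻¹ = (g * x * g⁻¹)⁻¹ := by group
    rw [this]; exact inv_mem hx

theorem Dl_inv' {M : Subgroup G} {r x g : G} (hg : g ∈ M) (hx : x ∈ Dl M r) : g⁻¹ * x * g ∈ Dl M r := by
  have := Dl_inv (inv_mem hg) hx
  rwa [inv_inv] at this

theorem gn_inv' {M : Subgroup G} {r x g : G} (hg : g ∈ M) (hx : x ∈ gn M r) : g⁻¹ * x * g ∈ gn M r := by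
  have := gn_inv (inv_mem hg) hx
  rwa [inv_inv] at this

namespace TS

variable (D : TS G)

/-- `U` -/
abbrev U : Subgroup G := gn D.M (D.r 0)

/-- `Δ` -/
abbrev Δ : Set G := Dl D.M (D.r 0)

theorem U_comm {u v : G} (hu : u ∈ D.U) (hv : v ∈ D.U) : u * v = v * u := by
  have h1 := D.U_sq _ (D.U.mul_mem hu hv)
  have h2 := D.U_sq u hu
  have h3 := D.U_sq v hv
  calc u * v = u * (u * v * (u * v)) * v := by rw [h1, mul_one]
    _ = (u * u) * (v * u) * (v * v) := by group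
    _ = v * u := by rw [h2, h3, one_mul, mul_one]

theorem r_mem (i : Fin 3) : D.r i ∈ D.U := subset_closure (D.r_Δ i)

theorem Q_conj' {g p x : G} (hg : g * p = p * g) (hx : x ∈ D.Q p) : g * x * g⁻¹ ∈ D.Q p := by
  have := D.Q_conj g p x hx
  rwa [conj_of_comm hg] at this

theorem zt_conj {g p x : G} (hx : x ∈ zt (D.Q p)) : g * x * g⁻¹ ∈ zt (D.Q (g * p * g⁻¹)) := by
  rw [mem_zt] at hx ⊢
  refine ⟨D.Q_conj g p x hx.1, fun y hy => ?_⟩
  have h1 := D.Q_conj g⁻¹ _ y hy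
  have e : g⁻¹ * (g * p * g⁻¹) * g⁻¹⁻¹ = p := by group
  rw [e] at h1
  have h2 := hx.2 _ h1
  calc g * x * g⁻¹ * y = g * (x * (g⁻¹ * y * g⁻¹⁻¹)) * g⁻¹ := by group
    _ = g * (g⁻¹ * y * g⁻¹⁻¹ * x) * g⁻¹ := by rw [h2]
    _ = y * (g * x * g⁻¹) := by group

theorem zt_conj' {g p x : G} (hg : g * p = p * g) (hx : x ∈ zt (D.Q p)) : g * x * g⁻¹ ∈ zt (D.Q p) := by
  have := D.zt_conj (g := g) hx
  rwa [conj_of_comm hg] at this

theorem z_zt (i : Fin 3) : D.z ∈ zt (D.Q (D.r i)) := D.C_le i D.z_C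

theorem N_le_zt (i : Fin 3) : gen (D.r i) D.z ≤ zt (D.Q (D.r i)) := by
  unfold gen
  rw [closure_le]
  rintro x ⟨m, hm, rfl⟩
  exact D.zt_conj' hm (D.z_zt i)

/-- elements of `Q₁` centralise `z` -/
theorem Q_z {x : G} (hx : x ∈ D.Q (D.r 0)) : x * D.z = D.z * x := ((mem_zt.1 (D.z_zt 0)).2 x hx).symm

/-- `Q₁ ≤ M` -/
theorem Q_M {x : G} (hx : x ∈ D.Q (D.r 0)) : x ∈ D.M := D.M_r x (D.Q_cent x hx) (D.Q_z hx)

theorem N_z {n : G} (hn : n ∈ gen (D.r 0) D.z) : n * D.z = D.z * n := D.Q_z (mem_zt.1 (D.N_le_zt 0 hn)).1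

theorem N_M {n : G} (hn : n ∈ gen (D.r 0) D.z) : n ∈ D.M := D.Q_M (mem_zt.1 (D.N_le_zt 0 hn)).1

theorem zr_mem : D.z * D.r 0 ∈ D.U := by
  obtain ⟨u, hu, n, hn, hne⟩ := D.ts_ne
  have h1 := (D.ts_act u hu n hn).resolve_left hne
  have h2 : n * u * n⁻¹ ∈ D.U := gn_inv (D.N_M hn) hu
  have h3 : n * u * n⁻¹ * u⁻¹ = D.z * D.r 0 := by rw [h1]; group
  rw [← h3]
  exact mul_mem h2 (inv_mem hu)

theorem z_mem : D.z ∈ D.U := by
  have h1 := mul_mem D.zr_mem (inv_mem (D.r_mem 0))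
  rwa [mul_inv_cancel_right] at h1

theorem z_r : D.z * D.r 0 = D.r 0 * D.z := D.U_comm D.z_mem (D.r_mem 0)

/-- `U ≤ C(r 0)` -/
theorem U_r {u : G} (hu : u ∈ D.U) : u * D.r 0 = D.r 0 * u := D.U_comm hu (D.r_mem 0)

theorem U_z {u : G} (hu : u ∈ D.U) : u * D.z = D.z * u := D.U_comm hu D.z_mem

theorem zr_sq : D.z * D.r 0 * (D.z * D.r 0) = 1 := D.U_sq _ D.zr_mem

theorem r_sq (i : Fin 3) : D.r i * D.r i = 1 := D.U_sq _ (D.r_mem i)

/-- `r 0 ∈ N₁` -/
theorem r_mem_N : D.r 0 ∈ gen (D.r 0) D.z := by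
  obtain ⟨u, hu, n, hn, hne⟩ := D.ts_ne
  have h1 := (D.ts_act u hu n hn).resolve_left hne
  have h2 : u * n * u⁻¹ ∈ gen (D.r 0) D.z := gen_inv (D.U_r hu) hn
  have h3 : n * (u * n * u⁻¹)⁻¹ = D.z * D.r 0 := by
    calc n * (u * n * u⁻¹)⁻¹ = n * u * (u * n)⁻¹ := by group
      _ = D.z * D.r 0 := by rw [h1]; group
  have h4 := mul_mem hn (inv_mem h2)
  rw [h3] at h4
  have h5 := mul_mem (inv_mem (self_mem_gen (D.r 0) D.z)) h4
  rwa [inv_mul_cancel_left] at h5

/-- noncommuting `u ∈ U`, `n ∈ N₁` -/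
theorem key_act {n : G} (hn : n ∈ gen (D.r 0) D.z) {v : G} (hv : v ∈ D.U) (hnv : n * v ≠ v * n) {u : G}
    (hu : u ∈ D.U) : (u ∈ D.Q (D.r 0) → n * u = u * n) ∧ (u ∉ D.Q (D.r 0) → n * u = D.z * D.r 0 * (u * n)) := by
  have hz := mem_zt.1 (D.N_le_zt 0 hn)
  refine ⟨fun h => hz.2 u h, fun h => ?_⟩
  have hvQ : v ∉ D.Q (D.r 0) := fun h' => hnv (hz.2 v h')
  have h1 := hz.2 _ (D.ts_idx u hu v hv h hvQ)
  rcases D.ts_act u hu n hn with h2 | h2
  · exfalso
    apply hnv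
    apply mul_left_cancel (a := u)
    calc u * (n * v) = n * (u * v) := by rw [← mul_assoc, ← h2, mul_assoc]
      _ = u * (v * n) := by rw [h1, mul_assoc]
  · exact h2

theorem N_sq {n : G} (hn : n ∈ gen (D.r 0) D.z) : n * n = 1 := by
  have hab : ∀ x ∈ gen (D.r 0) D.z, ∀ y ∈ gen (D.r 0) D.z, x * y = y * x := by
    intro x hx y hy
    exact (mem_zt.1 (D.N_le_zt 0 hx)).2 y (mem_zt.1 (D.N_le_zt 0 hy)).1
  unfold gen at hn
  induction hn using closure_induction with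
  | mem x hx =>
    obtain ⟨m, -, rfl⟩ := hx
    calc m * D.z * m⁻¹ * (m * D.z * m⁻¹) = m * (D.z * D.z) * m⁻¹ := by group
      _ = 1 := by rw [D.z_sq]; group
  | one => exact mul_one 1
  | mul x y hx hy hx' hy' =>
    calc x * y * (x * y) = x * (y * x) * y := by group
      _ = (x * x) * (y * y) := by rw [hab y hy x hx]; group
      _ = 1 := by rw [hx', hy', mul_one]
  | inv x _ hx =>
    calc x⁻¹ * x⁻¹ = (x * x)⁻¹ := by group
      _ = 1 := by rw [hx, inv_one]

/-! ### The side of `M` -/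

theorem m_z {m : G} (hm : m ∈ D.M) : m * D.z * m⁻¹ = D.z := conj_of_comm (D.M_z m hm)

theorem m_z' {m : G} (hm : m ∈ D.M) : m⁻¹ * D.z * m⁻¹⁻¹ = D.z := conj_of_comm (inv_comm (D.M_z m hm))

/-- the side `(M, U)` -/
def Ms : Side G where
  A := D.M
  U := D.U
  Δ := D.Δ
  z := D.z
  N p := gen p D.z
  K p := D.Q p
  U_sq := D.U_sq
  U_conj := fun _ hm _ hu => gn_inv hm hu
  Δ_gen := rfl
  Δ_conj := fun _ hm _ hu => Dl_inv hm hu
  z_mem := D.z_mem
  z_comm := D.M_z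
  N_le := by
    rintro p ⟨m, hm, rfl⟩ n hn
    have h1 := gen_conj m⁻¹ hn
    have e : m⁻¹ * (m * D.r 0 * m⁻¹) * m⁻¹⁻¹ = D.r 0 := by group
    rw [e, D.m_z' hm, inv_inv] at h1
    have h2 := D.N_M h1
    have e2 : n = m * (m⁻¹ * n * m) * m⁻¹ := by group
    rw [e2]
    exact mul_mem (mul_mem hm h2) (inv_mem hm)
  N_conj := by
    intro m hm p _ n hn
    have h1 := gen_conj m hn
    rwa [D.m_z hm] at h1
  act := by
    rintro p ⟨m, hm, rfl⟩ n hn
    have h1 := gen_conj m⁻¹ hn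
    have e : m⁻¹ * (m * D.r 0 * m⁻¹) * m⁻¹⁻¹ = D.r 0 := by group
    rw [e, D.m_z' hm, inv_inv] at h1
    by_cases hall : ∀ v ∈ D.U, (m⁻¹ * n * m) * v = v * (m⁻¹ * n * m)
    · left
      intro u hu
      have h2 := hall _ (gn_inv' hm hu)
      have h3 : n * u = u * n := by
        calc n * u = m * ((m⁻¹ * n * m) * (m⁻¹ * u * m)) * m⁻¹ := by group
          _ = u * n := by rw [h2]; group
      exact conj_of_comm h3
    · right
      push Not at hall
      obtain ⟨v, hv, hnv⟩ := hall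
      intro u hu
      have hu' := gn_inv' hm hu
      obtain ⟨k1, k2⟩ := D.key_act h1 hv hnv hu'
      have hQ : u ∈ D.Q (m * D.r 0 * m⁻¹) ↔ m⁻¹ * u * m ∈ D.Q (D.r 0) := by
        constructor
        · intro h
          have := D.Q_conj m⁻¹ _ _ h
          rwa [e, inv_inv] at this
        · intro h
          have := D.Q_conj m _ _ h
          have e3 : m * (m⁻¹ * u * m) * m⁻¹ = u := by group
          rwa [e3] at this
      refine ⟨fun h => ?_, fun h => ?_⟩
      · have h2 := k1 (hQ.1 h)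
        have h3 : n * u = u * n := by
          calc n * u = m * ((m⁻¹ * n * m) * (m⁻¹ * u * m)) * m⁻¹ := by group
            _ = u * n := by rw [h2]; group
        exact conj_of_comm h3
      · have h2 := k2 fun h' => h (hQ.2 h')
        have hp : m * D.r 0 * m⁻¹ ∈ D.U := subset_closure ⟨m, hm, rfl⟩
        have h3 : n * u = (m * D.r 0 * m⁻¹) * D.z * (u * n) := by
          calc n * u = m * ((m⁻¹ * n * m) * (m⁻¹ * u * m)) * m⁻¹ := by group
            _ = (m * D.z * m⁻¹) * (m * D.r 0 * m⁻¹) * (u * n) := by rw [h2]; group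
            _ = _ := by rw [D.m_z hm, D.U_comm D.z_mem hp]
        rw [h3, D.U_comm hu (mul_mem hp D.z_mem)]
        group
  exN := by
    rintro p ⟨m, hm, rfl⟩
    obtain ⟨u, hu, n, hn, hne⟩ := D.ts_ne
    have h1 := gen_conj m hn
    rw [D.m_z hm] at h1
    refine ⟨_, h1, m * u * m⁻¹, gn_inv hm hu, fun h => hne ?_⟩
    have h2 := comm_of_conj h
    calc n * u = m⁻¹ * (m * n * m⁻¹ * (m * u * m⁻¹)) * m := by group
      _ = u * n := by rw [h2]; group
  zK := by
    rintro p ⟨m, hm, rfl⟩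
    have := D.Q_conj m _ _ (mem_zt.1 (D.z_zt 0)).1
    rwa [D.m_z hm] at this
  pK := by
    rintro p ⟨m, hm, rfl⟩
    exact D.Q_conj m _ _ (D.r_Q 0 0)

theorem Ms_O2 : D.Ms.O2 := D.o2

/-! ### The side of `H = C(r 0)` -/

/-- `U_y = U^h` for `y = z^h`, `h ∈ C(r 0)` -/
def Uy (y : G) : Subgroup G where
  carrier := {x | ∀ h, h * D.r 0 = D.r 0 * h → h * D.z * h⁻¹ = y → h⁻¹ * x * h ∈ D.U}
  one_mem' := by
    intro h _ _
    rw [mul_one, inv_mul_cancel]
    exact one_mem _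
  mul_mem' := by
    intro a b ha hb h h1 h2
    have e : h⁻¹ * (a * b) * h = (h⁻¹ * a * h) * (h⁻¹ * b * h) := by group
    rw [e]
    exact mul_mem (ha h h1 h2) (hb h h1 h2)
  inv_mem' := by
    intro a ha h h1 h2
    have e : h⁻¹ * a⁻¹ * h = (h⁻¹ * a * h)⁻¹ := by group
    rw [e]
    exact inv_mem (ha h h1 h2)

theorem mem_Uy {h : G} (hh : h * D.r 0 = D.r 0 * h) {x : G} : x ∈ D.Uy (h * D.z * h⁻¹) ↔ h⁻¹ * x * h ∈ D.U := by
  constructor
  · intro hx
    exact hx h hh rfl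
  · intro hx k hk e
    have h1 : k⁻¹ * h ∈ D.M := by
      apply D.M_r
      · rw [mul_assoc, hh, ← mul_assoc, inv_comm hk, mul_assoc]
      · have h2 : k⁻¹ * h * D.z * (k⁻¹ * h)⁻¹ = D.z := by
          calc k⁻¹ * h * D.z * (k⁻¹ * h)⁻¹ = k⁻¹ * (h * D.z * h⁻¹) * k := by group
            _ = D.z := by rw [← e]; group
        exact comm_of_conj h2
    have h2 := gn_inv h1 hx
    have e2 : k⁻¹ * h * (h⁻¹ * x * h) * (k⁻¹ * h)⁻¹ = k⁻¹ * x * k := by group
    rwa [e2] at h2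

theorem Uy_z : D.Uy D.z = D.U := by
  ext x
  have h1 := D.mem_Uy (h := 1) (x := x) (by rw [one_mul, mul_one])
  rw [one_mul, inv_one, mul_one, one_mul, mul_one] at h1
  exact h1

theorem Uy_conj {k y x : G} (hk : k * D.r 0 = D.r 0 * k) (hx : x ∈ D.Uy y) :
    k * x * k⁻¹ ∈ D.Uy (k * y * k⁻¹) := by
  intro h hh e
  have h1 := hx (k⁻¹ * h) (by rw [mul_assoc, hh, ← mul_assoc, inv_comm hk, mul_assoc]) (by
    calc k⁻¹ * h * D.z * (k⁻¹ * h)⁻¹ = k⁻¹ * (h * D.z * h⁻¹) * k := by group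
      _ = y := by rw [e]; group)
  have e2 : (k⁻¹ * h)⁻¹ * x * (k⁻¹ * h) = h⁻¹ * (k * x * k⁻¹) * h := by group
  rwa [e2] at h1

theorem Uy_conj' {k y x : G} (hk : k * D.r 0 = D.r 0 * k) (hy : k * y = y * k) (hx : x ∈ D.Uy y) :
    k * x * k⁻¹ ∈ D.Uy y := by
  have := D.Uy_conj hk hx
  rwa [conj_of_comm hy] at this

theorem Uy_le {h : G} (hh : h * D.r 0 = D.r 0 * h) {x : G} (hx : x ∈ D.Uy (h * D.z * h⁻¹)) :
    h⁻¹ * x * h ∈ D.U := (D.mem_Uy hh).1 hx

theorem Uy_r {h : G} (hh : h * D.r 0 = D.r 0 * h) {x : G} (hx : x ∈ D.Uy (h * D.z * h⁻¹)) :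
    x * D.r 0 = D.r 0 * x := by
  have h1 := D.U_r (D.Uy_le hh hx)
  calc x * D.r 0 = h * ((h⁻¹ * x * h) * (h⁻¹ * D.r 0 * h⁻¹⁻¹)) * h⁻¹ := by group
    _ = h * (D.r 0 * (h⁻¹ * x * h)) * h⁻¹ := by rw [conj_of_comm (inv_comm hh), h1]
    _ = (h * D.r 0 * h⁻¹) * x := by group
    _ = D.r 0 * x := by rw [conj_of_comm hh]

theorem y_r {h : G} (hh : h * D.r 0 = D.r 0 * h) : h * D.z * h⁻¹ * D.r 0 = D.r 0 * (h * D.z * h⁻¹) := by
  calc h * D.z * h⁻¹ * D.r 0 = h * (D.z * (h⁻¹ * D.r 0 * h⁻¹⁻¹)) * h⁻¹ := by group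
    _ = h * (D.r 0 * D.z) * h⁻¹ := by rw [conj_of_comm (inv_comm hh), D.z_r]
    _ = (h * D.r 0 * h⁻¹) * (h * D.z * h⁻¹) := by group
    _ = _ := by rw [conj_of_comm hh]

/-- the side `(C(r 0), N₁)` -/
def Hs : Side G where
  A := centralizer {D.r 0}
  U := gen (D.r 0) D.z
  Δ := Delta (D.r 0) D.z
  z := D.r 0
  N y := D.Uy y
  K y := centralizer (D.Uy y : Set G)
  U_sq := fun _ h => D.N_sq h
  U_conj := by
    intro m hm u hu
    exact gen_inv (mem_centralizer_singleton_iff.1 hm) hu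
  Δ_gen := rfl
  Δ_conj := by
    intro m hm u hu
    exact Delta_inv (mem_centralizer_singleton_iff.1 hm) hu
  z_mem := D.r_mem_N
  z_comm := fun m hm => mem_centralizer_singleton_iff.1 hm
  N_le := by
    rintro y ⟨h, hh, rfl⟩ n hn
    rw [mem_centralizer_singleton_iff]
    exact D.Uy_r hh hn
  N_conj := by
    intro m hm p _ n hn
    exact D.Uy_conj (mem_centralizer_singleton_iff.1 hm) hn
  act := by
    rintro y ⟨h, hh, rfl⟩ x hx
    -- `x' = x ^ h ∈ U`
    have hx' := D.Uy_le hh hx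
    have conj_iff : ∀ n : G, (h⁻¹ * x * h) * (h⁻¹ * n * h) = (h⁻¹ * n * h) * (h⁻¹ * x * h) → x * n = n * x := by
      intro n hn
      calc x * n = h * ((h⁻¹ * x * h) * (h⁻¹ * n * h)) * h⁻¹ := by group
        _ = n * x := by rw [hn]; group
    by_cases hxQ : h⁻¹ * x * h ∈ D.Q (D.r 0)
    · left
      intro n hn
      have hn' := gen_inv' hh hn
      apply conj_of_comm
      apply conj_iff
      exact ((mem_zt.1 (D.N_le_zt 0 hn')).2 _ hxQ).symm
    · right
      intro n hn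
      have hn' := gen_inv' hh hn
      refine ⟨fun hK => ?_, fun hK => ?_⟩
      · exact conj_of_comm (mem_centralizer_iff.1 hK x hx)
      · -- `n` does not commute with all of `U_y`
        obtain ⟨v, hv, hnv⟩ : ∃ v ∈ D.U, (h⁻¹ * n * h) * v ≠ v * (h⁻¹ * n * h) := by
          by_contra hcon
          push Not at hcon
          apply hK
          rw [mem_centralizer_iff]
          intro w hw
          have h1 := hcon _ (D.Uy_le hh hw)
          calc w * n = h * ((h⁻¹ * w * h) * (h⁻¹ * n * h)) * h⁻¹ := by group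
            _ = n * w := by rw [← h1]; group
        have h2 := (D.key_act hn' hv hnv hx').2 hxQ
        -- `n' x' = z r₀ x' n'`
        have h3 : (h⁻¹ * x * h) * (h⁻¹ * n * h) = D.z * D.r 0 * ((h⁻¹ * n * h) * (h⁻¹ * x * h)) := by
          rw [h2, ← mul_assoc (D.z * D.r 0), D.zr_sq, one_mul]
        have h4 : D.z * D.r 0 * (h⁻¹ * n * h) = (h⁻¹ * n * h) * (D.z * D.r 0) := by
          have h5 := mul_mem (self_mem_gen (D.r 0) D.z) D.r_mem_N
          exact (mem_zt.1 (D.N_le_zt 0 h5)).2 _ (mem_zt.1 (D.N_le_zt 0 hn')).1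
        calc x * n * x⁻¹ = h * ((h⁻¹ * x * h) * (h⁻¹ * n * h)) * h⁻¹ * x⁻¹ := by group
          _ = h * ((h⁻¹ * n * h) * (D.z * D.r 0) * (h⁻¹ * x * h)) * h⁻¹ * x⁻¹ := by
              rw [h3, ← h4]; group
          _ = n * ((h * D.z * h⁻¹) * (h * D.r 0 * h⁻¹)) := by group
          _ = n * ((h * D.z * h⁻¹) * D.r 0) := by rw [conj_of_comm hh]
  exN := by
    rintro y ⟨h, hh, rfl⟩
    obtain ⟨u, hu, n, hn, hne⟩ := D.ts_ne
    have h1 : h * u * h⁻¹ ∈ D.Uy (h * D.z * h⁻¹) := by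
      rw [D.mem_Uy hh]
      have e : h⁻¹ * (h * u * h⁻¹) * h = u := by group
      rwa [e]
    refine ⟨_, h1, h * n * h⁻¹, gen_inv hh hn, fun h' => hne ?_⟩
    have h2 := comm_of_conj h'
    calc n * u = h⁻¹ * (h * n * h⁻¹ * (h * u * h⁻¹)) * h := by group
      _ = u * n := by rw [← h2]; group
  zK := by
    rintro y ⟨h, hh, rfl⟩
    rw [mem_centralizer_iff]
    intro x hx
    exact D.Uy_r hh hx
  pK := by
    rintro y ⟨h, hh, rfl⟩
    rw [mem_centralizer_iff]
    intro x hx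
    have h1 := D.U_z (D.Uy_le hh hx)
    calc x * (h * D.z * h⁻¹) = h * ((h⁻¹ * x * h) * D.z) * h⁻¹ := by group
      _ = h * D.z * h⁻¹ * x := by rw [h1]; group

end TS

end Cfsg.Agent.Omega.HOneTwo.Trans

end
end

-- part: Mrg/Omega/NOThreeL/RRed/TvBlk
section
prune_inst 0x30306544756202000018000212001e62fa00050200080000f1600c060dcf3c61ad402021fa100f0208809cc478300060025c0090400000000a003000411b00a0800042049348a3044e008f802882000000000000000000000000000000041000000000000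
set_option linter.all false
open scoped Cfsg.Agent.FastGrp

section


/-!
# The block theorem for transvections over `𝔽₂` (#18552 (c), helper930): combinatorial part

`V` an `𝔽₂`-space, `R` a set of pairs `p = (c, f)`, `f c = 0` (think of the transvections `x ↦ x + f x • c` of a
group), `B p q = p.2 q.1`.

* `Sys0 R` : `R` is closed under conjugation and a commuting family of independent members of `R` has independent
  axes (no over-offenders); `Sys0.sym` : `B p q = B q p`;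
* `Sys R` : moreover members with the same centre are equal, no member commutes with all others, and a functional which
  vanishes on the centres and on `C_V(F)` for a commuting family `F` is zero;
* `Star R K` : a maximal set of pairwise non-commuting members of `R` which does not contain the sum of two of its
  members; `cl K = K ∪ {k + k'}`; `Star.closed` : `cl K` is a connected component; `Star.even` : `|K|` is even.
-/

set_option autoImplicit false

namespace Cfsg.Agent.Omega.NOThreeL.RRed.TvBlk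

open Cfsg.Agent.Omega.Transv

variable {V : Type*} [AddCommGroup V] [Module (ZMod 2) V]

/-- pairs (centre, axis) -/
abbrev W (V : Type*) [AddCommGroup V] [Module (ZMod 2) V] : Type _ := V × Du V

/-- the pairing -/
def B (p q : W V) : ZMod 2 := p.2 q.1

theorem B_add_left (p p' q : W V) : B (p + p') q = B p q + B p' q := rfl

theorem B_add_right (p q q' : W V) : B p (q + q') = B p q + B p q' := by
  simp [B]

theorem W_add_self (p : W V) : p + p = 0 := add_self p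

theorem W_add_cancel {p q r : W V} (h : p + q = r) : p = r + q := by
  rw [← h, add_assoc, add_self, add_zero]

/-- The combinatorial hypotheses, first part. -/
structure Sys0 (R : Set (W V)) : Prop where
  ne1 : ∀ p ∈ R, p.1 ≠ 0
  ne2 : ∀ p ∈ R, p.2 ≠ 0
  self : ∀ p ∈ R, B p p = 0
  conj : ∀ p ∈ R, ∀ q ∈ R, (q.1 + B p q • p.1, q.2 + B q p • p.2) ∈ R
  ex : ∀ (n : ℕ) (p : Fin n → W V), (∀ i, p i ∈ R) → (∀ i j, B (p i) (p j) = 0) →
    (∀ a : Fin n → ZMod 2, (∀ x, ∑ i, a i • (p i).2 x • (p i).1 = 0) → a = 0) →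
    ∀ a : Fin n → ZMod 2, ∑ i, a i • (p i).2 = 0 → a = 0

/-- The combinatorial hypotheses. -/
structure Sys (R : Set (W V)) : Prop extends Sys0 R where
  uf : ∀ p ∈ R, ∀ q ∈ R, p.1 = q.1 → p = q
  nd : ∀ p ∈ R, ∃ q ∈ R, B p q ≠ 0
  gen : ∀ (n : ℕ) (p : Fin n → W V), (∀ i, p i ∈ R) → (∀ i j, B (p i) (p j) = 0) →
    ∀ h : Du V, (∀ q ∈ R, h q.1 = 0) → (∀ v, (∀ i, (p i).2 v = 0) → h v = 0) → h = 0

namespace Sys0

variable {R : Set (W V)} (h : Sys0 R)
include h

/-- two members with the same axis are equal -/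
theorem axis {p q : W V} (hp : p ∈ R) (hq : q ∈ R) (he : p.2 = q.2) : p = q := by
  by_contra hne
  have hc : p.1 ≠ q.1 := fun hc => hne (Prod.ext hc he)
  have hpq : B p q = 0 := by
    show p.2 q.1 = 0
    rw [he]; exact h.self q hq
  have hqp : B q p = 0 := by
    show q.2 p.1 = 0
    rw [← he]; exact h.self p hp
  obtain ⟨x, hx⟩ := exists_one (h.ne2 p hp)
  have hx' : q.2 x = 1 := by rw [← he]; exact hx
  have key := h.ex 2 ![p, q] (by intro i; fin_cases i <;> simp [hp, hq])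
    (by intro i j; fin_cases i <;> fin_cases j <;> simp [hpq, hqp, h.self p hp, h.self q hq]) (by
      intro a ha
      have h1 := ha x
      rw [Fin.sum_univ_two] at h1
      simp only [Matrix.cons_val_zero, Matrix.cons_val_one, hx, hx', one_smul] at h1
      rcases zmod_cases (a 0) with h0 | h0 <;> rcases zmod_cases (a 1) with h2 | h2
      · ext i; fin_cases i <;> simp [h0, h2]
      · rw [h0, h2, zero_smul, one_smul, zero_add] at h1; exact absurd h1 (h.ne1 q hq)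
      · rw [h0, h2, zero_smul, one_smul, add_zero] at h1; exact absurd h1 (h.ne1 p hp)
      · rw [h0, h2, one_smul, one_smul] at h1; exact absurd (eq_of_add h1) hc)
    (fun _ => 1) (by
      rw [Fin.sum_univ_two]
      simp only [Matrix.cons_val_zero, Matrix.cons_val_one, one_smul, he]
      exact add_self _)
  have := congrFun key 0
  exact one_ne this

theorem sym_aux {p q : W V} (hp : p ∈ R) (hq : q ∈ R) (h1 : B p q = 1) : B q p = 1 := by
  by_contra hne
  have h0 : B q p = 0 := eq_zero_of_ne hne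
  have h2 := h.conj p hp q hq
  rw [h1, h0, one_smul, zero_smul, add_zero] at h2
  have h3 := h.axis hq h2 rfl
  have h4 : q.1 = q.1 + p.1 := congrArg Prod.fst h3
  exact h.ne1 p hp (by simpa using h4)

/-- the pairing is symmetric -/
theorem sym {p q : W V} (hp : p ∈ R) (hq : q ∈ R) : B p q = B q p := by
  rcases zmod_cases (B p q) with h0 | h1
  · rcases zmod_cases (B q p) with h2 | h2
    · rw [h0, h2]
    · have := h.sym_aux hq hp h2
      rw [h0] at this
      exact absurd this.symm one_ne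
  · rw [h1, h.sym_aux hp hq h1]

theorem add_mem {p q : W V} (hp : p ∈ R) (hq : q ∈ R) (h1 : B p q ≠ 0) : p + q ∈ R := by
  have h1' : B p q = 1 := eq_one_of_ne h1
  have h2 : B q p = 1 := h.sym_aux hp hq h1'
  have h3 := h.conj q hq p hp
  rw [h1', h2, one_smul, one_smul] at h3
  exact h3

theorem ne_zero {p : W V} (hp : p ∈ R) : p ≠ 0 := fun h0 => h.ne1 p hp (by rw [h0]; rfl)

end Sys0

namespace Sys

variable {R : Set (W V)} (h : Sys R)
include h

/-- three different pairwise commuting members do not all fail to commute with `b` -/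
theorem no_triple {b p q r : W V} (hb : b ∈ R) (hp : p ∈ R) (hq : q ∈ R) (hr : r ∈ R) (bp : B b p = 1)
    (bq : B b q = 1) (br : B b r = 1) (pq : B p q = 0) (pr : B p r = 0) (qr : B q r = 0) (npq : p ≠ q) (npr : p ≠ r)
    (nqr : q ≠ r) : False := by
  have pb : B p b = 1 := h.sym_aux hb hp bp
  have qb : B q b = 1 := h.sym_aux hb hq bq
  have rb : B r b = 1 := h.sym_aux hb hr br
  have qp : B q p = 0 := by rw [← h.sym hp hq]; exact pq
  have rp : B r p = 0 := by rw [← h.sym hp hr]; exact pr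
  have rq : B r q = 0 := by rw [← h.sym hq hr]; exact qr
  have bb := h.self b hb
  have pp := h.self p hp
  have qq := h.self q hq
  have rr := h.self r hr
  have s1 : b + p ∈ R := h.add_mem hb hp (by rw [bp]; exact one_ne)
  have s2 : b + p + q ∈ R := h.add_mem s1 hq (by rw [B_add_left, bq, pq, add_zero]; exact one_ne)
  have s3 : b + p + q + r ∈ R :=
    h.add_mem s2 hr (by rw [B_add_left, B_add_left, br, pr, qr, add_zero, add_zero]; exact one_ne)
  have s4 : b + (b + p + q + r) ∈ R := h.add_mem hb s3 (by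
    rw [B_add_right, B_add_right, B_add_right, bb, bp, bq, br]; decide)
  have e4 : b + (b + p + q + r) = p + q + r := by
    have : b + (b + p + q + r) = (b + b) + (p + q + r) := by abel
    rw [this, W_add_self, zero_add]
  rw [e4] at s4
  set s := p + q + r with hs
  -- a vector with prescribed values of three functionals
  have dual : ∀ p q r : W V, p ∈ R → q ∈ R → r ∈ R → B p b = 1 → B q b = 1 → B r b = 1 → p ≠ q → p ≠ r →
      ∃ x, p.2 x = 1 ∧ q.2 x = 0 ∧ r.2 x = 0 := by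
    intro p q r hp hq hr pb qb rb npq npr
    by_contra hc
    push Not at hc
    have h1 : ⨅ i, LinearMap.ker ((![q.2, r.2] : Fin 2 → Du V) i) ≤ LinearMap.ker p.2 := by
      intro x hx
      rw [Submodule.mem_iInf] at hx
      have hx0 : q.2 x = 0 := hx 0
      have hx1 : r.2 x = 0 := hx 1
      rw [LinearMap.mem_ker]
      by_contra hne
      exact hc x (eq_one_of_ne hne) hx0 hx1
    have h2 := mem_span_of_iInf_ker_le_ker h1
    rw [Submodule.mem_span_range_iff_exists_fun] at h2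
    obtain ⟨c, hc2⟩ := h2
    rw [Fin.sum_univ_two] at hc2
    simp only [Matrix.cons_val_zero, Matrix.cons_val_one] at hc2
    have h3 : c 0 + c 1 = 1 := by
      have := congrArg (fun f : Du V => f b.1) hc2
      simp only [LinearMap.add_apply, LinearMap.smul_apply, smul_eq_mul] at this
      have e1 : q.2 b.1 = 1 := qb
      have e2 : r.2 b.1 = 1 := rb
      have e3 : p.2 b.1 = 1 := pb
      rw [e1, e2, e3, mul_one, mul_one] at this
      exact this
    rcases zmod_cases (c 0) with h0 | h0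
    · rw [h0, zero_add] at h3
      rw [h0, h3, zero_smul, one_smul, zero_add] at hc2
      exact npr (h.axis hr hp hc2).symm
    · have h4 : c 1 = 0 := by
        rw [h0] at h3
        simpa using h3
      rw [h0, h4, zero_smul, one_smul, add_zero] at hc2
      exact npq (h.axis hq hp hc2).symm
  obtain ⟨x1, x1p, x1q, x1r⟩ := dual p q r hp hq hr pb qb rb npq npr
  obtain ⟨x2, x2q, x2p, x2r⟩ := dual q p r hq hp hr qb pb rb npq.symm nqr
  obtain ⟨x3, x3r, x3p, x3q⟩ := dual r p q hr hp hq rb pb qb npr.symm nqr.symm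
  have hs2 : ∀ x, s.2 x = p.2 x + q.2 x + r.2 x := fun x => rfl
  have hs1 : s.1 = p.1 + q.1 + r.1 := rfl
  have key := h.ex 4 ![p, q, r, s] (by intro i; (revert i; simp only [hp, hq, hr, s4, _root_.Fin.forall_fin_succ, Fin.isValue, _root_.Matrix.cons_val_zero, _root_.Matrix.cons_val_succ, _root_.Matrix.cons_val_fin_one, _root_.implies_true, _root_.and_self]))
    (by
      intro i j
      (revert i j; simp only [hs, B_add_left, B_add_right, pq, pr, qr, qp, rp, rq, pp, qq, rr, _root_.Fin.forall_fin_succ, Fin.isValue, _root_.Matrix.cons_val_zero, _root_.Matrix.cons_val_succ, _root_.Matrix.cons_val_fin_one, _root_.forall_const, _root_.add_zero, _root_.and_self, _root_.implies_true])) (by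
      intro a ha
      have e1 := ha x1
      have e2 := ha x2
      have e3 := ha x3
      simp only [Fin.sum_univ_four, Matrix.cons_val_zero, Matrix.cons_val_one, Matrix.cons_val, hs2, x1p, x1q, x1r,
        x2p, x2q, x2r, x3p, x3q, x3r, add_zero, zero_add, one_smul, zero_smul, smul_zero] at e1 e2 e3
      have hs0 : s.1 ≠ 0 := h.ne1 s s4
      have a3 : a 3 = 0 := by
        by_contra hne
        have h3 := eq_one_of_ne hne
        rw [h3, one_smul] at e1
        have c0 : a 0 = 1 := by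
          refine eq_one_of_ne fun h0 => hs0 ?_
          rw [h0, zero_smul, zero_add] at e1
          exact e1
        rw [c0, one_smul] at e1
        have e4 : p = s := h.uf p hp s s4 (eq_of_add e1)
        have e5 : q + r = 0 := by
          have : p = p + (q + r) := by rw [← add_assoc]; exact e4
          simpa only [_root_.left_eq_add] using this
        exact nqr (eq_of_add e5)
      rw [a3, zero_smul, add_zero] at e1 e2 e3
      have c0 : a 0 = 0 := by
        by_contra hne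
        rw [eq_one_of_ne hne, one_smul] at e1
        exact h.ne1 p hp e1
      have c1 : a 1 = 0 := by
        by_contra hne
        rw [eq_one_of_ne hne, one_smul] at e2
        exact h.ne1 q hq e2
      have c2 : a 2 = 0 := by
        by_contra hne
        rw [eq_one_of_ne hne, one_smul] at e3
        exact h.ne1 r hr e3
      ext i
      (revert i; simp only [c0, c1, c2, a3, _root_.Fin.forall_fin_succ, _root_.Pi.zero_apply, Fin.isValue, _root_.Fin.succ_zero_eq_one, _root_.Fin.succ_one_eq_two, Fin.reduceSucc, _root_.IsEmpty.forall_iff, _root_.and_self]))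
    (fun _ => 1) (by
      rw [Fin.sum_univ_four]
      simp only [Matrix.cons_val_zero, Matrix.cons_val_one, Matrix.cons_val, one_smul]
      exact add_self _)
  have := congrFun key 0
  exact one_ne this

end Sys

/-- pairwise non-commuting members, no sum of two of them -/
structure Pre (R K : Set (W V)) : Prop where
  sub : K ⊆ R
  one : ∀ k ∈ K, ∀ k' ∈ K, k ≠ k' → B k k' = 1
  sum : ∀ k ∈ K, ∀ k' ∈ K, k ≠ k' → k + k' ∉ K

/-- a maximal such set -/
structure Star (R K : Set (W V)) : Prop extends Pre R K where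
  ne : K.Nonempty
  max : ∀ L, Pre R L → K ⊆ L → L ⊆ K

/-- the transpositions on the letters `none`, `some k` (`k ∈ K`) -/
def cl (K : Set (W V)) : Set (W V) := {x | x ∈ K ∨ ∃ k ∈ K, ∃ k' ∈ K, k ≠ k' ∧ x = k + k'}

theorem exists_star [Finite V] {R : Set (W V)} {p : W V} (hp : p ∈ R) : ∃ K, Star R K ∧ p ∈ K := by
  have : Finite (Du V) := Finite.of_injective (fun f : Du V => (f : V → ZMod 2)) DFunLike.coe_injective
  have hpre : Pre R ({p} : Set (W V)) := by
    refine ⟨by simpa using hp, ?_, ?_⟩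
    · intro k hk k' hk' hne
      exact absurd (hk.trans hk'.symm) hne
    · intro k hk k' hk' hne
      exact absurd (hk.trans hk'.symm) hne
  obtain ⟨K, hK, hmax⟩ := Set.exists_max_image {L : Set (W V) | Pre R L ∧ p ∈ L} Set.ncard (Set.toFinite _)
    ⟨{p}, hpre, rfl⟩
  refine ⟨K, ⟨hK.1, ⟨p, hK.2⟩, fun L hL hKL => ?_⟩, hK.2⟩
  have h1 := hmax L ⟨hL, hKL hK.2⟩
  exact (Set.eq_of_subset_of_ncard_le hKL h1 (Set.toFinite _)).symm.le

namespace Star

variable {R K : Set (W V)} (h : Sys R) (hK : Star R K)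
include h hK

theorem cl_sub : cl K ⊆ R := by
  rintro x (hx | ⟨k, hk, k', hk', hne, rfl⟩)
  · exact hK.sub hx
  · exact h.add_mem (hK.sub hk) (hK.sub hk') (by rw [hK.one k hk k' hk' hne]; exact one_ne)

/-- a member which commutes with no member of `K` -/
theorem all {q : W V} (hq : q ∈ R) (h1 : ∀ k ∈ K, B k q = 1) : q ∈ cl K := by
  by_contra hcl
  have hqK : q ∉ K := fun hc => hcl (Or.inl hc)
  have h2 : ∀ k ∈ K, B q k = 1 := fun k hk => by rw [h.sym hq (hK.sub hk)]; exact h1 k hk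
  have key : Pre R (insert q K) := by
    refine ⟨Set.insert_subset hq hK.sub, ?_, ?_⟩
    · rintro k (rfl | hk) k' (rfl | hk') hne
      · exact absurd rfl hne
      · exact h2 k' hk'
      · exact h1 k hk
      · exact hK.one k hk k' hk' hne
    · rintro k (rfl | hk) k' (rfl | hk') hne
      · exact absurd rfl hne
      · rintro (hc | hc)
        · have : k' = 0 := by simpa using hc
          exact h.ne_zero (hK.sub hk') this
        · apply hcl
          refine Or.inr ⟨k + k', hc, k', hk', ?_, ?_⟩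
          · intro he
            have : k = 0 := by simpa using he
            exact h.ne_zero hq this
          · rw [add_assoc, W_add_self, add_zero]
      · rintro (hc | hc)
        · have : k = 0 := by simpa using hc
          exact h.ne_zero (hK.sub hk) this
        · apply hcl
          refine Or.inr ⟨k + k', hc, k, hk, ?_, ?_⟩
          · intro he
            have : k' = 0 := by simpa using he
            exact h.ne_zero hq this
          · rw [add_comm k k', add_assoc, W_add_self, add_zero]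
      · rintro (hc | hc)
        · exact hcl (Or.inr ⟨k, hk, k', hk', hne, hc.symm⟩)
        · exact hK.sum k hk k' hk' hne hc
  exact hqK (hK.max _ key (Set.subset_insert _ _) (Set.mem_insert _ _))

/-- `cl K` is closed under 'does not commute' -/
theorem closed {x q : W V} (hx : x ∈ cl K) (hq : q ∈ R) (hxq : B x q ≠ 0) : q ∈ cl K := by
  obtain ⟨k0, hk0, h0⟩ : ∃ k ∈ K, B k q = 1 := by
    rcases hx with hx | ⟨k, hk, k', hk', -, rfl⟩
    · exact ⟨x, hx, eq_one_of_ne hxq⟩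
    · rw [B_add_left] at hxq
      rcases zmod_cases (B k q) with h1 | h1
      · rw [h1, zero_add] at hxq
        exact ⟨k', hk', eq_one_of_ne hxq⟩
      · exact ⟨k, hk, h1⟩
  by_cases hall : ∀ k ∈ K, B k q = 1
  · exact hK.all h hq hall
  push Not at hall
  obtain ⟨k1, hk1, h1⟩ := hall
  have h1 : B k1 q = 0 := eq_zero_of_ne h1
  by_cases hqK : q ∈ K
  · exact Or.inl hqK
  have n01 : k0 ≠ k1 := by
    rintro rfl
    rw [h0] at h1
    exact one_ne h1
  have b01 : B k0 k1 = 1 := hK.one k0 hk0 k1 hk1 n01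
  have b10 : B k1 k0 = 1 := hK.one k1 hk1 k0 hk0 n01.symm
  by_cases h2 : ∃ k2 ∈ K, k2 ≠ k0 ∧ B k2 q = 1
  · obtain ⟨k2, hk2, n20, h2⟩ := h2
    have n21 : k2 ≠ k1 := by
      rintro rfl
      rw [h2] at h1
      exact one_ne h1
    by_cases he : q = k2 + k0
    · exact Or.inr ⟨k2, hk2, k0, hk0, n20, he⟩
    exfalso
    have b02 : B k0 k2 = 1 := hK.one k0 hk0 k2 hk2 n20.symm
    have b12 : B k1 k2 = 1 := hK.one k1 hk1 k2 hk2 n21.symm
    have b20 : B k2 k0 = 1 := hK.one k2 hk2 k0 hk0 n20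
    have hs : k2 + k0 ∈ R := h.add_mem (hK.sub hk2) (hK.sub hk0) (by rw [b20]; exact one_ne)
    refine h.no_triple (b := k0) (p := q) (q := k1) (r := k2 + k0) (hK.sub hk0) hq (hK.sub hk1) hs h0 b01 ?_ ?_ ?_ ?_
      ?_ he ?_
    · rw [B_add_right, b02, h.self k0 (hK.sub hk0), add_zero]
    · rw [h.sym hq (hK.sub hk1)]; exact h1
    · rw [B_add_right, h.sym hq (hK.sub hk2), h.sym hq (hK.sub hk0), h2, h0]; decide
    · rw [B_add_right, b12, b10]; decide
    · rintro rfl; exact hqK hk1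
    · intro hc
      exact hK.sum k2 hk2 k0 hk0 n20 (hc ▸ hk1)
  · exfalso
    push Not at h2
    have h2' : ∀ k ∈ K, k ≠ k0 → B k q = 0 := fun k hk hne => eq_zero_of_ne (h2 k hk hne)
    have hb : B q k0 = 1 := by rw [h.sym hq (hK.sub hk0)]; exact h0
    have hs : q + k0 ∈ R := h.add_mem hq (hK.sub hk0) (by rw [hb]; exact one_ne)
    have hone : ∀ k ∈ K, B k (q + k0) = 1 := by
      intro k hk
      rw [B_add_right]
      by_cases hkk : k = k0
      · rw [hkk, h0, h.self k0 (hK.sub hk0), add_zero]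
      · rw [h2' k hk hkk, hK.one k hk k0 hk0 hkk, zero_add]
    rcases hK.all h hs hone with hc | ⟨k, hk, k', hk', hne, he⟩
    · have h3 := hone _ hc
      rw [h.self _ hs] at h3
      exact one_ne h3.symm
    · have h3 : k0 = k ∨ k0 = k' := by
        by_contra hc
        push Not at hc
        have h4 := hone k0 hk0
        rw [he, B_add_right, hK.one k0 hk0 k hk hc.1, hK.one k0 hk0 k' hk' hc.2] at h4
        exact one_ne (by rw [← h4]; decide)
      have h5 : q = k + k' + k0 := W_add_cancel he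
      rcases h3 with rfl | rfl
      · apply hqK
        rw [h5, add_comm k0 k', add_assoc, W_add_self, add_zero]
        exact hk'
      · apply hqK
        rw [h5, add_assoc, W_add_self, add_zero]
        exact hk

/-- `cl K` is connected -/
theorem sub_of_closed {D : Set (W V)} (hD : ∀ x ∈ D, ∀ q ∈ R, B x q ≠ 0 → q ∈ D) {x : W V} (hx : x ∈ cl K)
    (hxD : x ∈ D) : cl K ⊆ D := by
  obtain ⟨k, hk, hkD⟩ : ∃ k ∈ K, k ∈ D := by
    rcases hx with hx | ⟨k, hk, k', hk', hne, rfl⟩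
    · exact ⟨x, hx, hxD⟩
    · refine ⟨k, hk, hD _ hxD k (hK.sub hk) ?_⟩
      rw [B_add_left, h.self k (hK.sub hk), zero_add, hK.one k' hk' k hk hne.symm]
      exact one_ne
  have h1 : ∀ k' ∈ K, k' ∈ D := by
    intro k' hk'
    by_cases he : k = k'
    · rw [← he]; exact hkD
    · exact hD k hkD k' (hK.sub hk') (by rw [hK.one k hk k' hk' he]; exact one_ne)
  rintro y (hy | ⟨k', hk', k'', hk'', hne, rfl⟩)
  · exact h1 y hy
  · refine hD k' (h1 k' hk') _ (h.add_mem (hK.sub hk') (hK.sub hk'')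
      (by rw [hK.one k' hk' k'' hk'' hne]; exact one_ne)) ?_
    rw [B_add_right, h.self k' (hK.sub hk'), zero_add, hK.one k' hk' k'' hk'' hne]
    exact one_ne

theorem cl_eq {L : Set (W V)} (hL : Star R L) {x : W V} (hx : x ∈ cl K) (hx' : x ∈ cl L) : cl K = cl L :=
  Set.Subset.antisymm (hK.sub_of_closed h (fun _ hy _ hq hb => hL.closed h hy hq hb) hx hx')
    (hL.sub_of_closed h (fun _ hy _ hq hb => hK.closed h hy hq hb) hx' hx)

theorem eq_zero_of_not_mem {x q : W V} (hx : x ∈ cl K) (hq : q ∈ R) (hn : q ∉ cl K) : B x q = 0 := by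
  by_contra hne
  exact hn (hK.closed h hx hq hne)

/-- `|K| ≥ 2` -/
theorem exists_ne (k : W V) (hk : k ∈ K) : ∃ k' ∈ K, k' ≠ k := by
  by_contra hc
  push Not at hc
  obtain ⟨q, hq, hb⟩ := h.nd k (hK.sub hk)
  have hall : ∀ k' ∈ K, B k' q = 1 := fun k' hk' => by rw [hc k' hk']; exact eq_one_of_ne hb
  have hqk : q ≠ k := by
    rintro rfl
    exact hb (h.self _ hq)
  rcases hK.all h hq hall with h1 | ⟨k1, hk1, k2, hk2, hne, -⟩
  · exact hqk (hc q h1)
  · exact hne ((hc k1 hk1).trans (hc k2 hk2).symm)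

end Star

end Cfsg.Agent.Omega.NOThreeL.RRed.TvBlk

end

section


/-!
# The block theorem for transvections over `𝔽₂` (#18552 (c)): the number of letters is odd

`Star.even` : a maximal star `K` has an even number of members, so `cl K` is the set of transpositions on an odd number
of letters `Option K`.
-/

set_option autoImplicit false

namespace Cfsg.Agent.Omega.NOThreeL.RRed.TvBlk

open Cfsg.Agent.Omega.Transv

variable {V : Type*} [AddCommGroup V] [Module (ZMod 2) V]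

theorem finite_W (V : Type*) [AddCommGroup V] [Module (ZMod 2) V] [Finite V] : Finite (W V) := by
  have : Finite (Du V) := Finite.of_injective (fun f : Du V => (f : V → ZMod 2)) DFunLike.coe_injective
  infer_instance

theorem B_sum_left {ι : Type*} (s : Finset ι) (g : ι → W V) (q : W V) :
    B (∑ i ∈ s, g i) q = ∑ i ∈ s, B (g i) q := by
  classical
  induction s using Finset.induction_on with
  | empty => simp [B]
  | insert i s hi ih => rw [Finset.sum_insert hi, Finset.sum_insert hi, B_add_left, ih]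

theorem snd_sum {ι : Type*} (s : Finset ι) (g : ι → W V) : (∑ i ∈ s, g i).2 = ∑ i ∈ s, (g i).2 := by
  classical
  induction s using Finset.induction_on with
  | empty => simp
  | insert i s hi ih => rw [Finset.sum_insert hi, Finset.sum_insert hi, Prod.snd_add, ih]

theorem fst_sum {ι : Type*} (s : Finset ι) (g : ι → W V) : (∑ i ∈ s, g i).1 = ∑ i ∈ s, (g i).1 := by
  classical
  induction s using Finset.induction_on with
  | empty => simp
  | insert i s hi ih => rw [Finset.sum_insert hi, Finset.sum_insert hi, Prod.fst_add, ih]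

namespace Star

variable {R K : Set (W V)} (h : Sys R) (hK : Star R K)
include h hK

/-- if `|K|` is odd the sum of the axes of `K` vanishes on all centres -/
theorem sum_B [Finite V] (Kf : Finset (W V)) (hKf : ∀ k, k ∈ Kf ↔ k ∈ K) (hodd : (Kf.card : ZMod 2) = 1) {q : W V}
    (hq : q ∈ R) : ∑ k ∈ Kf, B k q = 0 := by
  classical
  have h1 : ∀ q ∈ K, ∑ k ∈ Kf, B k q = 0 := by
    intro q hq
    have : ∀ k ∈ Kf, B k q = 1 + if k = q then 1 else 0 := by
      intro k hk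
      by_cases he : k = q
      · rw [if_pos he, he, h.self q (hK.sub hq)]; decide
      · rw [if_neg he, hK.one k ((hKf k).1 hk) q hq he, add_zero]
    rw [Finset.sum_congr rfl this, Finset.sum_add_distrib, Finset.sum_const, Finset.sum_ite_eq',
      if_pos ((hKf q).2 hq), nsmul_eq_mul, hodd]
    decide
  by_cases hc : q ∈ cl K
  · rcases hc with hc | ⟨k, hk, k', hk', -, rfl⟩
    · exact h1 q hc
    · have : ∀ x ∈ Kf, B x (k + k') = B x k + B x k' := fun x _ => B_add_right x k k'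
      rw [Finset.sum_congr rfl this, Finset.sum_add_distrib, h1 k hk, h1 k' hk', add_zero]
  · refine Finset.sum_eq_zero fun k hk => ?_
    exact hK.eq_zero_of_not_mem h (Or.inl ((hKf k).1 hk)) hq hc

theorem even [Finite V] : Even (Nat.card K) := by
  classical
  have hW : Finite (W V) := finite_W V
  by_contra hne
  rw [Nat.not_even_iff_odd] at hne
  obtain ⟨m, hm⟩ := hne
  obtain ⟨k0, hk0⟩ := hK.ne
  -- `K \ {k0}` has `2 m` members
  have hfin : Finite K := inferInstance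
  let K' : Set (W V) := K \ {k0}
  have hc' : Nat.card K' = 2 * m := by
    have h1 : K.ncard = K'.ncard + 1 := (Set.ncard_sdiff_singleton_add_one hk0 (Set.toFinite K)).symm
    have h2 : K.ncard = 2 * m + 1 := by rw [← hm]; rfl
    have h3 : Nat.card K' = K'.ncard := rfl
    omega
  have hm0 : 0 < m := by
    obtain ⟨k1, hk1, hne⟩ := hK.exists_ne h k0 hk0
    have : Nonempty K' := ⟨⟨k1, hk1, hne⟩⟩
    have h4 : 0 < Nat.card K' := Nat.card_pos
    omega
  have hce : Nat.card (Fin m × Fin 2) = Nat.card K' := by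
    rw [hc', Nat.card_prod, Nat.card_eq_fintype_card, Nat.card_eq_fintype_card, Fintype.card_fin, Fintype.card_fin]
    ring
  obtain ⟨e⟩ : Nonempty ((Fin m × Fin 2) ≃ K') := by
    have : Finite K' := inferInstance
    have : Fintype K' := Fintype.ofFinite _
    exact ⟨Fintype.equivOfCardEq (by rw [← Nat.card_eq_fintype_card, ← Nat.card_eq_fintype_card]; exact hce)⟩
  set a : Fin m → W V := fun j => (e (j, 0) : W V) with ha
  set b : Fin m → W V := fun j => (e (j, 1) : W V) with hb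
  have haK : ∀ j, a j ∈ K := fun j => (e (j, 0)).2.1
  have hbK : ∀ j, b j ∈ K := fun j => (e (j, 1)).2.1
  have ha0 : ∀ j, a j ≠ k0 := fun j => (e (j, 0)).2.2
  have hb0 : ∀ j, b j ≠ k0 := fun j => (e (j, 1)).2.2
  have inj : ∀ x y, (e x : W V) = e y → x = y := fun x y hxy => e.injective (Subtype.ext hxy)
  have haa : ∀ i j, i ≠ j → a i ≠ a j := fun i j hij hc => hij (congrArg Prod.fst (inj _ _ hc))
  have hbb : ∀ i j, i ≠ j → b i ≠ b j := fun i j hij hc => hij (congrArg Prod.fst (inj _ _ hc))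
  have hab : ∀ i j, a i ≠ b j := fun i j hc => by
    have := congrArg Prod.snd (inj _ _ hc)
    exact absurd this zero_ne_one
  have one : ∀ k ∈ K, ∀ k' ∈ K, k ≠ k' → B k k' = 1 := hK.one
  have slf : ∀ k ∈ K, B k k = 0 := fun k hk => h.self k (hK.sub hk)
  have hab1 : ∀ j, B (a j) (b j) = 1 := fun j => one _ (haK j) _ (hbK j) (hab j j)
  have hba1 : ∀ j, B (b j) (a j) = 1 := fun j => one _ (hbK j) _ (haK j) (hab j j).symm
  -- the perfect matching
  let p : Fin (m + 1) → W V := Fin.cons k0 fun j => a j + b j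
  have p0 : p 0 = k0 := rfl
  have ps : ∀ j : Fin m, p j.succ = a j + b j := fun j => rfl
  have hpR : ∀ i, p i ∈ R := by
    intro i
    refine Fin.cases ?_ (fun j => ?_) i
    · exact hK.sub hk0
    · rw [ps]
      exact h.add_mem (hK.sub (haK j)) (hK.sub (hbK j)) (by rw [hab1]; exact one_ne)
  have hpp : ∀ i j, B (p i) (p j) = 0 := by
    intro i j
    refine Fin.cases ?_ (fun i => ?_) i <;> refine Fin.cases ?_ (fun j => ?_) j
    · exact slf k0 hk0
    · rw [p0, ps, B_add_right, one k0 hk0 _ (haK j) (ha0 j).symm, one k0 hk0 _ (hbK j) (hb0 j).symm]; decide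
    · rw [p0, ps, B_add_left, one _ (haK i) k0 hk0 (ha0 i), one _ (hbK i) k0 hk0 (hb0 i)]; decide
    · rw [ps, ps, B_add_left, B_add_right, B_add_right]
      by_cases hij : i = j
      · subst hij
        rw [slf _ (haK i), slf _ (hbK i), hab1, hba1]; decide
      · rw [one _ (haK i) _ (haK j) (haa i j hij), one _ (haK i) _ (hbK j) (hab i j),
          one _ (hbK i) _ (haK j) (hab j i).symm, one _ (hbK i) _ (hbK j) (hbb i j hij)]; decide
  -- the sum of all members of `K`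
  let Kf : Finset (W V) := (Set.toFinite K).toFinset
  have hKf : ∀ k, k ∈ Kf ↔ k ∈ K := fun k => Set.Finite.mem_toFinset _
  have hcard : Kf.card = 2 * m + 1 := by
    rw [← hm, ← Set.ncard_eq_toFinset_card K (Set.toFinite K)]; rfl
  have hodd : (Kf.card : ZMod 2) = 1 := by
    rw [hcard]
    push_cast
    have : (2 : ZMod 2) = 0 := by decide
    rw [this, zero_mul, zero_add]
  have hsum : ∑ i, p i = ∑ k ∈ Kf, k := by
    rw [Fin.sum_univ_succ, p0]
    have h1 : Kf = insert k0 ((Finset.univ : Finset (Fin m × Fin 2)).image fun x => (e x : W V)) := by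
      ext k
      rw [hKf, Finset.mem_insert, Finset.mem_image]
      constructor
      · intro hk
        by_cases he : k = k0
        · exact Or.inl he
        · refine Or.inr ⟨e.symm ⟨k, hk, he⟩, Finset.mem_univ _, ?_⟩
          rw [Equiv.apply_symm_apply]
      · rintro (rfl | ⟨x, -, rfl⟩)
        · exact hk0
        · exact (e x).2.1
    rw [h1, Finset.sum_insert, Finset.sum_image fun x _ y _ hxy => inj x y hxy, Fintype.sum_prod_type]
    · congr 1
      refine Finset.sum_congr rfl fun j _ => ?_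
      rw [Fin.sum_univ_two, ps]
    · rw [Finset.mem_image]
      rintro ⟨x, -, hx⟩
      exact (e x).2.2 hx
  -- the functional
  have hz : ∑ i, (p i).2 = 0 := by
    refine h.gen (m + 1) p hpR hpp _ ?_ ?_
    · intro q hq
      have h1 : (∑ i, (p i).2) q.1 = B (∑ i, p i) q := by
        rw [← snd_sum]; rfl
      rw [h1, hsum, B_sum_left]
      exact hK.sum_B h Kf hKf hodd hq
    · intro v hv
      rw [LinearMap.sum_apply]
      exact Finset.sum_eq_zero fun i _ => hv i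
  have key := h.ex (m + 1) p hpR hpp (by
    intro c hc
    have h1 : ∀ j : Fin m, c 0 • k0.1 + c j.succ • (a j + b j).1 = 0 := by
      intro j
      have h2 := hc (a j).1
      rw [Fin.sum_univ_succ, p0] at h2
      have e0 : k0.2 (a j).1 = 1 := one k0 hk0 _ (haK j) (ha0 j).symm
      rw [e0, one_smul] at h2
      have h3 : ∑ i : Fin m, c i.succ • (p i.succ).2 (a j).1 • (p i.succ).1 = c j.succ • (a j + b j).1 := by
        rw [Finset.sum_eq_single j]
        · have e1 : (p j.succ).2 (a j).1 = 1 := by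
            show B (a j + b j) (a j) = 1
            rw [B_add_left, slf _ (haK j), hba1, zero_add]
          rw [e1, one_smul, ps]
        · intro i _ hij
          have e1 : (p i.succ).2 (a j).1 = 0 := by
            show B (a i + b i) (a j) = 0
            rw [B_add_left, one _ (haK i) _ (haK j) (haa i j hij), one _ (hbK i) _ (haK j) (hab j i).symm]; decide
          rw [e1, zero_smul, smul_zero]
        · intro hj
          exact absurd (Finset.mem_univ _) hj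
      rw [h3] at h2
      exact h2
    have hne : ∀ j, (a j + b j).1 ≠ 0 := fun j => h.ne1 _ (by rw [← ps]; exact hpR _)
    have c0 : c 0 = 0 := by
      by_contra hne0
      have h2 := h1 ⟨0, hm0⟩
      rw [eq_one_of_ne hne0, one_smul] at h2
      have h3 : c (⟨0, hm0⟩ : Fin m).succ = 1 := by
        refine eq_one_of_ne fun h0 => ?_
        rw [h0, zero_smul, add_zero] at h2
        exact h.ne1 k0 (hK.sub hk0) h2
      rw [h3, one_smul] at h2
      have h4 : k0 = a ⟨0, hm0⟩ + b ⟨0, hm0⟩ :=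
        h.uf _ (hK.sub hk0) _ (by rw [← ps]; exact hpR _) (eq_of_add h2)
      exact hK.sum _ (haK ⟨0, hm0⟩) _ (hbK ⟨0, hm0⟩) (hab _ _) (h4 ▸ hk0)
    ext i
    refine Fin.cases ?_ (fun j => ?_) i
    · exact c0
    · have h2 := h1 j
      rw [c0, zero_smul, zero_add] at h2
      by_contra hne1
      rw [eq_one_of_ne hne1, one_smul] at h2
      exact hne j h2) (fun _ => 1) (by simpa only [_root_.one_smul] using hz)
  have := congrFun key 0
  exact one_ne this

end Star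

end Cfsg.Agent.Omega.NOThreeL.RRed.TvBlk

end

section


/-!
# The block theorem for transvections over `𝔽₂` (#18552 (c)): the letters

`Blk R blk w tr` : the finite set `Pt` of letters is partitioned into blocks (`blk : Pt → I`) of odd size `≥ 3`,
`w : Pt → V`, the sum of every block is zero and these are the only relations; the members of `R` are the
transpositions `tr x y` (`x ≠ y` in one block), with centre `w x + w y`; `V` is the sum of the span of `w` and of the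
common kernel of the axes.

* `exists_blk` : `Sys R` gives `Blk`;
* `Blk.perm` : an automorphism of `V` which preserves `R` permutes the letters and the blocks.
-/

set_option autoImplicit false

namespace Cfsg.Agent.Omega.NOThreeL.RRed.TvBlk

open Cfsg.Agent.Omega.Transv

universe u

variable {V : Type u} [AddCommGroup V] [Module (ZMod 2) V]

/-- The letters of a set of transvections. -/
structure Blk (R : Set (W V)) {Pt I : Type u} [Fintype Pt] [DecidableEq Pt] [DecidableEq I] (blk : Pt → I) (w : Pt → V) (tr : Pt → Pt → W V) :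
    Prop where
  odd : ∀ x, Odd (Finset.univ.filter fun y => blk y = blk x).card
  three : ∀ x, 3 ≤ (Finset.univ.filter fun y => blk y = blk x).card
  surj : Function.Surjective blk
  tr_mem : ∀ x y, x ≠ y → blk x = blk y → tr x y ∈ R
  tr_comm : ∀ x y, tr x y = tr y x
  tr_fst : ∀ x y, blk x = blk y → (tr x y).1 = w x + w y
  tr_add : ∀ x y z, blk x = blk y → blk y = blk z → tr x y + tr y z = tr x z
  tr_snd : ∀ x y, blk x = blk y → ∀ z, (tr x y).2 (w z) = (if z = x then 1 else 0) + (if z = y then 1 else 0)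
  all : ∀ p ∈ R, ∃ x y, x ≠ y ∧ blk x = blk y ∧ p = tr x y
  sum_zero : ∀ x, ∑ y ∈ Finset.univ.filter (fun y => blk y = blk x), w y = 0
  decomp : ∀ v : V, ∃ a : Pt → ZMod 2, ∀ p ∈ R, p.2 (v + ∑ x, a x • w x) = 0

section one

variable {R K : Set (W V)}

/-- the members `0`, `k` -/
def val (x : Option K) : W V := x.elim 0 fun k => (k : W V)

@[simp] theorem val_none : val (none : Option K) = 0 := rfl
@[simp] theorem val_some (k : K) : val (some k) = (k : W V) := rfl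

/-- the points (as pairs) -/
noncomputable def wW [Fintype K] (x : Option K) : W V := (∑ k : K, (k : W V)) + val x

variable (h : Sys R) (hK : Star R K)

include h hK

theorem Star.card_zero [Finite V] [Fintype K] : (Fintype.card K : ZMod 2) = 0 := by
  have := hK.even h
  rw [Nat.card_eq_fintype_card] at this
  obtain ⟨k, hk⟩ := this
  rw [hk, Nat.cast_add]
  exact add_self _

open Classical in
theorem Star.B_val [Finite V] [Fintype K] (x z : Option K) :
    B (val x) (wW z) = (if z = none then 1 else 0) + if z = x then 1 else 0 := by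
  rcases x with _ | k
  · rw [val_none]
    have : B (0 : W V) (wW z) = 0 := rfl
    rw [this]
    exact (add_self _).symm
  rw [val_some, wW, B_add_right]
  have h1 : B (k : W V) (∑ k' : K, (k' : W V)) = 1 := by
    have e1 : B (k : W V) (∑ k' : K, (k' : W V)) = ∑ k' : K, B (k : W V) k' := by
      rw [B, fst_sum, map_sum]; rfl
    have e2 : ∀ k' ∈ (Finset.univ : Finset K), B (k : W V) k' = 1 + if k' = k then 1 else 0 := by
      intro k' _
      by_cases he : k' = k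
      · rw [if_pos he, he, h.self _ (hK.sub k.2)]; decide
      · rw [if_neg he, add_zero]
        exact hK.one _ k.2 _ k'.2 fun hc => he (Subtype.ext hc.symm)
    rw [e1, Finset.sum_congr rfl e2, Finset.sum_add_distrib, Finset.sum_const, Finset.card_univ, nsmul_eq_mul,
      hK.card_zero h, zero_mul, zero_add, Finset.sum_ite_eq', if_pos (Finset.mem_univ _)]
  rw [h1]
  rcases z with _ | k'
  · have : B (k : W V) (val (none : Option K)) = 0 := by rw [val_none, B]; exact map_zero _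
    rw [this, if_pos rfl, if_neg (by simp)]
  · rw [val_some, if_neg (by simp), zero_add]
    by_cases he : k' = k
    · rw [if_pos (by rw [he]), he, h.self _ (hK.sub k.2), add_zero]
    · rw [if_neg (by simpa using he), hK.one _ k.2 _ k'.2 fun hc => he (Subtype.ext hc.symm)]
      decide

omit h hK in
theorem Star.val_add_mem {x y : Option K} (hxy : x ≠ y) : val x + val y ∈ cl K := by
  rcases x with _ | k <;> rcases y with _ | k'
  · exact absurd rfl hxy
  · rw [val_none, zero_add, val_some]; exact Or.inl k'.2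
  · rw [val_none, add_zero, val_some]; exact Or.inl k.2
  · exact Or.inr ⟨k, k.2, k', k'.2, fun hc => hxy (by rw [Subtype.ext hc]), rfl⟩

omit h hK in
theorem exists_val {p : W V} (hp : p ∈ cl K) : ∃ x y : Option K, x ≠ y ∧ p = val x + val y := by
  rcases hp with hp | ⟨k, hk, k', hk', hne, rfl⟩
  · exact ⟨some ⟨p, hp⟩, none, by simp, by rw [val_some, val_none, add_zero]⟩
  · exact ⟨some ⟨k, hk⟩, some ⟨k', hk'⟩, by simpa using hne, rfl⟩

theorem Star.sum_wW [Finite V] [Fintype K] : ∑ x : Option K, wW x = 0 := by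
  rw [Fintype.sum_option]
  have e2 : ∑ k : K, wW (some k) = ∑ k : K, (k : W V) := by
    have : ∀ k : K, wW (some k) = (∑ k' : K, (k' : W V)) + k := fun k => rfl
    rw [Finset.sum_congr rfl fun k _ => this k, Finset.sum_add_distrib, Finset.sum_const, Finset.card_univ]
    have e3 : (Fintype.card K) • (∑ k' : K, (k' : W V)) = (0 : W V) := by
      rw [← Nat.cast_smul_eq_nsmul (ZMod 2), hK.card_zero h, zero_smul]
    rw [e3, zero_add]
  rw [e2, wW, val_none, add_zero]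
  exact add_self _

end one

theorem exists_blk [Finite V] {R : Set (W V)} (h : Sys R) : ∃ (Pt I : Type u) (_ : Fintype Pt) (_ : Fintype I)
    (_ : DecidableEq Pt) (_ : DecidableEq I) (blk : Pt → I) (w : Pt → V) (tr : Pt → Pt → W V), Blk R blk w tr := by
  classical
  have hW : Finite (W V) := finite_W V
  let I : Type u := {C : Set (W V) // ∃ K, Star R K ∧ C = cl K}
  let st : I → Set (W V) := fun C => C.2.choose
  have hst : ∀ C, Star R (st C) := fun C => C.2.choose_spec.1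
  have hcl : ∀ C : I, C.1 = cl (st C) := fun C => C.2.choose_spec.2
  have hfst : ∀ C, Fintype (st C) := fun C => Fintype.ofFinite _
  let Pt : Type u := Σ C : I, Option (st C)
  have hI : Finite I := inferInstance
  have hfI : Fintype I := Fintype.ofFinite _
  let dP : DecidableEq Pt := Classical.decEq _
  let dI : DecidableEq I := Classical.decEq _
  let blk : Pt → I := fun x => x.1
  let V' : Pt → W V := fun x => val x.2
  let w : Pt → V := fun x => (wW x.2).1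
  let tr : Pt → Pt → W V := fun x y => V' x + V' y
  have hfib : ∀ x : Pt, (Finset.univ.filter fun y : Pt => blk y = blk x) =
      (Finset.univ : Finset (Option (st x.1))).map ⟨fun z => (⟨x.1, z⟩ : Pt), fun z z' hz => by simpa using hz⟩ := by
    intro x
    ext y
    rw [Finset.mem_filter, Finset.mem_map]
    constructor
    · rintro ⟨-, hy⟩
      obtain ⟨C, y⟩ := y
      obtain ⟨C', x⟩ := x
      have hy' : C = C' := hy
      subst hy'
      exact ⟨y, Finset.mem_univ _, rfl⟩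
    · rintro ⟨z, -, rfl⟩
      exact ⟨Finset.mem_univ _, rfl⟩
  have hcard : ∀ x : Pt, (Finset.univ.filter fun y : Pt => blk y = blk x).card = Nat.card (st x.1) + 1 := by
    intro x
    rw [hfib, Finset.card_map, Finset.card_univ, Fintype.card_option, Nat.card_eq_fintype_card]
  have hV' : ∀ x : Pt, ∀ q ∈ R, q ∉ cl (st x.1) → B (V' x) q = 0 ∧ B q (V' x) = 0 := by
    rintro ⟨C, x⟩ q hq hn
    rcases x with _ | k
    · exact ⟨rfl, map_zero _⟩
    · have h1 : B (k : W V) q = 0 := (hst C).eq_zero_of_not_mem h (Or.inl k.2) hq hn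
      exact ⟨h1, by show B q (k : W V) = 0; rw [h.sym hq ((hst C).sub k.2)]; exact h1⟩
  have hdis : ∀ C C' : I, C ≠ C' → ∀ q ∈ cl (st C), q ∉ cl (st C') := by
    intro C C' hne q hq hq'
    apply hne
    apply Subtype.ext
    rw [hcl C, hcl C']
    exact (hst C).cl_eq h (hst C') hq hq'
  -- the pairing of `V' x` with the points of other blocks
  have hoff : ∀ x z : Pt, x.1 ≠ z.1 → B (V' x) (wW z.2) = 0 := by
    rintro ⟨C, x⟩ ⟨C', z⟩ hne
    have hne : C ≠ C' := hne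
    rcases x with _ | k
    · rfl
    · have h1 : ∀ k' ∈ st C', B (k : W V) k' = 0 := fun k' hk' =>
        (hst C).eq_zero_of_not_mem h (Or.inl k.2) ((hst C').sub hk') (hdis C' C hne.symm _ (Or.inl hk'))
      show B (k : W V) (wW z) = 0
      rw [wW, B_add_right]
      have e1 : B (k : W V) (∑ k' : st C', (k' : W V)) = ∑ k' : st C', B (k : W V) k' := by
        rw [B, fst_sum, map_sum]; rfl
      have e3 : ∑ k' : st C', B (k : W V) k' = 0 :=
        Finset.sum_eq_zero fun (k' : st C') _ => h1 (k' : W V) (Subtype.property k')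
      rw [e1, e3, zero_add]
      rcases z with _ | k'
      · exact map_zero _
      · exact h1 (k' : W V) (Subtype.property k')
  have hval : ∀ x z : Pt, B (V' x) (wW z.2) =
      (if x.1 = z.1 then ((if z = ⟨z.1, none⟩ then 1 else 0) + if z = x then 1 else 0) else 0) := by
    intro x z
    by_cases he : x.1 = z.1
    · rw [if_pos he]
      obtain ⟨C, x⟩ := x
      obtain ⟨C', z⟩ := z
      have he' : C = C' := he
      subst he'
      have := (hst C).B_val h x z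
      show B (val x) (wW z) = _
      rw [this]
      congr 1
      · by_cases hz : z = none
        · rw [if_pos hz, if_pos (by rw [hz])]
        · have hz' : ¬ ((⟨C, z⟩ : Pt) = ⟨C, none⟩) := fun hc => hz (eq_of_heq (Sigma.mk.inj hc).2)
          rw [if_neg hz, if_neg hz']
      · by_cases hz : z = x
        · rw [if_pos hz, if_pos (by rw [hz])]
        · have hz' : ¬ ((⟨C, z⟩ : Pt) = ⟨C, x⟩) := fun hc => hz (eq_of_heq (Sigma.mk.inj hc).2)
          rw [if_neg hz, if_neg hz']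
    · rw [if_neg he]
      exact hoff x z he
  have hsnd : ∀ x y : Pt, x.1 = y.1 → ∀ z : Pt,
      (tr x y).2 (w z) = (if z = x then 1 else 0) + (if z = y then 1 else 0) := by
    intro x y hxy z
    show B (V' x + V' y) (wW z.2) = _
    rw [B_add_left, hval, hval]
    by_cases he : x.1 = z.1
    · rw [if_pos he, if_pos (hxy.symm.trans he)]
      have : ∀ a b c : ZMod 2, (a + b) + (a + c) = b + c := by decide
      exact this _ _ _
    · have he' : y.1 ≠ z.1 := fun hc => he (hxy.trans hc)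
      rw [if_neg he, if_neg he', if_neg (fun hc => he (by rw [hc])), if_neg (fun hc => he' (by rw [hc]))]
  have hallp : ∀ p ∈ R, ∃ x y : Pt, blk x = blk y ∧ p = tr x y := by
    intro p hp
    obtain ⟨K, hK, hpK⟩ := exists_star hp
    let C : I := ⟨cl K, K, hK, rfl⟩
    have h1 : p ∈ cl (st C) := by
      rw [← hcl C]
      exact Or.inl hpK
    obtain ⟨x, y, hne, he⟩ := exists_val h1
    exact ⟨⟨C, x⟩, ⟨C, y⟩, rfl, he⟩
  refine ⟨Pt, I, inferInstance, hfI, dP, dI, blk, w, tr, ?_, ?_, ?_, ?_, ?_, ?_, ?_, hsnd, ?_, ?_, ?_⟩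
  · intro x
    rw [hcard]
    exact ((hst x.1).even h).add_one
  · intro x
    rw [hcard]
    obtain ⟨k, hk⟩ := (hst x.1).ne
    obtain ⟨k', hk', hne⟩ := (hst x.1).exists_ne h k hk
    have : Nontrivial (st x.1) := ⟨⟨⟨k, hk⟩, ⟨k', hk'⟩, fun hc => hne (congrArg Subtype.val hc).symm⟩⟩
    have h2 : 1 < Nat.card (st x.1) := Finite.one_lt_card
    omega
  · intro C
    exact ⟨⟨C, none⟩, rfl⟩
  · rintro ⟨C, x⟩ ⟨C', y⟩ hne hb
    have hb' : C = C' := hb
    subst hb'
    exact (hst C).cl_sub h (Star.val_add_mem fun (hc : x = y) => hne (by rw [hc]))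
  · intro x y
    exact add_comm _ _
  · rintro ⟨C, x⟩ ⟨C', y⟩ hb
    have hb' : C = C' := hb
    subst hb'
    show (val x + val y).1 = (wW x).1 + (wW y).1
    rw [wW, wW, Prod.fst_add, Prod.fst_add, Prod.fst_add]
    set S := (∑ k : st C, (k : W V)).1
    have : S + (val x).1 + (S + (val y).1) = (S + S) + ((val x).1 + (val y).1) := by abel
    rw [this, add_self, zero_add]
  · intro x y z _ _
    show V' x + V' y + (V' y + V' z) = V' x + V' z
    have : V' x + V' y + (V' y + V' z) = V' x + (V' y + V' y) + V' z := by abel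
    rw [this, W_add_self, add_zero]
  · intro p hp
    obtain ⟨x, y, hb, he⟩ := hallp p hp
    refine ⟨x, y, ?_, hb, he⟩
    rintro rfl
    apply h.ne_zero hp
    rw [he]
    exact W_add_self _
  · intro x
    rw [hfib, Finset.sum_map]
    show ∑ z : Option (st x.1), (wW z).1 = 0
    rw [← fst_sum, (hst x.1).sum_wW h]
    rfl
  · intro v
    let a : Pt → ZMod 2 := fun x => (V' x).2 v
    refine ⟨a, fun p hp => ?_⟩
    obtain ⟨x, y, hb, he⟩ := hallp p hp
    have h1 : p.2 (∑ z, a z • w z) = a x + a y := by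
      rw [map_sum]
      have h2 : ∀ z ∈ (Finset.univ : Finset Pt), p.2 (a z • w z) =
          (if z = x then a z else 0) + if z = y then a z else 0 := by
        intro z _
        rw [map_smul, smul_eq_mul, he, hsnd x y hb, mul_add, mul_ite, mul_ite, mul_one, mul_zero]
      rw [Finset.sum_congr rfl h2, Finset.sum_add_distrib, Finset.sum_ite_eq', Finset.sum_ite_eq',
        if_pos (Finset.mem_univ _), if_pos (Finset.mem_univ _)]
    rw [map_add, h1]
    have h3 : p.2 v = a x + a y := by rw [he]; rfl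
    rw [h3]
    exact add_self _

end Cfsg.Agent.Omega.NOThreeL.RRed.TvBlk

end

section


/-!
# The block theorem for transvections over `𝔽₂` (#18552 (c)): consequences

* `Blk.w_inj`, `Blk.indep` : the sums of the blocks are the only relations between the `w x`;
* `Blk.U i` : the span of block `i`; `Blk.C` : the common kernel of the axes; `Blk.ind`, `Blk.top` : `V` is the direct
  sum of the `U i` and `C`;
* `Blk.perm` : an automorphism of `V` which preserves `R` permutes the letters and the blocks;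
* `Blk.act_tr` : the transvection `tr x y` acts on the letters as the transposition `(x y)`.
-/

set_option autoImplicit false

namespace Cfsg.Agent.Omega.NOThreeL.RRed.TvBlk

open Cfsg.Agent.Omega.Transv

universe u

variable {V : Type u} [AddCommGroup V] [Module (ZMod 2) V]

namespace Blk

variable {R : Set (W V)} {Pt I : Type u} [Fintype Pt] [DecidableEq Pt] [DecidableEq I] {blk : Pt → I} {w : Pt → V}
  {tr : Pt → Pt → W V} (b : Blk R blk w tr)
include b

theorem exists_other (x : Pt) : ∃ y, y ≠ x ∧ blk y = blk x := by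
  have h1 : 1 < (Finset.univ.filter fun y => blk y = blk x).card := by
    have := b.three x
    omega
  obtain ⟨y, hy, hne⟩ := Finset.exists_mem_ne h1 x
  exact ⟨y, hne, (Finset.mem_filter.1 hy).2⟩

theorem exists_third (x y : Pt) (_hxy : blk x = blk y) : ∃ z, z ≠ x ∧ z ≠ y ∧ blk z = blk x := by
  have h1 : ({x, y} : Finset Pt).card < (Finset.univ.filter fun z => blk z = blk x).card := by
    have := b.three x
    have := Finset.card_le_two (a := x) (b := y)
    omega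
  obtain ⟨z, hz, hn⟩ := Finset.exists_mem_notMem_of_card_lt_card h1
  rw [Finset.mem_insert, Finset.mem_singleton, not_or] at hn
  exact ⟨z, hn.1, hn.2, (Finset.mem_filter.1 hz).2⟩

theorem tr_self (x y : Pt) (hxy : blk x = blk y) (hne : x ≠ y) : (tr x y).2 (w x) = 1 := by
  rw [b.tr_snd x y hxy, if_pos rfl, if_neg hne, add_zero]

theorem tr_other (x y z : Pt) (hxy : blk x = blk y) (hx : z ≠ x) (hy : z ≠ y) : (tr x y).2 (w z) = 0 := by
  rw [b.tr_snd x y hxy, if_neg hx, if_neg hy, add_zero]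

theorem w_inj : Function.Injective w := by
  intro x y hxy
  by_contra hne
  obtain ⟨z, hz1, hz2⟩ := b.exists_other x
  by_cases hb : blk x = blk y
  · obtain ⟨z, hz1, hz2, hz3⟩ := b.exists_third x y hb
    have h1 := b.tr_self x z hz3.symm (Ne.symm hz1)
    have h2 := b.tr_other x z y hz3.symm (Ne.symm hne) (Ne.symm hz2)
    rw [hxy, h2] at h1
    exact one_ne h1.symm
  · have h1 := b.tr_self x z hz2.symm (Ne.symm hz1)
    have h2 := b.tr_other x z y hz2.symm (Ne.symm hne) (fun hc => hb (by rw [hc]; exact hz2.symm))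
    rw [hxy, h2] at h1
    exact one_ne h1.symm

/-- the value of an axis on a combination -/
theorem snd_sum (x y : Pt) (hxy : blk x = blk y) (a : Pt → ZMod 2) : (tr x y).2 (∑ z, a z • w z) = a x + a y := by
  rw [map_sum]
  have h2 : ∀ z ∈ (Finset.univ : Finset Pt), (tr x y).2 (a z • w z) =
      (if z = x then a z else 0) + if z = y then a z else 0 := by
    intro z _
    rw [map_smul, smul_eq_mul, b.tr_snd x y hxy, mul_add, mul_ite, mul_ite, mul_one, mul_zero]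
  rw [Finset.sum_congr rfl h2, Finset.sum_add_distrib, Finset.sum_ite_eq', Finset.sum_ite_eq',
    if_pos (Finset.mem_univ _), if_pos (Finset.mem_univ _)]

/-- the coefficients of a combination in the common kernel of the axes are constant on the blocks -/
theorem const_of (a : Pt → ZMod 2) (ha : ∀ p ∈ R, p.2 (∑ z, a z • w z) = 0) (x y : Pt) (hxy : blk x = blk y) :
    a x = a y := by
  by_cases hne : x = y
  · rw [hne]
  have h1 := ha _ (b.tr_mem x y hne hxy)
  rw [b.snd_sum x y hxy] at h1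
  exact eq_of_add h1

/-- a combination whose coefficients are constant on the blocks is zero -/
theorem eq_zero_of_const [Fintype I] (a : Pt → ZMod 2) (ha : ∀ x y, blk x = blk y → a x = a y) :
    ∑ z, a z • w z = 0 := by
  classical
  rw [← Finset.sum_fiberwise (s := Finset.univ) (g := blk)]
  refine Finset.sum_eq_zero fun i _ => ?_
  obtain ⟨x, rfl⟩ := b.surj i
  have h1 : ∑ z ∈ Finset.univ.filter (fun z => blk z = blk x), a z • w z =
      ∑ z ∈ Finset.univ.filter (fun z => blk z = blk x), a x • w z :=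
    Finset.sum_congr rfl fun z hz => by rw [ha z x (Finset.mem_filter.1 hz).2]
  rw [h1, ← Finset.smul_sum, b.sum_zero, smul_zero]

theorem indep (a : Pt → ZMod 2) (ha : ∑ z, a z • w z = 0) (x y : Pt) (hxy : blk x = blk y) : a x = a y :=
  b.const_of a (fun p _ => by rw [ha, map_zero]) x y hxy

/-- a combination of the letters which is in the common kernel of the axes is zero -/
theorem eq_zero [Fintype I] {v : V} (hv : v ∈ Submodule.span (ZMod 2) (Set.range w)) (h0 : ∀ p ∈ R, p.2 v = 0) :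
    v = 0 := by
  rw [Submodule.mem_span_range_iff_exists_fun] at hv
  obtain ⟨a, rfl⟩ := hv
  exact b.eq_zero_of_const a (b.const_of a h0)

/-- the letters are sums of centres -/
theorem w_mem (x : Pt) : w x ∈ Submodule.span (ZMod 2) (Prod.fst '' R) := by
  classical
  have h1 : w x = ∑ y ∈ Finset.univ.filter (fun y => blk y = blk x), (w x + w y) := by
    rw [Finset.sum_add_distrib, b.sum_zero, add_zero, Finset.sum_const, ← Nat.cast_smul_eq_nsmul (ZMod 2)]
    obtain ⟨k, hk⟩ := b.odd x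
    rw [hk]
    push_cast
    have : (2 : ZMod 2) = 0 := by decide
    rw [this, zero_mul, zero_add, one_smul]
  rw [h1]
  refine Submodule.sum_mem _ fun y hy => ?_
  have hy' := (Finset.mem_filter.1 hy).2
  by_cases hne : x = y
  · rw [hne, add_self]; exact Submodule.zero_mem _
  · rw [← b.tr_fst x y hy'.symm]
    exact Submodule.subset_span ⟨_, b.tr_mem x y hne hy'.symm, rfl⟩

theorem span_eq : Submodule.span (ZMod 2) (Set.range w) = Submodule.span (ZMod 2) (Prod.fst '' R) := by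
  apply le_antisymm
  · rw [Submodule.span_le]
    rintro _ ⟨x, rfl⟩
    exact b.w_mem x
  · rw [Submodule.span_le]
    rintro _ ⟨p, hp, rfl⟩
    obtain ⟨x, y, -, hb, rfl⟩ := b.all p hp
    rw [b.tr_fst x y hb]
    exact Submodule.add_mem _ (Submodule.subset_span ⟨x, rfl⟩) (Submodule.subset_span ⟨y, rfl⟩)

/-- the transvection `tr x y` is the transposition `(x y)` of the letters -/
theorem act_tr (x y : Pt) (hxy : blk x = blk y) (z : Pt) :
    w z + (tr x y).2 (w z) • (tr x y).1 = w (Equiv.swap x y z) := by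
  rw [b.tr_snd x y hxy, b.tr_fst x y hxy]
  by_cases h1 : z = x
  · subst h1
    rw [Equiv.swap_apply_left]
    by_cases h2 : z = y
    · subst h2
      rw [if_pos rfl, add_self, zero_smul, add_zero]
    · rw [if_pos rfl, if_neg h2, add_zero, one_smul, ← add_assoc, add_self, zero_add]
  · by_cases h2 : z = y
    · subst h2
      rw [Equiv.swap_apply_right, if_neg h1, if_pos rfl, zero_add, one_smul, add_comm (w x), ← add_assoc, add_self,
        zero_add]
    · rw [Equiv.swap_apply_of_ne_of_ne h1 h2, if_neg h1, if_neg h2, add_zero, zero_smul, add_zero]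

/-- a transposition is determined by its letters -/
theorem tr_eq {x y u v : Pt} (hxy : blk x = blk y) (huv : blk u = blk v) (hne : x ≠ y) (h : tr x y = tr u v) :
    (u = x ∧ v = y) ∨ (u = y ∧ v = x) := by
  have h1 : ∀ z, (z = x ∨ z = y) → (z = u ∨ z = v) := by
    intro z hz
    by_contra hn
    push Not at hn
    have e1 : (tr u v).2 (w z) = 0 := b.tr_other u v z huv hn.1 hn.2
    rw [← h, b.tr_snd x y hxy] at e1
    rcases hz with rfl | rfl
    · rw [if_pos rfl, if_neg hne, add_zero] at e1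
      exact one_ne e1
    · rw [if_pos rfl, if_neg hne.symm, zero_add] at e1
      exact one_ne e1
  rcases h1 x (Or.inl rfl) with rfl | rfl <;> rcases h1 y (Or.inr rfl) with rfl | rfl
  · exact absurd rfl hne
  · exact Or.inl ⟨rfl, rfl⟩
  · exact Or.inr ⟨rfl, rfl⟩
  · exact absurd rfl hne

end Blk

/-- the action of an automorphism of `V` on pairs -/
def conjW (φ : V ≃ₗ[ZMod 2] V) (p : W V) : W V := (φ p.1, p.2 ∘ₗ (φ.symm : V →ₗ[ZMod 2] V))

theorem conjW_inj (φ : V ≃ₗ[ZMod 2] V) : Function.Injective (conjW φ) := by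
  intro p q hpq
  have h1 : φ p.1 = φ q.1 := congrArg Prod.fst hpq
  have h2 : p.2 ∘ₗ (φ.symm : V →ₗ[ZMod 2] V) = q.2 ∘ₗ (φ.symm : V →ₗ[ZMod 2] V) := congrArg Prod.snd hpq
  refine Prod.ext (φ.injective h1) ?_
  ext v
  have h3 := congrArg (fun f : V →ₗ[ZMod 2] ZMod 2 => f (φ v)) h2
  simpa using h3

theorem conjW_surj [Finite V] (φ : V ≃ₗ[ZMod 2] V) {R : Set (W V)} (hφ : ∀ p ∈ R, conjW φ p ∈ R) {q : W V}
    (hq : q ∈ R) : ∃ p ∈ R, conjW φ p = q := by
  have hW : Finite (W V) := finite_W V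
  let f : R → R := fun p => ⟨conjW φ p, hφ p p.2⟩
  have hf : Function.Injective f := fun p q hpq => Subtype.ext (conjW_inj φ (congrArg Subtype.val hpq))
  obtain ⟨p, hp⟩ := (Finite.injective_iff_surjective.1 hf) ⟨q, hq⟩
  exact ⟨p, p.2, congrArg Subtype.val hp⟩

theorem conjW_B (φ : V ≃ₗ[ZMod 2] V) (p : W V) (v : V) : (conjW φ p).2 (φ v) = p.2 v := by
  simp [conjW]

theorem conjW_add (φ : V ≃ₗ[ZMod 2] V) (p q : W V) : conjW φ (p + q) = conjW φ p + conjW φ q := by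
  refine Prod.ext ?_ ?_
  · simp [conjW]
  · ext v
    simp only [conjW, _root_.Prod.fst_add, _root_.map_add, _root_.Prod.snd_add, _root_.LinearMap.coe_comp, _root_.LinearEquiv.coe_coe, _root_.Function.comp_apply, _root_.LinearMap.add_apply, _root_.Prod.mk_add_mk]

namespace Blk

variable {R : Set (W V)} {Pt I : Type u} [Fintype Pt] [DecidableEq Pt] [DecidableEq I] {blk : Pt → I} {w : Pt → V}
  {tr : Pt → Pt → W V} (b : Blk R blk w tr)
include b

/-- non-commuting members share exactly one letter -/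
theorem share {x y u v : Pt} (hxy : blk x = blk y) (huv : blk u = blk v) (hne : x ≠ y) (hne' : u ≠ v)
    (hB : B (tr x y) (tr u v) ≠ 0) : ∃ z s t, s ≠ t ∧ z ≠ s ∧ z ≠ t ∧ blk s = blk z ∧ blk t = blk z ∧
      tr x y = tr z s ∧ tr u v = tr z t ∧ (z = x ∨ z = y) ∧ (z = u ∨ z = v) := by
  have h1 : B (tr x y) (tr u v) =
      ((if u = x then 1 else 0) + (if u = y then 1 else 0)) + ((if v = x then 1 else 0) + (if v = y then 1 else 0)) := by
    show (tr x y).2 (tr u v).1 = _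
    rw [b.tr_fst u v huv, map_add, b.tr_snd x y hxy, b.tr_snd x y hxy]
  rw [h1] at hB
  by_cases ux : u = x
  · subst ux
    by_cases vy : v = y
    · subst vy
      exfalso
      rw [if_pos rfl, if_neg hne, if_neg hne.symm, if_pos rfl] at hB
      apply hB; decide
    · exact ⟨u, y, v, Ne.symm vy, hne, hne', hxy.symm, huv.symm, rfl, rfl, Or.inl rfl, Or.inl rfl⟩
  · by_cases uy : u = y
    · subst uy
      by_cases vx : v = x
      · subst vx
        exfalso
        rw [if_neg ux, if_pos rfl, if_pos rfl, if_neg hne'.symm] at hB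
        apply hB; decide
      · exact ⟨u, x, v, Ne.symm vx, Ne.symm hne, hne', hxy, huv.symm, b.tr_comm _ _, rfl, Or.inr rfl, Or.inl rfl⟩
    · by_cases vx : v = x
      · subst vx
        exact ⟨v, y, u, Ne.symm uy, hne, Ne.symm hne', hxy.symm, huv, rfl, b.tr_comm _ _, Or.inl rfl, Or.inr rfl⟩
      · by_cases vy : v = y
        · subst vy
          exact ⟨v, x, u, Ne.symm ux, Ne.symm hne, Ne.symm hne', hxy, huv, b.tr_comm _ _, b.tr_comm _ _, Or.inr rfl,
            Or.inr rfl⟩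
        · exfalso
          rw [if_neg ux, if_neg uy, if_neg vx, if_neg vy] at hB
          apply hB; decide

theorem mem_letters {x y z : Pt} (hxy : blk x = blk y) (h1 : (tr x y).2 (w z) = 1) : z = x ∨ z = y := by
  by_contra hn
  push Not at hn
  rw [b.tr_other x y z hxy hn.1 hn.2] at h1
  exact one_ne h1.symm

theorem B_of_ne {x y u : Pt} (hxy : blk x = blk y) (hxu : blk x = blk u) (nxy : x ≠ y) (nxu : x ≠ u) (nyu : y ≠ u) :
    B (tr x y) (tr x u) = 1 := by
  show (tr x y).2 (tr x u).1 = 1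
  rw [b.tr_fst x u hxu, map_add, b.tr_self x y hxy nxy, b.tr_other x y u hxy nxu.symm nyu.symm, add_zero]

/-- the letter `x` is mapped to `z`: one half -/
theorem star_map (φ : V ≃ₗ[ZMod 2] V) (hφ : ∀ p ∈ R, conjW φ p ∈ R) {x y u z s t : Pt} (bxy : blk x = blk y)
    (bxu : blk x = blk u) (nxy : x ≠ y) (nxu : x ≠ u) (nyu : y ≠ u) (bzs : blk z = blk s) (bzt : blk z = blk t)
    (nzs : z ≠ s) (nzt : z ≠ t) (nst : s ≠ t) (e1 : conjW φ (tr x y) = tr z s) (e2 : conjW φ (tr x u) = tr z t)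
    (p : W V) (hp : p ∈ R) (h1 : p.2 (w x) = 1) : (conjW φ p).2 (w z) = 1 := by
  obtain ⟨c, d, ncd, bcd, hcd⟩ := b.all _ (hφ p hp)
  -- write `p = tr x v`
  obtain ⟨v, nxv, bxv, rfl⟩ : ∃ v, x ≠ v ∧ blk x = blk v ∧ p = tr x v := by
    obtain ⟨c, d, ncd, bcd, rfl⟩ := b.all p hp
    rcases b.mem_letters bcd h1 with rfl | rfl
    · exact ⟨d, ncd, bcd, rfl⟩
    · exact ⟨c, ncd.symm, bcd.symm, b.tr_comm _ _⟩
  by_contra hne
  have hz : (tr c d).2 (w z) = 0 := by
    rw [← hcd]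
    exact eq_zero_of_ne hne
  have nzc : z ≠ c := by
    rintro rfl
    rw [b.tr_self _ _ bcd ncd] at hz
    exact one_ne hz
  have nzd : z ≠ d := by
    rintro rfl
    rw [b.tr_comm, b.tr_self _ _ bcd.symm ncd.symm] at hz
    exact one_ne hz
  have nvy : v ≠ y := by
    rintro rfl
    rw [e1, b.tr_self z s bzs nzs] at hne
    exact hne rfl
  have nvu : v ≠ u := by
    rintro rfl
    rw [e2, b.tr_self z t bzt nzt] at hne
    exact hne rfl
  -- `s` and `t` are letters of `conjW φ p`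
  have key : ∀ s : Pt, blk z = blk s → z ≠ s → B (tr c d) (tr z s) ≠ 0 → s = c ∨ s = d := by
    intro s bzs nzs hB
    by_contra hn
    push Not at hn
    apply hB
    show (tr c d).2 (tr z s).1 = 0
    rw [b.tr_fst z s bzs, map_add, b.tr_other c d z bcd nzc nzd, b.tr_other c d s bcd hn.1 hn.2, add_zero]
  have B1 : B (tr c d) (tr z s) ≠ 0 := by
    rw [← hcd, ← e1]
    show (conjW φ (tr x v)).2 (φ (tr x y).1) ≠ 0
    rw [conjW_B]
    show B (tr x v) (tr x y) ≠ 0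
    rw [b.B_of_ne bxv bxy nxv nxy nvy]
    exact one_ne
  have B2 : B (tr c d) (tr z t) ≠ 0 := by
    rw [← hcd, ← e2]
    show (conjW φ (tr x v)).2 (φ (tr x u).1) ≠ 0
    rw [conjW_B]
    show B (tr x v) (tr x u) ≠ 0
    rw [b.B_of_ne bxv bxu nxv nxu nvu]
    exact one_ne
  have hcdst : tr c d = tr s t := by
    rcases key s bzs nzs B1 with rfl | rfl <;> rcases key t bzt nzt B2 with rfl | rfl
    · exact absurd rfl nst
    · rfl
    · exact b.tr_comm _ _
    · exact absurd rfl nst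
  have e3 : tr s t = conjW φ (tr y u) := by
    have h2 : tr y x + tr x u = tr y u := b.tr_add y x u bxy.symm bxu
    rw [← h2, conjW_add, b.tr_comm y x, e1, e2, b.tr_comm z s]
    exact (b.tr_add s z t bzs.symm bzt).symm
  have e4 : tr x v = tr y u := by
    apply conjW_inj φ
    rw [hcd, hcdst, e3]
  rw [e4, b.tr_other y u x (bxy.symm.trans bxu) nxy nxu] at h1
  exact one_ne h1.symm

theorem exists_letter [Finite V] [Fintype I] (φ : V ≃ₗ[ZMod 2] V) (hφ : ∀ p ∈ R, conjW φ p ∈ R) (x : Pt) :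
    ∃ z, φ (w x) = w z := by
  obtain ⟨y, nyx, byx⟩ := b.exists_other x
  obtain ⟨u, nux, nuy, bux⟩ := b.exists_third x y byx.symm
  have m1 := hφ _ (b.tr_mem x y nyx.symm byx.symm)
  have m2 := hφ _ (b.tr_mem x u nux.symm bux.symm)
  obtain ⟨c, d, ncd, bcd, hcd⟩ := b.all _ m1
  obtain ⟨c', d', ncd', bcd', hcd'⟩ := b.all _ m2
  have hB : B (tr c d) (tr c' d') ≠ 0 := by
    rw [← hcd, ← hcd']
    show (conjW φ (tr x y)).2 (φ (tr x u).1) ≠ 0
    rw [conjW_B]
    show B (tr x y) (tr x u) ≠ 0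
    rw [b.B_of_ne byx.symm bux.symm nyx.symm nux.symm nuy.symm]
    exact one_ne
  obtain ⟨z, s, t, nst, nzs, nzt, bsz, btz, e1, e2, -, -⟩ := b.share bcd bcd' ncd ncd' hB
  rw [e1] at hcd
  rw [e2] at hcd'
  refine ⟨z, ?_⟩
  have hψ : ∀ p ∈ R, conjW φ.symm p ∈ R := by
    intro p hp
    obtain ⟨q, hq, rfl⟩ := conjW_surj φ hφ hp
    have : conjW φ.symm (conjW φ q) = q := by
      refine Prod.ext ?_ ?_
      · simp [conjW]
      · ext v
        simp [conjW]
    rw [this]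
    exact hq
  have inv : ∀ q : W V, conjW φ.symm (conjW φ q) = q := by
    intro q
    refine Prod.ext ?_ ?_
    · simp [conjW]
    · ext v
      simp [conjW]
  have inv' : ∀ q : W V, conjW φ (conjW φ.symm q) = q := by
    intro q
    refine Prod.ext ?_ ?_
    · simp [conjW]
    · ext v
      simp [conjW]
  have A1 := b.star_map φ hφ byx.symm bux.symm nyx.symm nux.symm nuy.symm bsz.symm btz.symm nzs nzt nst hcd hcd'
  have A2 := b.star_map φ.symm hψ bsz.symm btz.symm nzs nzt nst byx.symm bux.symm nyx.symm nux.symm nuy.symm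
    (by rw [← hcd, inv]) (by rw [← hcd', inv])
  have hval : ∀ q ∈ R, q.2 (φ (w x) + w z) = 0 := by
    intro q hq
    obtain ⟨p, hp, rfl⟩ := conjW_surj φ hφ hq
    rw [map_add, conjW_B]
    rcases zmod_cases (p.2 (w x)) with h0 | h0
    · rcases zmod_cases ((conjW φ p).2 (w z)) with h1 | h1
      · rw [h0, h1, add_zero]
      · have h2 := A2 _ (hφ p hp) h1
        rw [inv, h0] at h2
        exact absurd h2.symm one_ne
    · rw [h0, A1 p hp h0]
      decide
  have hspan : φ (w x) + w z ∈ Submodule.span (ZMod 2) (Set.range w) := by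
    refine Submodule.add_mem _ ?_ (Submodule.subset_span ⟨z, rfl⟩)
    rw [b.span_eq]
    have h1 : Submodule.span (ZMod 2) (Prod.fst '' R) ≤
        (Submodule.span (ZMod 2) (Prod.fst '' R)).comap (φ : V →ₗ[ZMod 2] V) := by
      rw [Submodule.span_le]
      rintro _ ⟨p, hp, rfl⟩
      exact Submodule.subset_span ⟨_, hφ p hp, rfl⟩
    exact h1 (b.w_mem x)
  exact eq_of_add (b.eq_zero hspan hval)

/-- an automorphism of `V` which preserves `R` permutes the letters and the blocks -/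
theorem perm [Finite V] [Fintype I] (φ : V ≃ₗ[ZMod 2] V) (hφ : ∀ p ∈ R, conjW φ p ∈ R) :
    ∃ σ : Equiv.Perm Pt, (∀ x, φ (w x) = w (σ x)) ∧ (∀ x y, blk x = blk y ↔ blk (σ x) = blk (σ y)) ∧
      ∀ x y, blk x = blk y → conjW φ (tr x y) = tr (σ x) (σ y) := by
  choose f hf using b.exists_letter φ hφ
  have hinj : Function.Injective f := fun x y hxy => b.w_inj (φ.injective (by rw [hf, hf, hxy]))
  have hbij : Function.Bijective f := Finite.injective_iff_bijective.1 hinj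
  have h1 : ∀ x y, x ≠ y → blk x = blk y → blk (f x) = blk (f y) ∧ conjW φ (tr x y) = tr (f x) (f y) := by
    intro x y hne hb
    obtain ⟨c, d, ncd, bcd, hcd⟩ := b.all _ (hφ _ (b.tr_mem x y hne hb))
    have e1 : (tr c d).2 (w (f x)) = 1 := by
      rw [← hcd, ← hf, conjW_B, b.tr_self x y hb hne]
    have e2 : (tr c d).2 (w (f y)) = 1 := by
      rw [← hcd, ← hf, conjW_B, b.tr_comm, b.tr_self y x hb.symm hne.symm]
    rcases b.mem_letters bcd e1 with h3 | h3 <;> rcases b.mem_letters bcd e2 with h4 | h4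
    · exact absurd (hinj (h3.trans h4.symm)) hne
    · rw [h3, h4]; exact ⟨bcd, hcd⟩
    · rw [h3, h4, b.tr_comm d c]; exact ⟨bcd.symm, hcd⟩
    · exact absurd (hinj (h3.trans h4.symm)) hne
  have tr0 : ∀ x, tr x x = 0 := by
    intro x
    have h2 := b.tr_add x x x rfl rfl
    simpa using h2
  have hψ : ∀ p ∈ R, conjW φ.symm p ∈ R := by
    intro p hp
    obtain ⟨q, hq, rfl⟩ := conjW_surj φ hφ hp
    have : conjW φ.symm (conjW φ q) = q := by
      refine Prod.ext ?_ ?_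
      · simp [conjW]
      · ext v
        simp [conjW]
    rw [this]
    exact hq
  refine ⟨Equiv.ofBijective f hbij, hf, fun x y => ⟨fun hb => ?_, fun hb => ?_⟩, fun x y hb => ?_⟩
  · by_cases hne : x = y
    · rw [hne]
    · exact (h1 x y hne hb).1
  · by_cases hne : x = y
    · rw [hne]
    have hne' : f x ≠ f y := fun hc => hne (hinj hc)
    have hb' : blk (f x) = blk (f y) := hb
    obtain ⟨c, d, ncd, bcd, hcd⟩ := b.all _ (hψ _ (b.tr_mem (f x) (f y) hne' hb'))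
    have e1 : (tr c d).2 (w x) = 1 := by
      rw [← hcd]
      have := conjW_B φ.symm (tr (f x) (f y)) (w (f x))
      rw [← hf x, LinearEquiv.symm_apply_apply, hf x] at this
      rw [this, b.tr_self _ _ hb' hne']
    have e2 : (tr c d).2 (w y) = 1 := by
      rw [← hcd]
      have := conjW_B φ.symm (tr (f x) (f y)) (w (f y))
      rw [← hf y, LinearEquiv.symm_apply_apply, hf y] at this
      rw [this, b.tr_comm, b.tr_self _ _ hb'.symm hne'.symm]
    rcases b.mem_letters bcd e1 with h3 | h3 <;> rcases b.mem_letters bcd e2 with h4 | h4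
    · rw [h3, h4]
    · rw [h3, h4]; exact bcd
    · rw [h3, h4]; exact bcd.symm
    · rw [h3, h4]
  · by_cases hne : x = y
    · rw [hne, tr0]
      show _ = tr (f y) (f y)
      rw [tr0]
      refine Prod.ext ?_ ?_
      · simp [conjW]
      · ext v
        simp only [conjW, _root_.Prod.fst_zero, _root_.map_zero, _root_.Prod.snd_zero, _root_.LinearMap.zero_comp, _root_.LinearMap.zero_apply]
    · exact (h1 x y hne hb).2

end Blk

end Cfsg.Agent.Omega.NOThreeL.RRed.TvBlk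

end

private theorem dce_b80d29f8d267 : _root_.True := by
  try have : _root_.True := by simp only [_root_.Cfsg.Agent.Omega.NOThreeL.RRed.TvBlk.B.eq_1]
  try have : _root_.True := by simp only [_root_.Cfsg.Agent.Omega.NOThreeL.RRed.TvBlk.conjW.eq_1]
  try have : _root_.True := by simp only [_root_.Cfsg.Agent.Omega.NOThreeL.RRed.TvBlk.wW.eq_1]
  exact _root_.True.intro
end

-- part: Mrg/Omega/NOThreeL/RRed/TvSys
section
set_option linter.all false
open scoped Cfsg.Agent.FastGrp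


/-!
# The transvections of a group without over-offenders form a system (#18552 (c), #23683, #23880)

`P` acts faithfully on the `𝔽₂`-space `V`, `O₂(P) = 1`, no elementary abelian 2-subgroup `A` of `P` is an over-offender
(`|A| |C_V(A)| > |V|`), and `V` is generated by the conjugates of the fixed vectors of a Sylow 2-subgroup. Then the pairs
(centre, axis) of the transvections of `P` satisfy `Sys`.
-/

set_option autoImplicit false

namespace Cfsg.Agent.Omega.NOThreeL.RRed.TvBlk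

open Cfsg.Agent.Omega.Transv Subgroup
open scoped Pointwise

variable {V : Type*} [AddCommGroup V] [Module (ZMod 2) V]

/-! ## The operators of a commuting family -/

/-- the operator `∑ aᵢ (dᵢ - 1)` of a family of transvections -/
def opr {n : ℕ} (p : Fin n → W V) (a : Fin n → ZMod 2) (x : V) : V := ∑ i, a i • (p i).2 x • (p i).1

theorem opr_vec {n : ℕ} (p : Fin n → W V) (a : Fin n → ZMod 2) (x y : V) :
    opr p a (x + y) = opr p a x + opr p a y := by
  rw [opr, opr, opr, ← Finset.sum_add_distrib]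
  refine Finset.sum_congr rfl fun i _ => ?_
  rw [map_add, add_smul, smul_add]

theorem opr_add {n : ℕ} (p : Fin n → W V) (a b : Fin n → ZMod 2) (x : V) :
    opr p (a + b) x = opr p a x + opr p b x := by
  rw [opr, opr, opr, ← Finset.sum_add_distrib]
  refine Finset.sum_congr rfl fun i _ => ?_
  rw [Pi.add_apply, add_smul]

theorem opr_fun {n : ℕ} {p : Fin n → W V} (hB : ∀ i j, B (p i) (p j) = 0) (b : Fin n → ZMod 2) (x : V)
    (i : Fin n) : (p i).2 (opr p b x) = 0 := by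
  rw [opr, map_sum]
  refine Finset.sum_eq_zero fun j _ => ?_
  have h1 : (p i).2 (p j).1 = 0 := hB i j
  rw [map_smul, map_smul, h1, smul_zero, smul_zero]

theorem opr_opr {n : ℕ} {p : Fin n → W V} (hB : ∀ i j, B (p i) (p j) = 0) (a b : Fin n → ZMod 2) (x : V) :
    opr p a (opr p b x) = 0 := by
  rw [opr]
  refine Finset.sum_eq_zero fun i _ => ?_
  rw [opr_fun hB, zero_smul, smul_zero]

variable {P : Type*} [Group P] [DistribMulAction P V]

/-- the group of a commuting family -/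
def grp (P : Type*) [Group P] [DistribMulAction P V] {n : ℕ} (p : Fin n → W V)
    (hB : ∀ i j, B (p i) (p j) = 0) : Subgroup P where
  carrier := {g | ∃ a : Fin n → ZMod 2, ∀ x : V, g • x = x + opr p a x}
  one_mem' := ⟨0, fun x => by simp [opr]⟩
  mul_mem' := by
    rintro g k ⟨a, ha⟩ ⟨b, hb⟩
    refine ⟨a + b, fun x => ?_⟩
    rw [mul_smul, hb, ha, opr_vec, opr_opr hB, add_zero, opr_add]
    abel
  inv_mem' := by
    rintro g ⟨a, ha⟩
    refine ⟨a, fun x => ?_⟩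
    rw [inv_smul_eq_iff, ha, opr_vec, opr_opr hB, add_zero, add_assoc, add_self, add_zero]

theorem tv_mem_grp {n : ℕ} {p : Fin n → W V} (hB : ∀ i j, B (p i) (p j) = 0) {i : Fin n} {d : P}
    (hd : Tv d (p i).1 (p i).2) : d ∈ grp P p hB := by
  refine ⟨Pi.single i 1, fun x => ?_⟩
  rw [hd.act, opr, Finset.sum_eq_single i]
  · rw [Pi.single_eq_same, one_smul]
  · intro j _ hj
    rw [Pi.single_eq_of_ne hj, zero_smul]
  · intro h
    exact absurd (Finset.mem_univ i) h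

theorem grp_abelian (hf : Faith P V) {n : ℕ} {p : Fin n → W V} (hB : ∀ i j, B (p i) (p j) = 0) :
    IsElementaryAbelian 2 (grp P p hB) := by
  refine ⟨⟨⟨?_⟩⟩, ?_⟩
  · rintro ⟨g, a, ha⟩ ⟨k, b, hb⟩
    refine Subtype.ext (hf.ext fun x => ?_)
    change (g * k) • x = (k * g) • x
    rw [mul_smul, mul_smul, hb, ha, ha, hb, opr_vec, opr_vec, opr_opr hB, opr_opr hB]
    abel
  · rintro g ⟨a, ha⟩
    refine hf _ fun x => ?_
    rw [pow_two, mul_smul, ha, ha, opr_vec, opr_opr hB, add_zero, add_assoc, add_self, add_zero]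

/-- every combination is realised -/
theorem exists_opr {n : ℕ} {p : Fin n → W V} (hR : ∀ i, ∃ d : P, Tv d (p i).1 (p i).2)
    (hB : ∀ i j, B (p i) (p j) = 0) (a : Fin n → ZMod 2) : ∃ g : P, ∀ x : V, g • x = x + opr p a x := by
  classical
  have key : ∀ s : Finset (Fin n), ∃ g : P, ∀ x : V, g • x = x + ∑ i ∈ s, a i • (p i).2 x • (p i).1 := by
    intro s
    induction s using Finset.induction_on with
    | empty => exact ⟨1, fun x => by rw [one_smul, Finset.sum_empty, add_zero]⟩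
    | insert j s hj ih =>
      obtain ⟨g, hg⟩ := ih
      rcases zmod_cases (a j) with h0 | h1
      · refine ⟨g, fun x => ?_⟩
        rw [Finset.sum_insert hj, h0, zero_smul, zero_add, hg]
      · obtain ⟨d, hd⟩ := hR j
        refine ⟨d * g, fun x => ?_⟩
        have h2 : (p j).2 (∑ i ∈ s, a i • (p i).2 x • (p i).1) = 0 := by
          rw [map_sum]
          refine Finset.sum_eq_zero fun i _ => ?_
          have h3 : (p j).2 (p i).1 = 0 := hB j i
          rw [map_smul, map_smul, h3, smul_zero, smul_zero]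
        rw [mul_smul, hg, hd.act, map_add, h2, add_zero, Finset.sum_insert hj, h1, one_smul]
        abel
  exact key Finset.univ

theorem card_grp [Finite P] {n : ℕ} {p : Fin n → W V} (hR : ∀ i, ∃ d : P, Tv d (p i).1 (p i).2)
    (hB : ∀ i j, B (p i) (p j) = 0)
    (hi : ∀ a : Fin n → ZMod 2, (∀ x, ∑ i, a i • (p i).2 x • (p i).1 = 0) → a = 0) :
    2 ^ n ≤ Nat.card (grp P p hB) := by
  choose g hg using exists_opr (P := P) hR hB
  have h1 : Function.Injective (fun a : Fin n → ZMod 2 => (⟨g a, a, hg a⟩ : grp P p hB)) := by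
    intro a b hab
    have h2 : g a = g b := congrArg Subtype.val hab
    have h3 : a + b = 0 := by
      refine hi _ fun x => ?_
      have h4 : opr p a x = opr p b x := by
        have h5 := hg a x
        rw [h2, hg b x] at h5
        exact (add_left_cancel h5).symm
      change opr p (a + b) x = 0
      rw [opr_add, h4, add_self]
    exact eq_of_add h3
  have h2 := Nat.card_le_card_of_injective _ h1
  rwa [Nat.card_eq_fintype_card, Fintype.card_fun, ZMod.card, Fintype.card_fin] at h2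

/-- no over-offenders: the axes of an independent commuting family are independent -/
theorem ex_of [Finite P] [Finite V] (hf : Faith P V)
    (hno : ∀ A : Subgroup P, IsElementaryAbelian 2 A → Nat.card A * Nat.card (fixS V A) ≤ Nat.card V)
    {n : ℕ} {p : Fin n → W V} (hR : ∀ i, ∃ d : P, Tv d (p i).1 (p i).2) (hB : ∀ i j, B (p i) (p j) = 0)
    (hi : ∀ a : Fin n → ZMod 2, (∀ x, ∑ i, a i • (p i).2 x • (p i).1 = 0) → a = 0)
    (a : Fin n → ZMod 2) (ha : ∑ i, a i • (p i).2 = 0) : a = 0 := by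
  classical
  by_contra hne
  obtain ⟨i, hai⟩ : ∃ i, a i ≠ 0 := by
    by_contra hc
    push Not at hc
    exact hne (funext hc)
  let Ψ : V →ₗ[ZMod 2] (Fin n → ZMod 2) := LinearMap.pi fun i => (p i).2
  have hr : Ψ.range ≠ ⊤ := by
    intro htop
    have h1 : (Pi.single i 1 : Fin n → ZMod 2) ∈ Ψ.range := by rw [htop]; exact Submodule.mem_top
    obtain ⟨x, hx⟩ := h1
    have h2 : ∀ j, (p j).2 x = (Pi.single i 1 : Fin n → ZMod 2) j := fun j => congrFun hx j
    have h3 : (∑ j, a j • (p j).2) x = 0 := by rw [ha]; rfl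
    rw [LinearMap.sum_apply, Finset.sum_eq_single i] at h3
    · rw [LinearMap.smul_apply, h2, Pi.single_eq_same, smul_eq_mul, mul_one] at h3
      exact hai h3
    · intro j _ hj
      rw [LinearMap.smul_apply, h2, Pi.single_eq_of_ne hj, smul_zero]
    · intro h
      exact absurd (Finset.mem_univ i) h
  have h1 : Module.finrank (ZMod 2) Ψ.range < n := by
    have h2 := Submodule.finrank_lt hr
    rwa [Module.finrank_fin_fun] at h2
  have h2 := LinearMap.finrank_range_add_finrank_ker Ψ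
  have h3 : Nat.card Ψ.ker ≤ Nat.card (fixS V (grp P p hB)) := by
    have h4 : Ψ.ker ≤ fixS V (grp P p hB) := by
      rintro x hx g ⟨b, hb⟩
      have hx' : ∀ j, (p j).2 x = 0 := fun j => congrFun (LinearMap.mem_ker.mp hx) j
      rw [hb, opr, Finset.sum_eq_zero, add_zero]
      intro j _
      rw [hx', zero_smul, smul_zero]
    exact Nat.card_le_card_of_injective _ (Submodule.inclusion_injective h4)
  have h4 := hno _ (grp_abelian hf hB)
  have h5 := card_grp (P := P) hR hB hi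
  have h6 : 2 ^ n * Nat.card Ψ.ker ≤ Nat.card V := (Nat.mul_le_mul h5 h3).trans h4
  rw [Module.natCard_eq_pow_finrank (K := ZMod 2) (V := V), Module.natCard_eq_pow_finrank (K := ZMod 2) (V := Ψ.ker),
    Nat.card_zmod, ← pow_add, ← h2] at h6
  have h7 := (Nat.pow_le_pow_iff_right (by norm_num : 1 < 2)).mp h6
  omega

/-! ## The normal subgroups acting trivially on `V/U` -/

/-- the elements acting trivially on `V/U` -/
def kerU {U : Submodule (ZMod 2) V} (hU : Inv P U) : Subgroup P where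
  carrier := {g | ∀ v : V, g • v + v ∈ U}
  one_mem' := fun v => by rw [one_smul, add_self]; exact U.zero_mem
  mul_mem' := by
    intro g k hg hk v
    have h1 := U.add_mem (hU g _ (hk v)) (hg v)
    rw [smul_add, ← mul_smul] at h1
    have h2 : (g * k) • v + g • v + (g • v + v) = (g * k) • v + v := by
      rw [add_assoc, ← add_assoc (g • v) (g • v) v, add_self, zero_add]
    rwa [h2] at h1
  inv_mem' := by
    intro g hg v
    have h1 := hU g⁻¹ _ (hg v)
    rwa [smul_add, inv_smul_smul, add_comm] at h1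

theorem normal_kerU {U : Submodule (ZMod 2) V} (hU : Inv P U) : (kerU hU).Normal := by
  refine ⟨fun g hg k v => ?_⟩
  have h1 := hU k _ (hg (k⁻¹ • v))
  rwa [smul_add, smul_inv_smul, ← mul_smul, ← mul_smul] at h1

/-- the elements acting trivially on `U` -/
def fixU {U : Submodule (ZMod 2) V} (_hU : Inv P U) : Subgroup P where
  carrier := {g | ∀ u ∈ U, g • u = u}
  one_mem' := fun u _ => one_smul P u
  mul_mem' := fun {g k} hg hk u hu => by rw [mul_smul, hk u hu, hg u hu]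
  inv_mem' := fun {g} hg u hu => by rw [inv_smul_eq_iff, hg u hu]

theorem normal_fixU {U : Submodule (ZMod 2) V} (hU : Inv P U) : (fixU hU).Normal := by
  refine ⟨fun g hg k u hu => ?_⟩
  rw [mul_smul, mul_smul, hg _ (hU k⁻¹ u hu), smul_inv_smul]

theorem inf_eq_bot (hf : Faith P V) (hO : ∀ N : Subgroup P, N.Normal → IsPGroup 2 N → N = ⊥)
    {U : Submodule (ZMod 2) V} (hU : Inv P U) : kerU hU ⊓ fixU hU = ⊥ := by
  have h1 := normal_kerU hU
  have h2 := normal_fixU hU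
  refine hO _ inferInstance fun g => ⟨1, ?_⟩
  obtain ⟨g, hg, hg'⟩ := g
  refine Subtype.ext ?_
  change g ^ (2 ^ 1) = 1
  refine hf _ fun v => ?_
  have h3 := hg' _ (hg v)
  rw [smul_add] at h3
  rw [pow_one, pow_two, mul_smul]
  have h4 : g • g • v + g • v + g • v = g • v + v + g • v := by rw [h3]
  rw [add_add_self] at h4
  rw [h4, add_comm, ← add_assoc, add_self, zero_add]

/-- the span of the centres of the transvections -/
def cenT (P V : Type*) [Group P] [AddCommGroup V] [Module (ZMod 2) V] [DistribMulAction P V] :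
    Submodule (ZMod 2) V := Submodule.span (ZMod 2) {c : V | ∃ (d : P) (f : Du V), Tv d c f}

theorem mem_cenT {d : P} {c : V} {f : Du V} (h : Tv d c f) : c ∈ cenT P V := Submodule.subset_span ⟨d, f, h⟩

theorem inv_cenT : Inv P (cenT P V) := by
  intro g v hv
  have h1 : cenT P V ≤ (cenT P V).comap (lin g : V →ₗ[ZMod 2] V) := by
    rw [cenT, Submodule.span_le]
    rintro c ⟨d, f, h⟩
    change g • c ∈ cenT P V
    exact mem_cenT (h.conj g)
  exact h1 hv

theorem zero_cenT {f : Du V} (h : ∀ (d : P) (c : V) (k : Du V), Tv d c k → f c = 0) {u : V} (hu : u ∈ cenT P V) :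
    f u = 0 := by
  have h1 : cenT P V ≤ f.ker := by
    rw [cenT, Submodule.span_le]
    rintro c ⟨d, k, hd⟩
    exact h d c k hd
  exact h1 hu

/-- an axis does not contain all centres -/
theorem not_zero (hf : Faith P V) (hO : ∀ N : Subgroup P, N.Normal → IsPGroup 2 N → N = ⊥) {d : P} {c : V}
    {f : Du V} (hd : Tv d c f) (hc : c ∈ cenT P V)
    (h : ∀ (e : P) (b : V) (k : Du V), Tv e b k → f b = 0) : False := by
  have h1 : d ∈ kerU (inv_cenT (P := P) (V := V)) ⊓ fixU (inv_cenT (P := P) (V := V)) := by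
    refine ⟨fun v => ?_, fun u hu => ?_⟩
    · rw [hd.act, add_comm, ← add_assoc, add_self, zero_add]
      exact (cenT P V).smul_mem _ hc
    · rw [hd.act, zero_cenT h hu, zero_smul, add_zero]
  rw [inf_eq_bot hf hO] at h1
  exact hd.ne_one (mem_bot.mp h1)

/-! ## Sylow subgroups and normal subgroups -/

theorem exists_conj_mem [Finite P] {N A : Subgroup P} (hN : N.Normal) (hAN : A ≤ N) (hA : IsPGroup 2 A)
    (T : Sylow 2 P) : ∃ n ∈ N, ∀ a ∈ A, n * a * n⁻¹ ∈ T := by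
  have h1 : IsPGroup 2 (A.subgroupOf N) := hA.comap_subtype
  obtain ⟨Q, hQ⟩ := h1.exists_le_sylow
  obtain ⟨S, hS⟩ := Q.exists_comap_subtype_eq
  obtain ⟨x, hx⟩ := MulAction.exists_smul_eq P S T
  have h2 : x ∈ N ⊔ Subgroup.normalizer (Q.map N.subtype : Subgroup P) := by
    rw [sup_comm, Sylow.normalizer_sup_eq_top]
    exact mem_top x
  obtain ⟨n, hn, y, hy, hxy⟩ := mem_sup_of_normal_left.mp h2
  refine ⟨n, hn, fun a ha => ?_⟩
  have h3 : a ∈ (Q.map N.subtype : Subgroup P) := ⟨⟨a, hAN ha⟩, hQ ha, rfl⟩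
  have h4 : y⁻¹ * a * y ∈ (Q.map N.subtype : Subgroup P) := by
    have h5 := (mem_normalizer_iff.mp (inv_mem hy) a).mp h3
    rwa [inv_inv] at h5
  obtain ⟨⟨b, hb⟩, hb', h5⟩ := h4
  have h5' : b = y⁻¹ * a * y := h5
  have h6 : b ∈ (S : Subgroup P) := by
    have h7 : (⟨b, hb⟩ : N) ∈ (S : Subgroup P).comap N.subtype := by rw [hS]; exact hb'
    exact h7
  have h7 : MulAut.conj x b ∈ x • S := smul_mem_pointwise_smul b (MulAut.conj x) _ h6
  rw [hx, MulAut.conj_apply, h5', ← hxy] at h7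
  have h8 : n * y * (y⁻¹ * a * y) * (n * y)⁻¹ = n * a * n⁻¹ := by group
  rwa [h8] at h7

theorem exists_conj_mem' [Finite P] {N A : Subgroup P} (hN : N.Normal) (hAN : A ≤ N) (hA : IsPGroup 2 A)
    (T : Sylow 2 P) (g : P) : ∃ n ∈ N, ∀ a ∈ A, (n * g)⁻¹ * a * (n * g) ∈ T := by
  obtain ⟨n, hn, h⟩ := exists_conj_mem hN hAN hA (g • T)
  refine ⟨n⁻¹, inv_mem hn, fun a ha => ?_⟩
  have h1 : n * a * n⁻¹ ∈ (MulAut.conj g • (T : Subgroup P)) := h a ha
  rw [mem_pointwise_smul_iff_inv_smul_mem, ← map_inv, MulAut.smul_def, MulAut.conj_apply, inv_inv] at h1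
  have h2 : (n⁻¹ * g)⁻¹ * a * (n⁻¹ * g) = g⁻¹ * (n * a * n⁻¹) * g := by group
  rw [h2]
  exact h1

/-- a functional which vanishes on the centres and on the fixed vectors of a commuting family is zero -/
theorem gen_of [Finite P] (hf : Faith P V) (T : Sylow 2 P)
    (hgen : Submodule.span (ZMod 2) {x : V | ∃ g : P, ∃ v, (∀ t ∈ T, t • v = v) ∧ x = g • v} = ⊤)
    {n : ℕ} {p : Fin n → W V} (hR : ∀ i, ∃ d : P, Tv d (p i).1 (p i).2) (hB : ∀ i j, B (p i) (p j) = 0)
    {h : Du V} (h1 : ∀ (d : P) (c : V) (k : Du V), Tv d c k → h c = 0)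
    (h2 : ∀ v, (∀ i, (p i).2 v = 0) → h v = 0) : h = 0 := by
  choose d hd using hR
  have hN := normal_kerU (inv_cenT (P := P) (V := V))
  have hA : IsPGroup 2 (closure (Set.range d)) := by
    have h3 : closure (Set.range d) ≤ grp P p hB := by
      rw [closure_le]
      rintro _ ⟨i, rfl⟩
      exact tv_mem_grp hB (hd i)
    refine IsPGroup.to_le ?_ h3
    rintro ⟨g, hg⟩
    refine ⟨1, Subtype.ext ?_⟩
    change g ^ (2 ^ 1) = 1
    rw [pow_one]
    exact (grp_abelian hf hB).2 g hg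
  have hAN : closure (Set.range d) ≤ kerU (inv_cenT (P := P) (V := V)) := by
    rw [closure_le]
    rintro _ ⟨i, rfl⟩ v
    rw [(hd i).act, add_comm, ← add_assoc, add_self, zero_add]
    exact (cenT P V).smul_mem _ (mem_cenT (hd i))
  refine LinearMap.ext_on hgen ?_
  rintro _ ⟨g, v, hv, rfl⟩
  rw [LinearMap.zero_apply]
  obtain ⟨m, hm, hmT⟩ := exists_conj_mem' hN hAN hA T g
  have h3 : h (m • g • v) = 0 := by
    refine h2 _ fun i => ?_
    rw [← (hd i).fix_iff]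
    have h4 := hv _ (hmT (d i) (subset_closure ⟨i, rfl⟩))
    rw [mul_smul, mul_smul, inv_smul_eq_iff, mul_smul] at h4
    exact h4
  have h4 : h (m • g • v + g • v) = 0 := zero_cenT h1 (hm (g • v))
  rwa [map_add, h3, zero_add] at h4

/-- **The transvections of a group without over-offenders.** -/
theorem sys_of {P : Type*} [Group P] [Finite P] [DistribMulAction P V] [Finite V] (hf : Faith P V)
    (hno : ∀ A : Subgroup P, IsElementaryAbelian 2 A → Nat.card A * Nat.card (fixS V A) ≤ Nat.card V)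
    (hO : ∀ N : Subgroup P, N.Normal → IsPGroup 2 N → N = ⊥) (T : Sylow 2 P)
    (hgen : Submodule.span (ZMod 2) {x : V | ∃ g : P, ∃ v, (∀ t ∈ T, t • v = v) ∧ x = g • v} = ⊤) :
    Sys {p : W V | ∃ d : P, Tv d p.1 p.2} := by
  have h0 : Sys0 {p : W V | ∃ d : P, Tv d p.1 p.2} :=
    { ne1 := fun p ⟨_, hd⟩ => hd.ne
      ne2 := fun p ⟨_, hd⟩ => hd.nz
      self := fun p ⟨_, hd⟩ => hd.self
      conj := fun p ⟨d, hd⟩ q ⟨e, he⟩ => ⟨d * e * d, hd.conj_tv hf he⟩
      ex := fun n p hp hB hi a ha => ex_of hf hno hp hB hi a ha }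
  refine { toSys0 := h0, uf := ?_, nd := ?_, gen := ?_ }
  · rintro p hp q hq hpq
    by_contra hne
    have hne' : p.2 ≠ q.2 := fun h => hne (Prod.ext hpq h)
    obtain ⟨d, hd⟩ := hp
    obtain ⟨e, he⟩ := hq
    have he' : Tv e p.1 q.2 := by rw [hpq]; exact he
    refine not_zero hf hO (hd.mul_centre he' hne') (mem_cenT hd) ?_
    intro k b f hk
    have h1 : B p (b, f) = B (b, f) p := h0.sym ⟨d, hd⟩ ⟨k, hk⟩
    have h2 : B q (b, f) = B (b, f) q := h0.sym ⟨e, he⟩ ⟨k, hk⟩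
    have h3 : B (b, f) p = B (b, f) q := by
      change f p.1 = f q.1
      rw [hpq]
    change B p (b, f) + B q (b, f) = 0
    rw [h1, h2, h3]
    exact add_self _
  · rintro p ⟨d, hd⟩
    by_contra hc
    push Not at hc
    exact not_zero hf hO hd (mem_cenT hd) fun e b k he => hc (b, k) ⟨e, he⟩
  · intro n p hp hB h h1 h2
    exact gen_of hf T hgen hp hB (fun d c k hd => h1 (c, k) ⟨d, hd⟩) h2

end Cfsg.Agent.Omega.NOThreeL.RRed.TvBlk

private theorem dce_23c7805897df : _root_.True := by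
  try have : _root_.True := by simp only [_root_.Cfsg.Agent.Omega.NOThreeL.RRed.TvBlk.cenT.eq_1]
  try have : _root_.True := by simp only [_root_.Cfsg.Agent.Omega.NOThreeL.RRed.TvBlk.opr.eq_1]
  exact _root_.True.intro
end

-- part: Mrg/Omega/NOThreeL/RRed/NS/Three
section
prune_inst 0x2020444140000000000580110002445c0001920000000000200c460008e240040000010ca02502180a0a0000000048105c00800040000004000000000004010028100400400000600080000084000000000000000000000000000000000004200000000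
set_option linter.all false
open scoped Cfsg.Agent.FastGrp

section


/-!
# NO-3L, box R: THEOREM NS (helper777, #24102), step (3)

`H` (= `X₂ = ⟨P, P'⟩`) acts on `M` (= `V*`, additive), `S` Sylow 2, `EE` a set of 2-subgroups of `S` (closed under
`H`-conjugation into `S`), `J` normal in `H`, blocks `Y b = [M, A]` (`A ∈ EE` of type `b`); for one block `b` there are
`D, l ≤ Y b` such that `Y b` minus the commutators of `A` is `D ∪ l`.

* `Frame S J EE Y`, `Bl S J EE Y b D l`;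
* `Frame.card_le` : `S ∩ G_b` has the order of a Sylow group of `G_b = C_H(Y_c : c ≠ b)`;
* `Frame.mem_D` : a vector `k x ∈ Y_b C(K)` lies in `D_b`;
* **`Frame.false_of`** : contradiction.
-/

set_option autoImplicit false
set_option linter.unusedSectionVars false

namespace Cfsg.Agent.Omega.NOThreeL.RRed.NS

open Subgroup
open scoped Pointwise

universe u v w

variable {H : Type u} {M : Type v} {ι : Type w} [Group H] [AddCommGroup M] [DistribMulAction H M]

/-- the fixed points of `A` -/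
def fxd (A : Subgroup H) : AddSubgroup M where
  carrier := {m | ∀ a ∈ A, a • m = m}
  zero_mem' := fun a _ => smul_zero a
  add_mem' := fun {x y} hx hy a ha => by rw [smul_add, hx a ha, hy a ha]
  neg_mem' := fun {x} hx a ha => by rw [smul_neg, hx a ha]

theorem mem_fxd {A : Subgroup H} {m : M} : m ∈ (fxd A : AddSubgroup M) ↔ ∀ a ∈ A, a • m = m := Iff.rfl

/-- `[M, A]` -/
def brk (M : Type v) [AddCommGroup M] [DistribMulAction H M] (A : Subgroup H) : AddSubgroup M :=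
  AddSubgroup.closure {m | ∃ a ∈ A, ∃ v : M, a • v - v = m}

/-- `G_b = C_H(Y_c : c ≠ b)` -/
def GB (Y : ι → AddSubgroup M) (b : ι) : Subgroup H where
  carrier := {g | ∀ c, c ≠ b → ∀ y ∈ Y c, g • y = y}
  one_mem' := fun c _ y _ => one_smul _ _
  mul_mem' := fun {x y} hx hy c hc z hz => by rw [mul_smul, hy c hc z hz, hx c hc z hz]
  inv_mem' := fun {x} hx c hc z hz => by
    rw [inv_smul_eq_iff]
    exact (hx c hc z hz).symm

theorem mem_GB {Y : ι → AddSubgroup M} {b : ι} {g : H} :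
    g ∈ (GB Y b : Subgroup H) ↔ ∀ c, c ≠ b → ∀ y ∈ Y c, g • y = y := Iff.rfl

/-- The frame of THEOREM NS (3). -/
structure Frame (S : Sylow 2 H) (J : Subgroup H) (EE : Set (Subgroup H)) (Y : ι → AddSubgroup M) : Prop where
  JN : J.Normal
  EES : ∀ A ∈ EE, A ≤ S
  EEc : ∀ A ∈ EE, ∀ h : H, MulAut.conj h • A ≤ S → MulAut.conj h • A ∈ EE
  typ : ∀ A ∈ EE, ¬ A ≤ J → ∃ b, brk M A = Y b
  ex : ∀ b, ∃ A ∈ EE, ¬ A ≤ J ∧ brk M A = Y b
  cent : ∀ A ∈ EE, ∀ c, ∀ y ∈ Y c, ∀ a ∈ A, a • y = y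
  inj : ∀ b c, Y b = Y c → b = c

/-- The two subgroups `D`, `l` of the block `b`. -/
structure Bl (S : Sylow 2 H) (J : Subgroup H) (EE : Set (Subgroup H)) (Y : ι → AddSubgroup M) (b : ι)
    (D l : AddSubgroup M) : Prop where
  DY : D ≤ Y b
  lY : l ≤ Y b
  Dl : D ⊓ l = ⊥
  SD : ∀ s ∈ S, s • Y b = Y b → s • D = D
  cov : ∀ A ∈ EE, ¬ A ≤ J → brk M A = Y b → ∀ m ∈ Y b,
    (∃ a ∈ A, ∃ v : M, a • v - v = m) ↔ m = 0 ∨ (m ∉ D ∧ m ∉ l)

/-! ### pure lemmas -/

theorem mem_conj {x y : H} {A : Subgroup H} : y ∈ MulAut.conj x • A ↔ x⁻¹ * y * x ∈ A := by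
  rw [Subgroup.mem_pointwise_smul_iff_inv_smul_mem, ← map_inv, MulAut.smul_def, MulAut.conj_apply, inv_inv]

theorem conj_mem' {x a : H} {A : Subgroup H} (ha : a ∈ A) : x * a * x⁻¹ ∈ MulAut.conj x • A := by
  rw [mem_conj]
  have e1 : x⁻¹ * (x * a * x⁻¹) * x = a := by group
  rwa [e1]

theorem conj_conj (x y : H) (A : Subgroup H) : MulAut.conj x • MulAut.conj y • A = MulAut.conj (x * y) • A := by
  rw [smul_smul, ← map_mul]

theorem conj_one (A : Subgroup H) : MulAut.conj (1 : H) • A = A := by rw [map_one, one_smul]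

theorem conj_inv_conj (x : H) (A : Subgroup H) : MulAut.conj x⁻¹ • MulAut.conj x • A = A := by
  rw [conj_conj, inv_mul_cancel, conj_one]

theorem conj_conj_inv (x : H) (A : Subgroup H) : MulAut.conj x • MulAut.conj x⁻¹ • A = A := by
  rw [conj_conj, mul_inv_cancel, conj_one]

theorem conj_le_iff {x : H} {A B : Subgroup H} : MulAut.conj x • A ≤ MulAut.conj x • B ↔ A ≤ B :=
  Subgroup.pointwise_smul_le_pointwise_smul_iff

theorem conj_eq_of_mem {x : H} {A : Subgroup H} (hx : x ∈ A) : MulAut.conj x • A = A :=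
  Subgroup.conj_smul_eq_self_of_mem hx

theorem card_conj (x : H) (A : Subgroup H) : Nat.card (MulAut.conj x • A : Subgroup H) = Nat.card A :=
  (Nat.card_congr (Subgroup.equivSMul (MulAut.conj x) A).toEquiv).symm

theorem isPGroup_conj {p : ℕ} (x : H) {A : Subgroup H} (h : IsPGroup p A) :
    IsPGroup p (MulAut.conj x • A : Subgroup H) :=
  h.of_equiv (Subgroup.equivSMul (MulAut.conj x) A)

theorem conj_normal {J : Subgroup H} (hJ : J.Normal) (g : H) : MulAut.conj g • J = J := by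
  ext x
  rw [mem_conj]
  constructor
  · intro h
    have h1 := hJ.conj_mem _ h g
    have e1 : g * (g⁻¹ * x * g) * g⁻¹ = x := by group
    rwa [e1] at h1
  · intro h
    have h1 := hJ.conj_mem _ h g⁻¹
    rwa [inv_inv] at h1

theorem le_normalizer_of {A B : Subgroup H} (h : ∀ a ∈ A, ∀ b ∈ B, a * b * a⁻¹ ∈ B) :
    A ≤ normalizer (B : Set H) := by
  intro a ha
  rw [Subgroup.mem_normalizer_iff]
  intro b
  refine ⟨h a ha b, fun hb => ?_⟩
  have h1 := h a⁻¹ (inv_mem ha) _ hb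
  have e1 : a⁻¹ * (a * b * a⁻¹) * a⁻¹⁻¹ = b := by group
  rwa [e1] at h1

/-- A 2-subgroup of `C ≥ T` is `C`-conjugate into `T`, if `T` is a 2-subgroup of `C` of maximal order. -/
theorem conj_le_of_card [Finite H] {C T A : Subgroup H} (hT : IsPGroup 2 T) (hTC : T ≤ C) (hA : IsPGroup 2 A)
    (hAC : A ≤ C) (hmax : ∀ R ≤ C, IsPGroup 2 R → Nat.card R ≤ Nat.card T) :
    ∃ c ∈ C, MulAut.conj c • A ≤ T := by
  have : Fact (Nat.Prime 2) := ⟨Nat.prime_two⟩
  have hT' : IsPGroup 2 (T.subgroupOf C) := hT.comap_of_injective C.subtype C.subtype_injective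
  have hA' : IsPGroup 2 (A.subgroupOf C) := hA.comap_of_injective C.subtype C.subtype_injective
  obtain ⟨T₁, hT₁⟩ := hT'.exists_le_sylow
  obtain ⟨A₁, hA₁⟩ := hA'.exists_le_sylow
  have h1 : (T₁ : Subgroup C).map C.subtype = T := by
    symm
    have hle : T ≤ (T₁ : Subgroup C).map C.subtype := by
      intro t ht
      exact ⟨⟨t, hTC ht⟩, hT₁ (mem_subgroupOf.2 ht), rfl⟩
    refine Subgroup.eq_of_le_of_card_ge hle (hmax _ ?_ (T₁.isPGroup'.map _))
    rintro _ ⟨y, -, rfl⟩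
    exact y.2
  obtain ⟨c, hc⟩ := MulAction.exists_smul_eq C A₁ T₁
  refine ⟨c, c.2, ?_⟩
  intro y hy
  rw [mem_conj] at hy
  have h2 : (⟨(c : H)⁻¹ * y * c, hAC hy⟩ : C) ∈ (A₁ : Subgroup C) := hA₁ (mem_subgroupOf.2 hy)
  have h3 : c * (⟨(c : H)⁻¹ * y * c, hAC hy⟩ : C) * c⁻¹ ∈ (T₁ : Subgroup C) := by
    rw [← hc, Sylow.coe_subgroup_smul, mem_conj]
    have e1 : c⁻¹ * (c * (⟨(c : H)⁻¹ * y * c, hAC hy⟩ : C) * c⁻¹) * c = ⟨(c : H)⁻¹ * y * c, hAC hy⟩ := by group
    rw [e1]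
    exact h2
  rw [← h1]
  refine ⟨_, h3, ?_⟩
  simp only [coe_subtype, coe_mul, coe_inv]
  group

/-- A 2-subgroup of `C ≥ S` is in a `C`-conjugate of `S`. -/
theorem exists_conj_le [Finite H] (S : Sylow 2 H) {C Q : Subgroup H} (hSC : (S : Subgroup H) ≤ C)
    (hQ : IsPGroup 2 Q) (hQC : Q ≤ C) : ∃ m ∈ C, Q ≤ MulAut.conj m • (S : Subgroup H) := by
  have : Fact (Nat.Prime 2) := ⟨Nat.prime_two⟩
  obtain ⟨c, hc, h⟩ := conj_le_of_card (C := C) (T := S) S.isPGroup' hSC hQ hQC (by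
    intro R _ hR
    obtain ⟨T, hT⟩ := hR.exists_le_sylow
    refine (Nat.card_le_card_of_injective _ (Subgroup.inclusion_injective hT)).trans ?_
    exact le_of_eq (Nat.card_congr (Sylow.equiv T S).toEquiv))
  refine ⟨c⁻¹, inv_mem hc, ?_⟩
  have h1 := (conj_le_iff (x := c⁻¹)).2 h
  rwa [conj_inv_conj] at h1

/-- an additive subgroup in the union of two -/
theorem le_or_le {A B C : AddSubgroup M} (h : ∀ x ∈ A, x ∈ B ∨ x ∈ C) : A ≤ B ∨ A ≤ C := by
  by_contra hcon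
  push Not at hcon
  obtain ⟨h1, h2⟩ := hcon
  obtain ⟨x, hx, hxB⟩ := SetLike.not_le_iff_exists.1 h1
  obtain ⟨y, hy, hyC⟩ := SetLike.not_le_iff_exists.1 h2
  have hxC : x ∈ C := (h x hx).resolve_left hxB
  have hyB : y ∈ B := (h y hy).resolve_right hyC
  rcases h (x + y) (add_mem hx hy) with h3 | h3
  · exact hxB (by simpa using sub_mem h3 hyB)
  · exact hyC (by simpa using sub_mem h3 hxC)

theorem mem_smul' {h : H} {A : AddSubgroup M} {m : M} : m ∈ h • A ↔ h⁻¹ • m ∈ A :=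
  AddSubgroup.mem_pointwise_smul_iff_inv_smul_mem

theorem card_smul' (h : H) (A : AddSubgroup M) : Nat.card (h • A : AddSubgroup M) = Nat.card A := by
  refine Nat.card_congr ⟨fun x => ⟨h⁻¹ • (x : M), mem_smul'.1 x.2⟩, fun x => ⟨h • (x : M), ?_⟩, fun x => ?_, fun x => ?_⟩
  · rw [mem_smul', inv_smul_smul]; exact x.2
  · exact Subtype.ext (smul_inv_smul h _)
  · exact Subtype.ext (inv_smul_smul h _)

theorem smul_eq_of_le [Finite M] {h : H} {A : AddSubgroup M} (hA : h • A ≤ A) : h • A = A :=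
  AddSubgroup.eq_of_le_of_card_ge hA (card_smul' h A).ge

theorem smul_le_smul' {h : H} {A B : AddSubgroup M} (hAB : h • A ≤ h • B) : A ≤ B := by
  intro x hx
  have h1 : h • x ∈ h • A := by rw [mem_smul', inv_smul_smul]; exact hx
  have h2 := hAB h1
  rwa [mem_smul', inv_smul_smul] at h2

theorem smul_bot' (h : H) : h • (⊥ : AddSubgroup M) = ⊥ := by
  rw [eq_bot_iff]
  intro x hx
  rw [mem_smul', AddSubgroup.mem_bot, inv_smul_eq_iff, smul_zero] at hx
  exact AddSubgroup.mem_bot.2 hx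

/-- the two subgroups are preserved or interchanged -/
theorem pair_of_union [Finite M] {h : H} {D l : AddSubgroup M} (hDl : D ⊓ l = ⊥)
    (hp : ∀ m, m ∈ D ∨ m ∈ l → h • m ∈ D ∨ h • m ∈ l) :
    (h • D = D ∧ h • l = l) ∨ (h • D = l ∧ h • l = D) := by
  have h1 : h • D ≤ D ∨ h • D ≤ l := le_or_le fun x hx => by
    have := hp _ (Or.inl (mem_smul'.1 hx))
    rwa [smul_inv_smul] at this
  have h2 : h • l ≤ D ∨ h • l ≤ l := le_or_le fun x hx => by
    have := hp _ (Or.inr (mem_smul'.1 hx))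
    rwa [smul_inv_smul] at this
  rcases h1 with h1 | h1
  · have e1 := smul_eq_of_le h1
    rcases h2 with h2 | h2
    · rw [← e1] at h2
      have h3 := smul_le_smul' h2
      have h4 : l = ⊥ := by rw [← hDl, inf_eq_right.2 h3]
      exact Or.inl ⟨e1, by rw [h4, smul_bot']⟩
    · exact Or.inl ⟨e1, smul_eq_of_le h2⟩
  · rcases h2 with h2 | h2
    · refine Or.inr ⟨AddSubgroup.eq_of_le_of_card_ge h1 ?_, AddSubgroup.eq_of_le_of_card_ge h2 ?_⟩
      · rw [card_smul']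
        have := Nat.card_le_card_of_injective _ (AddSubgroup.inclusion_injective h2)
        rwa [card_smul'] at this
      · rw [card_smul']
        have := Nat.card_le_card_of_injective _ (AddSubgroup.inclusion_injective h1)
        rwa [card_smul'] at this
    · have e2 := smul_eq_of_le h2
      rw [← e2] at h1
      have h3 := smul_le_smul' h1
      have h4 : D = ⊥ := by rw [← hDl, inf_eq_left.2 h3]
      exact Or.inl ⟨by rw [h4, smul_bot'], e2⟩

theorem smul_brk (h : H) (A : Subgroup H) : h • brk M A = brk M (MulAut.conj h • A) := by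
  apply le_antisymm
  · intro x hx
    rw [mem_smul'] at hx
    have h1 : ∀ y ∈ brk M A, h • y ∈ brk M (MulAut.conj h • A) := by
      intro y hy
      induction hy using AddSubgroup.closure_induction with
      | mem y hy =>
        obtain ⟨a, ha, v, rfl⟩ := hy
        refine AddSubgroup.subset_closure ⟨h * a * h⁻¹, conj_mem' ha, h • v, ?_⟩
        rw [smul_sub, mul_smul, mul_smul, inv_smul_smul]
      | zero => rw [smul_zero]; exact zero_mem _
      | add x y _ _ h1 h2 => rw [smul_add]; exact add_mem h1 h2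
      | neg x _ h1 => rw [smul_neg]; exact neg_mem h1
    have h2 := h1 _ hx
    rwa [smul_inv_smul] at h2
  · rw [brk, AddSubgroup.closure_le]
    rintro _ ⟨a, ha, v, rfl⟩
    rw [mem_conj] at ha
    rw [SetLike.mem_coe, mem_smul']
    refine AddSubgroup.subset_closure ⟨_, ha, h⁻¹ • v, ?_⟩
    rw [smul_sub, mul_smul, mul_smul, smul_inv_smul]

/-! ### the Sylow group of `G_b` -/

namespace Frame

variable [Finite H] [Finite M] {S : Sylow 2 H} {J : Subgroup H} {EE : Set (Subgroup H)} {Y : ι → AddSubgroup M}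
  (F : Frame S J EE Y)
include F

theorem le_GB {A : Subgroup H} (hA : A ∈ EE) (b : ι) : A ≤ GB Y b := fun a ha c _ y hy => F.cent A hA c y hy a ha

/-- a conjugation which maps `EE` into `EE` has its inverse mapping `EE` into `EE` -/
theorem inv_EE {g : H} (h : ∀ A ∈ EE, MulAut.conj g • A ∈ EE) : ∀ A ∈ EE, MulAut.conj g⁻¹ • A ∈ EE := by
  intro A hA
  have hinj : Function.Injective (fun B : EE => (⟨MulAut.conj g • (B : Subgroup H), h B B.2⟩ : EE)) := by
    intro B C hBC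
    have h1 := congrArg Subtype.val hBC
    exact Subtype.ext (smul_left_cancel _ h1)
  obtain ⟨B, hB⟩ := (Finite.injective_iff_surjective.1 hinj) ⟨A, hA⟩
  have h1 : MulAut.conj g • (B : Subgroup H) = A := congrArg Subtype.val hB
  rw [← h1, conj_inv_conj]
  exact B.2

/-- an element mapping `EE` into `EE` permutes the `Y b` -/
theorem exists_Y {g : H} (h : ∀ A ∈ EE, MulAut.conj g • A ∈ EE) (c : ι) : ∃ d, g • Y c = Y d := by
  obtain ⟨A, hA, hJ, ht⟩ := F.ex c
  obtain ⟨d, hd⟩ := F.typ _ (h A hA) fun hle => hJ (by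
    have h1 : MulAut.conj g⁻¹ • MulAut.conj g • A ≤ MulAut.conj g⁻¹ • J := conj_le_iff.2 hle
    rw [conj_inv_conj] at h1
    have h2 : MulAut.conj g⁻¹ • J = J := conj_normal F.JN g⁻¹
    rwa [h2] at h1)
  exact ⟨d, by rw [← ht, smul_brk, hd]⟩

theorem S_EE {s : H} (hs : s ∈ S) {A : Subgroup H} (hA : A ∈ EE) : MulAut.conj s • A ∈ EE := by
  refine F.EEc A hA s ?_
  have h1 := (conj_le_iff (x := s)).2 (F.EES A hA)
  rwa [conj_eq_of_mem hs] at h1

/-- `t ∈ G_b` which permutes the `Y c` normalises `Y b` -/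
theorem fix_Y {b : ι} {g : H} (hg : g ∈ (GB Y b : Subgroup H)) {d : ι} (h : g • Y b = Y d) : d = b := by
  by_contra hd
  have h1 : g • Y d = Y d := by
    apply le_antisymm
    · intro y hy
      rw [mem_smul'] at hy
      have h2 := hg d hd _ hy
      rw [smul_inv_smul] at h2
      rw [h2]; exact hy
    · intro y hy
      rw [mem_smul']
      have h2 := hg d hd _ hy
      rw [← h2, inv_smul_smul]; exact hy
  have h2 : Y b = Y d := smul_left_cancel g (h.trans h1.symm)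
  exact hd (F.inj _ _ h2.symm)

/-- **`S ∩ G_b` is Sylow in `G_b`.** -/
theorem card_le (b : ι) {R : Subgroup H} (hR : R ≤ GB Y b) (h2 : IsPGroup 2 R) :
    Nat.card R ≤ Nat.card ((S : Subgroup H) ⊓ GB Y b : Subgroup H) := by
  have : Fact (Nat.Prime 2) := ⟨Nat.prime_two⟩
  -- WLOG `S ∩ G_b ≤ R`
  set T := (S : Subgroup H) ⊓ GB Y b with hT
  have key : ∀ R : Subgroup H, R ≤ GB Y b → IsPGroup 2 R → T ≤ R → Nat.card R ≤ Nat.card T := by
    intro R hR h2 hTR
    -- `R` normalises `EE`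
    obtain ⟨g, -, hg⟩ := exists_conj_le S (C := ⊤) le_top h2 le_top
    have h3 : ∀ A ∈ EE, MulAut.conj g⁻¹ • A ∈ EE := by
      intro A hA
      refine F.EEc A hA _ ?_
      have h4 : A ≤ MulAut.conj g • (S : Subgroup H) := (le_inf (F.EES A hA) (F.le_GB hA b)).trans (hTR.trans hg)
      have h5 := (conj_le_iff (x := g⁻¹)).2 h4
      rwa [conj_inv_conj] at h5
    have h4 : ∀ A ∈ EE, MulAut.conj g • A ∈ EE := by
      have := F.inv_EE h3
      simpa using this
    have h5 : ∀ r ∈ R, ∀ A ∈ EE, MulAut.conj r • A ∈ EE := by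
      intro r hr A hA
      have h6 := hg hr
      rw [mem_conj] at h6
      have h7 := h4 _ (F.S_EE h6 (h3 A hA))
      rw [conj_conj, conj_conj] at h7
      have e1 : g * (g⁻¹ * r * g) * g⁻¹ = r := by group
      rwa [e1] at h7
    -- `Γ₁`
    let Γ : Subgroup H :=
      { carrier := {x | (∀ A ∈ EE, MulAut.conj x • A ∈ EE) ∧ ∀ c, x • Y c = Y c}
        one_mem' := ⟨fun A hA => by rw [conj_one]; exact hA, fun c => one_smul _ _⟩
        mul_mem' := fun {x y} hx hy => ⟨fun A hA => by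
          rw [← conj_conj]; exact hx.1 _ (hy.1 A hA), fun c => by rw [mul_smul, hy.2, hx.2]⟩
        inv_mem' := fun {x} hx => ⟨F.inv_EE hx.1, fun c => by rw [inv_smul_eq_iff, hx.2]⟩ }
    have hRΓ : R ≤ Γ := by
      intro r hr
      refine ⟨h5 r hr, fun c => ?_⟩
      by_cases hc : c = b
      · subst hc
        obtain ⟨d, hd⟩ := F.exists_Y (h5 r hr) c
        rw [hd, F.fix_Y (hR hr) hd]
      · apply le_antisymm
        · intro y hy
          rw [mem_smul'] at hy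
          have h6 := hR hr c hc _ hy
          rw [smul_inv_smul] at h6
          rw [h6]; exact hy
        · intro y hy
          rw [mem_smul']
          have h6 := hR hr c hc _ hy
          rw [← h6, inv_smul_smul]; exact hy
    have hSΓ : (S : Subgroup H) ≤ normalizer (Γ : Set H) := by
      refine le_normalizer_of fun s hs x hx => ⟨fun A hA => ?_, fun c => ?_⟩
      · rw [← conj_conj, ← conj_conj]
        exact F.S_EE hs (hx.1 _ (F.S_EE (inv_mem hs) hA))
      · obtain ⟨d, hd⟩ := F.exists_Y (fun A hA => F.S_EE (inv_mem hs) hA) c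
        rw [mul_smul, mul_smul, hd, hx.2, ← hd, smul_inv_smul]
    obtain ⟨m, hm, hmR⟩ := exists_conj_le S (C := Γ ⊔ S) le_sup_right h2 (hRΓ.trans le_sup_left)
    have hm' : m ∈ ((Γ ⊔ S : Subgroup H) : Set H) := hm
    rw [coe_mul_of_right_le_normalizer_left _ _ hSΓ] at hm'
    obtain ⟨γ, hγ, s, hs, rfl⟩ := Set.mem_mul.1 hm'
    rw [← conj_conj, conj_eq_of_mem hs] at hmR
    have h6 : MulAut.conj γ⁻¹ • R ≤ T := by
      refine le_inf ?_ ?_
      · have h7 := (conj_le_iff (x := γ⁻¹)).2 hmR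
        rwa [conj_inv_conj] at h7
      · intro y hy c hc z hz
        rw [mem_conj, inv_inv] at hy
        have h7 : γ • z ∈ Y c := by
          rw [← hγ.2 c, mem_smul', inv_smul_smul]; exact hz
        have h8 := hR hy c hc _ h7
        rw [mul_smul, inv_smul_smul, mul_smul] at h8
        exact smul_left_cancel _ h8
    rw [← card_conj γ⁻¹ R]
    exact Nat.card_le_card_of_injective _ (Subgroup.inclusion_injective h6)
  have hTp : IsPGroup 2 T := S.isPGroup'.to_le inf_le_left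
  have hT' : IsPGroup 2 (T.subgroupOf (GB Y b)) :=
    hTp.comap_of_injective (GB Y b).subtype (GB Y b).subtype_injective
  have hR' : IsPGroup 2 (R.subgroupOf (GB Y b)) :=
    h2.comap_of_injective (GB Y b).subtype (GB Y b).subtype_injective
  obtain ⟨T₁, hT₁⟩ := hT'.exists_le_sylow
  obtain ⟨R₁, hR₁⟩ := hR'.exists_le_sylow
  have h3 : Nat.card ((T₁ : Subgroup (GB Y b : Subgroup H)).map (GB Y b).subtype) ≤ Nat.card T := by
    refine key _ ?_ (T₁.isPGroup'.map _) ?_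
    · rintro _ ⟨y, -, rfl⟩
      exact y.2
    · intro t ht
      exact ⟨⟨t, (mem_inf.1 ht).2⟩, hT₁ (mem_subgroupOf.2 ht), rfl⟩
  have h4 : Nat.card ((T₁ : Subgroup (GB Y b : Subgroup H)).map (GB Y b).subtype) = Nat.card T₁ :=
    Nat.card_congr (Subgroup.equivMapOfInjective (T₁ : Subgroup (GB Y b : Subgroup H)) _ (GB Y b).subtype_injective).symm.toEquiv
  have h5 : Nat.card R₁ = Nat.card T₁ := Nat.card_congr (Sylow.equiv R₁ T₁).toEquiv
  have h6 : Nat.card R = Nat.card (R.subgroupOf (GB Y b)) :=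
    Nat.card_congr (Subgroup.subgroupOfEquivOfLe hR).symm.toEquiv
  calc Nat.card R = Nat.card (R.subgroupOf (GB Y b)) := h6
    _ ≤ Nat.card (R₁ : Subgroup (GB Y b : Subgroup H)) := Nat.card_le_card_of_injective _ (Subgroup.inclusion_injective hR₁)
    _ = Nat.card T₁ := h5
    _ ≤ Nat.card T := h4 ▸ h3

/-! ### the two classes -/

/-- elements of `S ∩ G_b` fix `Y_b` -/
theorem T_Y {b : ι} {t : H} (ht : t ∈ (S : Subgroup H) ⊓ GB Y b) : t • Y b = Y b := by
  obtain ⟨d, hd⟩ := F.exists_Y (fun A hA => F.S_EE (mem_inf.1 ht).1 hA) b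
  rw [hd, F.fix_Y (mem_inf.1 ht).2 hd]

theorem conj_not_le {A : Subgroup H} (hJ : ¬ A ≤ J) (h : H) : ¬ MulAut.conj h • A ≤ J := fun hle => hJ (by
  have h4 := (conj_le_iff (x := h⁻¹)).2 hle
  rwa [conj_inv_conj, conj_normal F.JN] at h4)

variable {b : ι} {D l : AddSubgroup M} (B : Bl S J EE Y b D l)
include B

/-- `h Y_b = Y_b` and `A, A^h` of type `b`: `h` preserves the pair `{D_b, l_b}` -/
theorem pair {A : Subgroup H} {h : H} (hA : A ∈ EE) (hJ : ¬ A ≤ J) (hAt : brk M A = Y b)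
    (hA' : MulAut.conj h • A ∈ EE) (hY : h • Y b = Y b) : (h • D = D ∧ h • l = l) ∨ (h • D = l ∧ h • l = D) := by
  have hJ' := F.conj_not_le hJ h
  have hAt' : brk M (MulAut.conj h • A) = Y b := by rw [← smul_brk, hAt, hY]
  refine pair_of_union B.Dl fun m hm => ?_
  have hmY : m ∈ Y b := hm.elim (fun h => B.DY h) fun h => B.lY h
  have hmY' : h • m ∈ Y b := by
    rw [← hY, mem_smul', inv_smul_smul]; exact hmY
  by_contra hcon
  push Not at hcon
  obtain ⟨a, ha, v, hv⟩ := (B.cov _ hA' hJ' hAt' _ hmY').2 (Or.inr hcon)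
  rw [mem_conj] at ha
  have h1 : ∃ a ∈ A, ∃ v : M, a • v - v = m := by
    refine ⟨_, ha, h⁻¹ • v, ?_⟩
    rw [mul_smul, mul_smul, smul_inv_smul, ← smul_sub, hv, inv_smul_smul]
  rcases (B.cov _ hA hJ hAt _ hmY).1 h1 with h2 | h2
  · rw [h2, smul_zero] at hcon
    exact hcon.1 (zero_mem _)
  · exact hm.elim h2.1 h2.2

theorem T_l {t : H} (ht : t ∈ (S : Subgroup H) ⊓ GB Y b) : t • D = D ∧ t • l = l := by
  have h1 := F.T_Y ht
  have h2 := B.SD t (mem_inf.1 ht).1 h1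
  obtain ⟨A, hA, hJ, hAt⟩ := F.ex b
  have h3 := F.S_EE (mem_inf.1 ht).1 hA
  rcases F.pair B hA hJ hAt h3 h1 with h5 | h5
  · exact h5
  · refine ⟨h2, ?_⟩
    have h6 : D = l := h2.symm.trans h5.1
    rw [← h6, h2]

omit [Finite H] [Finite M] F B in
/-- `N₂` -/
def NTwo (Y : ι → AddSubgroup M) (b : ι) (D l : AddSubgroup M) : Subgroup H where
  carrier := {g | g ∈ (GB Y b : Subgroup H) ∧
    ((g • D = D ∧ g • l = l) ∨ (g • D = l ∧ g • l = D))}
  one_mem' := ⟨one_mem _, Or.inl ⟨one_smul _ _, one_smul _ _⟩⟩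
  mul_mem' := by
    rintro x y ⟨hx, hx'⟩ ⟨hy, hy'⟩
    refine ⟨mul_mem hx hy, ?_⟩
    rcases hx' with ⟨h1, h2⟩ | ⟨h1, h2⟩ <;> rcases hy' with ⟨h3, h4⟩ | ⟨h3, h4⟩
    · exact Or.inl ⟨by rw [mul_smul, h3, h1], by rw [mul_smul, h4, h2]⟩
    · exact Or.inr ⟨by rw [mul_smul, h3, h2], by rw [mul_smul, h4, h1]⟩
    · exact Or.inr ⟨by rw [mul_smul, h3, h1], by rw [mul_smul, h4, h2]⟩
    · exact Or.inl ⟨by rw [mul_smul, h3, h2], by rw [mul_smul, h4, h1]⟩
  inv_mem' := by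
    rintro x ⟨hx, hx'⟩
    refine ⟨inv_mem hx, ?_⟩
    rcases hx' with ⟨h1, h2⟩ | ⟨h1, h2⟩
    · exact Or.inl ⟨by rw [inv_smul_eq_iff, h1], by rw [inv_smul_eq_iff, h2]⟩
    · exact Or.inr ⟨by rw [inv_smul_eq_iff, h2], by rw [inv_smul_eq_iff, h1]⟩

/-- **`N₂` normalises `D_b`.** -/
theorem NTwo_D (hD : D ≠ ⊥) {g : H} (hg : g ∈ (NTwo Y b D l : Subgroup H)) : g • D = D := by
  by_contra hcon
  have hne : D ≠ l := fun h => hD (by
    have := B.Dl
    rwa [← h, inf_idem] at this)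
  have hsw : g • D = l ∧ g • l = D := hg.2.resolve_left fun h => hcon h.1
  -- odd powers of `g` swap
  have hodd : ∀ n : ℕ, (g ^ (2 * n + 1)) • D = l ∧ (g ^ (2 * n + 1)) • l = D := by
    intro n
    induction n with
    | zero => simpa using hsw
    | succ n ih =>
      have e1 : g ^ (2 * (n + 1) + 1) = g * (g * g ^ (2 * n + 1)) := by
        rw [← pow_succ', ← pow_succ']
        congr 1
      rw [e1, mul_smul, mul_smul, mul_smul, mul_smul, ih.1, ih.2, hsw.1, hsw.2, hsw.1]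
      exact ⟨rfl, rfl⟩
  obtain ⟨k, n, hn, hkn⟩ := Nat.exists_eq_two_pow_mul_odd (orderOf_pos g).ne'
  obtain ⟨r, rfl⟩ := hn
  obtain ⟨h1, h2⟩ := hodd r
  set x := g ^ (2 * r + 1) with hx
  have hx2 : x ^ 2 ^ k = 1 := by
    rw [hx, ← pow_mul, mul_comm, ← hkn, pow_orderOf_eq_one]
  have hxp : IsPGroup 2 (zpowers x) := by
    rintro ⟨y, hy⟩
    obtain ⟨j, rfl⟩ := mem_zpowers_iff.1 hy
    refine ⟨k, Subtype.ext ?_⟩
    rw [SubmonoidClass.mk_pow]
    change (x ^ j) ^ 2 ^ k = 1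
    rw [← zpow_natCast, ← zpow_mul, mul_comm, zpow_mul, zpow_natCast, hx2, one_zpow]
  obtain ⟨c, hc, hcx⟩ := conj_le_of_card (C := NTwo Y b D l) (T := (S : Subgroup H) ⊓ GB Y b) (A := zpowers x)
    (S.isPGroup'.to_le inf_le_left) (fun t ht => ⟨(mem_inf.1 ht).2, Or.inl (F.T_l B ht)⟩) hxp
    (by rw [zpowers_le]; exact pow_mem hg _) fun R hR h2 => F.card_le b (fun y hy => (hR hy).1) h2
  have h3 : c * x * c⁻¹ ∈ (S : Subgroup H) ⊓ GB Y b := hcx (conj_mem' (mem_zpowers x))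
  have h4 := (F.T_l B h3).1
  have hcc := hc.2
  rcases hcc with ⟨h5, h6⟩ | ⟨h5, h6⟩
  · have h7 : c⁻¹ • D = D := by rw [inv_smul_eq_iff, h5]
    rw [mul_smul, mul_smul, h7, h1, h6] at h4
    exact hne h4.symm
  · have h7 : c⁻¹ • D = l := by rw [inv_smul_eq_iff, h6]
    rw [mul_smul, mul_smul, h7, h2, h5] at h4
    exact hne h4.symm

/-- **`k x ∈ Y_b C(K)` implies `k x ∈ D_b`.** -/
theorem mem_D {x : M} {A : Subgroup H} {K : Subgroup H} (hA : A ∈ EE) (hAJ : ¬ A ≤ J)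
    (hAt : brk M A = Y b) (hAK : A ≤ K) (hK : K ≤ GB Y b) (hx : x ∈ D) (hx0 : x ≠ 0)
    (hxT : ∀ t ∈ (S : Subgroup H) ⊓ GB Y b, t • x = x) (hYK : Y b ⊓ fxd K = ⊥) {k : H} (hk : k ∈ K) {y c : M}
    (hy : y ∈ Y b) (hc : c ∈ (fxd K : AddSubgroup M)) (h : k • x = y + c) : k • x ∈ D := by
  set y₁ := k • x with hy₁
  let C : Subgroup H :=
    { carrier := {g | g ∈ (GB Y b : Subgroup H) ∧ g • y₁ = y₁}
      one_mem' := ⟨one_mem _, one_smul _ _⟩
      mul_mem' := fun {p q} hp hq => ⟨mul_mem hp.1 hq.1, by rw [mul_smul, hq.2, hp.2]⟩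
      inv_mem' := fun {p} hp => ⟨inv_mem hp.1, by rw [inv_smul_eq_iff, hp.2]⟩ }
  have hAC : A ≤ C := by
    intro a ha
    refine ⟨hK (hAK ha), ?_⟩
    rw [h, smul_add, F.cent A hA b y hy a ha, hc a (hAK ha)]
  have hTC : MulAut.conj k • ((S : Subgroup H) ⊓ GB Y b) ≤ C := by
    intro t ht
    rw [mem_conj] at ht
    refine ⟨?_, ?_⟩
    · have h1 := mul_mem (mul_mem (hK hk) (mem_inf.1 ht).2) (inv_mem (hK hk))
      have e1 : k * (k⁻¹ * t * k) * k⁻¹ = t := by group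
      rwa [e1] at h1
    · have h1 := hxT _ ht
      rw [mul_smul, mul_smul, inv_smul_eq_iff] at h1
      exact h1
  have hTp : IsPGroup 2 ((S : Subgroup H) ⊓ GB Y b : Subgroup H) := S.isPGroup'.to_le inf_le_left
  obtain ⟨c₁, hc₁, hcA⟩ := conj_le_of_card (C := C) (T := MulAut.conj k • ((S : Subgroup H) ⊓ GB Y b)) (A := A)
    (isPGroup_conj k hTp) hTC (S.isPGroup'.to_le (F.EES A hA)) hAC fun R hR h2 => by
      rw [card_conj]
      exact F.card_le b (fun z hz => (hR hz).1) h2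
  set g := k⁻¹ * c₁ with hg
  have hgG : g ∈ (GB Y b : Subgroup H) := mul_mem (inv_mem (hK hk)) hc₁.1
  have h1 : MulAut.conj g • A ≤ (S : Subgroup H) ⊓ GB Y b := by
    have h2 := (conj_le_iff (x := k⁻¹)).2 hcA
    rwa [conj_inv_conj, conj_conj] at h2
  have h2 := F.EEc A hA g (h1.trans inf_le_left)
  obtain ⟨d, hd⟩ := F.typ _ h2 (F.conj_not_le hAJ g)
  have h3 : g • Y b = Y d := by rw [← hAt, smul_brk, hd]
  obtain rfl := F.fix_Y hgG h3
  have hD0 : D ≠ ⊥ := fun h0 => hx0 (by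
    rw [h0] at hx
    exact (AddSubgroup.mem_bot.1 hx))
  have h4 : g • D = D := F.NTwo_D B hD0 ⟨hgG, F.pair B hA hAJ hAt h2 h3⟩
  have h5 : g • y₁ = x := by rw [hg, mul_smul, hc₁.2, hy₁, inv_smul_smul]
  have h6 : g • c ∈ Y d := by
    have h7 : g • c = x - g • y := by
      rw [← h5, h, smul_add]; abel
    rw [h7]
    refine sub_mem (B.DY hx) ?_
    rw [← h3, mem_smul', inv_smul_smul]
    exact hy
  have h7 : c ∈ Y d := by
    have h8 : g • c ∈ g • Y d := by rw [h3]; exact h6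
    rwa [mem_smul', inv_smul_smul] at h8
  have h8 : c = 0 := by
    have h9 : c ∈ Y d ⊓ fxd K := AddSubgroup.mem_inf.2 ⟨h7, hc⟩
    rw [hYK] at h9
    exact AddSubgroup.mem_bot.1 h9
  have h9 : y₁ = g⁻¹ • x := by rw [← h5, inv_smul_smul]
  have h10 : g⁻¹ • D = D := by rw [inv_smul_eq_iff, h4]
  rw [h9, ← h10, mem_smul', inv_inv, smul_inv_smul]
  exact hx

/-- **THEOREM NS (3).** -/
theorem false_of {x : M} {A A₁ A₂ : Subgroup H} {V : AddSubgroup M} {q : ℕ} (hA : A ∈ EE) (hAJ : ¬ A ≤ J)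
    (hAt : brk M A = Y b) (h₁ : A₁ ≤ GB Y b) (h₂ : A₂ ≤ GB Y b) (hx : x ∈ D) (hx0 : x ≠ 0)
    (hxT : ∀ t ∈ (S : Subgroup H) ⊓ GB Y b, t • x = x) (hi : (fxd A : AddSubgroup M).index ≤ q)
    (hi₁ : (fxd A₁ : AddSubgroup M).index ≤ q) (hi₂ : (fxd A₂ : AddSubgroup M).index ≤ q)
    (hV : q ^ 3 ≤ Nat.card V) (hYV : Y b ≤ V)
    (fE : ∀ v ∈ V, v ∈ (fxd A : AddSubgroup M) → v ∈ (fxd A₁ : AddSubgroup M) → v ∈ D)
    (Ef : ∀ d ∈ D, ∀ a ∈ A₁, a • d = d) (tr : ∀ v ∈ V, ∃ g ∈ A ⊔ A₁, g • v ∈ Y b)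
    (mv : ∀ d ∈ D, d ≠ 0 → ∃ a ∈ A₂, a • d ∉ D) : False := by
  set K : Subgroup H := A ⊔ A₁ ⊔ A₂ with hK
  have hKG : K ≤ GB Y b := sup_le (sup_le (F.le_GB hA b) h₁) h₂
  have hfx : (fxd K : AddSubgroup M) = fxd A ⊓ fxd A₁ ⊓ fxd A₂ := by
    apply le_antisymm
    · exact fun m hm => ⟨⟨fun a ha => hm a (le_sup_left (α := Subgroup H) (le_sup_left (α := Subgroup H) ha)),
        fun a ha => hm a (le_sup_left (α := Subgroup H) (le_sup_right (α := Subgroup H) ha))⟩,
        fun a ha => hm a (le_sup_right (α := Subgroup H) ha)⟩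
    · rintro m ⟨⟨h1, h2⟩, h3⟩
      have h4 : K ≤ MulAction.stabilizer H m := sup_le (sup_le (fun a ha => h1 a ha) fun a ha => h2 a ha)
        fun a ha => h3 a ha
      exact fun a ha => h4 ha
  have hVK : V ⊓ fxd K = ⊥ := by
    rw [eq_bot_iff]
    rintro v ⟨hv, hvK⟩
    rw [hfx] at hvK
    obtain ⟨⟨h1, h2⟩, h3⟩ := hvK
    have h4 := fE v hv h1 h2
    by_contra h0
    obtain ⟨a, ha, h5⟩ := mv v h4 fun h => h0 (AddSubgroup.mem_bot.2 h)
    exact h5 (by rw [h3 a ha]; exact h4)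
  have hidx : (fxd K : AddSubgroup M).index ≤ q ^ 3 := by
    rw [hfx]
    calc (fxd A ⊓ fxd A₁ ⊓ fxd A₂ : AddSubgroup M).index
        ≤ (fxd A ⊓ fxd A₁ : AddSubgroup M).index * (fxd A₂ : AddSubgroup M).index := AddSubgroup.index_inf_le
      _ ≤ ((fxd A : AddSubgroup M).index * (fxd A₁ : AddSubgroup M).index) * (fxd A₂ : AddSubgroup M).index :=
          Nat.mul_le_mul_right _ AddSubgroup.index_inf_le
      _ ≤ (q * q) * q := Nat.mul_le_mul (Nat.mul_le_mul hi hi₁) hi₂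
      _ = q ^ 3 := by ring
  have hsup : V ⊔ fxd K = ⊤ := by
    rw [← AddSubgroup.index_eq_one]
    have h1 : (fxd K : AddSubgroup M).relIndex (V ⊔ fxd K) = Nat.card V := by
      rw [AddSubgroup.relIndex_sup_right]
      have h2 : (fxd K : AddSubgroup M).relIndex V = ((fxd K : AddSubgroup M) ⊓ V).relIndex V :=
        (AddSubgroup.inf_relIndex_right _ _).symm
      rw [h2, inf_comm, hVK, AddSubgroup.relIndex_bot_left]
    have h2 : (fxd K : AddSubgroup M).relIndex (V ⊔ fxd K) * (V ⊔ fxd K).index = (fxd K : AddSubgroup M).index :=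
      AddSubgroup.relIndex_mul_index le_sup_right
    rw [h1] at h2
    have h3 : 0 < Nat.card V := Nat.card_pos
    have h4 : (V ⊔ fxd K : AddSubgroup M).index ≠ 0 := AddSubgroup.index_ne_zero_of_finite
    have h5 : Nat.card V * (V ⊔ fxd K : AddSubgroup M).index ≤ Nat.card V * 1 := by
      rw [h2, mul_one]
      exact hidx.trans hV
    have h6 := Nat.le_of_mul_le_mul_left h5 h3
    omega
  have hYK : Y b ⊓ fxd K = ⊥ := by
    rw [eq_bot_iff, ← hVK]
    exact inf_le_inf_right _ hYV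
  have hmain : ∀ k ∈ K, k • x ∈ D := by
    intro k hk
    have h1 : k • x ∈ V ⊔ fxd K := by rw [hsup]; exact AddSubgroup.mem_top _
    obtain ⟨v, hv, c, hc, h2⟩ := AddSubgroup.mem_sup.1 h1
    obtain ⟨g, hg, h3⟩ := tr v hv
    have hgK : g ∈ K := (le_sup_left : A ⊔ A₁ ≤ K) hg
    have h4 : (g * k) • x = g • v + c := by
      rw [mul_smul, ← h2, smul_add, hc g hgK]
    have h5 := F.mem_D B hA hAJ hAt ((le_sup_left : A ≤ A ⊔ A₁).trans le_sup_left) hKG hx hx0 hxT hYK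
      (mul_mem hgK hk) h3 hc h4
    have h6 : ∀ d ∈ D, g • d = d := by
      intro d hd
      have h7 : A ⊔ A₁ ≤ MulAction.stabilizer H d := sup_le (fun a ha => F.cent A hA b d (B.DY hd) a ha)
        fun a ha => Ef d hd a ha
      exact h7 hg
    have h7 : k • x = g⁻¹ • ((g * k) • x) := by rw [mul_smul, inv_smul_smul]
    rw [h7]
    have h8 : g⁻¹ • ((g * k) • x) = (g * k) • x := by rw [inv_smul_eq_iff, h6 _ h5]
    rw [h8]
    exact h5
  obtain ⟨a, ha, h1⟩ := mv x hx hx0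
  exact h1 (hmain a (le_sup_right (α := Subgroup H) ha))

end Frame

end Cfsg.Agent.Omega.NOThreeL.RRed.NS

end

section


/-!
# NO-3L, box R: THEOREM TYPES (helper797, #24779), abstract part: (T0), (T1), (T3)

`X` acts faithfully on the elementary abelian 2-group `M`, `|F| ≤ |M : C_M(F)|` for all elementary abelian `F ≤ X`
(`Sit X`).

* `Sit.eq_of_le` (T0) : an exact `D ≤ F`, `C_M(D) ≤ C_M(F)` implies `F = D`;
* `Sit.cent` (T1) : `D` exact and quadratic, `[M, K] ≤ C_M(D)`, `K` generated by `K`-conjugates of groups which commute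
  with `D`: `K` centralises `D` and `[M, D]`;
* `Sit.keep`, `Sit.kill` (T3) : `M = N × C`, `τ` is trivial on `C`, without fixed points on `N`, normalises the exact
  group `D`, `C_M(D) = R × C`; `B` exact, commutes with `D`, `[M, B] ≤ C_M(D)`, `R ≤ C_M(B)`, `R ∩ [M, B] = 0`. Then `B`
  normalises `C`; if moreover `[M, B] ≤ C`, then `B` centralises `N`.
-/

set_option autoImplicit false
set_option linter.unusedSectionVars false

namespace Cfsg.Agent.Omega.NOThreeL.RRed.Blk.Types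

open Subgroup
open scoped Pointwise
open Cfsg.Agent.Omega.NOThreeL.RRed.NS (fxd brk mem_fxd)

universe u v

variable {H : Type u} {M : Type v} [Group H] [AddCommGroup M] [DistribMulAction H M]

/-- `X` is faithful on the elementary abelian 2-group `M`, without over-offenders. -/
structure Sit (M : Type v) [AddCommGroup M] [DistribMulAction H M] (X : Subgroup H) : Prop where
  faith : ∀ h ∈ X, (∀ m : M, h • m = m) → h = 1
  ch : ∀ m : M, m + m = 0
  no : ∀ F ≤ X, (∀ x ∈ F, x * x = 1) → (∀ x ∈ F, ∀ y ∈ F, x * y = y * x) →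
    Nat.card F * Nat.card (fxd F : AddSubgroup M) ≤ Nat.card M

/-- elementary abelian -/
structure El (F : Subgroup H) : Prop where
  sq : ∀ x ∈ F, x * x = 1
  cm : ∀ x ∈ F, ∀ y ∈ F, x * y = y * x

theorem sub_mem_brk {A : Subgroup H} {a : H} (ha : a ∈ A) (m : M) : a • m - m ∈ brk M A :=
  AddSubgroup.subset_closure ⟨a, ha, m, rfl⟩

theorem brk_le {A : Subgroup H} {W : AddSubgroup M} (h : ∀ a ∈ A, ∀ m : M, a • m - m ∈ W) : brk M A ≤ W := by
  unfold brk
  rw [AddSubgroup.closure_le]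
  rintro m ⟨a, ha, v, rfl⟩
  exact h a ha v

theorem mem_cj {x y : H} {A : Subgroup H} : y ∈ MulAut.conj x • A ↔ x⁻¹ * y * x ∈ A := by
  rw [Subgroup.mem_pointwise_smul_iff_inv_smul_mem, ← map_inv, MulAut.smul_def, MulAut.conj_apply, inv_inv]

theorem card_cj (x : H) (A : Subgroup H) : Nat.card ↥(MulAut.conj x • A) = Nat.card A :=
  (Nat.card_congr (Subgroup.equivSMul (MulAut.conj x) A).toEquiv).symm

theorem fxd_cj (x : H) (A : Subgroup H) {m : M} : m ∈ (fxd (MulAut.conj x • A) : AddSubgroup M) ↔ x⁻¹ • m ∈ fxd A := by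
  rw [mem_fxd, mem_fxd]
  constructor
  · intro h a ha
    have h1 := h (x * a * x⁻¹) (by rw [mem_cj]; convert ha using 1; group)
    rw [mul_smul, mul_smul] at h1
    rw [eq_inv_smul_iff]; exact h1
  · intro h a ha
    have h1 := h _ (mem_cj.1 ha)
    rw [mul_smul, mul_smul, smul_inv_smul, inv_smul_eq_iff, smul_inv_smul] at h1
    exact h1

theorem brk_cj {x : H} {A : Subgroup H} {m : M} (h : m ∈ brk M (MulAut.conj x • A)) : x⁻¹ • m ∈ brk M A := by
  have h1 : brk M (MulAut.conj x • A) ≤ (brk M A).comap (DistribSMul.toAddMonoidHom M x⁻¹) := by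
    apply brk_le
    intro a ha v
    rw [AddSubgroup.mem_comap, DistribSMul.toAddMonoidHom_apply, smul_sub]
    have h2 := sub_mem_brk (M := M) (mem_cj.1 ha) (x⁻¹ • v)
    rw [mul_smul, mul_smul, smul_inv_smul] at h2
    exact h2
  exact h1 h

theorem El.cj {A : Subgroup H} (h : El A) (x : H) : El (MulAut.conj x • A) where
  sq := fun a ha => by
    have h1 := h.sq _ (mem_cj.1 ha)
    have e : x⁻¹ * a * x * (x⁻¹ * a * x) = x⁻¹ * (a * a) * x := by group
    rw [e] at h1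
    have h2 : a * a = x * 1 * x⁻¹ := by rw [← h1]; group
    rw [h2]; group
  cm := fun a ha b hb => by
    have h1 := h.cm _ (mem_cj.1 ha) _ (mem_cj.1 hb)
    have e1 : x⁻¹ * a * x * (x⁻¹ * b * x) = x⁻¹ * (a * b) * x := by group
    have e2 : x⁻¹ * b * x * (x⁻¹ * a * x) = x⁻¹ * (b * a) * x := by group
    rw [e1, e2] at h1
    exact mul_left_cancel (mul_right_cancel h1)

/-- The product of two commuting elementary abelian groups. -/
theorem mem_sup_comm {A B : Subgroup H} (hAB : ∀ a ∈ A, ∀ b ∈ B, a * b = b * a) {x : H} :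
    x ∈ A ⊔ B ↔ ∃ a ∈ A, ∃ b ∈ B, a * b = x := by
  constructor
  · intro hx
    have h1 : A ≤ normalizer (B : Set H) := fun a ha => by
      rw [mem_normalizer_iff]
      intro b
      constructor
      · intro hb
        rw [hAB a ha b hb, mul_inv_cancel_right]; exact hb
      · intro hb
        have h2 := hAB a ha _ hb
        have h3 : b = a * b * a⁻¹ := by
          have e : a * (a * b * a⁻¹) = a * b := by rw [h2]; group
          exact (mul_left_cancel e).symm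
        rw [h3]; exact hb
    have h2 : x ∈ ((A ⊔ B : Subgroup H) : Set H) := hx
    rw [coe_mul_of_left_le_normalizer_right _ _ h1] at h2
    obtain ⟨a, ha, b, hb, e⟩ := h2
    exact ⟨a, ha, b, hb, e⟩
  · rintro ⟨a, ha, b, hb, rfl⟩
    exact mul_mem (mem_sup_left ha) (mem_sup_right hb)

theorem El.sup {A B : Subgroup H} (hA : El A) (hB : El B) (hAB : ∀ a ∈ A, ∀ b ∈ B, a * b = b * a) : El (A ⊔ B) where
  sq := fun x hx => by
    obtain ⟨a, ha, b, hb, rfl⟩ := (mem_sup_comm hAB).1 hx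
    calc a * b * (a * b) = a * (b * a) * b := by group
      _ = a * (a * b) * b := by rw [hAB a ha b hb]
      _ = (a * a) * (b * b) := by group
      _ = 1 := by rw [hA.sq a ha, hB.sq b hb, one_mul]
  cm := fun x hx y hy => by
    obtain ⟨a, ha, b, hb, rfl⟩ := (mem_sup_comm hAB).1 hx
    obtain ⟨c, hc, d, hd, rfl⟩ := (mem_sup_comm hAB).1 hy
    calc a * b * (c * d) = a * (b * c) * d := by group
      _ = a * (c * b) * d := by rw [hAB c hc b hb]
      _ = (a * c) * (b * d) := by group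
      _ = (c * a) * (d * b) := by rw [hA.cm a ha c hc, hB.cm b hb d hd]
      _ = c * (a * d) * b := by group
      _ = c * (d * a) * b := by rw [hAB a ha d hd]
      _ = c * d * (a * b) := by group

theorem mem_fxd_sup {A B : Subgroup H} {m : M} (hA : m ∈ (fxd A : AddSubgroup M)) (hB : m ∈ (fxd B : AddSubgroup M)) :
    m ∈ (fxd (A ⊔ B) : AddSubgroup M) := by
  rw [mem_fxd] at hA hB ⊢
  intro x hx
  have h1 : A ⊔ B ≤ MulAction.stabilizer H m :=
    sup_le (fun a ha => MulAction.mem_stabilizer_iff.2 (hA a ha)) fun b hb => MulAction.mem_stabilizer_iff.2 (hB b hb)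
  exact MulAction.mem_stabilizer_iff.1 (h1 hx)

theorem El.smul_smul {A : Subgroup H} (h : El A) {a : H} (ha : a ∈ A) (m : M) : a • a • m = m := by
  rw [← mul_smul, h.sq a ha, one_smul]

namespace Sit

variable {X : Subgroup H} (S : Sit M X)
include S

theorem neg_eq (m : M) : -m = m := by
  rw [neg_eq_iff_add_eq_zero]; exact S.ch m

theorem sub_eq (m n : M) : m - n = m + n := by rw [sub_eq_add_neg, S.neg_eq]

theorem comm_of {x y : H} (hx : x ∈ X) (hy : y ∈ X) (h1 : ∀ m : M, y • (x • m - m) = x • m - m)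
    (h2 : ∀ m : M, x • (y • m - m) = y • m - m) : x * y = y * x := by
  have h : (x * y)⁻¹ * (y * x) = 1 := by
    refine S.faith _ (mul_mem (inv_mem (mul_mem hx hy)) (mul_mem hy hx)) fun m => ?_
    rw [mul_smul, inv_smul_eq_iff, mul_smul, mul_smul]
    have e1 := h1 m
    have e2 := h2 m
    rw [smul_sub, sub_eq_iff_eq_add] at e1 e2
    rw [e1, e2]
    abel
  exact (inv_mul_eq_one.1 h)

/-- **(T0)** -/
theorem eq_of_le [Finite H] [Finite M] {D F : Subgroup H} (hF : F ≤ X) (hFe : El F) (hDF : D ≤ F)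
    (hD : Nat.card M ≤ Nat.card D * Nat.card (fxd D : AddSubgroup M))
    (hle : (fxd D : AddSubgroup M) ≤ fxd F) : F = D := by
  have h1 := S.no F hF hFe.sq hFe.cm
  have h2 : Nat.card (fxd D : AddSubgroup M) ≤ Nat.card (fxd F : AddSubgroup M) := AddSubgroup.card_le_of_le hle
  have h3 : 0 < Nat.card (fxd D : AddSubgroup M) := Nat.card_pos
  have h4 : Nat.card F ≤ Nat.card D := by
    have h5 : Nat.card F * Nat.card (fxd D : AddSubgroup M) ≤ Nat.card D * Nat.card (fxd D : AddSubgroup M) :=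
      (Nat.mul_le_mul_left _ h2).trans (h1.trans hD)
    exact Nat.le_of_mul_le_mul_right h5 h3
  exact (Subgroup.eq_of_le_of_card_ge hDF h4).symm

/-- Two exact quadratic groups with the same centraliser coincide. -/
theorem eq_of_fxd [Finite H] [Finite M] {D D' : Subgroup H} (hDX : D ≤ X) (hDX' : D' ≤ X) (hDe : El D) (hDe' : El D')
    (hD : Nat.card M ≤ Nat.card D * Nat.card (fxd D : AddSubgroup M)) (hq : brk M D ≤ fxd D)
    (hq' : brk M D' ≤ fxd D) (hf : (fxd D : AddSubgroup M) ≤ fxd D') (hc : Nat.card D' = Nat.card D) : D' = D := by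
  have hcm : ∀ a ∈ D, ∀ b ∈ D', a * b = b * a := by
    intro a ha b hb'
    refine S.comm_of (hDX ha) (hDX' hb') (fun m => ?_) fun m => ?_
    · exact (mem_fxd.1 (hf (hq (sub_mem_brk ha m)))) b hb'
    · exact (mem_fxd.1 (hq' (sub_mem_brk hb' m))) a ha
  have he := hDe.sup hDe' hcm
  have h1 : D ⊔ D' = D :=
    S.eq_of_le (sup_le hDX hDX') he le_sup_left hD fun m hm => mem_fxd_sup hm (hf hm)
  have h2 : D' ≤ D := h1 ▸ le_sup_right
  exact Subgroup.eq_of_le_of_card_ge h2 hc.ge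

theorem cj_le {g : H} (hg : g ∈ X) {D : Subgroup H} (hDX : D ≤ X) : MulAut.conj g • D ≤ X := fun x hx => by
  have h1 := hDX (mem_cj.1 hx)
  have e : x = g * (g⁻¹ * x * g) * g⁻¹ := by group
  rw [e]; exact mul_mem (mul_mem hg h1) (inv_mem hg)

theorem cj_eq [Finite H] [Finite M] {D : Subgroup H} (hDX : D ≤ X) (hDe : El D)
    (hD : Nat.card M ≤ Nat.card D * Nat.card (fxd D : AddSubgroup M)) (hq : brk M D ≤ fxd D) {g : H} (hg : g ∈ X)
    (hfx : ∀ m : M, m ∈ (fxd D : AddSubgroup M) ↔ g⁻¹ • m ∈ (fxd D : AddSubgroup M)) :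
    MulAut.conj g • D = D := by
  refine S.eq_of_fxd hDX (S.cj_le hg hDX) hDe (hDe.cj g) hD hq ?_ ?_ (card_cj g D)
  · exact fun m hm => (hfx m).2 (hq (brk_cj hm))
  · exact fun m hm => (fxd_cj g D).2 ((hfx m).1 hm)

/-- **(T1)** -/
theorem cent [Finite H] [Finite M] {D K : Subgroup H} (hDX : D ≤ X) (hDe : El D)
    (hD : Nat.card M ≤ Nat.card D * Nat.card (fxd D : AddSubgroup M)) (hq : brk M D ≤ fxd D) (hK : K ≤ X)
    (hKD : brk M K ≤ fxd D)
    (gen : K ≤ closure {x | ∃ g ∈ K, ∃ b, (∀ d ∈ D, b * d = d * b) ∧ x = g * b * g⁻¹}) :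
    (∀ k ∈ K, ∀ d ∈ D, k * d = d * k) ∧ brk M D ≤ fxd K := by
  have hn : ∀ g ∈ K, MulAut.conj g • D = D := by
    intro g hg
    refine S.cj_eq hDX hDe hD hq (hK hg) fun m => ?_
    have key : ∀ x ∈ K, ∀ n : M, n ∈ (fxd D : AddSubgroup M) → x • n ∈ (fxd D : AddSubgroup M) := by
      intro x hx n hn
      have e : x • n = (x • n - n) + n := by abel
      rw [e]
      exact add_mem (hKD (sub_mem_brk hx n)) hn
    constructor
    · exact fun h => key _ (inv_mem hg) m h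
    · intro h
      have := key _ hg _ h
      rwa [smul_inv_smul] at this
  have h0 : K ≤ centralizer (D : Set H) := by
    refine gen.trans ((closure_le _).2 ?_)
    rintro x ⟨g, hg, b, hb, rfl⟩
    rw [SetLike.mem_coe, mem_centralizer_iff]
    intro d hd
    have h2 : g⁻¹ * d * g ∈ D := by
      have h3 : d ∈ MulAut.conj g • D := by rw [hn g hg]; exact hd
      exact mem_cj.1 h3
    have h3 := hb _ h2
    symm
    calc g * b * g⁻¹ * d = g * (b * (g⁻¹ * d * g)) * g⁻¹ := by group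
      _ = g * (g⁻¹ * d * g * b) * g⁻¹ := by rw [h3]
      _ = d * (g * b * g⁻¹) := by group
  have h1 : ∀ k ∈ K, ∀ d ∈ D, k * d = d * k := fun k hk d hd => (mem_centralizer_iff.1 (h0 hk) d hd).symm
  refine ⟨h1, brk_le fun d hd m => ?_⟩
  rw [mem_fxd]
  intro k hk
  have e1 : k • d • m = d • k • m := by rw [← mul_smul, h1 k hk d hd, mul_smul]
  have e2 : k • m = (k • m - m) + m := by abel
  have e3 := mem_fxd.1 (hKD (sub_mem_brk hk m)) d hd
  rw [smul_sub, e1]
  conv_lhs => rw [e2]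
  rw [smul_add, e3]
  abel

omit S in
theorem index_le [Finite M] {D : Subgroup H}
    (hD : Nat.card M ≤ Nat.card D * Nat.card (fxd D : AddSubgroup M)) :
    (fxd D : AddSubgroup M).index ≤ Nat.card D := by
  have h1 := (fxd D : AddSubgroup M).card_mul_index
  have h3 : 0 < Nat.card (fxd D : AddSubgroup M) := Nat.card_pos
  refine Nat.le_of_mul_le_mul_right ?_ h3
  rw [mul_comm, h1]; exact hD

omit S in
theorem card_sup [Finite H] {D B : Subgroup H} (hDB : ∀ d ∈ D, ∀ b ∈ B, d * b = b * d) (h : D ⊓ B = ⊥) :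
    Nat.card ↥(D ⊔ B) = Nat.card D * Nat.card B := by
  have h1 : Function.Bijective (fun p : D × B => (⟨p.1 * p.2, mul_mem (mem_sup_left p.1.2) (mem_sup_right p.2.2)⟩ :
      ↥(D ⊔ B))) := by
    constructor
    · rintro ⟨a, b⟩ ⟨c, d⟩ e
      have e1 : (a : H) * b = c * d := congrArg Subtype.val e
      have e2 : (c : H)⁻¹ * a = d * (b : H)⁻¹ := by
        calc (c : H)⁻¹ * a = (c : H)⁻¹ * (a * b) * (b : H)⁻¹ := by group
          _ = (c : H)⁻¹ * (c * d) * (b : H)⁻¹ := by rw [e1]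
          _ = d * (b : H)⁻¹ := by group
      have e3 : (c : H)⁻¹ * a ∈ D ⊓ B :=
        mem_inf.2 ⟨mul_mem (inv_mem c.2) a.2, e2 ▸ mul_mem d.2 (inv_mem b.2)⟩
      rw [h, mem_bot] at e3
      have e4 : (c : H) = a := inv_mul_eq_one.1 e3
      have e5 : (d : H) = b := by
        rw [e3] at e2
        exact (mul_inv_eq_one.1 e2.symm)
      exact Prod.ext (Subtype.ext e4.symm) (Subtype.ext e5.symm)
    · rintro ⟨x, hx⟩
      obtain ⟨a, ha, b, hb, e⟩ := (mem_sup_comm hDB).1 hx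
      exact ⟨(⟨a, ha⟩, ⟨b, hb⟩), Subtype.ext e⟩
  rw [← Nat.card_prod]
  exact (Nat.card_congr (Equiv.ofBijective _ h1)).symm

omit S in
theorem exact_sup [Finite H] [Finite M] {D B : Subgroup H} (hDB : ∀ d ∈ D, ∀ b ∈ B, d * b = b * d) (h : D ⊓ B = ⊥)
    (hD : Nat.card M ≤ Nat.card D * Nat.card (fxd D : AddSubgroup M))
    (hB : Nat.card M ≤ Nat.card B * Nat.card (fxd B : AddSubgroup M)) :
    Nat.card M ≤ Nat.card ↥(D ⊔ B) * Nat.card (fxd (D ⊔ B) : AddSubgroup M) := by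
  have h1 : ((fxd D : AddSubgroup M) ⊓ fxd B).index ≤ Nat.card ↥(D ⊔ B) := by
    rw [card_sup hDB h]
    exact (AddSubgroup.index_inf_le).trans (Nat.mul_le_mul (index_le hD) (index_le hB))
  have h2 : Nat.card ↥((fxd D : AddSubgroup M) ⊓ fxd B) ≤ Nat.card (fxd (D ⊔ B) : AddSubgroup M) :=
    AddSubgroup.card_le_of_le fun m hm => mem_fxd_sup (AddSubgroup.mem_inf.1 hm).1 (AddSubgroup.mem_inf.1 hm).2
  rw [← ((fxd D : AddSubgroup M) ⊓ fxd B).card_mul_index, mul_comm]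
  exact Nat.mul_le_mul h1 h2

end Sit

/-- The data of (T3): the exact group `D` of `P`, `M = N × C`, the torus element `τ`. -/
structure Dt (X D : Subgroup H) (N C : AddSubgroup M) (τ : H) : Prop where
  DX : D ≤ X
  el : El D
  ex : Nat.card M ≤ Nat.card D * Nat.card (fxd D : AddSubgroup M)
  qd : brk M D ≤ fxd D
  fD : (fxd D : AddSubgroup M) ≤ brk M D ⊔ C
  CD : C ≤ fxd D
  RN : brk M D ≤ N
  τX : τ ∈ X
  τD : MulAut.conj τ • D = D
  τC : ∀ c ∈ C, τ • c = c
  τN : ∀ n ∈ N, τ • n ∈ N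
  fp : ∀ n ∈ N, τ • n = n → n = 0

/-- The data of (T3): the exact group `B` of a conjugate of `P'`. -/
structure Bd (X D B : Subgroup H) (M : Type v) [AddCommGroup M] [DistribMulAction H M] : Prop where
  BX : B ≤ X
  el : El B
  ex : Nat.card M ≤ Nat.card B * Nat.card (fxd B : AddSubgroup M)
  qd : brk M B ≤ fxd B
  cm : ∀ d ∈ D, ∀ b ∈ B, d * b = b * d
  BD : brk M B ≤ fxd D
  DB : brk M D ≤ fxd B
  tr : ∀ y ∈ brk M B, y ∈ brk M D → y = 0

namespace Dt

variable {X D : Subgroup H} {N C : AddSubgroup M} {τ : H} (S : Sit M X) (T : Dt X D N C τ)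
include T

theorem τR {r : M} (hr : r ∈ brk M D) : τ • r ∈ brk M D := by
  have h : τ • r ∈ brk M (MulAut.conj τ • D) := by
    have h1 : brk M D ≤ (brk M (MulAut.conj τ • D)).comap (DistribSMul.toAddMonoidHom M τ) := by
      apply brk_le
      intro a ha v
      rw [AddSubgroup.mem_comap, DistribSMul.toAddMonoidHom_apply, smul_sub]
      have h2 : τ * a * τ⁻¹ ∈ MulAut.conj τ • D := by rw [mem_cj]; convert ha using 1; group
      have h3 := sub_mem_brk (M := M) h2 (τ • v)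
      have e : (τ * a * τ⁻¹) • τ • v = τ • a • v := by rw [← mul_smul, ← mul_smul]; congr 1; group
      rw [e] at h3
      exact h3
    exact h1 hr
  rwa [T.τD] at h

theorem τR' {r : M} (hr : r ∈ brk M D) : τ⁻¹ • r ∈ brk M D := by
  rw [← T.τD] at hr
  exact brk_cj hr

theorem τF {m : M} (hm : m ∈ (fxd D : AddSubgroup M)) : τ • m ∈ (fxd D : AddSubgroup M) := by
  rw [← T.τD, fxd_cj, inv_smul_smul]; exact hm

theorem τC' {c : M} (hc : c ∈ C) : τ⁻¹ • c = c := by rw [inv_smul_eq_iff, T.τC c hc]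

theorem key {B : Subgroup H} (hB : Bd X D B M) {x : M} (hx : x ∈ (fxd D : AddSubgroup M)) (hxB : x ∈ (fxd B : AddSubgroup M)) :
    τ • x ∈ (fxd B : AddSubgroup M) ∧ τ⁻¹ • x ∈ (fxd B : AddSubgroup M) := by
  obtain ⟨r, hr, c, hc, rfl⟩ := AddSubgroup.mem_sup.1 (T.fD hx)
  have h1 : τ • (r + c) = (r + c) + (τ • r - r) := by rw [smul_add, T.τC c hc]; abel
  have h2 : τ⁻¹ • (r + c) = (r + c) + (τ⁻¹ • r - r) := by rw [smul_add, T.τC' hc]; abel
  rw [h1, h2]
  exact ⟨add_mem hxB (sub_mem (hB.DB (T.τR hr)) (hB.DB hr)),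
    add_mem hxB (sub_mem (hB.DB (T.τR' hr)) (hB.DB hr))⟩

theorem brk_cjB {B : Subgroup H} (hB : Bd X D B M) {y : M} (hy : y ∈ brk M (MulAut.conj τ • B)) :
    y ∈ (fxd B : AddSubgroup M) ∧ y ∈ (fxd D : AddSubgroup M) := by
  have h1 := brk_cj hy
  have e : y = τ • τ⁻¹ • y := (smul_inv_smul _ _).symm
  rw [e]
  exact ⟨(T.key hB (hB.BD h1) (hB.qd h1)).1, T.τF (hB.BD h1)⟩

include S

/-- `B` and `B^τ` commute. -/
theorem commB {B : Subgroup H} (hB : Bd X D B M) : ∀ b ∈ B, ∀ b' ∈ MulAut.conj τ • B, b * b' = b' * b := by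
  intro b hb b' hb'
  refine S.comm_of (hB.BX hb) (S.cj_le T.τX hB.BX hb') (fun m => ?_) fun m => ?_
  · have h1 := sub_mem_brk (M := M) hb m
    have h2 := (T.key hB (hB.BD h1) (hB.qd h1)).2
    exact mem_fxd.1 ((fxd_cj τ B).2 h2) b' hb'
  · exact mem_fxd.1 (T.brk_cjB hB (sub_mem_brk hb' m)).1 b hb

theorem commD {B : Subgroup H} (hB : Bd X D B M) : ∀ d ∈ D, ∀ b' ∈ MulAut.conj τ • B, d * b' = b' * d := by
  intro d hd b' hb'
  have h1 : τ⁻¹ * d * τ ∈ D := by
    have h2 : d ∈ MulAut.conj τ • D := by rw [T.τD]; exact hd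
    exact mem_cj.1 h2
  have h3 := hB.cm _ h1 _ (mem_cj.1 hb')
  calc d * b' = τ * (τ⁻¹ * d * τ * (τ⁻¹ * b' * τ)) * τ⁻¹ := by group
    _ = τ * (τ⁻¹ * b' * τ * (τ⁻¹ * d * τ)) * τ⁻¹ := by rw [h3]
    _ = b' * d := by group

theorem inf_eq {B : Subgroup H} (hB : Bd X D B M) : D ⊓ B = ⊥ := by
  rw [eq_bot_iff]
  intro x hx
  rw [mem_bot]
  refine S.faith x (T.DX (mem_inf.1 hx).1) fun m => ?_
  exact sub_eq_zero.1 (hB.tr _ (sub_mem_brk (mem_inf.1 hx).2 m) (sub_mem_brk (mem_inf.1 hx).1 m))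

/-- `B^τ ≤ D B` -/
theorem cj_le [Finite H] [Finite M] {B : Subgroup H} (hB : Bd X D B M) : MulAut.conj τ • B ≤ D ⊔ B := by
  have h1 : El (D ⊔ B) := T.el.sup hB.el hB.cm
  have h2 : ∀ x ∈ D ⊔ B, ∀ b' ∈ MulAut.conj τ • B, x * b' = b' * x := by
    intro x hx b' hb'
    obtain ⟨d, hd, b, hb, rfl⟩ := (mem_sup_comm hB.cm).1 hx
    calc d * b * b' = d * (b * b') := by group
      _ = d * (b' * b) := by rw [commB S T hB b hb b' hb']
      _ = (d * b') * b := by group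
      _ = (b' * d) * b := by rw [commD S T hB d hd b' hb']
      _ = b' * (d * b) := by group
  have h3 : (D ⊔ B) ⊔ MulAut.conj τ • B = D ⊔ B := by
    refine S.eq_of_le (sup_le (sup_le T.DX hB.BX) (S.cj_le T.τX hB.BX)) (h1.sup (hB.el.cj τ) h2) le_sup_left
      (Sit.exact_sup hB.cm (inf_eq S T hB) T.ex hB.ex) ?_
    intro m hm
    refine mem_fxd_sup hm ?_
    have hmD : m ∈ (fxd D : AddSubgroup M) := mem_fxd.2 fun d hd => mem_fxd.1 hm d (mem_sup_left hd)
    have hmB : m ∈ (fxd B : AddSubgroup M) := mem_fxd.2 fun b hb => mem_fxd.1 hm b (mem_sup_right hb)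
    exact (fxd_cj τ B).2 (T.key hB hmD hmB).2
  rw [← h3]; exact le_sup_right

/-- **(T3), first half.** `B` normalises `C`. -/
theorem keep [Finite H] [Finite M] {B : Subgroup H} (hB : Bd X D B M) {b : H} (hb : b ∈ B) {c : M} (hc : c ∈ C) :
    b • c ∈ C := by
  have h1 : τ * b * τ⁻¹ ∈ D ⊔ B := by
    refine cj_le S T hB ?_
    rw [mem_cj]; convert hb using 1; group
  obtain ⟨d, hd, b₁, hb₁, e⟩ := (mem_sup_comm hB.cm).1 h1
  have hy := sub_mem_brk (M := M) hb c
  obtain ⟨r, hr, c₀, hc₀, ey⟩ := AddSubgroup.mem_sup.1 (T.fD (hB.BD hy))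
  have h2 : τ • (b • c - c) = b₁ • c - c := by
    have e1 : τ • (b • c) = (τ * b * τ⁻¹) • c := by
      rw [mul_smul, mul_smul, T.τC' hc]
    rw [smul_sub, T.τC c hc, e1, ← e, mul_smul]
    congr 1
    have h3 : b₁ • c ∈ (fxd D : AddSubgroup M) := by
      have e2 : b₁ • c = (b₁ • c - c) + c := by abel
      rw [e2]
      exact add_mem (hB.BD (sub_mem_brk hb₁ c)) (T.CD hc)
    exact mem_fxd.1 h3 d hd
  have h4 : τ • r - r = 0 := by
    apply hB.tr
    · have e3 : τ • r - r = (b₁ • c - c) - (b • c - c) := by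
        rw [← h2, ← ey, smul_add, T.τC c₀ hc₀]; abel
      rw [e3]
      exact sub_mem (sub_mem_brk hb₁ c) hy
    · exact sub_mem (T.τR hr) hr
  have h5 : r = 0 := T.fp r (T.RN hr) (sub_eq_zero.1 h4)
  rw [h5, zero_add] at ey
  have e4 : b • c = (b • c - c) + c := by abel
  rw [e4, ← ey]
  exact add_mem hc₀ hc

/-- **(T3), second half.** If `[M, B] ≤ C`, then `B` centralises `N`. -/
theorem kill [Finite H] [Finite M] {B : Subgroup H} (hB : Bd X D B M) (hBC : brk M B ≤ C) {b : H} (hb : b ∈ B) {n : M}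
    (hn : n ∈ N) : b • n = n := by
  have hb' : τ * b * τ⁻¹ ∈ MulAut.conj τ • B := by rw [mem_cj]; convert hb using 1; group
  have hcb := commB S T hB b hb _ hb'
  -- `u` commutes with `D`, fixes `fxd D`
  have hfix : ∀ m ∈ (fxd D : AddSubgroup M), b • (τ * b * τ⁻¹) • m = m := by
    intro m hm
    obtain ⟨r, hr, c, hc, rfl⟩ := AddSubgroup.mem_sup.1 (T.fD hm)
    have e1 : (τ * b * τ⁻¹) • r = r := by
      rw [mul_smul, mul_smul, mem_fxd.1 (hB.DB (T.τR' hr)) b hb, smul_inv_smul]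
    have e2 : (τ * b * τ⁻¹) • c = b • c := by
      rw [mul_smul, mul_smul, T.τC' hc]
      exact T.τC _ (keep S T hB hb hc)
    rw [smul_add, e1, e2, smul_add, mem_fxd.1 (hB.DB hr) b hb, hB.el.smul_smul hb]
  have hzu : b * (τ * b * τ⁻¹) ∈ D := by
    have hel : El (zpowers (b * (τ * b * τ⁻¹))) := by
      have hsq : b * (τ * b * τ⁻¹) * (b * (τ * b * τ⁻¹)) = 1 := by
        calc b * (τ * b * τ⁻¹) * (b * (τ * b * τ⁻¹)) = b * ((τ * b * τ⁻¹) * b) * (τ * b * τ⁻¹) := by group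
          _ = b * (b * (τ * b * τ⁻¹)) * (τ * b * τ⁻¹) := by rw [hcb]
          _ = (b * b) * (τ * (b * b) * τ⁻¹) := by group
          _ = 1 := by rw [hB.el.sq b hb]; group
      constructor
      · rintro x ⟨k, rfl⟩
        calc (b * (τ * b * τ⁻¹)) ^ k * (b * (τ * b * τ⁻¹)) ^ k = (b * (τ * b * τ⁻¹) * (b * (τ * b * τ⁻¹))) ^ k := by
              rw [← zpow_add, ← pow_two, ← zpow_natCast, ← zpow_mul]; congr 1; push_cast; ring
          _ = 1 := by rw [hsq, one_zpow]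
      · rintro x ⟨k, rfl⟩ y ⟨l, rfl⟩
        exact ((Commute.refl _).zpow_zpow k l).eq
    have hcd : ∀ d ∈ D, ∀ x ∈ zpowers (b * (τ * b * τ⁻¹)), d * x = x * d := by
      rintro d hd x ⟨k, rfl⟩
      have h1 : Commute d (b * (τ * b * τ⁻¹)) :=
        Commute.mul_right (hB.cm d hd b hb) (commD S T hB d hd _ hb')
      exact (h1.zpow_right k).eq
    have h1 : D ⊔ zpowers (b * (τ * b * τ⁻¹)) = D := by
      refine S.eq_of_le (sup_le T.DX ?_) (T.el.sup hel hcd) le_sup_left T.ex ?_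
      · rw [zpowers_le]
        exact mul_mem (hB.BX hb) (S.cj_le T.τX hB.BX hb')
      · intro m hm
        refine mem_fxd_sup hm (mem_fxd.2 ?_)
        rintro x ⟨k, rfl⟩
        have h2 : b * (τ * b * τ⁻¹) ∈ MulAction.stabilizer H m := by
          rw [MulAction.mem_stabilizer_iff, mul_smul]; exact hfix m hm
        exact MulAction.mem_stabilizer_iff.1 (zpow_mem h2 k)
    rw [← h1]
    exact mem_sup_right (mem_zpowers _)
  have hu1 : b * (τ * b * τ⁻¹) = 1 := by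
    refine S.faith _ (T.DX hzu) fun m => ?_
    rw [← sub_eq_zero]
    refine hB.tr _ ?_ (sub_mem_brk hzu m)
    have h1 := sub_mem_brk (M := M) hb (((τ * b * τ⁻¹)) • m)
    have h2 := brk_cj (sub_mem_brk (M := M) hb' m)
    have h3 : (τ * b * τ⁻¹) • m - m ∈ brk M B := by
      have e : (τ * b * τ⁻¹) • m - m = τ • τ⁻¹ • ((τ * b * τ⁻¹) • m - m) := (smul_inv_smul _ _).symm
      rw [e, T.τC _ (hBC h2)]; exact h2
    have e : (b * (τ * b * τ⁻¹)) • m - m = (b • (τ * b * τ⁻¹) • m - (τ * b * τ⁻¹) • m) + ((τ * b * τ⁻¹) • m - m) := by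
      rw [mul_smul b]; abel
    rw [e]
    exact add_mem h1 h3
  have hcomm : τ * b = b * τ := by
    have h1 : τ * b * τ⁻¹ = b := by
      have h2 : b * (τ * b * τ⁻¹) = b * b := by rw [hu1, hB.el.sq b hb]
      exact mul_left_cancel h2
    calc τ * b = (τ * b * τ⁻¹) * τ := by group
      _ = b * τ := by rw [h1]
  have hz : ∀ m ∈ N, b • (τ • m - m) = τ • m - m := by
    intro m _
    have e1 : b • τ • m - τ • m = τ • (b • m - m) := by
      rw [smul_sub, ← mul_smul, ← mul_smul, hcomm]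
    rw [T.τC _ (hBC (sub_mem_brk hb m))] at e1
    rw [smul_sub]
    have e2 : b • τ • m = τ • m + (b • m - m) := by rw [← e1]; abel
    rw [e2]; abel
  -- `τ - 1` is onto on `N`
  have hsur : Function.Surjective (fun m : N => (⟨τ • (m : M) - m, sub_mem (T.τN _ m.2) m.2⟩ : N)) := by
    refine Finite.surjective_of_injective ?_
    rintro ⟨x, hx⟩ ⟨y, hy⟩ e
    have e1 : τ • x - x = τ • y - y := congrArg Subtype.val e
    have e2 : τ • (x - y) = x - y := by
      rw [smul_sub, sub_eq_sub_iff_add_eq_add]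
      rw [sub_eq_sub_iff_add_eq_add] at e1
      rw [e1]; abel
    have e3 := T.fp _ (sub_mem hx hy) e2
    exact Subtype.ext (sub_eq_zero.1 e3)
  obtain ⟨m, hm⟩ := hsur ⟨n, hn⟩
  have hm' : τ • (m : M) - m = n := congrArg Subtype.val hm
  rw [← hm']
  exact hz _ m.2

end Dt

end Cfsg.Agent.Omega.NOThreeL.RRed.Blk.Types

end

section


/-!
# NO-3L, box R: THEOREM TYPES (helper797, #24779), step (T4), abstract

`X` acts faithfully on `V` (additive, `v + v = 0`), no over-offender (`NO`).  `Bk e f C up lo` : a natural block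
`N = e(F) ⊕ f(F)` over the field `F` (`|F| ≥ 4`), `V = N ⊕ C`, with root elements `up t : f x ↦ f x + e (t x)`,
`lo t : e x ↦ e x + f (t x)`, trivial on `C`.  `rt up` = the root group.

* **`Bk.gam`** : an element which is trivial on `e(F)`, on `(e(F) + C)/e(F)` and on `V/(e(F) + C)` is in `rt up`.
* `Bk.eq` (two blocks with the same root group have the same `N` and `C`): in `TypesEq.lean`.
-/

set_option autoImplicit false
set_option linter.unusedSectionVars false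

namespace Cfsg.Agent.Omega.NOThreeL.RRed.Blk.TypesGam

open Cfsg.Agent.Omega.NOThreeL.RRed.NS (fxd mem_fxd)

universe u v w w'

variable {X : Type u} {V : Type v} [Group X] [AddCommGroup V] [DistribMulAction X V]

/-- no over-offender -/
def NO (X : Type u) (V : Type v) [Group X] [AddCommGroup V] [DistribMulAction X V] : Prop :=
  ∀ W : Subgroup X, (∀ x ∈ W, ∀ y ∈ W, x * y = y * x) → (∀ x ∈ W, x * x = 1) →
    Nat.card W ≤ (fxd W : AddSubgroup V).index

/-- a natural block -/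
structure Bk {F : Type w} [Field F] (e f : F →+ V) (C : AddSubgroup V) (up lo : F → X) : Prop where
  dec : ∀ v : V, ∃ x y, ∃ c ∈ C, v = e x + f y + c
  ind : ∀ x y, e x + f y ∈ C → x = 0 ∧ y = 0
  up_e : ∀ t x, up t • e x = e x
  up_f : ∀ t x, up t • f x = f x + e (t * x)
  up_c : ∀ t, ∀ c ∈ C, up t • c = c
  lo_e : ∀ t x, lo t • e x = e x + f (t * x)
  lo_f : ∀ t x, lo t • f x = f x
  lo_c : ∀ t, ∀ c ∈ C, lo t • c = c

section

variable {F : Type w} [Field F] {e f : F →+ V} {C : AddSubgroup V} {up lo : F → X}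

theorem Bk.swap (h : Bk e f C up lo) : Bk f e C lo up where
  dec := by
    intro v
    obtain ⟨x, y, c, hc, e1⟩ := h.dec v
    exact ⟨y, x, c, hc, by rw [e1]; abel⟩
  ind := by
    intro x y hm
    rw [add_comm] at hm
    exact (h.ind y x hm).symm
  up_e := h.lo_f
  up_f := h.lo_e
  up_c := h.lo_c
  lo_e := h.up_f
  lo_f := h.up_e
  lo_c := h.up_c

/-- uniqueness of the components -/
theorem Bk.uniq (h : Bk e f C up lo) {x y x' y' : F} {c c' : V} (hc : c ∈ C) (hc' : c' ∈ C)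
    (e1 : e x + f y + c = e x' + f y' + c') : x = x' ∧ y = y' ∧ c = c' := by
  have e2 : e (x - x') + f (y - y') = c' - c := by
    rw [map_sub, map_sub]
    have e3 : e x + f y = e x' + f y' + c' - c := by rw [← e1]; abel
    have e4 : e x - e x' + (f y - f y') = (e x + f y) - (e x' + f y') := by abel
    rw [e4, e3]; abel
  obtain ⟨h1, h2⟩ := h.ind _ _ (e2 ▸ C.sub_mem hc' hc)
  have h3 := sub_eq_zero.1 h1
  have h4 := sub_eq_zero.1 h2
  subst h3 h4
  exact ⟨rfl, rfl, add_left_cancel e1⟩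

/-- the projections -/
theorem Bk.proj' (h : Bk e f C up lo) :
    ∃ (px py : V →+ F) (pc : V →+ V), (∀ v, v = e (px v) + f (py v) + pc v) ∧ ∀ v, pc v ∈ C := by
  choose px py pc hpc hv using h.dec
  refine ⟨AddMonoidHom.mk' px ?_, AddMonoidHom.mk' py ?_, AddMonoidHom.mk' pc ?_, hv, hpc⟩
  all_goals
    intro a b
    have e1 : e (px (a + b)) + f (py (a + b)) + pc (a + b)
        = e (px a + px b) + f (py a + py b) + (pc a + pc b) := by
      rw [← hv (a + b), map_add, map_add]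
      conv_lhs => rw [hv a, hv b]
      abel
    obtain ⟨h1, h2, h3⟩ := h.uniq (hpc _) (C.add_mem (hpc a) (hpc b)) e1
    first | exact h1 | exact h2 | exact h3

theorem Bk.proj (h : Bk e f C up lo) :
    ∃ (px py : V →+ F) (pc : V →+ V), (∀ v, v = e (px v) + f (py v) + pc v) ∧ (∀ v, pc v ∈ C) ∧
      ∀ a b, ∀ c ∈ C, px (e a + f b + c) = a ∧ py (e a + f b + c) = b ∧ pc (e a + f b + c) = c := by
  obtain ⟨px, py, pc, hv, hpc⟩ := h.proj'
  exact ⟨px, py, pc, hv, hpc, fun a b c hc => h.uniq (hpc _) hc (hv _).symm⟩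

variable (h : Bk e f C up lo) (h2 : ∀ v : V, v + v = 0) (hf : ∀ x : X, (∀ v : V, x • v = v) → x = 1)
include h h2 hf

omit h2 in
/-- two elements which agree on the three parts are equal -/
theorem Bk.ext {x y : X} (he : ∀ z, x • e z = y • e z) (hff : ∀ z, x • f z = y • f z)
    (hc : ∀ c ∈ C, x • c = y • c) : x = y := by
  have h1 : y⁻¹ * x = 1 := by
    refine hf _ fun v => ?_
    obtain ⟨a, b, c, hcc, rfl⟩ := h.dec v
    have e1 : x • (e a + f b + c) = y • (e a + f b + c) := by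
      rw [smul_add, smul_add, smul_add, smul_add, he, hff, hc c hcc]
    rw [mul_smul, e1, inv_smul_smul]
  exact (inv_mul_eq_one.1 h1).symm

omit hf in
theorem Bk.two (x : F) : x + x = 0 := by
  refine (h.ind (x + x) 0 ?_).1
  rw [map_add, map_zero, h2, add_zero]
  exact C.zero_mem

omit h2 in
theorem Bk.up_zero : up 0 = 1 := by
  refine h.ext hf (fun z => ?_) (fun z => ?_) fun c hc => ?_
  · rw [h.up_e, one_smul]
  · rw [h.up_f, zero_mul, map_zero, add_zero, one_smul]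
  · rw [h.up_c _ c hc, one_smul]

omit h2 in
theorem Bk.up_add (s t : F) : up s * up t = up (s + t) := by
  refine h.ext hf (fun z => ?_) (fun z => ?_) fun c hc => ?_
  · rw [mul_smul, h.up_e, h.up_e, h.up_e]
  · rw [mul_smul, h.up_f, smul_add, h.up_f, h.up_e, h.up_f, add_mul, map_add]; abel
  · rw [mul_smul, h.up_c _ c hc, h.up_c _ c hc, h.up_c _ c hc]

theorem Bk.up_inv (t : F) : (up t)⁻¹ = up t := by
  rw [inv_eq_iff_mul_eq_one, h.up_add hf, h.two h2, h.up_zero hf]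

/-- the root group -/
def rt (up : F → X) : Subgroup X := Subgroup.closure (Set.range up)

omit h h2 hf in
theorem up_mem (t : F) : up t ∈ rt up := Subgroup.subset_closure ⟨t, rfl⟩

theorem Bk.mem_rt {a : X} : a ∈ rt up ↔ ∃ t, up t = a := by
  constructor
  · intro ha
    refine Subgroup.closure_induction (p := fun a _ => ∃ t, up t = a) ?_ ⟨0, h.up_zero hf⟩ ?_ ?_ ha
    · rintro _ ⟨t, rfl⟩
      exact ⟨t, rfl⟩
    · rintro _ _ _ _ ⟨s, rfl⟩ ⟨t, rfl⟩
      exact ⟨s + t, (h.up_add hf s t).symm⟩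
    · rintro _ _ ⟨t, rfl⟩
      exact ⟨t, (h.up_inv h2 hf t).symm⟩
  · rintro ⟨t, rfl⟩
    exact up_mem t

omit h2 hf in
theorem Bk.up_inj {s t : F} (e1 : up s = up t) : s = t := by
  have e2 := h.up_f s 1
  rw [e1, h.up_f, mul_one, mul_one] at e2
  have e3 : e t + f 0 + 0 = e s + f 0 + 0 := by
    rw [map_zero, add_zero, add_zero, add_zero, add_zero]
    exact add_left_cancel e2
  exact (h.uniq C.zero_mem C.zero_mem e3).1.symm

theorem Bk.card_rt : Nat.card (rt up) = Nat.card F := by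
  refine (Nat.card_congr (Equiv.ofBijective (fun t : F => (⟨up t, up_mem t⟩ : rt up)) ⟨?_, ?_⟩)).symm
  · intro s t e1
    exact h.up_inj (congrArg Subtype.val e1)
  · rintro ⟨a, ha⟩
    obtain ⟨t, rfl⟩ := (h.mem_rt h2 hf).1 ha
    exact ⟨t, rfl⟩

end

section card

/-- counting: a subgroup which fixes the kernel of `π : V → K` has at most `|K|` elements -/
theorem card_le_of [Finite V] (hno : NO X V) {K : Type w} [AddCommGroup K] [Finite K] (π : V →+ K) (W : Subgroup X)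
    (hc : ∀ x ∈ W, ∀ y ∈ W, x * y = y * x) (hq : ∀ x ∈ W, x * x = 1)
    (hfix : ∀ x ∈ W, ∀ v, π v = 0 → x • v = v) : Nat.card W ≤ Nat.card K := by
  have h1 : π.ker ≤ (fxd W : AddSubgroup V) := fun v hv x hx => hfix x hx v (AddMonoidHom.mem_ker.1 hv)
  have h3 : (fxd W : AddSubgroup V).index ≤ π.ker.index := by
    have h4 : (fxd W : AddSubgroup V).index ∣ π.ker.index := AddSubgroup.index_dvd_of_le h1
    exact Nat.le_of_dvd (Nat.pos_of_ne_zero AddSubgroup.index_ne_zero_of_finite) h4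
  have h5 : π.ker.index = Nat.card π.range := AddSubgroup.index_ker π
  have h6 : Nat.card π.range ≤ Nat.card K := Nat.card_le_card_of_injective _ Subtype.val_injective
  exact (hno W hc hq).trans (h3.trans (h5 ▸ h6))

end card

section gam

variable {F : Type w} [Field F] [Finite F] {e f : F →+ V} {C : AddSubgroup V} {up lo : F → X} [Finite V] [Finite X]

/-- LEMMA K : an element which fixes `e(F) + C` and is trivial on the quotient is in the root group. -/
theorem Bk.memK (h : Bk e f C up lo) (h2 : ∀ v : V, v + v = 0) (hf : ∀ x : X, (∀ v : V, x • v = v) → x = 1)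
    (hno : NO X V) {g : X} (ge : ∀ z, g • e z = e z) (gc : ∀ c ∈ C, g • c = c)
    (gf : ∀ z, ∃ x, ∃ c ∈ C, g • f z = f z + (e x + c)) : g ∈ rt up := by
  obtain ⟨px, py, pc, hv, hpc⟩ := h.proj'
  have hU : ∀ v : V, py v = 0 ↔ ∃ x, ∃ c ∈ C, v = e x + c := by
    intro v
    constructor
    · intro h0
      refine ⟨px v, pc v, hpc v, ?_⟩
      have e1 := hv v
      rw [h0, map_zero, add_zero] at e1
      exact e1
    · rintro ⟨x, c, hc, rfl⟩
      have e1 : e (px (e x + c)) + f (py (e x + c)) + pc (e x + c) = e x + f 0 + c := by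
        rw [← hv, map_zero, add_zero]
      exact (h.uniq (hpc _) hc e1).2.1
  -- the group of all such elements
  let W : Subgroup X :=
    { carrier := {x | (∀ v, py v = 0 → x • v = v) ∧ ∀ v, py (x • v - v) = 0}
      one_mem' := ⟨fun v _ => one_smul _ _, fun v => by rw [one_smul, sub_self, map_zero]⟩
      mul_mem' := by
        rintro x y ⟨hx1, hx2⟩ ⟨hy1, hy2⟩
        refine ⟨fun v hv0 => by rw [mul_smul, hy1 v hv0, hx1 v hv0], fun v => ?_⟩
        have e1 : (x * y) • v - v = (x • (y • v) - y • v) + (y • v - v) := by rw [mul_smul]; abel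
        rw [e1, map_add, hx2, hy2, add_zero]
      inv_mem' := by
        rintro x ⟨hx1, hx2⟩
        refine ⟨fun v hv0 => by rw [inv_smul_eq_iff, hx1 v hv0], fun v => ?_⟩
        have e1 : x⁻¹ • v - v = -(x • (x⁻¹ • v) - x⁻¹ • v) := by rw [smul_inv_smul]; abel
        rw [e1, map_neg, hx2, neg_zero] }
  have key : ∀ x ∈ W, ∀ y ∈ W, ∀ v : V, (x * y) • v = v + (x • v - v) + (y • v - v) := by
    rintro x ⟨hx1, hx2⟩ y ⟨hy1, hy2⟩ v
    have e1 : y • v = v + (y • v - v) := by abel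
    rw [mul_smul]
    conv_lhs => rw [e1]
    rw [smul_add, hx1 _ (hy2 v)]
    abel
  have hcom : ∀ x ∈ W, ∀ y ∈ W, x * y = y * x := by
    intro x hx y hy
    have h3 : (y * x)⁻¹ * (x * y) = 1 := by
      refine hf _ fun v => ?_
      rw [mul_smul, inv_smul_eq_iff, key x hx y hy, key y hy x hx]
      abel
    exact (inv_mul_eq_one.1 h3).symm
  have hsq : ∀ x ∈ W, x * x = 1 := by
    intro x hx
    refine hf _ fun v => ?_
    rw [key x hx x hx, add_assoc, h2, add_zero]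
  have hcard : Nat.card W ≤ Nat.card F := card_le_of hno py W hcom hsq fun x hx v h0 => hx.1 v h0
  have hle : rt up ≤ W := by
    intro a ha
    obtain ⟨t, rfl⟩ := (h.mem_rt h2 hf).1 ha
    refine ⟨fun v h0 => ?_, fun v => ?_⟩
    · obtain ⟨x, c, hc, rfl⟩ := (hU v).1 h0
      rw [smul_add, h.up_e, h.up_c t c hc]
    · rw [hU]
      obtain ⟨x, y, c, hc, rfl⟩ := h.dec v
      refine ⟨t * y, 0, C.zero_mem, ?_⟩
      rw [smul_add, smul_add, h.up_e, h.up_f, h.up_c t c hc]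
      abel
  have hgW : g ∈ W := by
    refine ⟨fun v h0 => ?_, fun v => ?_⟩
    · obtain ⟨x, c, hc, rfl⟩ := (hU v).1 h0
      rw [smul_add, ge, gc c hc]
    · rw [hU]
      obtain ⟨x, y, c, hc, rfl⟩ := h.dec v
      obtain ⟨a, c', hc', e1⟩ := gf y
      refine ⟨a, c', hc', ?_⟩
      rw [smul_add, smul_add, ge, e1, gc c hc]
      abel
  have heq : rt up = W := by
    refine Subgroup.eq_of_le_of_card_ge hle ?_
    rw [h.card_rt h2 hf]
    exact hcard
  rw [heq]
  exact hgW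

/-- the action of an element of `Gam` -/
structure Dat {F : Type w} [Field F] (e f : F →+ V) (C : AddSubgroup V) (g : X) (σ : V →+ F) (ρ : F →+ V)
    (γ : F → F) : Prop where
  ee : ∀ z, g • e z = e z
  cc : ∀ c ∈ C, g • c = c + e (σ c)
  ff : ∀ s, g • f s = f s + ρ s + e (γ s)
  rc : ∀ s, ρ s ∈ C

omit [Finite F] [Finite V] [Finite X] in
theorem Bk.exists_dat (h : Bk e f C up lo) {g : X} (ge : ∀ z, g • e z = e z)
    (gc : ∀ c ∈ C, ∃ x, g • c = c + e x) (gf : ∀ z, ∃ x, ∃ c ∈ C, g • f z = f z + c + e x) :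
    ∃ (σ : V →+ F) (ρ : F →+ V) (γ : F →+ F), Dat e f C g σ ρ γ := by
  obtain ⟨px, py, pc, hv, hpc, hu⟩ := h.proj
  refine ⟨px.comp ((DistribSMul.toAddMonoidHom V g).comp pc),
    pc.comp ((DistribSMul.toAddMonoidHom V g).comp f),
    px.comp ((DistribSMul.toAddMonoidHom V g).comp f), ge, ?_, ?_, fun s => hpc _⟩
  · intro c hc
    obtain ⟨x, hx⟩ := gc c hc
    have e1 : pc c = c := by
      have := (hu 0 0 c hc).2.2
      rwa [map_zero, map_zero, zero_add, zero_add] at this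
    have e2 : px (c + e x) = x := by
      have := (hu x 0 c hc).1
      rwa [map_zero, add_zero, add_comm] at this
    show g • c = c + e (px (g • pc c))
    rw [e1, hx, e2]
  · intro s
    obtain ⟨x, c, hc, hx⟩ := gf s
    have e1 : g • f s = e x + f s + c := by rw [hx]; abel
    show g • f s = f s + pc (g • f s) + e (px (g • f s))
    rw [e1, (hu x s c hc).1, (hu x s c hc).2.2]
    abel

/-- the Weyl elements -/
def wt (up lo : F → X) (t : F) : X := up t * lo t⁻¹ * up t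

/-- the torus -/
def hh (up lo : F → X) (t : F) : X := wt up lo t * wt up lo 1

section torus
omit [Finite F] [Finite V] [Finite X]
variable (h : Bk e f C up lo) (h2 : ∀ v : V, v + v = 0)
include h h2

theorem Bk.wt_e {t : F} (ht : t ≠ 0) (x : F) : wt up lo t • e x = f (t⁻¹ * x) := by
  rw [wt, mul_smul, mul_smul, h.up_e, h.lo_e, smul_add, h.up_e, h.up_f, mul_inv_cancel_left₀ ht]
  have e1 : e x + (f (t⁻¹ * x) + e x) = f (t⁻¹ * x) + (e x + e x) := by abel
  rw [e1, h2, add_zero]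

theorem Bk.wt_f {t : F} (ht : t ≠ 0) (y : F) : wt up lo t • f y = e (t * y) := by
  rw [wt, mul_smul, mul_smul, h.up_f, smul_add, h.lo_f, h.lo_e, inv_mul_cancel_left₀ ht, smul_add, smul_add,
    h.up_f, h.up_e]
  have e1 : f y + e (t * y) + (e (t * y) + (f y + e (t * y)))
      = e (t * y) + ((f y + f y) + (e (t * y) + e (t * y))) := by abel
  rw [e1, h2, h2, add_zero, add_zero]

omit h2 in
theorem Bk.wt_c (t : F) {c : V} (hc : c ∈ C) : wt up lo t • c = c := by
  rw [wt, mul_smul, mul_smul, h.up_c _ c hc, h.lo_c _ c hc, h.up_c _ c hc]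

theorem Bk.hh_e {t : F} (ht : t ≠ 0) (x : F) : hh up lo t • e x = e (t * x) := by
  rw [hh, mul_smul, h.wt_e h2 one_ne_zero, h.wt_f h2 ht, inv_one, one_mul]

theorem Bk.hh_f {t : F} (ht : t ≠ 0) (y : F) : hh up lo t • f y = f (t⁻¹ * y) := by
  rw [hh, mul_smul, h.wt_f h2 one_ne_zero, h.wt_e h2 ht, one_mul]

omit h2 in
theorem Bk.hh_c (t : F) {c : V} (hc : c ∈ C) : hh up lo t • c = c := by
  rw [hh, mul_smul, h.wt_c _ hc, h.wt_c _ hc]

theorem Bk.hhi_e {t : F} (ht : t ≠ 0) (x : F) : (hh up lo t)⁻¹ • e x = e (t⁻¹ * x) := by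
  rw [inv_smul_eq_iff, h.hh_e h2 ht, mul_inv_cancel_left₀ ht]

theorem Bk.hhi_f {t : F} (ht : t ≠ 0) (y : F) : (hh up lo t)⁻¹ • f y = f (t * y) := by
  rw [inv_smul_eq_iff, h.hh_f h2 ht, inv_mul_cancel_left₀ ht]

omit h2 in
theorem Bk.hhi_c (t : F) {c : V} (hc : c ∈ C) : (hh up lo t)⁻¹ • c = c := by
  rw [inv_smul_eq_iff, h.hh_c t hc]

/-- the torus conjugates of an element of `Gam` -/
theorem Dat.conj_h {g : X} {σ : V →+ F} {ρ : F →+ V} {γ : F → F} (D : Dat e f C g σ ρ γ) {t : F} (ht : t ≠ 0) :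
    Dat e f C (hh up lo t * g * (hh up lo t)⁻¹) ((AddMonoidHom.mulLeft t).comp σ)
      (ρ.comp (AddMonoidHom.mulLeft t)) (fun s => t * γ (t * s)) where
  ee := by
    intro z
    rw [mul_smul, mul_smul, h.hhi_e h2 ht, D.ee, h.hh_e h2 ht, mul_inv_cancel_left₀ ht]
  cc := by
    intro c hc
    rw [mul_smul, mul_smul, h.hhi_c t hc, D.cc c hc, smul_add, h.hh_c t hc, h.hh_e h2 ht]
    rfl
  ff := by
    intro s
    rw [mul_smul, mul_smul, h.hhi_f h2 ht, D.ff, smul_add, smul_add, h.hh_f h2 ht, h.hh_c t (D.rc _),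
      h.hh_e h2 ht, inv_mul_cancel_left₀ ht]
    rfl
  rc := fun s => D.rc _

end torus

section lin
variable (h : Bk e f C up lo) (h2 : ∀ v : V, v + v = 0) (hf : ∀ x : X, (∀ v : V, x • v = v) → x = 1) (hno : NO X V)
include h h2 hf hno

/-- two elements of `Gam` with the same `σ`, `ρ` differ by a root element -/
theorem Bk.lin {P Q : X} {κ : F → F} (Pe : ∀ z, P • e z = e z) (Qe : ∀ z, Q • e z = e z)
    (PQ : ∀ c ∈ C, P • c = Q • c) (Qc : ∀ c ∈ C, ∃ x, Q • c = c + e x)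
    (Qf : ∀ s, ∃ x, ∃ c ∈ C, Q • f s = f s + c + e x) (Pf : ∀ s, P • f s = Q • f s + e (κ s)) :
    ∃ t, ∀ s, κ s = t * s := by
  have Qie : ∀ z, Q⁻¹ • e z = e z := fun z => by rw [inv_smul_eq_iff, Qe]
  have dc : ∀ c ∈ C, (P * Q⁻¹) • c = c := by
    intro c hc
    obtain ⟨x, hx⟩ := Qc c hc
    have e1 : Q⁻¹ • c = c - e x := by
      rw [inv_smul_eq_iff, smul_sub, hx, Qe]; abel
    rw [mul_smul, e1, smul_sub, PQ c hc, hx, Pe]; abel
  have df : ∀ s, (P * Q⁻¹) • f s = f s + e (κ s) := by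
    intro s
    obtain ⟨x, c, hc, hx⟩ := Qf s
    have e1 : Q⁻¹ • f s = f s - Q⁻¹ • c - e x := by
      have e2 : Q⁻¹ • (Q • f s) = Q⁻¹ • (f s + c + e x) := by rw [hx]
      rw [inv_smul_smul, smul_add, smul_add, Qie] at e2
      have e4 : f s - Q⁻¹ • c - e x = Q⁻¹ • f s := by
        conv_lhs => rw [e2]
        abel
      exact e4.symm
    have e3 : P • (Q⁻¹ • c) = c := by rw [← mul_smul]; exact dc c hc
    rw [mul_smul, e1, smul_sub, smul_sub, e3, Pe, Pf, hx]; abel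
  have hm : P * Q⁻¹ ∈ rt up := by
    refine h.memK h2 hf hno (fun z => ?_) dc fun z => ⟨κ z, 0, C.zero_mem, by rw [df, add_zero]⟩
    rw [mul_smul, Qie, Pe]
  obtain ⟨t, ht⟩ := (h.mem_rt h2 hf).1 hm
  refine ⟨t, fun s => ?_⟩
  have e1 := df s
  rw [← ht, h.up_f] at e1
  have e2 : e (κ s) + f 0 + 0 = e (t * s) + f 0 + 0 := by rw [add_left_cancel e1]
  exact (h.uniq C.zero_mem C.zero_mem e2).1

/-- `τ = σρ` is linear -/
theorem Bk.tau_lin {g : X} {σ : V →+ F} {ρ : F →+ V} {γ : F → F} (D : Dat e f C g σ ρ γ) :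
    ∃ t, ∀ s, σ (ρ s) = t * s := by
  refine h.lin h2 hf hno (P := g * g) (Q := 1) (κ := fun s => σ (ρ s)) (fun z => ?_) (fun z => one_smul _ _)
    (fun c hc => ?_) (fun c hc => ⟨0, by rw [one_smul, map_zero, add_zero]⟩)
    (fun s => ⟨0, 0, C.zero_mem, by rw [one_smul, map_zero, add_zero, add_zero]⟩) fun s => ?_
  · rw [mul_smul, D.ee, D.ee]
  · rw [mul_smul, D.cc c hc, smul_add, D.cc c hc, D.ee, one_smul, add_assoc, h2, add_zero]
  · rw [mul_smul, D.ff, smul_add, smul_add, D.ff, D.cc _ (D.rc s), D.ee, one_smul]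
    have e1 : f s + ρ s + e (γ s) + (ρ s + e (σ (ρ s))) + e (γ s)
        = f s + e (σ (ρ s)) + ((ρ s + ρ s) + (e (γ s) + e (γ s))) := by abel
    rw [e1, h2, h2, add_zero, add_zero]

/-- the identity for two torus conjugates -/
theorem Bk.two_conj {g : X} {σ : V →+ F} {ρ : F →+ V} {γ : F →+ F} (D : Dat e f C g σ ρ γ) {c : F} (hc0 : c ≠ 0)
    (hc1 : c + 1 ≠ 0) :
    ∃ t, ∀ s, c * γ (c * s) + γ s + c * σ (ρ s) + (c + 1) * γ ((c + 1) * s) = t * s := by
  have D1 := D.conj_h h h2 hc0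
  have D2 := D.conj_h h h2 hc1
  refine h.lin h2 hf hno (P := hh up lo c * g * (hh up lo c)⁻¹ * g)
    (Q := hh up lo (c + 1) * g * (hh up lo (c + 1))⁻¹) (fun z => ?_) (fun z => D2.ee z) (fun v hv => ?_)
    (fun v hv => ⟨_, D2.cc v hv⟩) (fun s => ⟨_, _, D2.rc s, D2.ff s⟩) fun s => ?_
  · rw [mul_smul, D.ee, D1.ee]
  · rw [mul_smul, D.cc v hv, smul_add, D1.cc v hv, D1.ee, D2.cc v hv]
    show v + e (c * σ v) + e (σ v) = v + e ((c + 1) * σ v)
    rw [add_mul, one_mul, map_add]; abel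
  · rw [mul_smul, D.ff, smul_add, smul_add, D1.ff, D1.cc _ (D.rc s), D1.ee, D2.ff]
    show f s + ρ (c * s) + e (c * γ (c * s)) + (ρ s + e (c * σ (ρ s))) + e (γ s)
      = f s + ρ ((c + 1) * s) + e ((c + 1) * γ ((c + 1) * s))
        + e (c * γ (c * s) + γ s + c * σ (ρ s) + (c + 1) * γ ((c + 1) * s))
    have e1 : ρ ((c + 1) * s) = ρ (c * s) + ρ s := by rw [add_mul, one_mul, map_add]
    rw [e1]
    simp only [map_add]
    have e2 : f s + (ρ (c * s) + ρ s) + e ((c + 1) * γ ((c + 1) * s))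
        + (e (c * γ (c * s)) + e (γ s) + e (c * σ (ρ s)) + e ((c + 1) * γ ((c + 1) * s)))
        = (e ((c + 1) * γ ((c + 1) * s)) + e ((c + 1) * γ ((c + 1) * s)))
          + (f s + ρ (c * s) + ρ s + e (c * γ (c * s)) + e (γ s) + e (c * σ (ρ s))) := by abel
    rw [e2, h2, zero_add]
    abel

/-- `γ` is linear -/
theorem Bk.gam_lin {g : X} {σ : V →+ F} {ρ : F →+ V} {γ : F →+ F} (D : Dat e f C g σ ρ γ) (s : F) :
    γ s = γ 1 * s := by
  have hF := h.two h2
  obtain ⟨t0, ht0⟩ := h.tau_lin h2 hf hno D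
  have key : ∀ c s, γ (c * s) + c * γ s = (γ c + c * γ 1) * s := by
    intro c s
    by_cases hc0 : c = 0
    · subst hc0; simp
    by_cases hc1 : c + 1 = 0
    · have e1 : c = 1 := by
        have := add_eq_zero_iff_eq_neg.1 hc1
        rw [this, neg_eq_iff_add_eq_zero]
        exact hF 1
      subst e1
      rw [one_mul, one_mul, one_mul, hF, hF, zero_mul]
    obtain ⟨t, ht⟩ := h.two_conj h2 hf hno D hc0 hc1
    have e1 : ∀ s, γ (c * s) + c * γ s = (t + c * t0) * s := by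
      intro s
      have e2 := ht s
      have e5 : γ ((c + 1) * s) = γ (c * s) + γ s := by rw [add_mul, one_mul, map_add]
      rw [ht0, e5] at e2
      have e3 : γ (c * s) + c * γ s = (c * γ (c * s) + γ s + c * (t0 * s) + (c + 1) * (γ (c * s) + γ s))
          + c * t0 * s - ((c * γ (c * s) + c * γ (c * s)) + (γ s + γ s) + (c * t0 * s + c * t0 * s)) := by ring
      rw [e3, e2, hF (c * γ (c * s)), hF (γ s), hF (c * t0 * s)]; ring
    have e4 := e1 1
    rw [mul_one, mul_one] at e4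
    rw [e1, e4]
  have hsq : ∀ x, γ (x * x) = γ 1 * (x * x) := by
    intro x
    have e1 := key x x
    have e2 : γ (x * x) = (γ x + x * γ 1) * x - x * γ x := by rw [← e1]; ring
    rw [e2]; ring
  have hinj : Function.Injective (fun x : F => x * x) := by
    intro x y hxy
    have e1 : (x + y) * (x + y) = 0 := by
      have e2 : (x + y) * (x + y) = x * x + y * y + (x * y + x * y) := by ring
      have hxy' : x * x = y * y := hxy
      rw [e2, hF, add_zero, hxy', hF]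
    have e3 := mul_self_eq_zero.1 e1
    rw [add_eq_zero_iff_eq_neg.1 e3, neg_eq_iff_add_eq_zero]
    exact hF y
  obtain ⟨x, hx⟩ := (Finite.surjective_of_injective hinj) s
  have hx' : x * x = s := hx
  rw [← hx', hsq]

/-- SYM -/
theorem Bk.sym {g : X} {σ : V →+ F} {ρ : F →+ V} (D : Dat e f C g σ ρ (fun _ => 0)) (s : F) : σ (ρ s) = 0 := by
  have hF := h.two h2
  obtain ⟨px, py, pc, hv, hpc, hu⟩ := h.proj
  have hpx : ∀ (v : V) b, ∀ c ∈ C, px (v + f b + c) = px v := by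
    intro v b c hc
    have e1 : v + f b + c = e (px v) + f (py v + b) + (pc v + c) := by
      conv_lhs => rw [hv v]
      rw [map_add]; abel
    rw [e1, (hu _ _ _ (C.add_mem (hpc v) hc)).1]
  have hlo : ∀ r (v : V), lo r • v = v + f (r * px v) := by
    intro r v
    conv_lhs => rw [hv v]
    rw [smul_add, smul_add, h.lo_e, h.lo_f, h.lo_c r _ (hpc v)]
    conv_rhs => rw [hv v]
    rw [(hu _ _ _ (hpc v)).1]
    abel
  have gff : ∀ a, g • f a = f a + ρ a := by
    intro a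
    rw [D.ff, map_zero, add_zero]
  set x : X := g * lo 1 * g⁻¹ with hx
  have xv : ∀ v : V, x • v = v + f (px (g⁻¹ • v)) + ρ (px (g⁻¹ • v)) := by
    intro v
    rw [hx, mul_smul, mul_smul, hlo, smul_add, smul_inv_smul, one_mul, gff]; abel
  have xpx : ∀ v : V, px (x⁻¹ • v) = px v := by
    intro v
    have e1 := xv (x⁻¹ • v)
    rw [smul_inv_smul] at e1
    have e2 : px v = px (x⁻¹ • v) := by
      conv_lhs => rw [e1]
      exact hpx _ _ _ (D.rc _)
    exact e2.symm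
  have yv : ∀ v : V, (x * lo 1 * x⁻¹) • v = v + x • f (px v) := by
    intro v
    rw [mul_smul, mul_smul, hlo, smul_add, smul_inv_smul, one_mul, xpx]
  have hy : x * lo 1 * x⁻¹ ∈ rt lo := by
    refine h.swap.memK h2 hf hno (fun z => ?_) (fun c hc => ?_) fun z => ?_
    · have e1 : px (f z) = 0 := by
        have := (hu 0 z 0 C.zero_mem).1
        rwa [map_zero, zero_add, add_zero] at this
      rw [yv, e1, map_zero, smul_zero, add_zero]
    · have e1 : px c = 0 := by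
        have := (hu 0 0 c hc).1
        rwa [map_zero, map_zero, zero_add, zero_add] at this
      rw [yv, e1, map_zero, smul_zero, add_zero]
    · refine ⟨px (e z) + px (g⁻¹ • f (px (e z))), ρ (px (g⁻¹ • f (px (e z)))), D.rc _, ?_⟩
      rw [yv, xv, map_add]
  obtain ⟨r, hr⟩ := (h.swap.mem_rt h2 hf).1 hy
  have xf : ∀ z, x • f z = f (r * z) := by
    intro z
    have e1 : (x * lo 1 * x⁻¹) • e z = e z + x • f z := by
      have e2 : px (e z) = z := by
        have := (hu z 0 0 C.zero_mem).1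
        rwa [map_zero, add_zero, add_zero] at this
      rw [yv, e2]
    rw [← hr, h.lo_e] at e1
    exact (add_left_cancel e1).symm
  have hxx : x * x = 1 := by
    have e1 : lo 1 * lo 1 = (1 : X) := by rw [h.swap.up_add hf, hF, h.swap.up_zero hf]
    calc x * x = g * (lo 1 * lo 1) * g⁻¹ := by rw [hx]; group
      _ = 1 := by rw [e1]; group
  have hr1 : r = 1 := by
    have e1 : x • (x • f 1) = f 1 := by rw [← mul_smul, hxx, one_smul]
    rw [xf, xf, mul_one] at e1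
    have e2 : e 0 + f (r * r) + 0 = e 0 + f 1 + 0 := by rw [e1]
    have e3 := (h.uniq C.zero_mem C.zero_mem e2).2.1
    have e4 : (r + 1) * (r + 1) = 0 := by
      have e5 : (r + 1) * (r + 1) = r * r + 1 + (r + r) := by ring
      rw [e5, e3, hF, hF, add_zero]
    have e5 := mul_self_eq_zero.1 e4
    rw [add_eq_zero_iff_eq_neg.1 e5, neg_eq_iff_add_eq_zero]
    exact hF 1
  have e1 : px (g⁻¹ • f s) = 0 := by
    have e2 := xv (f s)
    rw [xf, hr1, one_mul] at e2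
    have e3 : e 0 + f 0 + 0 = e 0 + f (px (g⁻¹ • f s)) + ρ (px (g⁻¹ • f s)) := by
      have e4 : f s + 0 = f s + (f (px (g⁻¹ • f s)) + ρ (px (g⁻¹ • f s))) := by
        rw [add_zero, ← add_assoc]; exact e2
      rw [map_zero, map_zero, zero_add, zero_add, zero_add]
      exact add_left_cancel e4
    exact (h.uniq C.zero_mem (D.rc _) e3).2.1.symm
  have e2 : g⁻¹ • f s = f s + ρ s - e (σ (ρ s)) := by
    rw [inv_smul_eq_iff, smul_sub, smul_add, gff, D.cc _ (D.rc s), D.ee]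
    have e3 : f s + ρ s + (ρ s + e (σ (ρ s))) - e (σ (ρ s)) = f s + (ρ s + ρ s) := by abel
    rw [e3, h2, add_zero]
  rw [e2] at e1
  have e3 : f s + ρ s - e (σ (ρ s)) = e (-(σ (ρ s))) + f s + ρ s := by rw [map_neg]; abel
  rw [e3, (hu _ _ _ (D.rc s)).1] at e1
  exact neg_eq_zero.1 e1

omit hf hno in
/-- the `F`-line through an element of `Gam` with `γ = 0` -/
theorem Bk.dat_mul {g : X} {σ : V →+ F} {ρ : F →+ V} (D : Dat e f C g σ ρ (fun _ => 0)) (a : F) :
    ∃ x : X, Dat e f C x ((AddMonoidHom.mulLeft a).comp σ) (ρ.comp (AddMonoidHom.mulLeft a)) (fun _ => 0) := by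
  by_cases ha : a = 0
  · subst ha
    refine ⟨1, fun z => one_smul _ _, fun c _ => ?_, fun s => ?_, fun s => ?_⟩
    · show (1 : X) • c = c + e (0 * σ c)
      rw [zero_mul, map_zero, add_zero, one_smul]
    · show (1 : X) • f s = f s + ρ (0 * s) + e 0
      rw [zero_mul, map_zero, map_zero, add_zero, add_zero, one_smul]
    · show ρ (0 * s) ∈ C
      exact D.rc _
  · have D1 := D.conj_h h h2 ha
    refine ⟨_, D1.ee, D1.cc, fun s => ?_, D1.rc⟩
    have e1 := D1.ff s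
    rw [e1, mul_zero]

/-- the case `ρ = 0` -/
theorem Bk.false_rho_zero (h4 : 4 ≤ Nat.card F) {g : X} {σ : V →+ F} {ρ : F →+ V}
    (D : Dat e f C g σ ρ (fun _ => 0)) (hr : ∀ s, ρ s = 0) {c1 : V} (hc1 : c1 ∈ C) (hs : σ c1 ≠ 0) : False := by
  obtain ⟨px, py, pc, hv, hpc, hu⟩ := h.proj
  let W : Subgroup X :=
    { carrier := {x | (∀ z, x • e z = e z) ∧ (∀ z, x • f z = f z) ∧
        ∃ a b, ∀ c ∈ C, x • c = c + e (a * σ c) + f (b * σ c)}
      one_mem' := ⟨fun z => one_smul _ _, fun z => one_smul _ _, 0, 0, fun c _ => by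
        rw [zero_mul, map_zero, map_zero, add_zero, add_zero, one_smul]⟩
      mul_mem' := by
        rintro x y ⟨hx1, hx2, a, b, hx3⟩ ⟨hy1, hy2, a', b', hy3⟩
        refine ⟨fun z => by rw [mul_smul, hy1, hx1], fun z => by rw [mul_smul, hy2, hx2], a + a', b + b',
          fun c hc => ?_⟩
        rw [mul_smul, hy3 c hc, smul_add, smul_add, hx1, hx2, hx3 c hc, add_mul, add_mul, map_add, map_add]
        abel
      inv_mem' := by
        rintro x ⟨hx1, hx2, a, b, hx3⟩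
        refine ⟨fun z => by rw [inv_smul_eq_iff, hx1], fun z => by rw [inv_smul_eq_iff, hx2], a, b, fun c hc => ?_⟩
        rw [inv_smul_eq_iff, smul_add, smul_add, hx1, hx2, hx3 c hc]
        have e1 : c + e (a * σ c) + f (b * σ c) + e (a * σ c) + f (b * σ c)
            = c + ((e (a * σ c) + e (a * σ c)) + (f (b * σ c) + f (b * σ c))) := by abel
        rw [e1, h2, h2, add_zero, add_zero] }
  have hup : Nat.card W ≤ Nat.card F := by
    refine card_le_of hno (σ.comp pc) W ?_ ?_ ?_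
    · rintro x ⟨hx1, hx2, a, b, hx3⟩ y ⟨hy1, hy2, a', b', hy3⟩
      refine h.ext hf (fun z => ?_) (fun z => ?_) fun c hc => ?_
      · rw [mul_smul, mul_smul, hy1, hx1, hy1]
      · rw [mul_smul, mul_smul, hy2, hx2, hy2]
      · rw [mul_smul, mul_smul, hy3 c hc, hx3 c hc, smul_add, smul_add, smul_add, smul_add, hx1, hx2, hy1, hy2,
          hx3 c hc, hy3 c hc]
        abel
    · rintro x ⟨hx1, hx2, a, b, hx3⟩
      refine h.ext hf (fun z => ?_) (fun z => ?_) fun c hc => ?_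
      · rw [mul_smul, hx1, hx1, one_smul]
      · rw [mul_smul, hx2, hx2, one_smul]
      · rw [mul_smul, hx3 c hc, smul_add, smul_add, hx1, hx2, hx3 c hc, one_smul]
        have e1 : c + e (a * σ c) + f (b * σ c) + e (a * σ c) + f (b * σ c)
            = c + ((e (a * σ c) + e (a * σ c)) + (f (b * σ c) + f (b * σ c))) := by abel
        rw [e1, h2, h2, add_zero, add_zero]
    · rintro x ⟨hx1, hx2, a, b, hx3⟩ v hv0
      have hv0' : σ (pc v) = 0 := hv0
      conv_lhs => rw [hv v]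
      rw [smul_add, smul_add, hx1, hx2, hx3 _ (hpc v), hv0', mul_zero, mul_zero, map_zero, map_zero, add_zero,
        add_zero]
      exact (hv v).symm
  -- elements
  have hex : ∀ p : F × F, ∃ x : X, (∀ z, x • e z = e z) ∧ (∀ z, x • f z = f z) ∧
      ∀ c ∈ C, x • c = c + e (p.1 * σ c) + f (p.2 * σ c) := by
    rintro ⟨a, b⟩
    obtain ⟨x, Dx⟩ := h.dat_mul h2 D a
    obtain ⟨y, Dy⟩ := h.dat_mul h2 D b
    have w1 : ∀ z, (wt up lo 1)⁻¹ • e z = f z := fun z => by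
      rw [inv_smul_eq_iff, h.wt_f h2 one_ne_zero, one_mul]
    have w2 : ∀ z, (wt up lo 1)⁻¹ • f z = e z := fun z => by
      rw [inv_smul_eq_iff, h.wt_e h2 one_ne_zero, inv_one, one_mul]
    have w3 : ∀ c ∈ C, (wt up lo 1)⁻¹ • c = c := fun c hc => by rw [inv_smul_eq_iff, h.wt_c _ hc]
    have yf : ∀ z, y • f z = f z := by
      intro z
      rw [Dy.ff]
      show f z + ρ (b * z) + e 0 = f z
      rw [hr, map_zero, add_zero, add_zero]
    have xf : ∀ z, x • f z = f z := by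
      intro z
      rw [Dx.ff]
      show f z + ρ (a * z) + e 0 = f z
      rw [hr, map_zero, add_zero, add_zero]
    refine ⟨x * (wt up lo 1 * y * (wt up lo 1)⁻¹), fun z => ?_, fun z => ?_, fun c hc => ?_⟩
    · rw [mul_smul, mul_smul, mul_smul, w1, yf, h.wt_f h2 one_ne_zero, one_mul, Dx.ee]
    · rw [mul_smul, mul_smul, mul_smul, w2, Dy.ee, h.wt_e h2 one_ne_zero, inv_one, one_mul, xf]
    · rw [mul_smul, mul_smul, mul_smul, w3 c hc, Dy.cc c hc, smul_add, h.wt_c _ hc, h.wt_e h2 one_ne_zero, inv_one,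
        one_mul, smul_add, xf, Dx.cc c hc]
      rfl
  choose m hm1 hm2 hm3 using hex
  have hlow : Nat.card (F × F) ≤ Nat.card W := by
    refine Nat.card_le_card_of_injective (fun p => (⟨m p, hm1 p, hm2 p, p.1, p.2, hm3 p⟩ : W)) ?_
    intro p p' hpp
    have e1 : m p = m p' := congrArg Subtype.val hpp
    have e2 := hm3 p c1 hc1
    rw [e1, hm3 p' c1 hc1] at e2
    have e3 : e (p'.1 * σ c1) + f (p'.2 * σ c1) + c1 = e (p.1 * σ c1) + f (p.2 * σ c1) + c1 := by
      have e4 : ∀ (a b : V), a + b + c1 = c1 + a + b := fun a b => by abel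
      rw [e4, e4, e2]
    obtain ⟨e5, e6, -⟩ := h.uniq hc1 hc1 e3
    exact Prod.ext (mul_right_cancel₀ hs e5.symm) (mul_right_cancel₀ hs e6.symm)
  rw [Nat.card_prod] at hlow
  nlinarith [hlow.trans hup]

/-- the case `ρ ≠ 0` -/
theorem Bk.false_rho_ne {g : X} {σ : V →+ F} {ρ : F →+ V}
    (D : Dat e f C g σ ρ (fun _ => 0)) {s1 : F} (hr : ρ s1 ≠ 0) {c1 : V} (hc1 : c1 ∈ C) (hs : σ c1 ≠ 0) : False := by
  have hsr := h.sym h2 hf hno D
  obtain ⟨px, py, pc, hv, hpc, hu⟩ := h.proj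
  let W : Subgroup X :=
    { carrier := {x | (∀ z, x • e z = e z) ∧
        ∃ a t k, (∀ s, x • f s = f s + ρ (a * s) + e (t * s)) ∧ ∀ c ∈ C, x • c = c + e (a * σ c) + ρ (k * σ c)}
      one_mem' := ⟨fun z => one_smul _ _, 0, 0, 0, fun s => by
        rw [zero_mul, map_zero, map_zero, add_zero, add_zero, one_smul], fun c _ => by
        rw [zero_mul, map_zero, map_zero, add_zero, add_zero, one_smul]⟩
      mul_mem' := by
        rintro x y ⟨hx1, a, t, k, hx2, hx3⟩ ⟨hy1, a', t', k', hy2, hy3⟩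
        have hxr : ∀ z, x • ρ z = ρ z := fun z => by
          rw [hx3 _ (D.rc z), hsr, mul_zero, mul_zero, map_zero, map_zero, add_zero, add_zero]
        refine ⟨fun z => by rw [mul_smul, hy1, hx1], a + a', t + t', k + k', fun s => ?_, fun c hc => ?_⟩
        · rw [mul_smul, hy2, smul_add, smul_add, hx1, hxr, hx2, add_mul, add_mul, map_add, map_add]
          abel
        · rw [mul_smul, hy3 c hc, smul_add, smul_add, hx1, hxr, hx3 c hc, add_mul, add_mul, map_add, map_add]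
          abel
      inv_mem' := by
        rintro x ⟨hx1, a, t, k, hx2, hx3⟩
        have hxr : ∀ z, x • ρ z = ρ z := fun z => by
          rw [hx3 _ (D.rc z), hsr, mul_zero, mul_zero, map_zero, map_zero, add_zero, add_zero]
        refine ⟨fun z => by rw [inv_smul_eq_iff, hx1], a, t, k, fun s => ?_, fun c hc => ?_⟩
        · rw [inv_smul_eq_iff, smul_add, smul_add, hx1, hxr, hx2]
          have e1 : f s + ρ (a * s) + e (t * s) + ρ (a * s) + e (t * s)
            = f s + ((ρ (a * s) + ρ (a * s)) + (e (t * s) + e (t * s))) := by abel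
          rw [e1, h2, h2, add_zero, add_zero]
        · rw [inv_smul_eq_iff, smul_add, smul_add, hx1, hxr, hx3 c hc]
          have e1 : c + e (a * σ c) + ρ (k * σ c) + e (a * σ c) + ρ (k * σ c)
            = c + ((e (a * σ c) + e (a * σ c)) + (ρ (k * σ c) + ρ (k * σ c))) := by abel
          rw [e1, h2, h2, add_zero, add_zero] }
  have hWr : ∀ x ∈ W, ∀ z, x • ρ z = ρ z := by
    rintro x ⟨hx1, a, t, k, hx2, hx3⟩ z
    rw [hx3 _ (D.rc z), hsr, mul_zero, mul_zero, map_zero, map_zero, add_zero, add_zero]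
  have hup : Nat.card W ≤ Nat.card (F × F) := by
    refine card_le_of hno (py.prod (σ.comp pc)) W ?_ ?_ ?_
    · intro x hx y hy
      have hxr := hWr x hx
      have hyr := hWr y hy
      obtain ⟨hx1, a, t, k, hx2, hx3⟩ := hx
      obtain ⟨hy1, a', t', k', hy2, hy3⟩ := hy
      refine h.ext hf (fun z => ?_) (fun z => ?_) fun c hc => ?_
      · rw [mul_smul, mul_smul, hy1, hx1, hy1]
      · rw [mul_smul, mul_smul, hy2, hx2, smul_add, smul_add, smul_add, smul_add, hx1, hxr, hy1, hyr, hx2, hy2]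
        abel
      · rw [mul_smul, mul_smul, hy3 c hc, hx3 c hc, smul_add, smul_add, smul_add, smul_add, hx1, hxr, hy1, hyr,
          hx3 c hc, hy3 c hc]
        abel
    · intro x hx
      have hxr := hWr x hx
      obtain ⟨hx1, a, t, k, hx2, hx3⟩ := hx
      refine h.ext hf (fun z => ?_) (fun s => ?_) fun c hc => ?_
      · rw [mul_smul, hx1, hx1, one_smul]
      · rw [mul_smul, hx2, smul_add, smul_add, hx1, hxr, hx2, one_smul]
        have e1 : f s + ρ (a * s) + e (t * s) + ρ (a * s) + e (t * s)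
          = f s + ((ρ (a * s) + ρ (a * s)) + (e (t * s) + e (t * s))) := by abel
        rw [e1, h2, h2, add_zero, add_zero]
      · rw [mul_smul, hx3 c hc, smul_add, smul_add, hx1, hxr, hx3 c hc, one_smul]
        have e1 : c + e (a * σ c) + ρ (k * σ c) + e (a * σ c) + ρ (k * σ c)
          = c + ((e (a * σ c) + e (a * σ c)) + (ρ (k * σ c) + ρ (k * σ c))) := by abel
        rw [e1, h2, h2, add_zero, add_zero]
    · rintro x ⟨hx1, a, t, k, hx2, hx3⟩ v hv0
      have hv1 : py v = 0 := congrArg Prod.fst hv0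
      have hv2 : σ (pc v) = 0 := congrArg Prod.snd hv0
      conv_lhs => rw [hv v]
      rw [hv1, map_zero, add_zero, smul_add, hx1, hx3 _ (hpc v), hv2, mul_zero, mul_zero, map_zero, map_zero,
        add_zero, add_zero]
      conv_rhs => rw [hv v]
      rw [hv1, map_zero, add_zero]
  -- elements of `Gam`
  have hex : ∀ p : F × F, ∃ x : X, (∀ z, x • e z = e z) ∧ (∀ s, x • f s = f s + ρ (p.1 * s) + e (p.2 * s)) ∧
      ∀ c ∈ C, x • c = c + e (p.1 * σ c) + ρ (0 * σ c) := by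
    rintro ⟨a, t⟩
    obtain ⟨x, Dx⟩ := h.dat_mul h2 D a
    refine ⟨up t * x, fun z => ?_, fun s => ?_, fun c hc => ?_⟩
    · rw [mul_smul, Dx.ee, h.up_e]
    · rw [mul_smul, Dx.ff, map_zero, add_zero, smul_add, h.up_f, h.up_c _ _ (Dx.rc s)]
      show f s + e (t * s) + ρ (a * s) = f s + ρ (a * s) + e (t * s)
      abel
    · rw [mul_smul, Dx.cc c hc, smul_add, h.up_c _ c hc, h.up_e, zero_mul, map_zero, add_zero]
      rfl
  choose m hm1 hm2 hm3 using hex
  have hinj : Function.Injective (fun p : F × F => (⟨m p, hm1 p, p.1, p.2, 0, hm2 p, hm3 p⟩ : W)) := by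
    intro p p' hpp
    have e1 : m p = m p' := congrArg Subtype.val hpp
    have e2 := hm3 p c1 hc1
    rw [e1, hm3 p' c1 hc1, zero_mul, map_zero, add_zero, add_zero] at e2
    have e3 : e (p'.1 * σ c1) + f 0 + c1 = e (p.1 * σ c1) + f 0 + c1 := by
      rw [map_zero, add_zero, add_zero, add_comm _ c1, add_comm _ c1, e2]
    obtain ⟨e5, -, -⟩ := h.uniq hc1 hc1 e3
    have e6 : p.1 = p'.1 := mul_right_cancel₀ hs e5.symm
    have e7 := hm2 p 1
    rw [e1, hm2 p' 1, e6, mul_one, mul_one, mul_one] at e7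
    have e8 : e p'.2 + f 0 + 0 = e p.2 + f 0 + 0 := by rw [add_left_cancel e7]
    obtain ⟨e9, -, -⟩ := h.uniq C.zero_mem C.zero_mem e8
    exact Prod.ext e6 e9.symm
  have hbij := hinj.bijective_of_nat_card_le hup
  -- the element `y_k`
  set k : F := s1 / σ c1 with hk
  obtain ⟨x2, Dx⟩ := h.dat_mul h2 D k
  have w1 : ∀ z, (wt up lo 1)⁻¹ • e z = f z := fun z => by
    rw [inv_smul_eq_iff, h.wt_f h2 one_ne_zero, one_mul]
  have w2 : ∀ z, (wt up lo 1)⁻¹ • f z = e z := fun z => by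
    rw [inv_smul_eq_iff, h.wt_e h2 one_ne_zero, inv_one, one_mul]
  have w3 : ∀ c ∈ C, (wt up lo 1)⁻¹ • c = c := fun c hc => by rw [inv_smul_eq_iff, h.wt_c _ hc]
  have gr : ∀ z, g • ρ z = ρ z := fun z => by rw [D.cc _ (D.rc z), hsr, map_zero, add_zero]
  have gf : ∀ s, g • f s = f s + ρ s := fun s => by rw [D.ff, map_zero, add_zero]
  -- `X₁₂ = g * (w x₂ w⁻¹)`
  set Y : X := g * (wt up lo 1 * x2 * (wt up lo 1)⁻¹) with hY
  have Ye : ∀ z, Y • e z = e z + ρ (k * z) := by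
    intro z
    have e1 : x2 • f z = f z + ρ (k * z) := by
      rw [Dx.ff, map_zero, add_zero]; rfl
    rw [hY, mul_smul, mul_smul, mul_smul, w1, e1, smul_add, h.wt_f h2 one_ne_zero, one_mul, h.wt_c _ (D.rc _),
      smul_add, D.ee, gr]
  have Yf : ∀ z, Y • f z = f z + ρ z := by
    intro z
    rw [hY, mul_smul, mul_smul, mul_smul, w2, Dx.ee, h.wt_e h2 one_ne_zero, inv_one, one_mul, gf]
  have Yc : ∀ c ∈ C, Y • c = c + e (σ c) + f (k * σ c) + ρ (k * σ c) := by
    intro c hc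
    have e1 : x2 • c = c + e (k * σ c) := by rw [Dx.cc c hc]; rfl
    rw [hY, mul_smul, mul_smul, mul_smul, w3 c hc, e1, smul_add, h.wt_c _ hc, h.wt_e h2 one_ne_zero, inv_one,
      one_mul, smul_add, D.cc c hc, gf]
    abel
  -- `X₃ = lo k * g * lo k`
  set Z : X := lo k * g * lo k with hZ
  have Ze : ∀ z, Z • e z = e z + ρ (k * z) := by
    intro z
    rw [hZ, mul_smul, mul_smul, h.lo_e, smul_add, D.ee, gf, smul_add, smul_add, h.lo_e, h.lo_f,
      h.lo_c _ _ (D.rc _)]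
    have e1 : e z + f (k * z) + (f (k * z) + ρ (k * z)) = e z + ρ (k * z) + (f (k * z) + f (k * z)) := by abel
    rw [e1, h2, add_zero]
  have Zf : ∀ z, Z • f z = f z + ρ z := by
    intro z
    rw [hZ, mul_smul, mul_smul, h.lo_f, gf, smul_add, h.lo_f, h.lo_c _ _ (D.rc _)]
  have Zc : ∀ c ∈ C, Z • c = c + e (σ c) + f (k * σ c) := by
    intro c hc
    rw [hZ, mul_smul, mul_smul, h.lo_c _ c hc, D.cc c hc, smul_add, h.lo_c _ c hc, h.lo_e]
    abel
  set y : X := Y * Z⁻¹ with hy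
  have yZ : ∀ v : V, y • (Z • v) = Y • v := fun v => by rw [hy, mul_smul, inv_smul_smul]
  have yr : ∀ z, y • ρ z = ρ z := by
    intro z
    have e1 := yZ (ρ z)
    rw [Zc _ (D.rc z), Yc _ (D.rc z), hsr, mul_zero, map_zero, map_zero, map_zero, add_zero, add_zero,
      add_zero] at e1
    exact e1
  have ye : ∀ z, y • e z = e z := by
    intro z
    have e1 := yZ (e z)
    rw [Ze, Ye, smul_add, yr] at e1
    exact add_right_cancel e1
  have yf : ∀ z, y • f z = f z := by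
    intro z
    have e1 := yZ (f z)
    rw [Zf, Yf, smul_add, yr] at e1
    exact add_right_cancel e1
  have yc : ∀ c ∈ C, y • c = c + ρ (k * σ c) := by
    intro c hc
    have e1 := yZ c
    rw [Zc c hc, Yc c hc, smul_add, smul_add, ye, yf] at e1
    have e2 : y • c + e (σ c) + f (k * σ c) = (c + ρ (k * σ c)) + e (σ c) + f (k * σ c) := by
      rw [e1]; abel
    exact add_right_cancel (add_right_cancel e2)
  have hyW : y ∈ W := ⟨ye, 0, 0, k, fun s => by
      rw [yf, zero_mul, map_zero, map_zero, add_zero, add_zero], fun c hc => by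
      rw [yc c hc, zero_mul, map_zero, add_zero]⟩
  obtain ⟨p, hp⟩ := hbij.2 ⟨y, hyW⟩
  have e1 : m p = y := congrArg Subtype.val hp
  have e2 := hm3 p c1 hc1
  rw [e1, yc c1 hc1, zero_mul, map_zero, add_zero] at e2
  have e3 : e 0 + f 0 + ρ (k * σ c1) = e (p.1 * σ c1) + f 0 + 0 := by
    rw [map_zero, map_zero, add_zero, add_zero, add_zero, zero_add]
    exact add_left_cancel e2
  have e4 := (h.uniq (D.rc _) C.zero_mem e3).2.2
  rw [hk, div_mul_cancel₀ _ hs] at e4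
  exact hr e4

/-- **`Gam = A`.** -/
theorem Bk.gam (h4 : 4 ≤ Nat.card F) {g : X} (ge : ∀ z, g • e z = e z) (gc : ∀ c ∈ C, ∃ x, g • c = c + e x)
    (gf : ∀ z, ∃ x, ∃ c ∈ C, g • f z = f z + c + e x) : g ∈ rt up := by
  by_contra hg
  obtain ⟨σ, ρ, γ, D⟩ := h.exists_dat ge gc gf
  have hl := h.gam_lin h2 hf hno D
  have D' : Dat e f C (up (γ 1) * g) σ ρ (fun _ => 0) := by
    refine ⟨fun z => ?_, fun c hc => ?_, fun s => ?_, D.rc⟩
    · rw [mul_smul, D.ee, h.up_e]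
    · rw [mul_smul, D.cc c hc, smul_add, h.up_c _ c hc, h.up_e]
    · rw [mul_smul, D.ff, smul_add, smul_add, h.up_f, h.up_c _ _ (D.rc s), h.up_e, hl s, map_zero, add_zero]
      have e1 : f s + e (γ 1 * s) + ρ s + e (γ 1 * s) = f s + ρ s + (e (γ 1 * s) + e (γ 1 * s)) := by abel
      rw [e1, h2, add_zero]
  have hg' : up (γ 1) * g ∉ rt up := fun hm => hg ((Subgroup.mul_mem_cancel_left _ (up_mem _)).1 hm)
  by_cases hs : ∃ c1 ∈ C, σ c1 ≠ 0
  · obtain ⟨c1, hc1, hs⟩ := hs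
    by_cases hr : ∃ s1, ρ s1 ≠ 0
    · obtain ⟨s1, hr⟩ := hr
      exact h.false_rho_ne h2 hf hno D' hr hc1 hs
    · push Not at hr
      exact h.false_rho_zero h2 hf hno h4 D' hr hc1 hs
  · push Not at hs
    refine hg' (h.memK h2 hf hno D'.ee (fun c hc => ?_) fun z => ?_)
    · rw [D'.cc c hc, hs c hc, map_zero, add_zero]
    · refine ⟨0, ρ z, D'.rc z, ?_⟩
      rw [D'.ff, map_zero, add_zero, zero_add]

end lin

end gam

end Cfsg.Agent.Omega.NOThreeL.RRed.Blk.TypesGam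

end

section


/-!
# NO-3L, box R: THEOREM TYPES (helper797, #24779), step (T4), abstract: `N` and `C_V(E)` depend only on the root group

* **`Bk.eq`** : two blocks `Bk e f C up lo` (over `F`), `Bk e' f' C' up' lo'` (over `F'`), `|F|, |F'| ≥ 4`, with the same
  root group `rt up = rt up'`: `C = C'`, `e(F) = e'(F')` and `e(F) + f(F) = e'(F') + f'(F')`.
* `Bk.fxd_rt` : `C_V(A) = e(F) + C`.
* `Bk.conj` : a conjugate of a block is a block.
* **`Bk.inv`** : an element which normalises the root group normalises `C` and `N`.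
-/

set_option autoImplicit false
set_option linter.unusedSectionVars false

namespace Cfsg.Agent.Omega.NOThreeL.RRed.Blk.TypesEq

open Cfsg.Agent.Omega.NOThreeL.RRed.NS (fxd mem_fxd)
open Cfsg.Agent.Omega.NOThreeL.RRed.Blk.TypesGam
open scoped Pointwise

universe u v w w'

variable {X : Type u} {V : Type v} [Group X] [AddCommGroup V] [DistribMulAction X V]

section one

variable {F : Type w} [Field F] {e f : F →+ V} {C : AddSubgroup V} {up lo : F → X}
variable (h : Bk e f C up lo) (h2 : ∀ v : V, v + v = 0) (hf : ∀ x : X, (∀ v : V, x • v = v) → x = 1)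
include h

/-- `C_V(A) = e(F) + C`, in the form `v ∈ C_V(A) ↔ py v = 0`. -/
theorem _root_.Cfsg.Agent.Omega.NOThreeL.RRed.Blk.TypesGam.Bk.mem_fxd_rt {v : V} :
    v ∈ (fxd (rt up) : AddSubgroup V) ↔ ∃ x, ∃ c ∈ C, v = e x + c := by
  rw [mem_fxd]
  constructor
  · intro hv
    obtain ⟨x, y, c, hc, rfl⟩ := h.dec v
    have e1 := hv _ (up_mem (up := up) 1)
    rw [smul_add, smul_add, h.up_e, h.up_f, h.up_c _ c hc, one_mul] at e1
    have e2 : e (x + y) + f y + c = e x + f y + c := by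
      rw [← e1, map_add]; abel
    have e3 := (h.uniq hc hc e2).1
    have e4 : y = 0 := by
      have : x + y = x + 0 := by rw [e3, add_zero]
      exact add_left_cancel this
    exact ⟨x, c, hc, by rw [e4, map_zero, add_zero]⟩
  · rintro ⟨x, c, hc, rfl⟩ a ha
    have h1 : rt up ≤ MulAction.stabilizer X (e x + c) := by
      refine (Subgroup.closure_le _).2 ?_
      rintro _ ⟨t, rfl⟩
      refine MulAction.mem_stabilizer_iff.2 ?_
      rw [smul_add, h.up_e, h.up_c _ c hc]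
    exact MulAction.mem_stabilizer_iff.1 (h1 ha)

theorem _root_.Cfsg.Agent.Omega.NOThreeL.RRed.Blk.TypesGam.Bk.tor_v (h2 : ∀ v : V, v + v = 0) (t : F) {c : F}
    (hc0 : c ≠ 0) (x y : F) {d : V} (hd : d ∈ C) :
    (up t * hh up lo c) • (e x + f y + d) = e (c * x + t * (c⁻¹ * y)) + f (c⁻¹ * y) + d := by
  have e1 : hh up lo c • (e x + f y + d) = e (c * x) + f (c⁻¹ * y) + d := by
    rw [smul_add, smul_add, h.hh_e h2 hc0, h.hh_f h2 hc0, h.hh_c c hd]
  rw [mul_smul, e1, smul_add, smul_add, h.up_e, h.up_f, h.up_c _ d hd, map_add]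
  abel

/-- the elements `up t * hh c`, `c ≠ 0, 1`: fixed points and commutator -/
theorem _root_.Cfsg.Agent.Omega.NOThreeL.RRed.Blk.TypesGam.Bk.fix_tor (h2 : ∀ v : V, v + v = 0) (t : F) {c : F}
    (hc0 : c ≠ 0) (hc1 : c ≠ 1) (v : V) : (up t * hh up lo c) • v = v ↔ v ∈ C := by
  constructor
  · intro hv
    obtain ⟨x, y, d, hd, rfl⟩ := h.dec v
    rw [h.tor_v h2 t hc0 x y hd] at hv
    obtain ⟨e3, e4, -⟩ := h.uniq hd hd hv
    have hy : y = 0 := by
      by_contra hy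
      apply hc1
      have e5 := mul_right_cancel₀ hy (e4.trans (one_mul y).symm)
      exact inv_eq_one.1 e5
    subst hy
    rw [mul_zero, mul_zero, add_zero] at e3
    have hx : x = 0 := by
      by_contra hx
      exact hc1 (mul_right_cancel₀ hx (e3.trans (one_mul x).symm))
    subst hx
    rw [map_zero, map_zero, add_zero, zero_add]
    exact hd
  · intro hv
    rw [mul_smul, h.hh_c c hv, h.up_c _ v hv]

theorem _root_.Cfsg.Agent.Omega.NOThreeL.RRed.Blk.TypesGam.Bk.comm_tor (h2 : ∀ v : V, v + v = 0) (t : F) {c : F}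
    (hc0 : c ≠ 0) (hc1 : c ≠ 1) (v : V) :
    (∃ w, (up t * hh up lo c) • w + w = v) ↔ v ∈ e.range ⊔ f.range := by
  have key : ∀ x y d, d ∈ C → (up t * hh up lo c) • (e x + f y + d) + (e x + f y + d)
      = e ((c + 1) * x + t * (c⁻¹ * y)) + f ((c⁻¹ + 1) * y) := by
    intro x y d hd
    rw [h.tor_v h2 t hc0 x y hd]
    have e1 : e (c * x + t * (c⁻¹ * y)) + f (c⁻¹ * y) + d + (e x + f y + d)
        = (e (c * x + t * (c⁻¹ * y)) + e x) + (f (c⁻¹ * y) + f y) + (d + d) := by abel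
    rw [e1, h2, add_zero, add_mul, add_mul, one_mul, one_mul, ← map_add, ← map_add]
    congr 2
    ring
  rw [AddSubgroup.mem_sup]
  constructor
  · rintro ⟨w, rfl⟩
    obtain ⟨x, y, d, hd, rfl⟩ := h.dec w
    rw [key x y d hd]
    exact ⟨_, ⟨_, rfl⟩, _, ⟨_, rfl⟩, rfl⟩
  · rintro ⟨_, ⟨a, rfl⟩, _, ⟨b, rfl⟩, rfl⟩
    have two := h.two h2
    have k1 : c + 1 ≠ 0 := by
      intro hk
      apply hc1
      have : c + 1 = 1 + 1 := by rw [hk, two]
      exact add_right_cancel this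
    have k2 : c⁻¹ + 1 ≠ 0 := by
      intro hk
      apply hc1
      have : c⁻¹ + 1 = 1 + 1 := by rw [hk, two]
      exact inv_eq_one.1 (add_right_cancel this)
    refine ⟨e ((c + 1)⁻¹ * (a + t * (c⁻¹ * ((c⁻¹ + 1)⁻¹ * b)))) + f ((c⁻¹ + 1)⁻¹ * b) + 0, ?_⟩
    rw [key _ _ 0 C.zero_mem, mul_inv_cancel_left₀ k1, mul_inv_cancel_left₀ k2]
    have e1 : a + t * (c⁻¹ * ((c⁻¹ + 1)⁻¹ * b)) + t * (c⁻¹ * ((c⁻¹ + 1)⁻¹ * b)) = a := by
      rw [add_assoc, two, add_zero]
    rw [e1]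

end one

section two

variable {F : Type w} [Field F] {e f : F →+ V} {C : AddSubgroup V} {up lo : F → X}
variable {F' : Type w'} [Field F'] {e' f' : F' →+ V} {C' : AddSubgroup V} {up' lo' : F' → X}

/-- the comparison of the two root groups -/
theorem exists_tau (h : Bk e f C up lo) (h' : Bk e' f' C' up' lo') (h2 : ∀ v : V, v + v = 0)
    (hf : ∀ x : X, (∀ v : V, x • v = v) → x = 1) (hrt : rt up = rt up') :
    ∃ τ : F' → F, (∀ t, up (τ t) = up' t) ∧ (∀ s t, τ (s + t) = τ s + τ t) ∧ Function.Bijective τ := by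
  have h1 : ∀ t' : F', ∃ t, up t = up' t' := fun t' =>
    (h.mem_rt h2 hf).1 (hrt ▸ up_mem (up := up') t')
  choose τ hτ using h1
  refine ⟨τ, hτ, fun s t => ?_, ?_, ?_⟩
  · apply h.up_inj
    rw [hτ, ← h.up_add hf, hτ, hτ, h'.up_add hf]
  · intro s t e1
    apply h'.up_inj
    rw [← hτ, e1, hτ]
  · intro t
    obtain ⟨s, hs⟩ := (h'.mem_rt h2 hf).1 (hrt ▸ up_mem (up := up) t)
    exact ⟨s, h.up_inj (by rw [hτ, hs])⟩

/-- The comparison data: `e'(x) = e(τ x · b)`, `py (f' y) = τ y · b / τ 1`, `τ(t y) τ 1 = τ t τ y`. -/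
theorem exists_cmp (h : Bk e f C up lo) (h' : Bk e' f' C' up' lo') (h2 : ∀ v : V, v + v = 0)
    (hf : ∀ x : X, (∀ v : V, x • v = v) → x = 1) (hrt : rt up = rt up') :
    ∃ (θ : F' →+* F) (a b : F), a ≠ 0 ∧ b ≠ 0 ∧ Function.Bijective θ ∧ (∀ t, up (a * θ t) = up' t) ∧
      (∀ x, e' x = e (a * θ x * b)) ∧ (∀ y, ∃ x, ∃ c ∈ C, f' y = e x + f (θ y * b) + c) := by
  obtain ⟨τ, hτ, hadd, hbij⟩ := exists_tau h h' h2 hf hrt
  have h1 : ∀ y, ∃ b x, ∃ c ∈ C, f' y = e x + f b + c := fun y => by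
    obtain ⟨x, b, c, hc, e1⟩ := h.dec (f' y)
    exact ⟨b, x, c, hc, e1⟩
  choose ψ px pc hpc hψ using h1
  -- `e'(t y) = e (τ t ψ y)`
  have k1 : ∀ t y, e' (t * y) = e (τ t * ψ y) := by
    intro t y
    have e1 := h'.up_f t y
    rw [← hτ, hψ y, smul_add, smul_add, h.up_e, h.up_f, h.up_c _ _ (hpc y)] at e1
    have e2 : e (px y) + f (ψ y) + pc y + e (τ t * ψ y) = e (px y) + f (ψ y) + pc y + e' (t * y) := by
      rw [← e1]; abel
    exact (add_left_cancel e2).symm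
  have inj : ∀ x y, e x = e y → x = y := by
    intro x y e1
    have e2 : e x + f 0 + 0 = e y + f 0 + 0 := by rw [e1]
    exact (h.uniq C.zero_mem C.zero_mem e2).1
  have inj' : ∀ x y, e' x = e' y → x = y := by
    intro x y e1
    have e2 : e' x + f' 0 + 0 = e' y + f' 0 + 0 := by rw [e1]
    exact (h'.uniq C'.zero_mem C'.zero_mem e2).1
  have k2 : ∀ t y, τ (t * y) * ψ 1 = τ t * ψ y := by
    intro t y
    apply inj
    rw [← k1, ← k1, mul_one]
  have τ0 : τ 0 = 0 := by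
    have := hadd 0 0
    rw [add_zero] at this
    exact (left_eq_add.1 this)
  have ha : τ 1 ≠ 0 := by
    intro h0
    exact one_ne_zero (hbij.1 (h0.trans τ0.symm))
  have hb : ψ 1 ≠ 0 := by
    intro h0
    have e1 := k1 1 1
    rw [h0, mul_zero, map_zero, mul_one] at e1
    exact one_ne_zero (inj' 1 0 (by rw [e1, map_zero]))
  have k3 : ∀ y, τ y * ψ 1 = τ 1 * ψ y := fun y => by
    have := k2 1 y
    rwa [one_mul] at this
  have k4 : ∀ t y, τ (t * y) * τ 1 = τ t * τ y := by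
    intro t y
    apply mul_right_cancel₀ hb
    calc τ (t * y) * τ 1 * ψ 1 = τ (t * y) * ψ 1 * τ 1 := by ring
      _ = τ t * ψ y * τ 1 := by rw [k2]
      _ = τ t * (τ 1 * ψ y) := by ring
      _ = τ t * (τ y * ψ 1) := by rw [k3]
      _ = τ t * τ y * ψ 1 := by ring
  let θ : F' →+* F :=
    { toFun := fun t => (τ 1)⁻¹ * τ t
      map_one' := inv_mul_cancel₀ ha
      map_mul' := fun s t => by
        change (τ 1)⁻¹ * τ (s * t) = (τ 1)⁻¹ * τ s * ((τ 1)⁻¹ * τ t)
        apply mul_right_cancel₀ ha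
        calc (τ 1)⁻¹ * τ (s * t) * τ 1 = (τ 1)⁻¹ * (τ (s * t) * τ 1) := by ring
          _ = (τ 1)⁻¹ * (τ s * τ t) := by rw [k4]
          _ = (τ 1)⁻¹ * τ s * ((τ 1)⁻¹ * τ 1 * τ t) := by rw [inv_mul_cancel₀ ha]; ring
          _ = (τ 1)⁻¹ * τ s * ((τ 1)⁻¹ * τ t) * τ 1 := by ring
      map_zero' := by
        change (τ 1)⁻¹ * τ 0 = 0
        rw [τ0, mul_zero]
      map_add' := fun s t => by
        change (τ 1)⁻¹ * τ (s + t) = (τ 1)⁻¹ * τ s + (τ 1)⁻¹ * τ t
        rw [hadd, mul_add] }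
  have hθ : ∀ t, τ 1 * θ t = τ t := fun t => mul_inv_cancel_left₀ ha (τ t)
  refine ⟨θ, τ 1, ψ 1, ha, hb, ⟨θ.injective, fun x => ?_⟩, fun t => ?_, fun x => ?_, fun y => ?_⟩
  · obtain ⟨t, ht⟩ := hbij.2 (τ 1 * x)
    exact ⟨t, mul_left_cancel₀ ha (by rw [hθ, ht])⟩
  · rw [hθ, hτ]
  · have := k1 x 1
    rw [mul_one] at this
    rw [this, hθ]
  · have e1 : ψ y = θ y * ψ 1 := by
      apply mul_left_cancel₀ ha
      rw [← k3, ← mul_assoc, hθ]
    exact ⟨px y, pc y, hpc y, by rw [← e1]; exact hψ y⟩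

variable [Finite F] [Finite V] [Finite X]

/-- The torus elements of the two blocks agree modulo the root group. -/
theorem exists_tor (h : Bk e f C up lo) (h' : Bk e' f' C' up' lo') (h2 : ∀ v : V, v + v = 0)
    (hf : ∀ x : X, (∀ v : V, x • v = v) → x = 1) (hno : NO X V) (h4 : 4 ≤ Nat.card F) (hrt : rt up = rt up')
    {θ : F' →+* F} {a b : F} (ha : a ≠ 0) (hb : b ≠ 0) (hbij : Function.Bijective θ)
    (he : ∀ x, e' x = e (a * θ x * b)) (hff : ∀ y, ∃ x, ∃ c ∈ C, f' y = e x + f (θ y * b) + c) {c : F'} (hc : c ≠ 0) :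
    ∃ t, hh up' lo' c = up t * hh up lo (θ c) := by
  have hθ : θ c ≠ 0 := (map_ne_zero θ).2 hc
  have fx : ∀ {v}, (∃ x, ∃ d ∈ C, v = e x + d) ↔ ∃ x, ∃ d ∈ C', v = e' x + d := fun {v} => by
    rw [← h.mem_fxd_rt, ← h'.mem_fxd_rt, hrt]
  -- `C`
  have k1 : ∀ d ∈ C, ∃ x, hh up' lo' c • d = d + e x := by
    intro d hd
    obtain ⟨x, d', hd', e1⟩ := (fx (v := d)).1 ⟨0, d, hd, by rw [map_zero, zero_add]⟩
    refine ⟨a * θ (c * x + x) * b, ?_⟩
    rw [← he]
    conv_lhs => rw [e1]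
    rw [smul_add, h'.hh_e h2 hc, h'.hh_c c hd', e1, map_add]
    have e2 : e' x + d' + (e' (c * x) + e' x) = e' (c * x) + d' + (e' x + e' x) := by abel
    rw [e2, h2, add_zero]
  -- `e`
  have k2 : ∀ x, hh up' lo' c • e x = e (θ c * x) := by
    intro x
    obtain ⟨x', hx'⟩ := hbij.2 (a⁻¹ * (x * b⁻¹))
    have e1 : a * θ x' * b = x := by
      rw [hx', mul_inv_cancel_left₀ ha, inv_mul_cancel_right₀ hb]
    rw [← e1, ← he, h'.hh_e h2 hc, he, map_mul θ]
    congr 1; ring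
  -- `f`
  have k3 : ∀ z, ∃ x, ∃ d ∈ C, hh up' lo' c • f z = f ((θ c)⁻¹ * z) + d + e x := by
    intro z
    obtain ⟨x, y, d, hd, e1⟩ := h'.dec (f z)
    obtain ⟨x1, d1, hd1, e2⟩ := hff y
    obtain ⟨x2, d2, hd2, e3⟩ := (fx (v := d)).2 ⟨0, d, hd, by rw [map_zero, zero_add]⟩
    have e4 : θ y * b = z := by
      have e5 : e (a * θ x * b + x1 + x2) + f (θ y * b) + (d1 + d2) = e 0 + f z + 0 := by
        rw [map_zero, zero_add, add_zero, e1, he, e2, e3, map_add, map_add]; abel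
      exact (h.uniq (C.add_mem hd1 hd2) C.zero_mem e5).2.1
    obtain ⟨x3, d3, hd3, e6⟩ := hff (c⁻¹ * y)
    refine ⟨a * θ (c * x) * b + x3 + x2, d3 + d2, C.add_mem hd3 hd2, ?_⟩
    rw [e1, smul_add, smul_add, h'.hh_e h2 hc, h'.hh_f h2 hc, h'.hh_c c hd, he, e6, e3, ← e4, map_mul θ c⁻¹ y,
      map_inv₀ θ c, map_add, map_add, mul_assoc (θ c)⁻¹ (θ y) b]
    abel
  have k4 : hh up' lo' c * (hh up lo (θ c))⁻¹ ∈ rt up := by
    refine h.gam h2 hf hno h4 (fun z => ?_) (fun d hd => ?_) fun z => ?_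
    · rw [mul_smul, h.hhi_e h2 hθ, k2, mul_inv_cancel_left₀ hθ]
    · rw [mul_smul, h.hhi_c _ hd]; exact k1 d hd
    · rw [mul_smul, h.hhi_f h2 hθ]
      obtain ⟨x, d, hd, e1⟩ := k3 (θ c * z)
      rw [inv_mul_cancel_left₀ hθ] at e1
      exact ⟨x, d, hd, e1⟩
  obtain ⟨t, ht⟩ := (h.mem_rt h2 hf).1 k4
  exact ⟨t, by rw [ht, inv_mul_cancel_right]⟩

/-- **(T4).** The block and its complement depend only on the root group. -/
theorem _root_.Cfsg.Agent.Omega.NOThreeL.RRed.Blk.TypesGam.Bk.eq (h : Bk e f C up lo) (h' : Bk e' f' C' up' lo')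
    (h2 : ∀ v : V, v + v = 0) (hf : ∀ x : X, (∀ v : V, x • v = v) → x = 1) (hno : NO X V) (h4 : 4 ≤ Nat.card F)
    (hrt : rt up = rt up') : C = C' ∧ e.range = e'.range ∧ e.range ⊔ f.range = e'.range ⊔ f'.range := by
  obtain ⟨θ, a, b, ha, hb, hbij, hup, he, hff⟩ := exists_cmp h h' h2 hf hrt
  have h1 : ∃ c0 : F, c0 ≠ 0 ∧ c0 ≠ 1 := by
    by_contra hcon
    push Not at hcon
    have h3 : Nat.card F ≤ 2 := by
      have : (Set.univ : Set F) ⊆ {0, 1} := fun x _ => by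
        by_cases hx : x = 0
        · exact Or.inl hx
        · exact Or.inr (hcon x hx)
      calc Nat.card F = Set.ncard (Set.univ : Set F) := (Set.ncard_univ F).symm
        _ ≤ Set.ncard ({0, 1} : Set F) := Set.ncard_le_ncard this
        _ ≤ 2 := by
          have := Set.ncard_insert_le (0 : F) {1}
          rwa [Set.ncard_singleton] at this
    omega
  obtain ⟨c0, hc0, hc1⟩ := h1
  obtain ⟨c, rfl⟩ := hbij.2 c0
  have hc0' : c ≠ 0 := by rintro rfl; exact hc0 (map_zero θ)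
  have hc1' : c ≠ 1 := by rintro rfl; exact hc1 (map_one θ)
  obtain ⟨t, ht⟩ := exists_tor h h' h2 hf hno h4 hrt ha hb hbij he hff hc0'
  have e0 : up' 0 * hh up' lo' c = up t * hh up lo (θ c) := by
    rw [h'.up_zero hf, one_mul, ht]
  refine ⟨?_, ?_, ?_⟩
  · ext v
    rw [← h.fix_tor h2 t hc0 hc1, ← h'.fix_tor h2 0 hc0' hc1', e0]
  · ext v
    constructor
    · rintro ⟨x, rfl⟩
      obtain ⟨x', hx'⟩ := hbij.2 (a⁻¹ * (x * b⁻¹))
      refine ⟨x', ?_⟩
      rw [he, hx', mul_inv_cancel_left₀ ha, inv_mul_cancel_right₀ hb]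
    · rintro ⟨x, rfl⟩
      exact ⟨_, (he x).symm⟩
  · ext v
    rw [← h.comm_tor h2 t hc0 hc1, ← h'.comm_tor h2 0 hc0' hc1', e0]

end two

section conj

variable {F : Type w} [Field F] {e f : F →+ V} {C : AddSubgroup V} {up lo : F → X}

/-- a conjugate of a block -/
theorem _root_.Cfsg.Agent.Omega.NOThreeL.RRed.Blk.TypesGam.Bk.conj (h : Bk e f C up lo) (g : X) :
    Bk ((DistribSMul.toAddMonoidHom V g).comp e) ((DistribSMul.toAddMonoidHom V g).comp f)
      (C.map (DistribSMul.toAddMonoidHom V g)) (fun t => g * up t * g⁻¹) (fun t => g * lo t * g⁻¹) where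
  dec := by
    intro v
    obtain ⟨x, y, c, hc, e1⟩ := h.dec (g⁻¹ • v)
    refine ⟨x, y, g • c, ⟨c, hc, rfl⟩, ?_⟩
    change v = g • e x + g • f y + g • c
    rw [← smul_add, ← smul_add, ← e1, smul_inv_smul]
  ind := by
    rintro x y ⟨c, hc, e1⟩
    have e2 : g • c = g • (e x + f y) := by
      rw [smul_add]; exact e1
    rw [smul_left_cancel_iff] at e2
    exact h.ind x y (e2 ▸ hc)
  up_e := fun t x => by
    change (g * up t * g⁻¹) • g • e x = g • e x
    rw [mul_smul, inv_smul_smul, mul_smul, h.up_e]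
  up_f := fun t x => by
    change (g * up t * g⁻¹) • g • f x = g • f x + g • e (t * x)
    rw [mul_smul, inv_smul_smul, mul_smul, h.up_f, smul_add]
  up_c := by
    rintro t _ ⟨c, hc, rfl⟩
    change (g * up t * g⁻¹) • g • c = g • c
    rw [mul_smul, inv_smul_smul, mul_smul, h.up_c t c hc]
  lo_e := fun t x => by
    change (g * lo t * g⁻¹) • g • e x = g • e x + g • f (t * x)
    rw [mul_smul, inv_smul_smul, mul_smul, h.lo_e, smul_add]
  lo_f := fun t x => by
    change (g * lo t * g⁻¹) • g • f x = g • f x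
    rw [mul_smul, inv_smul_smul, mul_smul, h.lo_f]
  lo_c := by
    rintro t _ ⟨c, hc, rfl⟩
    change (g * lo t * g⁻¹) • g • c = g • c
    rw [mul_smul, inv_smul_smul, mul_smul, h.lo_c t c hc]

theorem rt_conj (up : F → X) (g : X) : rt (fun t => g * up t * g⁻¹) = MulAut.conj g • rt up := by
  rw [rt, rt, Subgroup.smul_closure]
  congr 1
  ext x
  constructor
  · rintro ⟨t, rfl⟩
    exact ⟨up t, ⟨t, rfl⟩, rfl⟩
  · rintro ⟨_, ⟨t, rfl⟩, rfl⟩
    exact ⟨t, rfl⟩

/-- **An element which normalises the root group normalises `C` and `N`.** -/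
theorem _root_.Cfsg.Agent.Omega.NOThreeL.RRed.Blk.TypesGam.Bk.inv [Finite F] [Finite V] [Finite X]
    (h : Bk e f C up lo) (h2 : ∀ v : V, v + v = 0) (hf : ∀ x : X, (∀ v : V, x • v = v) → x = 1) (hno : NO X V)
    (h4 : 4 ≤ Nat.card F) {g : X} (hg : MulAut.conj g • rt up = rt up) :
    C.map (DistribSMul.toAddMonoidHom V g) = C ∧
      (e.range ⊔ f.range).map (DistribSMul.toAddMonoidHom V g) = e.range ⊔ f.range := by
  obtain ⟨h1, -, h3⟩ := h.eq (h.conj g) h2 hf hno h4 (by rw [rt_conj, hg])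
  refine ⟨h1.symm, ?_⟩
  rw [AddSubgroup.map_sup, h3, AddMonoidHom.range_comp, AddMonoidHom.range_comp]

end conj

end Cfsg.Agent.Omega.NOThreeL.RRed.Blk.TypesEq

end

section


/-!
# NO-3L, box R: assembly of the natural blocks, definitions (module level)

`X` acts faithfully on the elementary abelian 2-group `V` (written additively).

* `NB D N C` : `D ≤ X` is the root group of a natural `SL₂(F)`-block `N`, `V = N ⊕ C`, `|F| = |D|`;
* `Fam S FF N C` : a family of natural blocks, indexed by their root groups `D ∈ FF`, `D ≤ S`, permuted by `X`;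
* `Ac S EE P K EP` : `P` is active: `P ≤ K S`, `K` is generated by the `K`-conjugates of the members of `EP ⊆ EE`, all
  other members of `EE` centralise `[V, K]`, `C_[V,K](K) = 0`, and the members of `EP` have order at most 3 or they are
  root groups of natural blocks in `[V, K]` which `K` normalises.
-/

set_option autoImplicit false
set_option linter.unusedSectionVars false

namespace Cfsg.Agent.Omega.NOThreeL.RRed.Blk.Asm

open Cfsg.Agent.Omega.NOThreeL.RRed.NS (fxd brk mem_fxd)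
open Cfsg.Agent.Omega.NOThreeL.RRed.Blk.TypesGam
open scoped Pointwise

universe u v

variable {X : Type u} {V : Type v} [Group X] [AddCommGroup V] [DistribMulAction X V]

/-- `D` is the root group of the natural block `N`, `V = N ⊕ C`. -/
structure NB (D : Subgroup X) (N C : AddSubgroup V) : Prop where
  ex : ∃ (F : Type) (_ : Field F) (_ : Finite F) (e f : F →+ V) (up lo : F → X),
    Bk e f C up lo ∧ rt up = D ∧ e.range ⊔ f.range = N

/-- A family of natural blocks, indexed by their root groups. -/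
structure Fam (S : Subgroup X) (FF : Set (Subgroup X)) (N C : Subgroup X → AddSubgroup V) : Prop where
  le : ∀ D ∈ FF, D ≤ S
  nb : ∀ D ∈ FF, NB D (N D) (C D)
  ind : ∀ D ∈ FF, ∀ D' ∈ FF, D' ≠ D → N D' ≤ C D
  perm : ∀ g : X, ∀ D ∈ FF, ∃ D' ∈ FF, Nat.card D' = Nat.card D ∧ ∀ m : V, m ∈ N D ↔ g • m ∈ N D'
  sinv : ∀ s ∈ S, ∀ D ∈ FF, MulAut.conj s • D ∈ FF

/-- `P` is active. -/
structure Ac (S : Subgroup X) (EE : Set (Subgroup X)) (P K : Subgroup X) (EP : Set (Subgroup X)) (V : Type v)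
    [AddCommGroup V] [DistribMulAction X V] : Prop where
  gen : P ≤ K ⊔ S
  EPE : EP ⊆ EE
  EPK : ∀ A ∈ EP, A ≤ K
  spl : ∀ m ∈ brk V K, m ∈ (fxd K : AddSubgroup V) → m = 0
  dich : ∀ A ∈ EE, A ∈ EP ∨ ∀ a ∈ A, ∀ m ∈ brk V K, a • m = m
  genK : K ≤ Subgroup.closure {x | ∃ g ∈ K, ∃ A ∈ EP, ∃ a ∈ A, x = g * a * g⁻¹}
  typ : (∀ A ∈ EP, Nat.card A ≤ 3) ∨ ∀ A ∈ EP, 4 ≤ Nat.card A ∧ ∃ N C : AddSubgroup V, NB A N C ∧ N ≤ brk V K ∧
    (∀ k ∈ K, ∀ m ∈ N, k • m ∈ N) ∧ ∀ A' ∈ EP, A' ≠ A → ∀ a ∈ A', ∀ m ∈ N, a • m = m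

/-- The set of minimal exact subgroups (in `S`). -/
structure Es (S : Subgroup X) (EE : Set (Subgroup X)) (V : Type v) [AddCommGroup V] [DistribMulAction X V] : Prop where
  le : ∀ A ∈ EE, A ≤ S
  el : ∀ A ∈ EE, Types.El A
  exact : ∀ A ∈ EE, Nat.card V ≤ Nat.card A * Nat.card (fxd A : AddSubgroup V)
  quad : ∀ A ∈ EE, brk V A ≤ (fxd A : AddSubgroup V)
  nS : ∀ s ∈ S, ∀ A ∈ EE, MulAut.conj s • A ∈ EE

end Cfsg.Agent.Omega.NOThreeL.RRed.Blk.Asm

end

section


/-!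
# NO-3L, box R: THEOREM TYPES (helper797, #24779), (T4) for `|F| ≥ 8`: `E = ⟨up, lo⟩` depends only on the root group

* `clo up lo` = the group generated by the root elements (`SL₂(F)`).
* **`Bk.clo_eq`** : two blocks with the same root group, `4 < |F|`: `clo up lo = clo up' lo'`.
* **`Bk.clo_inv`** : an element which normalises the root group normalises `clo up lo`.

For `|F| = 4` this is false: the group `⟨E, E'⟩` may be `A₆` or `A₇` on `N` (order `2⁴`).
-/

set_option autoImplicit false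
set_option linter.unusedSectionVars false

namespace Cfsg.Agent.Omega.NOThreeL.RRed.Blk.TypesClo

open Cfsg.Agent.Omega.NOThreeL.RRed.NS (fxd mem_fxd)
open Cfsg.Agent.Omega.NOThreeL.RRed.Blk.TypesGam
open Cfsg.Agent.Omega.NOThreeL.RRed.Blk.TypesEq
open scoped Pointwise

universe u v w w'

/-- the group generated by the root elements -/
def clo {X : Type u} [Group X] {F : Type w} (up lo : F → X) : Subgroup X :=
  Subgroup.closure (Set.range up ∪ Set.range lo)

theorem up_mem_clo {X : Type u} [Group X] {F : Type w} (up lo : F → X) (t : F) : up t ∈ clo up lo :=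
  Subgroup.subset_closure (Or.inl ⟨t, rfl⟩)

theorem lo_mem_clo {X : Type u} [Group X] {F : Type w} (up lo : F → X) (t : F) : lo t ∈ clo up lo :=
  Subgroup.subset_closure (Or.inr ⟨t, rfl⟩)

/-- The field computation: an additive `γ` with `γ (c⁻¹ z) = c γ z + z γ c` vanishes if `|F| > 4`. -/
theorem cocycle {F : Type w} [Field F] [Finite F] (two : ∀ x : F, x + x = 0) (h8 : 4 < Nat.card F) {γ : F → F}
    (hadd : ∀ x y, γ (x + y) = γ x + γ y) (hγ : ∀ c z, c ≠ 0 → γ (c⁻¹ * z) = c * γ z + z * γ c) (z : F) : γ z = 0 := by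
  have h0 : γ 0 = 0 := by
    have := hadd 0 0
    rw [add_zero] at this
    exact left_eq_add.1 this
  have h1 : γ 1 = 0 := by
    have := hγ 1 1 one_ne_zero
    rw [inv_one, one_mul, one_mul] at this
    rw [two] at this
    exact this
  have hi : ∀ c, c ≠ 0 → γ c⁻¹ = γ c := by
    intro c hc
    have := hγ c 1 hc
    rw [mul_one, one_mul, h1, mul_zero, zero_add] at this
    exact this
  -- `γ (c z) = c⁻¹ γ z + z γ c`
  have k1 : ∀ c z, c ≠ 0 → γ (c * z) = c⁻¹ * γ z + z * γ c := by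
    intro c z hc
    have := hγ c⁻¹ z (inv_ne_zero hc)
    rw [inv_inv, hi c hc] at this
    exact this
  have k2 : ∀ c z, c ≠ 0 → z ≠ 0 → (c + c⁻¹) * γ z = (z + z⁻¹) * γ c := by
    intro c z hc hz
    have e1 := k1 c z hc
    have e2 := k1 z c hz
    rw [mul_comm z c] at e2
    have e3 : c⁻¹ * γ z + z * γ c = z⁻¹ * γ c + c * γ z := by rw [← e1, e2]
    have e4 : (c + c⁻¹) * γ z = c⁻¹ * γ z + z * γ c + z * γ c + c * γ z := by
      rw [add_mul, add_assoc (c⁻¹ * γ z), two, add_zero]; ring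
    rw [e4, e3]
    have e5 : z⁻¹ * γ c + c * γ z + z * γ c + c * γ z = (z + z⁻¹) * γ c + (c * γ z + c * γ z) := by ring
    rw [e5, two, add_zero]
  -- an element outside `0, 1` and the roots of `z² + z + 1`
  have k3 : ∃ c : F, c ≠ 0 ∧ c ≠ 1 ∧ c * c + c + 1 ≠ 0 := by
    by_contra hcon
    push Not at hcon
    let p : Polynomial F := Polynomial.X ^ 2 + Polynomial.X + 1
    have hp : p.natDegree = 2 := by
      have : p.Monic ∧ p.natDegree = 2 := by
        constructor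
        · change (Polynomial.X ^ 2 + Polynomial.X + 1 : Polynomial F).Monic
          monicity!
        · change (Polynomial.X ^ 2 + Polynomial.X + 1 : Polynomial F).natDegree = 2
          compute_degree!
      exact this.2
    have hp0 : p ≠ 0 := by
      intro h
      rw [h, Polynomial.natDegree_zero] at hp
      omega
    classical
    have h3 : (Set.univ : Set F) ⊆ ({0, 1} : Set F) ∪ (p.roots.toFinset : Set F) := by
      intro x _
      by_cases hx : x = 0
      · exact Or.inl (Or.inl hx)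
      by_cases hx1 : x = 1
      · exact Or.inl (Or.inr hx1)
      refine Or.inr ?_
      rw [Finset.mem_coe, Multiset.mem_toFinset, Polynomial.mem_roots hp0, Polynomial.IsRoot.def]
      have := hcon x hx hx1
      change (Polynomial.X ^ 2 + Polynomial.X + 1 : Polynomial F).eval x = 0
      simp only [Polynomial.eval_add, Polynomial.eval_pow, Polynomial.eval_X, Polynomial.eval_one]
      rw [pow_two]; exact this
    have h4 : Nat.card F ≤ 4 := by
      calc Nat.card F = Set.ncard (Set.univ : Set F) := (Set.ncard_univ F).symm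
        _ ≤ Set.ncard (({0, 1} : Set F) ∪ (p.roots.toFinset : Set F)) := Set.ncard_le_ncard h3
        _ ≤ Set.ncard ({0, 1} : Set F) + Set.ncard (p.roots.toFinset : Set F) := Set.ncard_union_le _ _
        _ ≤ 2 + 2 := by
          refine Nat.add_le_add ?_ ?_
          · have := Set.ncard_insert_le (0 : F) {1}
            rwa [Set.ncard_singleton] at this
          · rw [Set.ncard_coe_finset]
            exact (Multiset.toFinset_card_le _).trans ((Polynomial.card_roots' p).trans hp.le)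
    omega
  obtain ⟨c, hc0, hc1, hc2⟩ := k3
  have k4 : c + 1 ≠ 0 := by
    intro h
    apply hc1
    have : c + 1 = 1 + 1 := by rw [h, two]
    exact add_right_cancel this
  have k5 : c + c⁻¹ ≠ 0 := by
    intro h
    have e1 : (c + 1) * (c + 1) = c * (c + c⁻¹) + (c + c) := by
      field_simp
      ring
    rw [h, mul_zero, zero_add, two] at e1
    exact k4 (mul_self_eq_zero.1 e1)
  -- `γ c = 0`
  have k6 : γ c = 0 := by
    by_contra hn
    have e1 := k2 c (c + 1) hc0 k4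
    rw [hadd, h1, add_zero] at e1
    have e2 := mul_right_cancel₀ hn e1
    apply hc2
    have e3 : c * (c + 1) * (c + c⁻¹) = c * (c + 1) * (c + 1 + (c + 1)⁻¹) := by rw [e2]
    have e4 : c * (c + 1) * (c + c⁻¹) = (c + 1) * (c * c + 1) := by field_simp
    have e5 : c * (c + 1) * (c + 1 + (c + 1)⁻¹) = c * ((c + 1) * (c + 1) + 1) := by field_simp
    rw [e4, e5] at e3
    have e6 : (c + 1) * (c * c + 1) = c * ((c + 1) * (c + 1) + 1) + (c * c + c + 1) - (c * c + c * c) - (c + c) := by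
      ring
    rw [e6, two, two, sub_zero, sub_zero] at e3
    exact (add_eq_left.1 e3)
  by_cases hz : z = 0
  · rw [hz, h0]
  · have e1 := k2 c z hc0 hz
    rw [k6, mul_zero] at e1
    exact (mul_eq_zero.1 e1).resolve_left k5

variable {X : Type u} {V : Type v} [Group X] [AddCommGroup V] [DistribMulAction X V]
variable {F : Type w} [Field F] {e f : F →+ V} {C : AddSubgroup V} {up lo : F → X}
variable {F' : Type w'} [Field F'] {e' f' : F' →+ V} {C' : AddSubgroup V} {up' lo' : F' → X}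
variable [Finite F] [Finite V] [Finite X]

theorem _root_.Cfsg.Agent.Omega.NOThreeL.RRed.Blk.TypesGam.Bk.clo_le (h : Bk e f C up lo) (h' : Bk e' f' C' up' lo')
    (h2 : ∀ v : V, v + v = 0) (hf : ∀ x : X, (∀ v : V, x • v = v) → x = 1) (hno : NO X V) (h8 : 4 < Nat.card F)
    (hrt : rt up = rt up') : clo up' lo' ≤ clo up lo := by
  obtain ⟨hC, -, hN⟩ := h.eq h' h2 hf hno h8.le hrt
  obtain ⟨θ, a, b, ha, hb, hbij, hup, he, hff⟩ := exists_cmp h h' h2 hf hrt
  have two := h.two h2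
  -- `f' y = e (α y) + f (θ y b)`
  have k1 : ∀ y, ∃ x, f' y = e x + f (θ y * b) := by
    intro y
    obtain ⟨x, c, hc, e1⟩ := hff y
    refine ⟨x, ?_⟩
    have e2 : f' y ∈ e.range ⊔ f.range := by
      rw [hN]; exact AddSubgroup.mem_sup_right ⟨y, rfl⟩
    obtain ⟨_, ⟨x1, rfl⟩, _, ⟨y1, rfl⟩, e3⟩ := AddSubgroup.mem_sup.1 e2
    have e4 : e x + f (θ y * b) + c = e x1 + f y1 + 0 := by rw [← e1, ← e3, add_zero]
    have e5 := (h.uniq hc C.zero_mem e4).2.2
    rw [e1, e5, add_zero]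
  choose α hα using k1
  have αadd : ∀ x y, α (x + y) = α x + α y := by
    intro x y
    have e1 : e (α (x + y)) + f (θ (x + y) * b) + 0 = e (α x + α y) + f (θ x * b + θ y * b) + 0 := by
      rw [← hα, map_add f', hα x, hα y, map_add e, map_add f]; abel
    exact (h.uniq C.zero_mem C.zero_mem e1).1
  -- the torus
  have k2 : ∀ c : F', c ≠ 0 → ∃ t, ∀ y, α (c⁻¹ * y) = θ c * α y + t * ((θ c)⁻¹ * (θ y * b)) := by
    intro c hc
    obtain ⟨t, ht⟩ := exists_tor h h' h2 hf hno h8.le hrt ha hb hbij he hff hc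
    refine ⟨t, fun y => ?_⟩
    have hθ : θ c ≠ 0 := (map_ne_zero θ).2 hc
    have e1 := h'.hh_f h2 hc y
    rw [ht, hα, hα] at e1
    have e2 := h.tor_v h2 t hθ (α y) (θ y * b) C.zero_mem
    rw [add_zero, e1] at e2
    have e3 : e (α (c⁻¹ * y)) + f (θ (c⁻¹ * y) * b) + 0
        = e (θ c * α y + t * ((θ c)⁻¹ * (θ y * b))) + f ((θ c)⁻¹ * (θ y * b)) + 0 := by
      rw [add_zero]; exact e2
    exact (h.uniq C.zero_mem C.zero_mem e3).1
  let φ := Equiv.ofBijective θ hbij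
  have hφ : ∀ x, θ (φ.symm x) = x := fun x => φ.apply_symm_apply x
  have hφ' : ∀ x y, φ.symm (x + y) = φ.symm x + φ.symm y := by
    intro x y
    apply hbij.1
    rw [hφ, map_add θ, hφ, hφ]
  have hφm : ∀ x y, φ.symm (x * y) = φ.symm x * φ.symm y := by
    intro x y
    apply hbij.1
    rw [hφ, map_mul θ, hφ, hφ]
  have hφi : ∀ x, φ.symm x⁻¹ = (φ.symm x)⁻¹ := by
    intro x
    apply hbij.1
    rw [hφ, map_inv₀ θ, hφ]
  have hφ1 : φ.symm 1 = 1 := by
    apply hbij.1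
    rw [hφ, map_one θ]
  -- `γ z = β z + β 1 z`
  have k3 : ∀ z, α (φ.symm z) + α 1 * z = 0 := by
    refine cocycle two h8 (γ := fun z => α (φ.symm z) + α 1 * z) (fun x y => ?_) fun c z hc => ?_
    · rw [hφ', αadd]; ring
    · have hc' : φ.symm c ≠ 0 := by
        intro h0
        apply hc
        rw [← hφ c, h0, map_zero]
      obtain ⟨t, ht⟩ := k2 (φ.symm c) hc'
      have e1 := ht (φ.symm z)
      have e2 := ht (φ.symm c)
      rw [hφ, hφ] at e1
      rw [inv_mul_cancel₀ hc', hφ, inv_mul_cancel_left₀ hc] at e2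
      -- `t b = α 1 + c β c`
      have e3 : t * b = α 1 + c * α (φ.symm c) := by
        rw [e2]
        have : c * α (φ.symm c) + t * b + c * α (φ.symm c) = t * b + (c * α (φ.symm c) + c * α (φ.symm c)) := by ring
        rw [this, two, add_zero]
      have e4 : t * (c⁻¹ * (z * b)) = c⁻¹ * z * (t * b) := by ring
      rw [hφm, hφi, e1, e4, e3]
      have e5 : c * α (φ.symm z) + c⁻¹ * z * (α 1 + c * α (φ.symm c)) + α 1 * (c⁻¹ * z)
          = c * α (φ.symm z) + (c⁻¹ * c) * (z * α (φ.symm c)) + (c⁻¹ * z * α 1 + c⁻¹ * z * α 1) := by ring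
      have e6 : c * (α (φ.symm z) + α 1 * z) + z * (α (φ.symm c) + α 1 * c)
          = c * α (φ.symm z) + z * α (φ.symm c) + (c * z * α 1 + c * z * α 1) := by ring
      rw [e5, e6, two, two, inv_mul_cancel₀ hc, one_mul]
  have k4 : ∀ y, α y = α 1 * θ y := by
    intro y
    have e1 := k3 (θ y)
    have e2 : φ.symm (θ y) = y := φ.symm_apply_apply y
    rw [e2] at e1
    have e3 : α y + α 1 * θ y = α 1 * θ y + α 1 * θ y := by rw [e1, two]
    exact add_right_cancel e3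
  -- `lo' t = up s * lo r * (up s)⁻¹`
  have k5 : ∀ y, f' y = up (α 1 * b⁻¹) • f (θ y * b) := by
    intro y
    rw [h.up_f, hα, k4]
    have : α 1 * b⁻¹ * (θ y * b) = α 1 * θ y := by
      field_simp
    rw [this]; abel
  have k6 : ∀ t, lo' t = up (α 1 * b⁻¹) * lo (a⁻¹ * θ t) * (up (α 1 * b⁻¹))⁻¹ := by
    intro t
    refine h'.ext hf (fun x => ?_) (fun y => ?_) fun c hc => ?_
    · have e1 : (up (α 1 * b⁻¹))⁻¹ • e (a * θ x * b) = e (a * θ x * b) := by
        rw [inv_smul_eq_iff, h.up_e]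
      rw [h'.lo_e, mul_smul, mul_smul, he, e1, h.lo_e, smul_add, h.up_e, k5, map_mul θ]
      congr 3
      field_simp
    · rw [h'.lo_f, k5, mul_smul, mul_smul, inv_smul_smul, h.lo_f]
    · have hc' : c ∈ C := hC ▸ hc
      have e1 : (up (α 1 * b⁻¹))⁻¹ • c = c := by
        rw [inv_smul_eq_iff, h.up_c _ c hc']
      rw [h'.lo_c _ c hc, mul_smul, mul_smul, e1, h.lo_c _ c hc', h.up_c _ c hc']
  refine (Subgroup.closure_le _).2 ?_
  rintro x (⟨t, rfl⟩ | ⟨t, rfl⟩)
  · rw [← hup]; exact up_mem_clo up lo _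
  · rw [k6]
    exact mul_mem (mul_mem (up_mem_clo up lo _) (lo_mem_clo up lo _)) (inv_mem (up_mem_clo up lo _))

/-- **(T4), `|F| ≥ 8`.** `E` depends only on the root group. -/
theorem _root_.Cfsg.Agent.Omega.NOThreeL.RRed.Blk.TypesGam.Bk.clo_eq (h : Bk e f C up lo) (h' : Bk e' f' C' up' lo')
    (h2 : ∀ v : V, v + v = 0) (hf : ∀ x : X, (∀ v : V, x • v = v) → x = 1) (hno : NO X V) (h8 : 4 < Nat.card F)
    (hrt : rt up = rt up') : clo up lo = clo up' lo' := by
  obtain ⟨θ, a, b, ha, hb, hbij, -⟩ := exists_cmp h h' h2 hf hrt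
  have : Finite F' := Finite.of_injective θ hbij.1
  have hc : Nat.card F' = Nat.card F := Nat.card_congr (Equiv.ofBijective θ hbij)
  exact le_antisymm (h'.clo_le h h2 hf hno (hc ▸ h8) hrt.symm) (h.clo_le h' h2 hf hno h8 hrt)

theorem clo_conj (up lo : F → X) (g : X) :
    clo (fun t => g * up t * g⁻¹) (fun t => g * lo t * g⁻¹) = MulAut.conj g • clo up lo := by
  rw [clo, clo, Subgroup.smul_closure, Set.smul_set_union]
  congr 2
  · ext x
    constructor
    · rintro ⟨t, rfl⟩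
      exact ⟨up t, ⟨t, rfl⟩, rfl⟩
    · rintro ⟨_, ⟨t, rfl⟩, rfl⟩
      exact ⟨t, rfl⟩
  · ext x
    constructor
    · rintro ⟨t, rfl⟩
      exact ⟨lo t, ⟨t, rfl⟩, rfl⟩
    · rintro ⟨_, ⟨t, rfl⟩, rfl⟩
      exact ⟨t, rfl⟩

/-- **`|F| ≥ 8`: an element which normalises the root group normalises `E`.** -/
theorem _root_.Cfsg.Agent.Omega.NOThreeL.RRed.Blk.TypesGam.Bk.clo_inv (h : Bk e f C up lo)
    (h2 : ∀ v : V, v + v = 0) (hf : ∀ x : X, (∀ v : V, x • v = v) → x = 1) (hno : NO X V) (h8 : 4 < Nat.card F)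
    {g : X} (hg : MulAut.conj g • rt up = rt up) : MulAut.conj g • clo up lo = clo up lo := by
  rw [← clo_conj]
  exact (h.clo_eq (h.conj g) h2 hf hno h8 (by rw [rt_conj, hg])).symm

end Cfsg.Agent.Omega.NOThreeL.RRed.Blk.TypesClo

end

private theorem dce_5d80c8d7f6db : _root_.True := by
  try have : _root_.True := by simp only [_root_.Cfsg.Agent.Omega.NOThreeL.RRed.Blk.TypesGam.wt.eq_1]
  try have : _root_.True := by simp only [_root_.Cfsg.Agent.Omega.NOThreeL.RRed.Blk.TypesGam.rt.eq_1]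
  try have : _root_.True := by simp only [_root_.Cfsg.Agent.Omega.NOThreeL.RRed.Blk.TypesGam.hh.eq_1]
  try have : _root_.True := by simp only [_root_.Cfsg.Agent.Omega.NOThreeL.RRed.NS.brk.eq_1]
  try have : _root_.True := by simp only [_root_.Cfsg.Agent.Omega.NOThreeL.RRed.Blk.TypesClo.clo.eq_1]
  exact _root_.True.intro
end

-- part: Mrg/Omega/NOThreeL/RRed/Blk/AsmSL
section
prune_inst 0x20006044516200000000058211001e66de00059200080000200008440cc8ee6088002020a4b02002100a8a8448300048115c00800240000004000000011904810008020081480000420086000084000000000000000000000000000000000004200000000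
set_option linter.all false
open scoped Cfsg.Agent.FastGrp

section


/-!
# NO-3L, box R: `clo up lo = SL₂(F)` for a natural block `Bk e f C up lo` (for `RRed/Blk/AsmNBs.lean`)

* `SLA e f C x B` : `x` acts on `e(F) ⊕ f(F)` as the matrix `B ∈ SL₂(F)` and trivially on `C`;
* **`Bk.mem_clo_iff`** : `x ∈ clo up lo ↔ ∃ B, SLA e f C x B`;  `Bk.exists_sla` : every `B` occurs;
* `Bk.mem_rt_of` : a 2-element of `clo up lo` which normalises `e(F)` is in the root group;
* `Bk.clo_of_conj` : `s` normalises `C` and maps SL-elements to SL-elements: `s` normalises `clo up lo`;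
* `Bk.tr` : transport by an automorphism of `(X, V)`.
-/

set_option autoImplicit false
set_option linter.unusedSectionVars false

namespace Cfsg.Agent.Omega.NOThreeL.RRed.Blk.AsmSL

open Matrix
open Cfsg.Agent.Omega.NOThreeL.RRed.NS (fxd mem_fxd)
open Cfsg.Agent.Omega.NOThreeL.RRed.Blk.TypesGam
open Cfsg.Agent.Omega.NOThreeL.RRed.Blk.TypesEq
open Cfsg.Agent.Omega.NOThreeL.RRed.Blk.TypesClo
open scoped Pointwise

universe u v w w'

variable {X : Type u} {V : Type v} [Group X] [AddCommGroup V] [DistribMulAction X V]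
variable {F : Type w} [Field F] {e f : F →+ V} {C : AddSubgroup V} {up lo : F → X}

/-- `x` acts on `e(F) ⊕ f(F)` as the matrix `B` and trivially on `C` -/
structure SLA (e f : F →+ V) (C : AddSubgroup V) (x : X) (B : Matrix.SpecialLinearGroup (Fin 2) F) : Prop where
  act : ∀ w : Fin 2 → F, x • (e (w 0) + f (w 1)) = e (B.1.mulVec w 0) + f (B.1.mulVec w 1)
  triv : ∀ c ∈ C, x • c = c

theorem SLA.one : SLA e f C (1 : X) 1 where
  act w := by rw [one_smul, Matrix.SpecialLinearGroup.coe_one, Matrix.one_mulVec]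
  triv c _ := one_smul _ _

theorem SLA.mul {x y : X} {A B : Matrix.SpecialLinearGroup (Fin 2) F} (hx : SLA e f C x A) (hy : SLA e f C y B) :
    SLA e f C (x * y) (A * B) where
  act w := by
    rw [mul_smul, hy.act, hx.act, Matrix.SpecialLinearGroup.coe_mul, ← Matrix.mulVec_mulVec]
  triv c hc := by rw [mul_smul, hy.triv c hc, hx.triv c hc]

theorem SLA.inv {x : X} {B : Matrix.SpecialLinearGroup (Fin 2) F} (hx : SLA e f C x B) : SLA e f C x⁻¹ B⁻¹ where
  act w := by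
    rw [inv_smul_eq_iff, hx.act, Matrix.mulVec_mulVec, ← Matrix.SpecialLinearGroup.coe_mul, mul_inv_cancel,
      Matrix.SpecialLinearGroup.coe_one, Matrix.one_mulVec]
  triv c hc := by rw [inv_smul_eq_iff, hx.triv c hc]

theorem up_vec (t : F) (w : Fin 2 → F) : (Cfsg.Agent.Lib.SL2Mat.up t).1.mulVec w = ![w 0 + t * w 1, w 1] := by
  funext i
  (revert i; simp only [Cfsg.Agent.Lib.SL2Mat.up, Cfsg.Agent.Lib.SL2Mat.mk, Matrix.mulVec, dotProduct, Fin.sum_univ_two, _root_.Fin.forall_fin_succ, _root_.Matrix.of_apply, _root_.Matrix.cons_val', _root_.Matrix.cons_val_fin_one, Fin.isValue, _root_.Matrix.cons_val_zero, _root_.Matrix.cons_val_one, _root_.Nat.succ_eq_add_one, Nat.reduceAdd, _root_.one_mul, _root_.Matrix.cons_val_succ, _root_.MulZeroClass.zero_mul, _root_.zero_add, _root_.implies_true, _root_.and_self])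

theorem lo_vec (t : F) (w : Fin 2 → F) : (Cfsg.Agent.Lib.SL2Mat.lo t).1.mulVec w = ![w 0, t * w 0 + w 1] := by
  funext i
  (revert i; simp only [Cfsg.Agent.Lib.SL2Mat.lo, Cfsg.Agent.Lib.SL2Mat.mk, Matrix.mulVec, dotProduct, Fin.sum_univ_two, _root_.Fin.forall_fin_succ, _root_.Matrix.of_apply, _root_.Matrix.cons_val', _root_.Matrix.cons_val_fin_one, Fin.isValue, _root_.Matrix.cons_val_zero, _root_.Matrix.cons_val_one, _root_.Nat.succ_eq_add_one, Nat.reduceAdd, _root_.one_mul, _root_.MulZeroClass.zero_mul, _root_.add_zero, _root_.Matrix.cons_val_succ, _root_.implies_true, _root_.and_self])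

section bk

variable (h : Bk e f C up lo)
include h

theorem sla_up (t : F) : SLA e f C (up t) (Cfsg.Agent.Lib.SL2Mat.up t) where
  act w := by
    rw [up_vec, smul_add, h.up_e, h.up_f]
    simp only [Matrix.cons_val_zero, Matrix.cons_val_one, map_add]
    abel
  triv := h.up_c t

theorem sla_lo (t : F) : SLA e f C (lo t) (Cfsg.Agent.Lib.SL2Mat.lo t) where
  act w := by
    rw [lo_vec, smul_add, h.lo_e, h.lo_f]
    simp only [Matrix.cons_val_zero, Matrix.cons_val_one, map_add]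
    abel
  triv := h.lo_c t

theorem exists_sla (B : Matrix.SpecialLinearGroup (Fin 2) F) : ∃ x ∈ clo up lo, SLA e f C x B := by
  obtain ⟨a, b, c, d, rfl⟩ := Cfsg.Agent.Lib.SL2Mat.exists_up_lo B
  exact ⟨up a * lo b * up c * lo d, mul_mem (mul_mem (mul_mem (up_mem_clo _ _ a) (lo_mem_clo _ _ b)) (up_mem_clo _ _ c))
    (lo_mem_clo _ _ d), (((sla_up h a).mul (sla_lo h b)).mul (sla_up h c)).mul (sla_lo h d)⟩

theorem sla_of_clo {x : X} (hx : x ∈ clo up lo) : ∃ B, SLA e f C x B := by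
  refine Subgroup.closure_induction (p := fun x _ => ∃ B, SLA e f C x B) ?_ ⟨1, SLA.one⟩ ?_ ?_ hx
  · rintro x (⟨t, rfl⟩ | ⟨t, rfl⟩)
    · exact ⟨_, sla_up h t⟩
    · exact ⟨_, sla_lo h t⟩
  · rintro x y _ _ ⟨A, hA⟩ ⟨B, hB⟩
    exact ⟨A * B, hA.mul hB⟩
  · rintro x _ ⟨A, hA⟩
    exact ⟨A⁻¹, hA.inv⟩

variable (hf : ∀ x : X, (∀ v : V, x • v = v) → x = 1)
include hf

theorem sla_uniq {x y : X} {B : Matrix.SpecialLinearGroup (Fin 2) F} (hx : SLA e f C x B) (hy : SLA e f C y B) :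
    x = y := by
  refine h.ext hf (fun z => ?_) (fun z => ?_) fun c hc => by rw [hx.triv c hc, hy.triv c hc]
  · have h1 := hx.act ![z, 0]
    have h2 := hy.act ![z, 0]
    rw [← h2] at h1
    simpa only [_root_.Fin.isValue, _root_.Matrix.cons_val_zero, _root_.Matrix.cons_val_one, _root_.Matrix.cons_val_fin_one, _root_.map_zero, _root_.add_zero] using h1
  · have h1 := hx.act ![0, z]
    have h2 := hy.act ![0, z]
    rw [← h2] at h1
    simpa only [_root_.Fin.isValue, _root_.Matrix.cons_val_zero, _root_.map_zero, _root_.Matrix.cons_val_one, _root_.Matrix.cons_val_fin_one, _root_.zero_add] using h1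

theorem mem_clo {x : X} {B : Matrix.SpecialLinearGroup (Fin 2) F} (hx : SLA e f C x B) : x ∈ clo up lo := by
  obtain ⟨y, hy, h1⟩ := exists_sla h B
  rw [sla_uniq h hf hx h1]
  exact hy

theorem mem_clo_iff {x : X} : x ∈ clo up lo ↔ ∃ B, SLA e f C x B :=
  ⟨fun hx => sla_of_clo h hx, fun ⟨_, hB⟩ => mem_clo h hf hB⟩

theorem eq_up {x : X} {t : F} (hx : SLA e f C x (Cfsg.Agent.Lib.SL2Mat.up t)) : x = up t :=
  sla_uniq h hf hx (sla_up h t)

omit hf in
/-- coordinates are unique -/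
theorem vec_uniq {a b a' b' : F} (h1 : e a + f b = e a' + f b') : a = a' ∧ b = b' := by
  have h2 : e a + f b + 0 = e a' + f b' + 0 := by rw [h1]
  have h3 := h.uniq C.zero_mem C.zero_mem h2
  exact ⟨h3.1, h3.2.1⟩

/-- a 2-element of `clo up lo` which normalises `e(F)` is a root element -/
theorem mem_rt_of (h2 : ∀ v : V, v + v = 0) {x : X} (hx : x ∈ clo up lo) (hx2 : ∃ n, x ^ 2 ^ n = 1)
    (he : ∃ z, x • e 1 = e z) : x ∈ rt up := by
  obtain ⟨B, hB⟩ := sla_of_clo h hx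
  obtain ⟨z, hz⟩ := he
  obtain ⟨n, hn⟩ := hx2
  have two := h.two h2
  -- the lower left entry
  have h10 : B.1 1 0 = 0 := by
    have h1 := hB.act ![1, 0]
    simp only [Matrix.cons_val_zero, Matrix.cons_val_one, map_zero, add_zero] at h1
    rw [hz] at h1
    have h3 : e z + f 0 = e (B.1.mulVec ![1, 0] 0) + f (B.1.mulVec ![1, 0] 1) := by rw [map_zero, add_zero]; exact h1
    have h4 := (vec_uniq h h3).2
    simp [Matrix.mulVec, dotProduct, Fin.sum_univ_two] at h4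
    exact h4.symm
  -- powers
  have hpow : ∀ k : ℕ, x ^ k • e 1 = e (B.1 0 0 ^ k) := by
    intro k
    induction k with
    | zero => rw [pow_zero, one_smul, pow_zero]
    | succ k ih =>
      rw [pow_succ', mul_smul, ih]
      have h1 := hB.act ![B.1 0 0 ^ k, 0]
      simp only [Matrix.mulVec, dotProduct, Fin.sum_univ_two, h10, _root_.Fin.isValue, _root_.Matrix.cons_val_zero, _root_.Matrix.cons_val_one, _root_.Matrix.cons_val_fin_one, _root_.map_zero, _root_.add_zero, _root_.MulZeroClass.mul_zero, _root_.MulZeroClass.zero_mul] at h1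
      rw [h1, pow_succ']
  have h00 : B.1 0 0 = 1 := by
    have h1 := hpow (2 ^ n)
    rw [hn, one_smul] at h1
    have h3 := (vec_uniq h (a := 1) (b := 0) (a' := B.1 0 0 ^ 2 ^ n) (b' := 0) (by rw [h1])).1
    have hc : CharP F 2 := by
      refine CharTwo.of_one_ne_zero_of_two_eq_zero one_ne_zero ?_
      have := two 1
      rwa [one_add_one_eq_two] at this
    have := hc
    have : ExpChar F 2 := ExpChar.prime Nat.prime_two
    have h4 : (B.1 0 0 - 1) ^ 2 ^ n = 0 := by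
      rw [sub_pow_expChar_pow, one_pow, ← h3, sub_self]
    exact sub_eq_zero.1 ((pow_eq_zero_iff (by positivity)).1 h4)
  have h11 : B.1 1 1 = 1 := by
    have h1 := B.2
    rw [Matrix.det_fin_two, h10, h00, mul_zero, sub_zero, one_mul] at h1
    exact h1
  have hBe : B = Cfsg.Agent.Lib.SL2Mat.up (B.1 0 1) := by
    refine Cfsg.Agent.Lib.SL2Mat.ext_ent ?_ ?_ ?_ ?_
    · exact h00
    · rfl
    · exact h10
    · exact h11
  rw [hBe] at hB
  rw [eq_up h hf hB]
  exact up_mem _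

end bk

/-! ### transport by an automorphism of `(X, V)` -/

section tr

variable (ψ : X ≃* X) (γ : V ≃+ V) (hψ : ∀ (x : X) (v : V), ψ x • γ v = γ (x • v))

include hψ in
theorem bk_tr (h : Bk e f C up lo) :
    Bk (γ.toAddMonoidHom.comp e) (γ.toAddMonoidHom.comp f) (C.map γ.toAddMonoidHom) (fun t => ψ (up t))
      (fun t => ψ (lo t)) where
  dec v := by
    obtain ⟨x, y, c, hc, e1⟩ := h.dec (γ.symm v)
    refine ⟨x, y, γ c, ⟨c, hc, rfl⟩, ?_⟩
    change v = γ (e x) + γ (f y) + γ c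
    rw [← map_add, ← map_add, ← e1, γ.apply_symm_apply]
  ind := by
    rintro x y ⟨c, hc, e1⟩
    have e2 : γ c = γ (e x + f y) := by
      rw [map_add]; exact e1
    exact h.ind x y (γ.injective e2 ▸ hc)
  up_e t x := by
    change ψ (up t) • γ (e x) = γ (e x)
    rw [hψ, h.up_e]
  up_f t x := by
    change ψ (up t) • γ (f x) = γ (f x) + γ (e (t * x))
    rw [hψ, h.up_f, map_add]
  up_c := by
    rintro t _ ⟨c, hc, rfl⟩
    change ψ (up t) • γ c = γ c
    rw [hψ, h.up_c t c hc]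
  lo_e t x := by
    change ψ (lo t) • γ (e x) = γ (e x) + γ (f (t * x))
    rw [hψ, h.lo_e, map_add]
  lo_f t x := by
    change ψ (lo t) • γ (f x) = γ (f x)
    rw [hψ, h.lo_f]
  lo_c := by
    rintro t _ ⟨c, hc, rfl⟩
    change ψ (lo t) • γ c = γ c
    rw [hψ, h.lo_c t c hc]

end tr

end Cfsg.Agent.Omega.NOThreeL.RRed.Blk.AsmSL

end

section


/-!
# NO-3L, box R: the groups `T = clo up lo` of a family of natural blocks, definitions (for `NBs.sD`)

* `NBT D T N C` : `D` is the root group of the natural block `N`, `V = N ⊕ C`, `T = clo up lo ≅ SL₂(F)`;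
* `TD S A N C` : there is such a `T` which is normalised by `N_S(A)`;
* `Tor S FF N C` : every `D ∈ FF` of order 4 is conjugate to some `A ∈ FF` with `TD`.
-/

set_option autoImplicit false
set_option linter.unusedSectionVars false

namespace Cfsg.Agent.Omega.NOThreeL.RRed.Blk.AsmT

open Cfsg.Agent.Omega.NOThreeL.RRed.Blk.TypesGam
open Cfsg.Agent.Omega.NOThreeL.RRed.Blk.TypesClo
open Cfsg.Agent.Omega.NOThreeL.RRed.Blk.Asm
open scoped Pointwise

universe u v

variable {X : Type u} {V : Type v} [Group X] [AddCommGroup V] [DistribMulAction X V]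

/-- `D` is the root group of the natural block `N`, `V = N ⊕ C`, `T = clo up lo`. -/
structure NBT (D T : Subgroup X) (N C : AddSubgroup V) : Prop where
  ex : ∃ (F : Type) (_ : Field F) (_ : Finite F) (e f : F →+ V) (up lo : F → X),
    Bk e f C up lo ∧ rt up = D ∧ clo up lo = T ∧ e.range ⊔ f.range = N

/-- some `T` is normalised by `N_S(A)` -/
def TD (S A : Subgroup X) (N C : AddSubgroup V) : Prop :=
  ∃ T : Subgroup X, NBT A T N C ∧ ∀ s ∈ S, MulAut.conj s • A = A → MulAut.conj s • T = T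

/-- input for `NBs.sD` (needed for `|F| = 4` only) -/
def Tor (S : Subgroup X) (FF : Set (Subgroup X)) (N C : Subgroup X → AddSubgroup V) : Prop :=
  ∀ D ∈ FF, Nat.card D = 4 → ∃ A ∈ FF, ∃ m : X, MulAut.conj m • A = D ∧ TD S A (N A) (C A)

theorem NBT.nb {D T : Subgroup X} {N C : AddSubgroup V} (h : NBT D T N C) : NB D N C := by
  obtain ⟨F, i1, i2, e, f, up, lo, h1, h2, -, h4⟩ := h.ex
  exact ⟨F, i1, i2, e, f, up, lo, h1, h2, h4⟩

theorem NB.exists_nbt {D : Subgroup X} {N C : AddSubgroup V} (h : NB D N C) : ∃ T, NBT D T N C := by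
  obtain ⟨F, i1, i2, e, f, up, lo, h1, h2, h4⟩ := h.ex
  exact ⟨_, F, i1, i2, e, f, up, lo, h1, h2, rfl, h4⟩

theorem NBT.le {D T : Subgroup X} {N C : AddSubgroup V} (h : NBT D T N C) : D ≤ T := by
  obtain ⟨F, i1, i2, e, f, up, lo, h1, h2, h3, h4⟩ := h.ex
  rw [← h2, ← h3]
  exact (Subgroup.closure_le _).2 fun x ⟨t, ht⟩ => ht ▸ up_mem_clo up lo t

/-- `T` centralises `C` -/
theorem NBT.cent {D T : Subgroup X} {N C : AddSubgroup V} (h : NBT D T N C) {x : X} (hx : x ∈ T) {c : V} (hc : c ∈ C) :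
    x • c = c := by
  obtain ⟨F, i1, i2, e, f, up, lo, h1, h2, h3, h4⟩ := h.ex
  obtain ⟨B, hB⟩ := AsmSL.sla_of_clo h1 (h3.symm ▸ hx)
  exact hB.triv c hc

theorem clo_cj {F : Type} (up lo : F → X) (g : X) :
    clo (fun t => g * up t * g⁻¹) (fun t => g * lo t * g⁻¹) = MulAut.conj g • clo up lo := by
  rw [clo, clo, Subgroup.smul_closure, Set.smul_set_union]
  congr 2
  · ext x
    constructor
    · rintro ⟨t, rfl⟩
      exact ⟨up t, ⟨t, rfl⟩, rfl⟩
    · rintro ⟨_, ⟨t, rfl⟩, rfl⟩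
      exact ⟨t, rfl⟩
  · ext x
    constructor
    · rintro ⟨t, rfl⟩
      exact ⟨lo t, ⟨t, rfl⟩, rfl⟩
    · rintro ⟨_, ⟨t, rfl⟩, rfl⟩
      exact ⟨t, rfl⟩

theorem NBT.conj {D T : Subgroup X} {N C : AddSubgroup V} (h : NBT D T N C) (g : X) :
    NBT (MulAut.conj g • D) (MulAut.conj g • T) (N.map (DistribSMul.toAddMonoidHom V g))
      (C.map (DistribSMul.toAddMonoidHom V g)) := by
  obtain ⟨F, i1, i2, e, f, up, lo, h1, h2, h3, h4⟩ := h.ex
  refine ⟨F, i1, i2, _, _, _, _, h1.conj g, ?_, ?_, ?_⟩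
  · rw [TypesEq.rt_conj, h2]
  · rw [clo_cj, h3]
  · rw [← h4, AddSubgroup.map_sup, AddMonoidHom.range_comp, AddMonoidHom.range_comp]

end Cfsg.Agent.Omega.NOThreeL.RRed.Blk.AsmT

end

section


/-!
# NO-3L, box R: THEOREM TYPES (T4) for natural blocks WITH A RADICAL (helper855, #26560)

`X` acts faithfully on `V` (additive, `v + v = 0`), no over-offender (`NO`).  `BkD e f d C up lo` : a natural block over
`F` with radical `d(F) ≤ C`, `V = e(F) ⊕ f(F) ⊕ C`, root elements `up t : f x ↦ f x + e (t x) + d (t x²)`,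
`lo t : e x ↦ e x + f (t x) + d (t x²)`, trivial on `C`.

* `BkD.memK` : an element which fixes `e(F) + C` and is trivial on the quotient is in the root group;
* **`BkD.gam`** (`d ≠ 0`, `|F| > 2`) : an element which is trivial on `e(F) + d(F)`, maps `c ∈ C` into `c + e(F)` and
  `f z` into `f z + C + e(F)` is in the root group `rt up`.
-/

set_option autoImplicit false
set_option linter.unusedSectionVars false

namespace Cfsg.Agent.Omega.NOThreeL.RRed.Blk.GamD

open Cfsg.Agent.Omega.NOThreeL.RRed.NS (fxd mem_fxd)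
open Cfsg.Agent.Omega.NOThreeL.RRed.Blk.TypesGam (NO rt up_mem card_le_of Dat wt hh)

universe u v w w'

variable {X : Type u} {V : Type v} [Group X] [AddCommGroup V] [DistribMulAction X V]

/-- a natural block with a radical -/
structure BkD {F : Type w} [Field F] (e f d : F →+ V) (C : AddSubgroup V) (up lo : F → X) : Prop where
  dec : ∀ v : V, ∃ x y, ∃ c ∈ C, v = e x + f y + c
  ind : ∀ x y, e x + f y ∈ C → x = 0 ∧ y = 0
  dC : ∀ x, d x ∈ C
  up_e : ∀ t x, up t • e x = e x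
  up_f : ∀ t x, up t • f x = f x + e (t * x) + d (t * x ^ 2)
  up_c : ∀ t, ∀ c ∈ C, up t • c = c
  lo_e : ∀ t x, lo t • e x = e x + f (t * x) + d (t * x ^ 2)
  lo_f : ∀ t x, lo t • f x = f x
  lo_c : ∀ t, ∀ c ∈ C, lo t • c = c

section

variable {F : Type w} [Field F] {e f d : F →+ V} {C : AddSubgroup V} {up lo : F → X}

theorem BkD.swap (h : BkD e f d C up lo) : BkD f e d C lo up where
  dec := by
    intro v
    obtain ⟨x, y, c, hc, e1⟩ := h.dec v
    exact ⟨y, x, c, hc, by rw [e1]; abel⟩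
  ind := by
    intro x y hm
    rw [add_comm] at hm
    exact (h.ind y x hm).symm
  dC := h.dC
  up_e := h.lo_f
  up_f := h.lo_e
  up_c := h.lo_c
  lo_e := h.up_f
  lo_f := h.up_e
  lo_c := h.up_c

/-- uniqueness of the components -/
theorem BkD.uniq (h : BkD e f d C up lo) {x y x' y' : F} {c c' : V} (hc : c ∈ C) (hc' : c' ∈ C)
    (e1 : e x + f y + c = e x' + f y' + c') : x = x' ∧ y = y' ∧ c = c' := by
  have e2 : e (x - x') + f (y - y') = c' - c := by
    rw [map_sub, map_sub]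
    have e3 : e x + f y = e x' + f y' + c' - c := by rw [← e1]; abel
    have e4 : e x - e x' + (f y - f y') = (e x + f y) - (e x' + f y') := by abel
    rw [e4, e3]; abel
  obtain ⟨h1, h2⟩ := h.ind _ _ (e2 ▸ C.sub_mem hc' hc)
  have h3 := sub_eq_zero.1 h1
  have h4 := sub_eq_zero.1 h2
  subst h3 h4
  exact ⟨rfl, rfl, add_left_cancel e1⟩

/-- the projections -/
theorem BkD.proj' (h : BkD e f d C up lo) :
    ∃ (px py : V →+ F) (pc : V →+ V), (∀ v, v = e (px v) + f (py v) + pc v) ∧ ∀ v, pc v ∈ C := by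
  choose px py pc hpc hv using h.dec
  refine ⟨AddMonoidHom.mk' px ?_, AddMonoidHom.mk' py ?_, AddMonoidHom.mk' pc ?_, hv, hpc⟩
  all_goals
    intro a b
    have e1 : e (px (a + b)) + f (py (a + b)) + pc (a + b)
        = e (px a + px b) + f (py a + py b) + (pc a + pc b) := by
      rw [← hv (a + b), map_add, map_add]
      conv_lhs => rw [hv a, hv b]
      abel
    obtain ⟨h1, h2, h3⟩ := h.uniq (hpc _) (C.add_mem (hpc a) (hpc b)) e1
    first | exact h1 | exact h2 | exact h3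

theorem BkD.proj (h : BkD e f d C up lo) :
    ∃ (px py : V →+ F) (pc : V →+ V), (∀ v, v = e (px v) + f (py v) + pc v) ∧ (∀ v, pc v ∈ C) ∧
      ∀ a b, ∀ c ∈ C, px (e a + f b + c) = a ∧ py (e a + f b + c) = b ∧ pc (e a + f b + c) = c := by
  obtain ⟨px, py, pc, hv, hpc⟩ := h.proj'
  exact ⟨px, py, pc, hv, hpc, fun a b c hc => h.uniq (hpc _) hc (hv _).symm⟩

variable (h : BkD e f d C up lo) (h2 : ∀ v : V, v + v = 0) (hf : ∀ x : X, (∀ v : V, x • v = v) → x = 1)
include h h2 hf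

omit h2 in
/-- two elements which agree on the three parts are equal -/
theorem BkD.ext {x y : X} (he : ∀ z, x • e z = y • e z) (hff : ∀ z, x • f z = y • f z)
    (hc : ∀ c ∈ C, x • c = y • c) : x = y := by
  have h1 : y⁻¹ * x = 1 := by
    refine hf _ fun v => ?_
    obtain ⟨a, b, c, hcc, rfl⟩ := h.dec v
    have e1 : x • (e a + f b + c) = y • (e a + f b + c) := by
      rw [smul_add, smul_add, smul_add, smul_add, he, hff, hc c hcc]
    rw [mul_smul, e1, inv_smul_smul]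
  exact (inv_mul_eq_one.1 h1).symm

omit hf in
theorem BkD.two (x : F) : x + x = 0 := by
  refine (h.ind (x + x) 0 ?_).1
  rw [map_add, map_zero, h2, add_zero]
  exact C.zero_mem

omit hf in
theorem BkD.sq (x y : F) : (x + y) ^ 2 = x ^ 2 + y ^ 2 := by
  have hF := h.two h2
  have e2 : (x + y) ^ 2 = x ^ 2 + y ^ 2 + (x * y + x * y) := by ring
  rw [e2, hF, add_zero]

omit h2 in
theorem BkD.up_zero : up 0 = 1 := by
  refine h.ext hf (fun z => ?_) (fun z => ?_) fun c hc => ?_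
  · rw [h.up_e, one_smul]
  · rw [h.up_f, zero_mul, zero_mul, map_zero, map_zero, add_zero, add_zero, one_smul]
  · rw [h.up_c _ c hc, one_smul]

omit h2 in
theorem BkD.up_add (s t : F) : up s * up t = up (s + t) := by
  refine h.ext hf (fun z => ?_) (fun z => ?_) fun c hc => ?_
  · rw [mul_smul, h.up_e, h.up_e, h.up_e]
  · rw [mul_smul, h.up_f, smul_add, smul_add, h.up_f, h.up_e, h.up_c _ _ (h.dC _), h.up_f, add_mul, add_mul, map_add,
      map_add]
    abel
  · rw [mul_smul, h.up_c _ c hc, h.up_c _ c hc, h.up_c _ c hc]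

theorem BkD.up_inv (t : F) : (up t)⁻¹ = up t := by
  rw [inv_eq_iff_mul_eq_one, h.up_add hf, h.two h2, h.up_zero hf]

theorem BkD.mem_rt {a : X} : a ∈ rt up ↔ ∃ t, up t = a := by
  constructor
  · intro ha
    refine Subgroup.closure_induction (p := fun a _ => ∃ t, up t = a) ?_ ⟨0, h.up_zero hf⟩ ?_ ?_ ha
    · rintro _ ⟨t, rfl⟩
      exact ⟨t, rfl⟩
    · rintro _ _ _ _ ⟨s, rfl⟩ ⟨t, rfl⟩
      exact ⟨s + t, (h.up_add hf s t).symm⟩
    · rintro _ _ ⟨t, rfl⟩
      exact ⟨t, (h.up_inv h2 hf t).symm⟩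
  · rintro ⟨t, rfl⟩
    exact up_mem t

omit h2 hf in
theorem BkD.up_inj {s t : F} (e1 : up s = up t) : s = t := by
  have e2 := h.up_f s 1
  rw [e1, h.up_f, mul_one, mul_one, one_pow, mul_one, mul_one] at e2
  have e3 : e t + f 0 + d t = e s + f 0 + d s := by
    rw [map_zero, add_zero, add_zero]
    rw [add_assoc, add_assoc] at e2
    exact add_left_cancel e2
  exact (h.uniq (h.dC _) (h.dC _) e3).1.symm

theorem BkD.card_rt : Nat.card (rt up) = Nat.card F := by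
  refine (Nat.card_congr (Equiv.ofBijective (fun t : F => (⟨up t, up_mem t⟩ : rt up)) ⟨?_, ?_⟩)).symm
  · intro s t e1
    exact h.up_inj (congrArg Subtype.val e1)
  · rintro ⟨a, ha⟩
    obtain ⟨t, rfl⟩ := (h.mem_rt h2 hf).1 ha
    exact ⟨t, rfl⟩

end

section gen

/-- A subgroup trivial on `T` and on `V/T` is elementary abelian. -/
theorem elab_of (h2 : ∀ v : V, v + v = 0) (hf : ∀ x : X, (∀ v : V, x • v = v) → x = 1) (T : AddSubgroup V)
    (W : Subgroup X) (h1 : ∀ x ∈ W, ∀ v ∈ T, x • v = v) (h3 : ∀ x ∈ W, ∀ v, x • v - v ∈ T) :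
    (∀ x ∈ W, ∀ y ∈ W, x * y = y * x) ∧ ∀ x ∈ W, x * x = 1 := by
  have key : ∀ x ∈ W, ∀ y ∈ W, ∀ v : V, (x * y) • v = v + (x • v - v) + (y • v - v) := by
    intro x hx y hy v
    have e1 : y • v = v + (y • v - v) := by abel
    rw [mul_smul]
    conv_lhs => rw [e1]
    rw [smul_add, h1 x hx _ (h3 y hy v)]
    abel
  constructor
  · intro x hx y hy
    have h4 : (y * x)⁻¹ * (x * y) = 1 := by
      refine hf _ fun v => ?_
      rw [mul_smul, inv_smul_eq_iff, key x hx y hy, key y hy x hx]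
      abel
    exact (inv_mul_eq_one.1 h4).symm
  · intro x hx
    refine hf _ fun v => ?_
    rw [key x hx x hx, add_assoc, h2, add_zero]

/-- the group of all elements which are trivial on `T`, on `V/T` and on `R` -/
def Wg (T R : AddSubgroup V) : Subgroup X where
  carrier := {x | (∀ v ∈ T, x • v = v) ∧ (∀ v, x • v - v ∈ T) ∧ ∀ v ∈ R, x • v = v}
  one_mem' := ⟨fun _ _ => one_smul _ _, fun v => by rw [one_smul, sub_self]; exact T.zero_mem, fun _ _ => one_smul _ _⟩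
  mul_mem' := by
    rintro x y ⟨hx1, hx2, hx3⟩ ⟨hy1, hy2, hy3⟩
    refine ⟨fun v hv => by rw [mul_smul, hy1 v hv, hx1 v hv], fun v => ?_, fun v hv => by
      rw [mul_smul, hy3 v hv, hx3 v hv]⟩
    have e1 : (x * y) • v - v = (x • (y • v) - y • v) + (y • v - v) := by rw [mul_smul]; abel
    rw [e1]
    exact T.add_mem (hx2 _) (hy2 _)
  inv_mem' := by
    rintro x ⟨hx1, hx2, hx3⟩
    refine ⟨fun v hv => by rw [inv_smul_eq_iff, hx1 v hv], fun v => ?_, fun v hv => by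
      rw [inv_smul_eq_iff, hx3 v hv]⟩
    have e1 : x⁻¹ • v - v = -(x • (x⁻¹ • v) - x⁻¹ • v) := by rw [smul_inv_smul]; abel
    rw [e1]
    exact T.neg_mem (hx2 _)

end gen

section gam

variable {F : Type w} [Field F] [Finite F] {e f d : F →+ V} {C : AddSubgroup V} {up lo : F → X} [Finite V] [Finite X]

/-- LEMMA K : an element which fixes `e(F) + C` and is trivial on the quotient is in the root group. -/
theorem BkD.memK (h : BkD e f d C up lo) (h2 : ∀ v : V, v + v = 0) (hf : ∀ x : X, (∀ v : V, x • v = v) → x = 1)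
    (hno : NO X V) {g : X} (ge : ∀ z, g • e z = e z) (gc : ∀ c ∈ C, g • c = c)
    (gf : ∀ z, ∃ x, ∃ c ∈ C, g • f z = f z + (e x + c)) : g ∈ rt up := by
  obtain ⟨px, py, pc, hv, hpc⟩ := h.proj'
  have hU : ∀ v : V, py v = 0 ↔ ∃ x, ∃ c ∈ C, v = e x + c := by
    intro v
    constructor
    · intro h0
      refine ⟨px v, pc v, hpc v, ?_⟩
      have e1 := hv v
      rw [h0, map_zero, add_zero] at e1
      exact e1
    · rintro ⟨x, c, hc, rfl⟩
      have e1 : e (px (e x + c)) + f (py (e x + c)) + pc (e x + c) = e x + f 0 + c := by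
        rw [← hv, map_zero, add_zero]
      exact (h.uniq (hpc _) hc e1).2.1
  let W : Subgroup X := Wg py.ker ⊥
  obtain ⟨hcom, hsq⟩ := elab_of h2 hf py.ker W (fun x hx v hv => hx.1 v hv) fun x hx v => hx.2.1 v
  have hcard : Nat.card W ≤ Nat.card F := card_le_of hno py W hcom hsq fun x hx v h0 => hx.1 v h0
  have hle : rt up ≤ W := by
    intro a ha
    obtain ⟨t, rfl⟩ := (h.mem_rt h2 hf).1 ha
    refine ⟨fun v h0 => ?_, fun v => ?_, fun v hv => ?_⟩
    · obtain ⟨x, c, hc, rfl⟩ := (hU v).1 h0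
      rw [smul_add, h.up_e, h.up_c t c hc]
    · rw [AddMonoidHom.mem_ker, hU]
      obtain ⟨x, y, c, hc, rfl⟩ := h.dec v
      refine ⟨t * y, d (t * y ^ 2), h.dC _, ?_⟩
      rw [smul_add, smul_add, h.up_e, h.up_f, h.up_c t c hc]
      abel
    · rw [AddSubgroup.mem_bot.1 hv, smul_zero]
  have hgW : g ∈ W := by
    refine ⟨fun v h0 => ?_, fun v => ?_, fun v hv => ?_⟩
    · obtain ⟨x, c, hc, rfl⟩ := (hU v).1 h0
      rw [smul_add, ge, gc c hc]
    · rw [AddMonoidHom.mem_ker, hU]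
      obtain ⟨x, y, c, hc, rfl⟩ := h.dec v
      obtain ⟨a, c', hc', e1⟩ := gf y
      refine ⟨a, c', hc', ?_⟩
      rw [smul_add, smul_add, ge, e1, gc c hc]
      abel
    · rw [AddSubgroup.mem_bot.1 hv, smul_zero]
  have heq : rt up = W := by
    refine Subgroup.eq_of_le_of_card_ge hle ?_
    rw [h.card_rt h2 hf]
    exact hcard
  rw [heq]
  exact hgW

omit [Finite F] [Finite V] [Finite X] in
theorem BkD.exists_dat (h : BkD e f d C up lo) {g : X} (ge : ∀ z, g • e z = e z)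
    (gc : ∀ c ∈ C, ∃ x, g • c = c + e x) (gf : ∀ z, ∃ x, ∃ c ∈ C, g • f z = f z + c + e x) :
    ∃ (σ : V →+ F) (ρ : F →+ V) (γ : F →+ F), Dat e f C g σ ρ γ := by
  obtain ⟨px, py, pc, hv, hpc, hu⟩ := h.proj
  refine ⟨px.comp ((DistribSMul.toAddMonoidHom V g).comp pc),
    pc.comp ((DistribSMul.toAddMonoidHom V g).comp f),
    px.comp ((DistribSMul.toAddMonoidHom V g).comp f), ge, ?_, ?_, fun s => hpc _⟩
  · intro c hc
    obtain ⟨x, hx⟩ := gc c hc
    have e1 : pc c = c := by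
      have := (hu 0 0 c hc).2.2
      rwa [map_zero, map_zero, zero_add, zero_add] at this
    have e2 : px (c + e x) = x := by
      have := (hu x 0 c hc).1
      rwa [map_zero, add_zero, add_comm] at this
    show g • c = c + e (px (g • pc c))
    rw [e1, hx, e2]
  · intro s
    obtain ⟨x, c, hc, hx⟩ := gf s
    have e1 : g • f s = e x + f s + c := by rw [hx]; abel
    show g • f s = f s + pc (g • f s) + e (px (g • f s))
    rw [e1, (hu x s c hc).1, (hu x s c hc).2.2]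
    abel

section torus
omit [Finite F] [Finite V] [Finite X]
variable (h : BkD e f d C up lo) (h2 : ∀ v : V, v + v = 0)
include h h2

theorem BkD.wt_e {t : F} (ht : t ≠ 0) (x : F) : wt up lo t • e x = f (t⁻¹ * x) := by
  rw [wt, mul_smul, mul_smul, h.up_e, h.lo_e, smul_add, smul_add, h.up_e, h.up_f, h.up_c _ _ (h.dC _),
    mul_inv_cancel_left₀ ht]
  have e0 : t * (t⁻¹ * x) ^ 2 = t⁻¹ * x ^ 2 := by
    field_simp
  rw [e0]
  have e1 : e x + (f (t⁻¹ * x) + e x + d (t⁻¹ * x ^ 2)) + d (t⁻¹ * x ^ 2)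
      = f (t⁻¹ * x) + ((e x + e x) + (d (t⁻¹ * x ^ 2) + d (t⁻¹ * x ^ 2))) := by abel
  rw [e1, h2, h2, add_zero, add_zero]

theorem BkD.wt_f {t : F} (ht : t ≠ 0) (y : F) : wt up lo t • f y = e (t * y) := by
  rw [wt, mul_smul, mul_smul, h.up_f]
  simp only [smul_add, h.lo_f, h.lo_e, h.lo_c _ _ (h.dC _), inv_mul_cancel_left₀ ht, h.up_f, h.up_e,
    h.up_c _ _ (h.dC _)]
  have e0 : t⁻¹ * (t * y) ^ 2 = t * y ^ 2 := by
    field_simp
  rw [e0]
  have e1 : f y + e (t * y) + d (t * y ^ 2) + (e (t * y) + (f y + e (t * y) + d (t * y ^ 2)) + d (t * y ^ 2))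
        + d (t * y ^ 2)
      = e (t * y) + ((f y + f y) + (e (t * y) + e (t * y)) + (d (t * y ^ 2) + d (t * y ^ 2))
        + (d (t * y ^ 2) + d (t * y ^ 2))) := by abel
  rw [e1, h2 (f y), h2 (e (t * y)), h2 (d (t * y ^ 2)), add_zero, add_zero, add_zero, add_zero]

omit h2 in
theorem BkD.wt_c (t : F) {c : V} (hc : c ∈ C) : wt up lo t • c = c := by
  rw [wt, mul_smul, mul_smul, h.up_c _ c hc, h.lo_c _ c hc, h.up_c _ c hc]

theorem BkD.hh_e {t : F} (ht : t ≠ 0) (x : F) : hh up lo t • e x = e (t * x) := by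
  rw [hh, mul_smul, h.wt_e h2 one_ne_zero, h.wt_f h2 ht, inv_one, one_mul]

theorem BkD.hh_f {t : F} (ht : t ≠ 0) (y : F) : hh up lo t • f y = f (t⁻¹ * y) := by
  rw [hh, mul_smul, h.wt_f h2 one_ne_zero, h.wt_e h2 ht, one_mul]

omit h2 in
theorem BkD.hh_c (t : F) {c : V} (hc : c ∈ C) : hh up lo t • c = c := by
  rw [hh, mul_smul, h.wt_c _ hc, h.wt_c _ hc]

theorem BkD.hhi_e {t : F} (ht : t ≠ 0) (x : F) : (hh up lo t)⁻¹ • e x = e (t⁻¹ * x) := by
  rw [inv_smul_eq_iff, h.hh_e h2 ht, mul_inv_cancel_left₀ ht]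

theorem BkD.hhi_f {t : F} (ht : t ≠ 0) (y : F) : (hh up lo t)⁻¹ • f y = f (t * y) := by
  rw [inv_smul_eq_iff, h.hh_f h2 ht, inv_mul_cancel_left₀ ht]

omit h2 in
theorem BkD.hhi_c (t : F) {c : V} (hc : c ∈ C) : (hh up lo t)⁻¹ • c = c := by
  rw [inv_smul_eq_iff, h.hh_c t hc]

/-- the torus conjugates -/
theorem BkD.conj_h {g : X} {σ : V →+ F} {ρ : F →+ V} {γ : F → F} (D : Dat e f C g σ ρ γ) {t : F} (ht : t ≠ 0) :
    Dat e f C (hh up lo t * g * (hh up lo t)⁻¹) ((AddMonoidHom.mulLeft t).comp σ)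
      (ρ.comp (AddMonoidHom.mulLeft t)) (fun s => t * γ (t * s)) where
  ee := by
    intro z
    rw [mul_smul, mul_smul, h.hhi_e h2 ht, D.ee, h.hh_e h2 ht, mul_inv_cancel_left₀ ht]
  cc := by
    intro c hc
    rw [mul_smul, mul_smul, h.hhi_c t hc, D.cc c hc, smul_add, h.hh_c t hc, h.hh_e h2 ht]
    rfl
  ff := by
    intro s
    rw [mul_smul, mul_smul, h.hhi_f h2 ht, D.ff, smul_add, smul_add, h.hh_f h2 ht, h.hh_c t (D.rc _),
      h.hh_e h2 ht, inv_mul_cancel_left₀ ht]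
    rfl
  rc := fun s => D.rc _

/-- the `F`-line through an element with `γ = 0` -/
theorem BkD.dat_mul {g : X} {σ : V →+ F} {ρ : F →+ V} (D : Dat e f C g σ ρ (fun _ => 0)) (a : F) :
    ∃ x : X, Dat e f C x ((AddMonoidHom.mulLeft a).comp σ) (ρ.comp (AddMonoidHom.mulLeft a)) (fun _ => 0) := by
  by_cases ha : a = 0
  · subst ha
    refine ⟨1, fun z => one_smul _ _, fun c _ => ?_, fun s => ?_, fun s => ?_⟩
    · show (1 : X) • c = c + e (0 * σ c)
      rw [zero_mul, map_zero, add_zero, one_smul]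
    · show (1 : X) • f s = f s + ρ (0 * s) + e 0
      rw [zero_mul, map_zero, map_zero, add_zero, add_zero, one_smul]
    · show ρ (0 * s) ∈ C
      exact D.rc _
  · have D1 := h.conj_h h2 D ha
    refine ⟨_, D1.ee, D1.cc, fun s => ?_, D1.rc⟩
    have e1 := D1.ff s
    rw [e1, mul_zero]

end torus

section lin
variable (h : BkD e f d C up lo) (h2 : ∀ v : V, v + v = 0) (hf : ∀ x : X, (∀ v : V, x • v = v) → x = 1) (hno : NO X V)
  (hd : ∃ x, d x ≠ 0)
include h h2 hf hno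

omit hf hno [Finite V] [Finite X] in
theorem BkD.sqrt (s : F) : ∃ x, x ^ 2 = s := by
  have hF := h.two h2
  have hinj : Function.Injective (fun x : F => x ^ 2) := by
    intro x y hxy
    have e1 : (x + y) ^ 2 = 0 := by
      have hxy' : x ^ 2 = y ^ 2 := hxy
      rw [h.sq h2, hxy', hF]
    have e3 := pow_eq_zero_iff (two_ne_zero) |>.1 e1
    rw [add_eq_zero_iff_eq_neg.1 e3, neg_eq_iff_add_eq_zero]
    exact hF y
  exact (Finite.surjective_of_injective hinj) s

include hd in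
/-- a root element whose `d`-part vanishes is trivial -/
theorem BkD.lin {P Q : X} {κ : F → F} (Pe : ∀ z, P • e z = e z) (Qe : ∀ z, Q • e z = e z)
    (PQ : ∀ c ∈ C, P • c = Q • c) (Qc : ∀ c ∈ C, ∃ x, Q • c = c + e x)
    (Qf : ∀ s, ∃ x, ∃ c ∈ C, Q • f s = f s + c + e x) (Pf : ∀ s, P • f s = Q • f s + e (κ s)) :
    ∀ s, κ s = 0 := by
  have Qie : ∀ z, Q⁻¹ • e z = e z := fun z => by rw [inv_smul_eq_iff, Qe]
  have dc : ∀ c ∈ C, (P * Q⁻¹) • c = c := by
    intro c hc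
    obtain ⟨x, hx⟩ := Qc c hc
    have e1 : Q⁻¹ • c = c - e x := by
      rw [inv_smul_eq_iff, smul_sub, hx, Qe]; abel
    rw [mul_smul, e1, smul_sub, PQ c hc, hx, Pe]; abel
  have df : ∀ s, (P * Q⁻¹) • f s = f s + e (κ s) := by
    intro s
    obtain ⟨x, c, hc, hx⟩ := Qf s
    have e1 : Q⁻¹ • f s = f s - Q⁻¹ • c - e x := by
      have e2 : Q⁻¹ • (Q • f s) = Q⁻¹ • (f s + c + e x) := by rw [hx]
      rw [inv_smul_smul, smul_add, smul_add, Qie] at e2
      have e4 : f s - Q⁻¹ • c - e x = Q⁻¹ • f s := by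
        conv_lhs => rw [e2]
        abel
      exact e4.symm
    have e3 : P • (Q⁻¹ • c) = c := by rw [← mul_smul]; exact dc c hc
    rw [mul_smul, e1, smul_sub, smul_sub, e3, Pe, Pf, hx]; abel
  have hm : P * Q⁻¹ ∈ rt up := by
    refine h.memK h2 hf hno (fun z => ?_) dc fun z => ⟨κ z, 0, C.zero_mem, by rw [df, add_zero]⟩
    rw [mul_smul, Qie, Pe]
  obtain ⟨t, ht⟩ := (h.mem_rt h2 hf).1 hm
  have key : ∀ s, κ s = t * s ∧ d (t * s ^ 2) = 0 := by
    intro s
    have e1 := df s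
    rw [← ht, h.up_f] at e1
    have e2 : e (κ s) + f 0 + 0 = e (t * s) + f 0 + d (t * s ^ 2) := by
      rw [map_zero, add_zero, add_zero, add_zero]
      rw [add_assoc] at e1
      exact (add_left_cancel e1).symm
    obtain ⟨e3, -, e4⟩ := h.uniq C.zero_mem (h.dC _) e2
    exact ⟨e3, e4.symm⟩
  have ht0 : t = 0 := by
    by_contra ht0
    obtain ⟨x, hx⟩ := hd
    obtain ⟨s, hs⟩ := h.sqrt h2 (t⁻¹ * x)
    apply hx
    have := (key s).2
    rwa [hs, mul_inv_cancel_left₀ ht0] at this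
  intro s
  rw [(key s).1, ht0, zero_mul]

include hd in
/-- `σρ = 0` -/
theorem BkD.tau {g : X} {σ : V →+ F} {ρ : F →+ V} {γ : F → F} (D : Dat e f C g σ ρ γ) (s : F) : σ (ρ s) = 0 := by
  refine h.lin h2 hf hno hd (P := g * g) (Q := 1) (κ := fun s => σ (ρ s)) (fun z => ?_) (fun z => one_smul _ _)
    (fun c hc => ?_) (fun c hc => ⟨0, by rw [one_smul, map_zero, add_zero]⟩)
    (fun s => ⟨0, 0, C.zero_mem, by rw [one_smul, map_zero, add_zero, add_zero]⟩) (fun s => ?_) s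
  · rw [mul_smul, D.ee, D.ee]
  · rw [mul_smul, D.cc c hc, smul_add, D.cc c hc, D.ee, one_smul, add_assoc, h2, add_zero]
  · rw [mul_smul, D.ff, smul_add, smul_add, D.ff, D.cc _ (D.rc s), D.ee, one_smul]
    have e1 : f s + ρ s + e (γ s) + (ρ s + e (σ (ρ s))) + e (γ s)
        = f s + e (σ (ρ s)) + ((ρ s + ρ s) + (e (γ s) + e (γ s))) := by abel
    rw [e1, h2, h2, add_zero, add_zero]

include hd in
/-- `γ` is linear -/
theorem BkD.gam_lin {g : X} {σ : V →+ F} {ρ : F →+ V} {γ : F →+ F} (D : Dat e f C g σ ρ γ) (s : F) :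
    γ s = γ 1 * s := by
  have hF := h.two h2
  have key : ∀ c s, γ (c * s) = c * γ s := by
    intro c s
    by_cases hc0 : c = 0
    · subst hc0; simp
    by_cases hc1 : c + 1 = 0
    · have e1 : c = 1 := by
        have := add_eq_zero_iff_eq_neg.1 hc1
        rw [this, neg_eq_iff_add_eq_zero]
        exact hF 1
      subst e1
      rw [one_mul, one_mul]
    have D1 := h.conj_h h2 D hc0
    have D2 := h.conj_h h2 D hc1
    have e0 := h.lin h2 hf hno hd (P := hh up lo c * g * (hh up lo c)⁻¹ * g)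
      (Q := hh up lo (c + 1) * g * (hh up lo (c + 1))⁻¹)
      (κ := fun s => c * γ (c * s) + γ s + (c + 1) * γ ((c + 1) * s)) (fun z => by rw [mul_smul, D.ee, D1.ee])
      (fun z => D2.ee z) (fun v hv => by
        rw [mul_smul, D.cc v hv, smul_add, D1.cc v hv, D1.ee, D2.cc v hv]
        show v + e (c * σ v) + e (σ v) = v + e ((c + 1) * σ v)
        rw [add_mul, one_mul, map_add]; abel)
      (fun v hv => ⟨_, D2.cc v hv⟩) (fun s => ⟨_, _, D2.rc s, D2.ff s⟩) (fun s => by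
        rw [mul_smul, D.ff, smul_add, smul_add, D1.ff, D1.cc _ (D.rc s), D1.ee, D2.ff]
        show f s + ρ (c * s) + e (c * γ (c * s)) + (ρ s + e (c * σ (ρ s))) + e (γ s)
          = f s + ρ ((c + 1) * s) + e ((c + 1) * γ ((c + 1) * s))
            + e (c * γ (c * s) + γ s + (c + 1) * γ ((c + 1) * s))
        have e1 : ρ ((c + 1) * s) = ρ (c * s) + ρ s := by rw [add_mul, one_mul, map_add]
        rw [e1, h.tau h2 hf hno hd D s, mul_zero]
        simp only [map_add, map_zero]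
        have e2 : f s + (ρ (c * s) + ρ s) + e ((c + 1) * γ ((c + 1) * s))
            + (e (c * γ (c * s)) + e (γ s) + e ((c + 1) * γ ((c + 1) * s)))
            = (e ((c + 1) * γ ((c + 1) * s)) + e ((c + 1) * γ ((c + 1) * s)))
              + (f s + ρ (c * s) + ρ s + e (c * γ (c * s)) + e (γ s)) := by abel
        rw [e2, h2, zero_add]
        abel) s
    have e5 : γ ((c + 1) * s) = γ (c * s) + γ s := by rw [add_mul, one_mul, map_add]
    have e0' : c * γ (c * s) + γ s + (c + 1) * γ ((c + 1) * s) = 0 := e0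
    rw [e5] at e0'
    have e3 : γ (c * s) = (c * γ (c * s) + γ s + (c + 1) * (γ (c * s) + γ s)) + c * γ s
        - ((c * γ (c * s) + c * γ (c * s)) + (γ s + γ s) + (c * γ s + c * γ s)) := by ring
    rw [e3, e0', hF (c * γ (c * s)), hF (γ s), hF (c * γ s)]; ring
  have := key s 1
  rw [mul_one] at this
  rw [this, mul_comm]

include hd in
/-- the main case -/
theorem BkD.false_of (h4 : 2 < Nat.card F) {g : X} {σ : V →+ F} {ρ : F →+ V}
    (D : Dat e f C g σ ρ (fun _ => 0)) (hsd : ∀ z, σ (d z) = 0) {c1 : V} (hc1 : c1 ∈ C) (hs : σ c1 ≠ 0) : False := by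
  have hF := h.two h2
  have hsr := h.tau h2 hf hno hd D
  obtain ⟨px, py, pc, hv, hpc, hu⟩ := h.proj
  set T : AddSubgroup V := e.range ⊔ ρ.range ⊔ d.range with hT
  set R : AddSubgroup V := C ⊓ σ.ker with hR
  have hTe : ∀ z, e z ∈ T := fun z => (le_sup_left.trans le_sup_left : e.range ≤ T) ⟨z, rfl⟩
  have hTr : ∀ z, ρ z ∈ T := fun z => (le_sup_right.trans le_sup_left : ρ.range ≤ T) ⟨z, rfl⟩
  have hTd : ∀ z, d z ∈ T := fun z => (le_sup_right : d.range ≤ T) ⟨z, rfl⟩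
  have hTfix : ∀ x : X, (∀ z, x • e z = e z) → (∀ z, x • ρ z = ρ z) → (∀ z, x • d z = d z) → ∀ v ∈ T, x • v = v := by
    intro x x1 x2 x3 v hv
    obtain ⟨v1, hv1, _, ⟨z3, rfl⟩, rfl⟩ := AddSubgroup.mem_sup.1 hv
    obtain ⟨_, ⟨z1, rfl⟩, _, ⟨z2, rfl⟩, rfl⟩ := AddSubgroup.mem_sup.1 hv1
    rw [smul_add, smul_add, x1, x2, x3]
  -- membership in `W`
  have hW : ∀ x : X, (∀ z, x • e z = e z) → (∀ z, x • f z - f z ∈ T) → (∀ c ∈ C, x • c - c ∈ T) →
      (∀ c ∈ C, σ c = 0 → x • c = c) → x ∈ (Wg T R : Subgroup X) := by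
    intro x x1 x2 x3 x4
    refine ⟨hTfix x x1 (fun z => x4 _ (D.rc z) (hsr z)) fun z => x4 _ (h.dC z) (hsd z), fun v => ?_, fun v hv =>
      x4 v hv.1 hv.2⟩
    obtain ⟨a, b, c, hc, rfl⟩ := h.dec v
    have e1 : x • (e a + f b + c) - (e a + f b + c) = (x • f b - f b) + (x • c - c) := by
      rw [smul_add, smul_add, x1]; abel
    rw [e1]
    exact T.add_mem (x2 b) (x3 c hc)
  obtain ⟨hcom, hsq⟩ := elab_of h2 hf T (Wg T R : Subgroup X) (fun x hx v hv => hx.1 v hv) fun x hx v => hx.2.1 v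
  let π : V →+ F × (C.map σ) := py.prod ((σ.comp pc).codRestrict _ fun v => ⟨pc v, hpc v, rfl⟩)
  have hup : Nat.card (Wg T R : Subgroup X) ≤ Nat.card (F × (C.map σ)) := by
    refine card_le_of hno π _ hcom hsq ?_
    intro x hx v hv0
    have hv1 : py v = 0 := congrArg Prod.fst hv0
    have hv2 : σ (pc v) = 0 := congrArg Subtype.val (congrArg Prod.snd hv0)
    conv_lhs => rw [hv v]
    rw [hv1, map_zero, add_zero, smul_add, hx.1 _ (hTe _), hx.2.2 _ ⟨hpc v, hv2⟩]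
    conv_rhs => rw [hv v]
    rw [hv1, map_zero, add_zero]
  have hex : ∀ p : F × F, ∃ x : X, (∀ z, x • e z = e z) ∧
      (∀ s, x • f s = f s + ρ (p.1 * s) + e (p.2 * s) + d (p.2 * s ^ 2)) ∧
      ∀ c ∈ C, x • c = c + e (p.1 * σ c) := by
    rintro ⟨a, t⟩
    obtain ⟨x, Dx⟩ := h.dat_mul h2 D a
    refine ⟨up t * x, fun z => ?_, fun s => ?_, fun c hc => ?_⟩
    · rw [mul_smul, Dx.ee, h.up_e]
    · rw [mul_smul, Dx.ff, map_zero, add_zero, smul_add, h.up_f, h.up_c _ _ (Dx.rc s)]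
      show f s + e (t * s) + d (t * s ^ 2) + ρ (a * s) = f s + ρ (a * s) + e (t * s) + d (t * s ^ 2)
      abel
    · rw [mul_smul, Dx.cc c hc, smul_add, h.up_c _ c hc, h.up_e]
      rfl
  choose m hm1 hm2 hm3 using hex
  have hmW : ∀ p, m p ∈ (Wg T R : Subgroup X) := by
    intro p
    refine hW _ (hm1 p) (fun z => ?_) (fun c hc => ?_) fun c hc hsc => ?_
    · rw [hm2]
      have e1 : f z + ρ (p.1 * z) + e (p.2 * z) + d (p.2 * z ^ 2) - f z
          = ρ (p.1 * z) + e (p.2 * z) + d (p.2 * z ^ 2) := by abel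
      rw [e1]
      exact T.add_mem (T.add_mem (hTr _) (hTe _)) (hTd _)
    · rw [hm3 p c hc, add_sub_cancel_left]
      exact hTe _
    · rw [hm3 p c hc, hsc, mul_zero, map_zero, add_zero]
  have hinj : Function.Injective (fun p : F × F => (⟨m p, hmW p⟩ : (Wg T R : Subgroup X))) := by
    intro p p' hpp
    have e1 : m p = m p' := congrArg Subtype.val hpp
    have e2 := hm3 p c1 hc1
    rw [e1, hm3 p' c1 hc1] at e2
    have e3 : e (p'.1 * σ c1) + f 0 + c1 = e (p.1 * σ c1) + f 0 + c1 := by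
      rw [map_zero, add_zero, add_zero, add_comm _ c1, add_comm _ c1, e2]
    obtain ⟨e5, -, -⟩ := h.uniq hc1 hc1 e3
    have e6 : p.1 = p'.1 := mul_right_cancel₀ hs e5.symm
    have e7 := hm2 p 1
    rw [e1, hm2 p' 1, e6, mul_one, mul_one, mul_one, one_pow, mul_one, mul_one, add_assoc, add_assoc (f 1 + ρ p'.1)]
      at e7
    have e8 : e p'.2 + f 0 + d p'.2 = e p.2 + f 0 + d p.2 := by
      rw [map_zero, add_zero, add_zero]
      exact add_left_cancel e7
    obtain ⟨e9, -, -⟩ := h.uniq (h.dC _) (h.dC _) e8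
    exact Prod.ext e6 e9.symm
  have hlow : Nat.card (F × F) ≤ Nat.card (Wg T R : Subgroup X) := Nat.card_le_card_of_injective _ hinj
  have hq : 0 < Nat.card F := Nat.card_pos
  have htop : Nat.card F ≤ Nat.card (C.map σ) := by
    have := hlow.trans hup
    rw [Nat.card_prod, Nat.card_prod] at this
    exact Nat.le_of_mul_le_mul_left this hq
  have hsur : ∀ z : F, ∃ c ∈ C, σ c = z := by
    have h5 : C.map σ = ⊤ := AddSubgroup.eq_top_of_le_card _ htop
    intro z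
    have : z ∈ C.map σ := by rw [h5]; trivial
    exact this
  have hbij : Function.Bijective (fun p : F × F => (⟨m p, hmW p⟩ : (Wg T R : Subgroup X))) := by
    refine hinj.bijective_of_nat_card_le (hup.trans ?_)
    rw [Nat.card_prod, Nat.card_prod]
    exact Nat.mul_le_mul_left _ (Nat.card_le_card_of_injective _ Subtype.val_injective)
  -- the elements `y_k`
  have w1 : ∀ z, (wt up lo 1)⁻¹ • e z = f z := fun z => by
    rw [inv_smul_eq_iff, h.wt_f h2 one_ne_zero, one_mul]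
  have w2 : ∀ z, (wt up lo 1)⁻¹ • f z = e z := fun z => by
    rw [inv_smul_eq_iff, h.wt_e h2 one_ne_zero, inv_one, one_mul]
  have w3 : ∀ c ∈ C, (wt up lo 1)⁻¹ • c = c := fun c hc => by rw [inv_smul_eq_iff, h.wt_c _ hc]
  have gr : ∀ z, g • ρ z = ρ z := fun z => by rw [D.cc _ (D.rc z), hsr, map_zero, add_zero]
  have gd : ∀ z, g • d z = d z := fun z => by rw [D.cc _ (h.dC z), hsd, map_zero, add_zero]
  have gf : ∀ s, g • f s = f s + ρ s := fun s => by rw [D.ff, map_zero, add_zero]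
  have main : ∀ k : F, ∀ c ∈ C, ρ (k * σ c) + d (k * σ c ^ 2) = 0 := by
    intro k
    obtain ⟨x2, Dx⟩ := h.dat_mul h2 D k
    set Y : X := g * (wt up lo 1 * x2 * (wt up lo 1)⁻¹) with hY
    have Ye : ∀ z, Y • e z = e z + ρ (k * z) := by
      intro z
      have e1 : x2 • f z = f z + ρ (k * z) := by
        rw [Dx.ff, map_zero, add_zero]; rfl
      rw [hY, mul_smul, mul_smul, mul_smul, w1, e1, smul_add, h.wt_f h2 one_ne_zero, one_mul, h.wt_c _ (D.rc _),
        smul_add, D.ee, gr]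
    have Yf : ∀ z, Y • f z = f z + ρ z := by
      intro z
      rw [hY, mul_smul, mul_smul, mul_smul, w2, Dx.ee, h.wt_e h2 one_ne_zero, inv_one, one_mul, gf]
    have Yc : ∀ c ∈ C, Y • c = c + e (σ c) + f (k * σ c) + ρ (k * σ c) := by
      intro c hc
      have e1 : x2 • c = c + e (k * σ c) := by rw [Dx.cc c hc]; rfl
      rw [hY, mul_smul, mul_smul, mul_smul, w3 c hc, e1, smul_add, h.wt_c _ hc, h.wt_e h2 one_ne_zero, inv_one,
        one_mul, smul_add, D.cc c hc, gf]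
      abel
    set Z : X := lo k * g * lo k with hZ
    have Ze : ∀ z, Z • e z = e z + ρ (k * z) := by
      intro z
      rw [hZ, mul_smul, mul_smul, h.lo_e]
      simp only [smul_add, D.ee, gf, gd, h.lo_e, h.lo_f, h.lo_c _ _ (D.rc _), h.lo_c _ _ (h.dC _)]
      have e1 : e z + f (k * z) + d (k * z ^ 2) + (f (k * z) + ρ (k * z)) + d (k * z ^ 2)
          = e z + ρ (k * z) + ((f (k * z) + f (k * z)) + (d (k * z ^ 2) + d (k * z ^ 2))) := by abel
      rw [e1, h2, h2, add_zero, add_zero]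
    have Zf : ∀ z, Z • f z = f z + ρ z := by
      intro z
      rw [hZ, mul_smul, mul_smul, h.lo_f, gf, smul_add, h.lo_f, h.lo_c _ _ (D.rc _)]
    have Zc : ∀ c ∈ C, Z • c = c + e (σ c) + f (k * σ c) + d (k * σ c ^ 2) := by
      intro c hc
      rw [hZ, mul_smul, mul_smul, h.lo_c _ c hc, D.cc c hc, smul_add, h.lo_c _ c hc, h.lo_e]
      abel
    set y : X := Y * Z⁻¹ with hy
    have yZ : ∀ v : V, y • (Z • v) = Y • v := fun v => by rw [hy, mul_smul, inv_smul_smul]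
    have yr : ∀ z, y • ρ z = ρ z := by
      intro z
      have e1 := yZ (ρ z)
      rw [Zc _ (D.rc z), Yc _ (D.rc z), hsr] at e1
      simpa using e1
    have yd : ∀ z, y • d z = d z := by
      intro z
      have e1 := yZ (d z)
      rw [Zc _ (h.dC z), Yc _ (h.dC z), hsd] at e1
      simpa using e1
    have ye : ∀ z, y • e z = e z := by
      intro z
      have e1 := yZ (e z)
      rw [Ze, Ye, smul_add, yr] at e1
      exact add_right_cancel e1
    have yf : ∀ z, y • f z = f z := by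
      intro z
      have e1 := yZ (f z)
      rw [Zf, Yf, smul_add, yr] at e1
      exact add_right_cancel e1
    have yc : ∀ c ∈ C, y • c = c + (ρ (k * σ c) + d (k * σ c ^ 2)) := by
      intro c hc
      have e1 := yZ c
      rw [Zc c hc, Yc c hc, smul_add, smul_add, smul_add, ye, yf, yd] at e1
      have e2 : y • c + (e (σ c) + f (k * σ c) + d (k * σ c ^ 2))
          = (c + (ρ (k * σ c) + d (k * σ c ^ 2))) + (e (σ c) + f (k * σ c) + d (k * σ c ^ 2)) := by
        have e3 : y • c + (e (σ c) + f (k * σ c) + d (k * σ c ^ 2))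
            = y • c + e (σ c) + f (k * σ c) + d (k * σ c ^ 2) := by abel
        rw [e3, e1]
        have e4 : c + (ρ (k * σ c) + d (k * σ c ^ 2)) + (e (σ c) + f (k * σ c) + d (k * σ c ^ 2))
            = c + e (σ c) + f (k * σ c) + ρ (k * σ c) + (d (k * σ c ^ 2) + d (k * σ c ^ 2)) := by abel
        rw [e4, h2, add_zero]
      exact add_right_cancel e2
    have hyW : y ∈ (Wg T R : Subgroup X) := by
      refine hW _ ye (fun z => ?_) (fun c hc => ?_) fun c hc hsc => ?_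
      · rw [yf, sub_self]; exact T.zero_mem
      · rw [yc c hc, add_sub_cancel_left]
        exact T.add_mem (hTr _) (hTd _)
      · rw [yc c hc, hsc]
        simp
    obtain ⟨p, hp⟩ := hbij.2 ⟨y, hyW⟩
    have e1 : m p = y := congrArg Subtype.val hp
    intro c hc
    have e2 := hm3 p c hc
    rw [e1, yc c hc] at e2
    have e3 : e 0 + f 0 + (ρ (k * σ c) + d (k * σ c ^ 2)) = e (p.1 * σ c) + f 0 + 0 := by
      rw [map_zero, map_zero, add_zero, add_zero, add_zero, zero_add]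
      exact add_left_cancel e2
    exact (h.uniq (C.add_mem (D.rc _) (h.dC _)) C.zero_mem e3).2.2
  have main' : ∀ s z : F, s ≠ 0 → ρ z + d (z * s) = 0 := by
    intro s z hs0
    obtain ⟨c, hc, hcs⟩ := hsur s
    have := main (z * s⁻¹) c hc
    rw [hcs, inv_mul_cancel_right₀ hs0] at this
    have e1 : z * s⁻¹ * s ^ 2 = z * s := by field_simp
    rwa [e1] at this
  obtain ⟨c0, hc0, hc1'⟩ : ∃ c0 : F, c0 ≠ 0 ∧ c0 ≠ 1 := by
    by_contra hcon
    push Not at hcon
    have h3 : Nat.card F ≤ 2 := by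
      have : (Set.univ : Set F) ⊆ {0, 1} := fun x _ => by
        by_cases hx : x = 0
        · exact Or.inl hx
        · exact Or.inr (hcon x hx)
      calc Nat.card F = Set.ncard (Set.univ : Set F) := (Set.ncard_univ F).symm
        _ ≤ Set.ncard ({0, 1} : Set F) := Set.ncard_le_ncard this
        _ ≤ 2 := by
          have := Set.ncard_insert_le (0 : F) {1}
          rwa [Set.ncard_singleton] at this
    omega
  have hk : 1 + c0 ≠ 0 := by
    intro hk
    apply hc1'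
    have e1 : 1 + c0 = 1 + 1 := by rw [hk, hF]
    exact add_left_cancel e1
  obtain ⟨x, hx⟩ := hd
  apply hx
  have e1 := main' 1 (x * (1 + c0)⁻¹) one_ne_zero
  have e2 := main' c0 (x * (1 + c0)⁻¹) hc0
  have e3 : d (x * (1 + c0)⁻¹ * 1) + d (x * (1 + c0)⁻¹ * c0) = 0 := by
    have e4 : d (x * (1 + c0)⁻¹ * 1) + d (x * (1 + c0)⁻¹ * c0)
        = (ρ (x * (1 + c0)⁻¹) + d (x * (1 + c0)⁻¹ * 1)) + (ρ (x * (1 + c0)⁻¹) + d (x * (1 + c0)⁻¹ * c0))
          - (ρ (x * (1 + c0)⁻¹) + ρ (x * (1 + c0)⁻¹)) := by abel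
    rw [e4, e1, e2, h2 (ρ _), add_zero, sub_zero]
  rw [← map_add, ← mul_add, inv_mul_cancel_right₀ hk] at e3
  exact e3

include hd in
/-- **`Gam = A`.** -/
theorem BkD.gam (h4 : 2 < Nat.card F) {g : X} (ge : ∀ z, g • e z = e z) (gd : ∀ z, g • d z = d z)
    (gc : ∀ c ∈ C, ∃ x, g • c = c + e x) (gf : ∀ z, ∃ x, ∃ c ∈ C, g • f z = f z + c + e x) : g ∈ rt up := by
  by_contra hg
  obtain ⟨σ, ρ, γ, D⟩ := h.exists_dat ge gc gf
  have hl := h.gam_lin h2 hf hno hd D
  let ρ' : F →+ V := AddMonoidHom.mk' (fun s => ρ s + d (γ 1 * s ^ 2)) fun a b => by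
    rw [h.sq h2, mul_add, map_add, map_add]; abel
  have D' : Dat e f C (up (γ 1) * g) σ ρ' (fun _ => 0) := by
    refine ⟨fun z => ?_, fun c hc => ?_, fun s => ?_, fun s => C.add_mem (D.rc _) (h.dC _)⟩
    · rw [mul_smul, D.ee, h.up_e]
    · rw [mul_smul, D.cc c hc, smul_add, h.up_c _ c hc, h.up_e]
    · rw [mul_smul, D.ff, smul_add, smul_add, h.up_f, h.up_c _ _ (D.rc s), h.up_e, hl s, map_zero, add_zero]
      show f s + e (γ 1 * s) + d (γ 1 * s ^ 2) + ρ s + e (γ 1 * s) = f s + (ρ s + d (γ 1 * s ^ 2))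
      have e1 : f s + e (γ 1 * s) + d (γ 1 * s ^ 2) + ρ s + e (γ 1 * s)
          = f s + (ρ s + d (γ 1 * s ^ 2)) + (e (γ 1 * s) + e (γ 1 * s)) := by abel
      rw [e1, h2, add_zero]
  have hg' : up (γ 1) * g ∉ rt up := fun hm => hg ((Subgroup.mul_mem_cancel_left _ (up_mem _)).1 hm)
  by_cases hs : ∃ c1 ∈ C, σ c1 ≠ 0
  · obtain ⟨c1, hc1, hs⟩ := hs
    refine h.false_of h2 hf hno hd h4 D' (fun z => ?_) hc1 hs
    have e1 := D.cc _ (h.dC z)
    rw [gd] at e1
    have e2 : e (σ (d z)) + f 0 + 0 = e 0 + f 0 + 0 := by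
      rw [map_zero, map_zero, add_zero, add_zero, add_zero, add_zero]
      exact (left_eq_add.1 e1)
    exact (h.uniq C.zero_mem C.zero_mem e2).1
  · push Not at hs
    refine hg' (h.memK h2 hf hno D'.ee (fun c hc => ?_) fun z => ?_)
    · rw [D'.cc c hc, hs c hc, map_zero, add_zero]
    · refine ⟨0, ρ' z, D'.rc z, ?_⟩
      rw [D'.ff, map_zero, add_zero, zero_add]

end lin

end gam

end Cfsg.Agent.Omega.NOThreeL.RRed.Blk.GamD

end

section


/-!
# NO-3L, box R: THEOREM TYPES for nonsplit blocks (helper855, #26560), abstract part (T3n)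

As `Dt`, `Bd` (`TypesAbs.lean`), for a nonsplit block `M_b = L + L⁻ + Δ`, `Δ ≤ C`: `M = N ⊕ C` as a `τ`-module,
`N = L ⊕ L⁻` (not `D`-invariant), `[M, D] ≥ L`, `C_M(D) = L + C`.

* `DtN`, `BdN`;
* `DtN.keep` : `B` normalises `C`;
* `DtN.kill` : if `[M, B] ≤ C`, then `B` centralises `N`.
-/

set_option autoImplicit false
set_option linter.unusedSectionVars false

namespace Cfsg.Agent.Omega.NOThreeL.RRed.Blk.TypesN

open Subgroup
open scoped Pointwise
open Cfsg.Agent.Omega.NOThreeL.RRed.NS (fxd brk mem_fxd)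
open Cfsg.Agent.Omega.NOThreeL.RRed.Blk.Types

universe u v

variable {H : Type u} {M : Type v} [Group H] [AddCommGroup M] [DistribMulAction H M]

/-- The data of (T3n): the exact group `D` of `P`, `M = N ⊕ C`, the line `L ≤ N`, the torus element `τ`. -/
structure DtN (X D : Subgroup H) (L N C : AddSubgroup M) (τ : H) : Prop where
  DX : D ≤ X
  el : El D
  ex : Nat.card M ≤ Nat.card D * Nat.card (fxd D : AddSubgroup M)
  qd : brk M D ≤ fxd D
  fD : (fxd D : AddSubgroup M) ≤ L ⊔ C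
  LD : L ≤ brk M D
  CD : C ≤ fxd D
  LN : L ≤ N
  τX : τ ∈ X
  τD : MulAut.conj τ • D = D
  τC : ∀ c ∈ C, τ • c = c
  τL : ∀ r ∈ L, τ • r ∈ L
  τN : ∀ n ∈ N, τ • n ∈ N
  fp : ∀ n ∈ N, τ • n = n → n = 0

/-- The data of (T3n): the exact group `B` of a conjugate of `P'`. -/
structure BdN (X D B : Subgroup H) (L : AddSubgroup M) : Prop where
  BX : B ≤ X
  el : El B
  ex : Nat.card M ≤ Nat.card B * Nat.card (fxd B : AddSubgroup M)
  qd : brk M B ≤ fxd B
  cm : ∀ d ∈ D, ∀ b ∈ B, d * b = b * d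
  BD : brk M B ≤ fxd D
  DB : brk M D ≤ fxd B
  tr : ∀ y ∈ brk M B, y ∈ L → y = 0
  ab : ∀ a ∈ D, (∀ m : M, a • m - m ∈ brk M B) → a = 1

namespace DtN

variable {X D : Subgroup H} {L N C : AddSubgroup M} {τ : H} (S : Sit M X) (T : DtN X D L N C τ)
include T

theorem τR {r : M} (hr : r ∈ brk M D) : τ • r ∈ brk M D := by
  have h : τ • r ∈ brk M (MulAut.conj τ • D) := by
    have h1 : brk M D ≤ (brk M (MulAut.conj τ • D)).comap (DistribSMul.toAddMonoidHom M τ) := by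
      apply brk_le
      intro a ha v
      rw [AddSubgroup.mem_comap, DistribSMul.toAddMonoidHom_apply, smul_sub]
      have h2 : τ * a * τ⁻¹ ∈ MulAut.conj τ • D := by rw [mem_cj]; convert ha using 1; group
      have h3 := sub_mem_brk (M := M) h2 (τ • v)
      have e : (τ * a * τ⁻¹) • τ • v = τ • a • v := by rw [← mul_smul, ← mul_smul]; congr 1; group
      rw [e] at h3
      exact h3
    exact h1 hr
  rwa [T.τD] at h

theorem τR' {r : M} (hr : r ∈ brk M D) : τ⁻¹ • r ∈ brk M D := by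
  rw [← T.τD] at hr
  exact brk_cj hr

theorem τF {m : M} (hm : m ∈ (fxd D : AddSubgroup M)) : τ • m ∈ (fxd D : AddSubgroup M) := by
  rw [← T.τD, fxd_cj, inv_smul_smul]; exact hm

theorem τC' {c : M} (hc : c ∈ C) : τ⁻¹ • c = c := by rw [inv_smul_eq_iff, T.τC c hc]

theorem key {B : Subgroup H} (hB : BdN X D B L) {x : M} (hx : x ∈ (fxd D : AddSubgroup M)) (hxB : x ∈ (fxd B : AddSubgroup M)) :
    τ • x ∈ (fxd B : AddSubgroup M) ∧ τ⁻¹ • x ∈ (fxd B : AddSubgroup M) := by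
  obtain ⟨r, hrL, c, hc, rfl⟩ := AddSubgroup.mem_sup.1 (T.fD hx)
  have hr := T.LD hrL
  have h1 : τ • (r + c) = (r + c) + (τ • r - r) := by rw [smul_add, T.τC c hc]; abel
  have h2 : τ⁻¹ • (r + c) = (r + c) + (τ⁻¹ • r - r) := by rw [smul_add, T.τC' hc]; abel
  rw [h1, h2]
  exact ⟨add_mem hxB (sub_mem (hB.DB (T.τR hr)) (hB.DB hr)),
    add_mem hxB (sub_mem (hB.DB (T.τR' hr)) (hB.DB hr))⟩

theorem brk_cjB {B : Subgroup H} (hB : BdN X D B L) {y : M} (hy : y ∈ brk M (MulAut.conj τ • B)) :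
    y ∈ (fxd B : AddSubgroup M) ∧ y ∈ (fxd D : AddSubgroup M) := by
  have h1 := brk_cj hy
  have e : y = τ • τ⁻¹ • y := (smul_inv_smul _ _).symm
  rw [e]
  exact ⟨(T.key hB (hB.BD h1) (hB.qd h1)).1, T.τF (hB.BD h1)⟩

include S

/-- `B` and `B^τ` commute. -/
theorem commB {B : Subgroup H} (hB : BdN X D B L) : ∀ b ∈ B, ∀ b' ∈ MulAut.conj τ • B, b * b' = b' * b := by
  intro b hb b' hb'
  refine S.comm_of (hB.BX hb) (S.cj_le T.τX hB.BX hb') (fun m => ?_) fun m => ?_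
  · have h1 := sub_mem_brk (M := M) hb m
    have h2 := (T.key hB (hB.BD h1) (hB.qd h1)).2
    exact mem_fxd.1 ((fxd_cj τ B).2 h2) b' hb'
  · exact mem_fxd.1 (T.brk_cjB hB (sub_mem_brk hb' m)).1 b hb

theorem commD {B : Subgroup H} (hB : BdN X D B L) : ∀ d ∈ D, ∀ b' ∈ MulAut.conj τ • B, d * b' = b' * d := by
  intro d hd b' hb'
  have h1 : τ⁻¹ * d * τ ∈ D := by
    have h2 : d ∈ MulAut.conj τ • D := by rw [T.τD]; exact hd
    exact mem_cj.1 h2
  have h3 := hB.cm _ h1 _ (mem_cj.1 hb')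
  calc d * b' = τ * (τ⁻¹ * d * τ * (τ⁻¹ * b' * τ)) * τ⁻¹ := by group
    _ = τ * (τ⁻¹ * b' * τ * (τ⁻¹ * d * τ)) * τ⁻¹ := by rw [h3]
    _ = b' * d := by group

theorem inf_eq {B : Subgroup H} (hB : BdN X D B L) : D ⊓ B = ⊥ := by
  rw [eq_bot_iff]
  intro x hx
  rw [mem_bot]
  exact hB.ab x (mem_inf.1 hx).1 fun m => sub_mem_brk (mem_inf.1 hx).2 m

/-- `B^τ ≤ D B` -/
theorem cj_le [Finite H] [Finite M] {B : Subgroup H} (hB : BdN X D B L) : MulAut.conj τ • B ≤ D ⊔ B := by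
  have h1 : El (D ⊔ B) := T.el.sup hB.el hB.cm
  have h2 : ∀ x ∈ D ⊔ B, ∀ b' ∈ MulAut.conj τ • B, x * b' = b' * x := by
    intro x hx b' hb'
    obtain ⟨d, hd, b, hb, rfl⟩ := (mem_sup_comm hB.cm).1 hx
    calc d * b * b' = d * (b * b') := by group
      _ = d * (b' * b) := by rw [commB S T hB b hb b' hb']
      _ = (d * b') * b := by group
      _ = (b' * d) * b := by rw [commD S T hB d hd b' hb']
      _ = b' * (d * b) := by group
  have h3 : (D ⊔ B) ⊔ MulAut.conj τ • B = D ⊔ B := by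
    refine S.eq_of_le (sup_le (sup_le T.DX hB.BX) (S.cj_le T.τX hB.BX)) (h1.sup (hB.el.cj τ) h2) le_sup_left
      (Sit.exact_sup hB.cm (inf_eq S T hB) T.ex hB.ex) ?_
    intro m hm
    refine mem_fxd_sup hm ?_
    have hmD : m ∈ (fxd D : AddSubgroup M) := mem_fxd.2 fun d hd => mem_fxd.1 hm d (mem_sup_left hd)
    have hmB : m ∈ (fxd B : AddSubgroup M) := mem_fxd.2 fun b hb => mem_fxd.1 hm b (mem_sup_right hb)
    exact (fxd_cj τ B).2 (T.key hB hmD hmB).2
  rw [← h3]; exact le_sup_right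

/-- **(T3), first half.** `B` normalises `C`. -/
theorem keep [Finite H] [Finite M] {B : Subgroup H} (hB : BdN X D B L) {b : H} (hb : b ∈ B) {c : M} (hc : c ∈ C) :
    b • c ∈ C := by
  have h1 : τ * b * τ⁻¹ ∈ D ⊔ B := by
    refine cj_le S T hB ?_
    rw [mem_cj]; convert hb using 1; group
  obtain ⟨d, hd, b₁, hb₁, e⟩ := (mem_sup_comm hB.cm).1 h1
  have hy := sub_mem_brk (M := M) hb c
  obtain ⟨r, hr, c₀, hc₀, ey⟩ := AddSubgroup.mem_sup.1 (T.fD (hB.BD hy))
  have h2 : τ • (b • c - c) = b₁ • c - c := by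
    have e1 : τ • (b • c) = (τ * b * τ⁻¹) • c := by
      rw [mul_smul, mul_smul, T.τC' hc]
    rw [smul_sub, T.τC c hc, e1, ← e, mul_smul]
    congr 1
    have h3 : b₁ • c ∈ (fxd D : AddSubgroup M) := by
      have e2 : b₁ • c = (b₁ • c - c) + c := by abel
      rw [e2]
      exact add_mem (hB.BD (sub_mem_brk hb₁ c)) (T.CD hc)
    exact mem_fxd.1 h3 d hd
  have h4 : τ • r - r = 0 := by
    apply hB.tr
    · have e3 : τ • r - r = (b₁ • c - c) - (b • c - c) := by
        rw [← h2, ← ey, smul_add, T.τC c₀ hc₀]; abel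
      rw [e3]
      exact sub_mem (sub_mem_brk hb₁ c) hy
    · exact sub_mem (T.τL r hr) hr
  have h5 : r = 0 := T.fp r (T.LN hr) (sub_eq_zero.1 h4)
  rw [h5, zero_add] at ey
  have e4 : b • c = (b • c - c) + c := by abel
  rw [e4, ← ey]
  exact add_mem hc₀ hc

/-- **(T3), second half.** If `[M, B] ≤ C`, then `B` centralises `N`. -/
theorem kill [Finite H] [Finite M] {B : Subgroup H} (hB : BdN X D B L) (hBC : brk M B ≤ C) {b : H} (hb : b ∈ B) {n : M}
    (hn : n ∈ N) : b • n = n := by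
  have hb' : τ * b * τ⁻¹ ∈ MulAut.conj τ • B := by rw [mem_cj]; convert hb using 1; group
  have hcb := commB S T hB b hb _ hb'
  -- `u` commutes with `D`, fixes `fxd D`
  have hfix : ∀ m ∈ (fxd D : AddSubgroup M), b • (τ * b * τ⁻¹) • m = m := by
    intro m hm
    obtain ⟨r, hrL, c, hc, rfl⟩ := AddSubgroup.mem_sup.1 (T.fD hm)
    have hr := T.LD hrL
    have e1 : (τ * b * τ⁻¹) • r = r := by
      rw [mul_smul, mul_smul, mem_fxd.1 (hB.DB (T.τR' hr)) b hb, smul_inv_smul]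
    have e2 : (τ * b * τ⁻¹) • c = b • c := by
      rw [mul_smul, mul_smul, T.τC' hc]
      exact T.τC _ (keep S T hB hb hc)
    rw [smul_add, e1, e2, smul_add, mem_fxd.1 (hB.DB hr) b hb, hB.el.smul_smul hb]
  have hzu : b * (τ * b * τ⁻¹) ∈ D := by
    have hel : El (zpowers (b * (τ * b * τ⁻¹))) := by
      have hsq : b * (τ * b * τ⁻¹) * (b * (τ * b * τ⁻¹)) = 1 := by
        calc b * (τ * b * τ⁻¹) * (b * (τ * b * τ⁻¹)) = b * ((τ * b * τ⁻¹) * b) * (τ * b * τ⁻¹) := by group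
          _ = b * (b * (τ * b * τ⁻¹)) * (τ * b * τ⁻¹) := by rw [hcb]
          _ = (b * b) * (τ * (b * b) * τ⁻¹) := by group
          _ = 1 := by rw [hB.el.sq b hb]; group
      constructor
      · rintro x ⟨k, rfl⟩
        calc (b * (τ * b * τ⁻¹)) ^ k * (b * (τ * b * τ⁻¹)) ^ k = (b * (τ * b * τ⁻¹) * (b * (τ * b * τ⁻¹))) ^ k := by
              rw [← zpow_add, ← pow_two, ← zpow_natCast, ← zpow_mul]; congr 1; push_cast; ring
          _ = 1 := by rw [hsq, one_zpow]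
      · rintro x ⟨k, rfl⟩ y ⟨l, rfl⟩
        exact ((Commute.refl _).zpow_zpow k l).eq
    have hcd : ∀ d ∈ D, ∀ x ∈ zpowers (b * (τ * b * τ⁻¹)), d * x = x * d := by
      rintro d hd x ⟨k, rfl⟩
      have h1 : Commute d (b * (τ * b * τ⁻¹)) :=
        Commute.mul_right (hB.cm d hd b hb) (commD S T hB d hd _ hb')
      exact (h1.zpow_right k).eq
    have h1 : D ⊔ zpowers (b * (τ * b * τ⁻¹)) = D := by
      refine S.eq_of_le (sup_le T.DX ?_) (T.el.sup hel hcd) le_sup_left T.ex ?_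
      · rw [zpowers_le]
        exact mul_mem (hB.BX hb) (S.cj_le T.τX hB.BX hb')
      · intro m hm
        refine mem_fxd_sup hm (mem_fxd.2 ?_)
        rintro x ⟨k, rfl⟩
        have h2 : b * (τ * b * τ⁻¹) ∈ MulAction.stabilizer H m := by
          rw [MulAction.mem_stabilizer_iff, mul_smul]; exact hfix m hm
        exact MulAction.mem_stabilizer_iff.1 (zpow_mem h2 k)
    rw [← h1]
    exact mem_sup_right (mem_zpowers _)
  have hu1 : b * (τ * b * τ⁻¹) = 1 := by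
    refine hB.ab _ hzu fun m => ?_
    have h1 := sub_mem_brk (M := M) hb (((τ * b * τ⁻¹)) • m)
    have h2 := brk_cj (sub_mem_brk (M := M) hb' m)
    have h3 : (τ * b * τ⁻¹) • m - m ∈ brk M B := by
      have e : (τ * b * τ⁻¹) • m - m = τ • τ⁻¹ • ((τ * b * τ⁻¹) • m - m) := (smul_inv_smul _ _).symm
      rw [e, T.τC _ (hBC h2)]; exact h2
    have e : (b * (τ * b * τ⁻¹)) • m - m = (b • (τ * b * τ⁻¹) • m - (τ * b * τ⁻¹) • m) + ((τ * b * τ⁻¹) • m - m) := by
      rw [mul_smul b]; abel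
    rw [e]
    exact add_mem h1 h3
  have hcomm : τ * b = b * τ := by
    have h1 : τ * b * τ⁻¹ = b := by
      have h2 : b * (τ * b * τ⁻¹) = b * b := by rw [hu1, hB.el.sq b hb]
      exact mul_left_cancel h2
    calc τ * b = (τ * b * τ⁻¹) * τ := by group
      _ = b * τ := by rw [h1]
  have hz : ∀ m ∈ N, b • (τ • m - m) = τ • m - m := by
    intro m _
    have e1 : b • τ • m - τ • m = τ • (b • m - m) := by
      rw [smul_sub, ← mul_smul, ← mul_smul, hcomm]
    rw [T.τC _ (hBC (sub_mem_brk hb m))] at e1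
    rw [smul_sub]
    have e2 : b • τ • m = τ • m + (b • m - m) := by rw [← e1]; abel
    rw [e2]; abel
  -- `τ - 1` is onto on `N`
  have hsur : Function.Surjective (fun m : N => (⟨τ • (m : M) - m, sub_mem (T.τN _ m.2) m.2⟩ : N)) := by
    refine Finite.surjective_of_injective ?_
    rintro ⟨x, hx⟩ ⟨y, hy⟩ e
    have e1 : τ • x - x = τ • y - y := congrArg Subtype.val e
    have e2 : τ • (x - y) = x - y := by
      rw [smul_sub, sub_eq_sub_iff_add_eq_add]
      rw [sub_eq_sub_iff_add_eq_add] at e1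
      rw [e1]; abel
    have e3 := T.fp _ (sub_mem hx hy) e2
    exact Subtype.ext (sub_eq_zero.1 e3)
  obtain ⟨m, hm⟩ := hsur ⟨n, hn⟩
  have hm' : τ • (m : M) - m = n := congrArg Subtype.val hm
  rw [← hm']
  exact hz _ m.2

end DtN

end Cfsg.Agent.Omega.NOThreeL.RRed.Blk.TypesN

end

private theorem dce_ef5159dde69b : _root_.True := by
  try have : _root_.True := by simp only [_root_.Cfsg.Agent.Lib.SL2Mat.up.eq_1]
  try have : _root_.True := by simp only [_root_.Cfsg.Agent.Lib.SL2Mat.mk.eq_1]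
  try have : _root_.True := by simp only [_root_.Cfsg.Agent.Lib.SL2Mat.lo.eq_1]
  exact _root_.True.intro
end

-- part: Mrg/Omega/NO3S/SLTwo/Tor
section
prune_inst 0x30000540350002000000058411001e62b6000000000800000020020006810c4004400020aa202402100888040830006813000080424000000e000000011804810000020010400000000008000080000000000000000000000000000000000004200000000
set_option linter.all false
open scoped Cfsg.Agent.FastGrp

section


/-!
# NO-3S, `q = 2`, `n = 1`, a component `SL₂(F)` ((A1) of helper881's text #13700): the nonsplit torus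

`exists_tor` : there is `r ∈ SL(2,F)` with `r ^ (q + 1) = 1`, inverted by the matrix `(0 1; 1 0)`, such that
`∑_{k ≤ q} r ^ k` kills every irreducible nontrivial `F₂ SL(2,F)`-module.
-/

set_option autoImplicit false
set_option linter.unusedSectionVars false

namespace Cfsg.Agent.Omega.NO3S.SLTwo

open Matrix Finset Cfsg.Agent.Omega.KM

section root

variable {F : Type*} [Field F] [Fintype F]

/-- elements of an extension fixed by the Frobenius of `F` -/
theorem mem_range_of_pow {K : Type*} [Field K] [Algebra F K] {x : K} (hx : x ^ Fintype.card F = x) :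
    ∃ a : F, algebraMap F K a = x := by
  classical
  have hq := Fintype.one_lt_card (α := F)
  have hne : (Polynomial.X ^ Fintype.card F - Polynomial.X : Polynomial K) ≠ 0 :=
    FiniteField.X_pow_card_sub_X_ne_zero K hq
  have hs : (univ.image fun a : F => algebraMap F K a) ⊆
      (Polynomial.X ^ Fintype.card F - Polynomial.X : Polynomial K).roots.toFinset := by
    intro y hy
    obtain ⟨a, -, rfl⟩ := mem_image.1 hy
    rw [Multiset.mem_toFinset, Polynomial.mem_roots hne, Polynomial.IsRoot.def]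
    simp only [Polynomial.eval_sub, Polynomial.eval_pow, Polynomial.eval_X]
    rw [← map_pow, FiniteField.pow_card, sub_self]
  have hc : (Polynomial.X ^ Fintype.card F - Polynomial.X : Polynomial K).roots.toFinset.card ≤
      (univ.image fun a : F => algebraMap F K a).card := by
    rw [card_image_of_injective _ (algebraMap F K).injective, card_univ]
    refine (Multiset.toFinset_card_le _).trans ((Polynomial.card_roots' _).trans ?_)
    rw [FiniteField.X_pow_card_sub_X_natDegree_eq K hq]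
  have he := eq_of_subset_of_card_le hs hc
  have : x ∈ (Polynomial.X ^ Fintype.card F - Polynomial.X : Polynomial K).roots.toFinset := by
    rw [Multiset.mem_toFinset, Polynomial.mem_roots hne, Polynomial.IsRoot.def]
    simp only [Polynomial.eval_sub, Polynomial.eval_pow, Polynomial.eval_X]
    rw [hx, sub_self]
  rw [← he, mem_image] at this
  obtain ⟨a, -, ha⟩ := this
  exact ⟨a, ha⟩

variable [CharP F 2] {m : ℕ}

/-- a primitive root of unity of order `q + 1` with trace in `F` -/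
theorem exists_zeta (hm : Fintype.card F = 2 ^ m) :
    ∃ (ζ : AlgebraicClosure F) (t : F), IsPrimitiveRoot ζ (2 ^ m + 1) ∧
      algebraMap F (AlgebraicClosure F) t = ζ + ζ⁻¹ := by
  have hm0 : m ≠ 0 := by
    rintro rfl
    have := Fintype.one_lt_card (α := F)
    rw [hm] at this
    simp at this
  have h2 : CharP (AlgebraicClosure F) 2 := charP_of_injective_algebraMap (algebraMap F _).injective 2
  have hne : NeZero ((2 ^ m + 1 : ℕ) : AlgebraicClosure F) := ⟨by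
    push_cast
    have : (2 : AlgebraicClosure F) = 0 := CharTwo.two_eq_zero
    rw [this, zero_pow hm0, zero_add]
    exact one_ne_zero⟩
  obtain ⟨ζ, hζ⟩ := HasEnoughRootsOfUnity.exists_primitiveRoot (AlgebraicClosure F) (2 ^ m + 1)
  have hζ0 : ζ ≠ 0 := hζ.ne_zero (by positivity)
  have h3 : ζ ^ 2 ^ m = ζ⁻¹ := by
    have := hζ.pow_eq_one
    rw [pow_succ] at this
    exact eq_inv_of_mul_eq_one_left this
  obtain ⟨t, ht⟩ := mem_range_of_pow (F := F) (K := AlgebraicClosure F) (x := ζ + ζ⁻¹) (by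
    rw [hm, add_pow_char_pow, inv_pow, h3, inv_inv, add_comm])
  exact ⟨ζ, t, hζ, ht⟩

end root

section seq

variable {K : Type*} [Field K] [CharP K 2] {ζ : K} {m : ℕ}

/-- a linear recurrent sequence with eigenvalues `ζ`, `ζ⁻¹` -/
theorem seq_eq (hζ : ζ ≠ 0) (hz : ζ + ζ⁻¹ ≠ 0) (u : ℕ → K) (hu : ∀ k, u (k + 2) = (ζ + ζ⁻¹) * u (k + 1) + u k) :
    ∃ b c : K, ∀ k, u k = b * ζ ^ k + c * ζ⁻¹ ^ k := by
  have h2 : (2 : K) = 0 := CharTwo.two_eq_zero
  refine ⟨(u 1 + ζ⁻¹ * u 0) / (ζ + ζ⁻¹), (u 1 + ζ * u 0) / (ζ + ζ⁻¹), ?_⟩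
  have key : ∀ k, u k = (u 1 + ζ⁻¹ * u 0) / (ζ + ζ⁻¹) * ζ ^ k + (u 1 + ζ * u 0) / (ζ + ζ⁻¹) * ζ⁻¹ ^ k ∧
      u (k + 1) = (u 1 + ζ⁻¹ * u 0) / (ζ + ζ⁻¹) * ζ ^ (k + 1) + (u 1 + ζ * u 0) / (ζ + ζ⁻¹) * ζ⁻¹ ^ (k + 1) := by
    intro k
    induction k with
    | zero =>
      constructor
      · rw [pow_zero, pow_zero, mul_one, mul_one, ← add_div, eq_div_iff hz]
        linear_combination -(u 1) * h2
      · rw [zero_add, pow_one, pow_one, div_mul_eq_mul_div, div_mul_eq_mul_div, ← add_div, eq_div_iff hz]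
        have : ζ⁻¹ * ζ = 1 := inv_mul_cancel₀ hζ
        linear_combination -(u 0) * (ζ * ζ⁻¹) * h2
    | succ k ih =>
      refine ⟨ih.2, ?_⟩
      rw [hu k, ih.1, ih.2]
      have e : ζ * ζ⁻¹ = 1 := mul_inv_cancel₀ hζ
      have e1 : ζ ^ (k + 1 + 1) = (ζ + ζ⁻¹) * ζ ^ (k + 1) + ζ ^ k := by
        rw [pow_succ ζ (k + 1), pow_succ ζ k]
        linear_combination -(ζ ^ k) * e - ζ ^ k * h2
      have e2 : ζ⁻¹ ^ (k + 1 + 1) = (ζ + ζ⁻¹) * ζ⁻¹ ^ (k + 1) + ζ⁻¹ ^ k := by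
        rw [pow_succ ζ⁻¹ (k + 1), pow_succ ζ⁻¹ k]
        linear_combination -(ζ⁻¹ ^ k) * e - ζ⁻¹ ^ k * h2
      rw [e1, e2]
      ring
  exact fun k => (key k).1

/-- the sum of the powers `μ = bits I` of such a sequence over a period -/
theorem sum_seq (hζ : IsPrimitiveRoot ζ (2 ^ m + 1)) {I : Finset ℕ} (hI : I ⊆ range m) (hne : I.Nonempty)
    (b c : K) : ∑ k ∈ range (2 ^ m + 1), (b * ζ ^ k + c * ζ⁻¹ ^ k) ^ bits I = 0 := by
  have hζ0 : ζ ≠ 0 := hζ.ne_zero (by positivity)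
  have h1 : ∀ k, (b * ζ ^ k + c * ζ⁻¹ ^ k) ^ bits I =
      ∑ J ∈ I.powerset, ((b ^ bits J * c ^ bits (I \ J)) * (ζ ^ bits J * ζ⁻¹ ^ bits (I \ J)) ^ k) := by
    intro k
    rw [pow_bits]
    have h2 : ∀ j ∈ I, (b * ζ ^ k + c * ζ⁻¹ ^ k) ^ 2 ^ j = (b * ζ ^ k) ^ 2 ^ j + (c * ζ⁻¹ ^ k) ^ 2 ^ j :=
      fun j _ => add_pow_char_pow _ _ _ _
    rw [Finset.prod_congr rfl h2, Finset.prod_add]
    refine Finset.sum_congr rfl fun J _ => ?_
    rw [← pow_bits, ← pow_bits, mul_pow, mul_pow, mul_pow, ← pow_mul, ← pow_mul, ← pow_mul, ← pow_mul,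
      mul_comm (bits J) k, mul_comm (bits (I \ J)) k]
    ring
  rw [Finset.sum_congr rfl fun k _ => h1 k, Finset.sum_comm]
  refine Finset.sum_eq_zero fun J hJ => ?_
  rw [← Finset.mul_sum]
  refine mul_eq_zero_of_right _ ?_
  have hJI := Finset.mem_powerset.1 hJ
  set η := ζ ^ bits J * ζ⁻¹ ^ bits (I \ J) with hη
  have hη1 : η ^ (2 ^ m + 1) = 1 := by
    rw [hη, mul_pow, ← pow_mul, ← pow_mul, mul_comm (bits J), mul_comm (bits (I \ J)), pow_mul, pow_mul,
      inv_pow, hζ.pow_eq_one, inv_one, one_pow, one_pow, mul_one]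
  have hlt1 := bits_lt (hJI.trans hI)
  have hlt2 := bits_lt ((Finset.sdiff_subset (s := I) (t := J)).trans hI)
  have hne' : bits J ≠ bits (I \ J) := by
    intro e
    have e' := bits_injective e
    obtain ⟨i, hi⟩ := hne
    by_cases hiJ : i ∈ J
    · have := hiJ
      rw [e', Finset.mem_sdiff] at this
      exact this.2 hiJ
    · exact hiJ (by rw [e']; exact Finset.mem_sdiff.2 ⟨hi, hiJ⟩)
  have hη2 : η ≠ 1 := by
    intro e
    rw [hη, inv_pow, mul_inv_eq_one₀ (pow_ne_zero _ hζ0)] at e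
    exact hne' (hζ.pow_inj (by omega) (by omega) e)
  have h3 := geom_sum_mul η (2 ^ m + 1)
  rw [hη1, sub_self] at h3
  exact (mul_eq_zero.1 h3).resolve_right (sub_ne_zero.2 hη2)

end seq

section tor

variable {F : Type*} [Field F] [Fintype F] [CharP F 2] {m : ℕ}

/-- the companion matrix of `X² - t X + 1` -/
def tor (t : F) : _root_.Matrix.SpecialLinearGroup (Fin 2) F :=
  ⟨!![0, 1; 1, t], by rw [det_fin_two_of]; simpa using CharTwo.neg_eq (1 : F)⟩

theorem tor_sq (t : F) : (tor t).1 * (tor t).1 = t • (tor t).1 + 1 := by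
  ext i j
  (revert i j; simp only [tor, Matrix.mul_apply, Fin.sum_univ_two, _root_.Fin.forall_fin_succ, _root_.Matrix.of_apply, _root_.Matrix.cons_val', _root_.Matrix.cons_val_fin_one, Fin.isValue, _root_.Matrix.cons_val_zero, _root_.Matrix.cons_val_one, _root_.Matrix.smul_of, _root_.Matrix.smul_cons, _root_.smul_eq_mul, _root_.MulZeroClass.mul_zero, _root_.mul_one, _root_.Matrix.smul_empty, _root_.Matrix.add_apply, _root_.zero_add, _root_.Matrix.cons_val_succ, _root_.IsEmpty.forall_iff, _root_.Matrix.one_apply_eq, _root_.one_mul, Nat.reduceAdd, _root_.Fin.succ_zero_eq_one, _root_.ne_eq, _root_.zero_ne_one, _root_.not_false_eq_true, _root_.Matrix.one_apply_ne, _root_.add_zero, _root_.Fin.succ_ne_zero, _root_.and_true, _root_.true_and]) <;> (repeat' with_reducible apply And.intro)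
  ring

theorem ww_tor (t : F) : (ww : _root_.Matrix.SpecialLinearGroup (Fin 2) F) * tor t * ww = (tor t)⁻¹ := by
  refine eq_inv_of_mul_eq_one_left (Subtype.ext ?_)
  change (!![0, 1; 1, 0] : Matrix (Fin 2) (Fin 2) F) * !![0, 1; 1, t] * !![0, 1; 1, 0] * !![0, 1; 1, t] = 1
  ext i j
  (revert i j; simp only [Matrix.mul_apply, Fin.sum_univ_two, CharTwo.add_self_eq_zero, _root_.Fin.forall_fin_succ, _root_.Matrix.cons_mul, _root_.Nat.succ_eq_add_one, Nat.reduceAdd, _root_.Matrix.vecMul_cons, _root_.Matrix.head_cons, _root_.zero_smul, _root_.Matrix.tail_cons, _root_.one_smul, _root_.Matrix.empty_vecMul, _root_.add_zero, _root_.zero_add, _root_.Matrix.empty_mul, _root_.Equiv.symm_apply_apply, _root_.Matrix.smul_cons, _root_.smul_eq_mul, _root_.mul_one, _root_.MulZeroClass.mul_zero, _root_.Matrix.smul_empty, _root_.Matrix.add_cons, _root_.Matrix.empty_add_empty, _root_.Matrix.of_apply, _root_.Matrix.cons_val', _root_.Matrix.cons_val_fin_one,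 Fin.isValue, _root_.Matrix.cons_val_zero, _root_.Matrix.cons_val_one, _root_.Matrix.cons_val_succ, _root_.IsEmpty.forall_iff, _root_.and_true, _root_.Matrix.one_apply_eq, _root_.one_mul, _root_.Fin.succ_zero_eq_one, _root_.ne_eq, _root_.zero_ne_one, _root_.not_false_eq_true, _root_.Matrix.one_apply_ne, _root_.and_self, _root_.Fin.succ_ne_zero, _root_.MulZeroClass.zero_mul, _root_.true_and])

/-- the nonsplit torus kills the forms -/
theorem exists_tor (hm : Fintype.card F = 2 ^ m) : ∃ t : F, tor t ^ (2 ^ m + 1) = 1 ∧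
    ∀ I ⊆ range m, I.Nonempty → ∀ a : F × F,
      ∑ k ∈ range (2 ^ m + 1), act (tor t ^ k) (linp (bits I) a) = 0 := by
  obtain ⟨ζ, t, hζ, ht⟩ := exists_zeta hm
  have hm0 : m ≠ 0 := by
    rintro rfl
    have := Fintype.one_lt_card (α := F)
    rw [hm] at this
    simp at this
  have hζ0 : ζ ≠ 0 := hζ.ne_zero (by positivity)
  have hchar : CharP (AlgebraicClosure F) 2 := charP_of_injective_algebraMap (algebraMap F _).injective 2
  have hz : ζ + ζ⁻¹ ≠ 0 := by
    intro e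
    have e1 : ζ = ζ⁻¹ := CharTwo.add_eq_zero.1 e
    have e2 : ζ ^ 2 = 1 := by
      rw [pow_two]
      nth_rewrite 2 [e1]
      exact mul_inv_cancel₀ hζ0
    have h3 := hζ.dvd_of_pow_eq_one 2 e2
    have h4 := Nat.le_of_dvd (by norm_num) h3
    have h5 : 2 ^ 1 ≤ 2 ^ m := Nat.pow_le_pow_right (by norm_num) (Nat.one_le_iff_ne_zero.2 hm0)
    omega
  -- linear forms along the powers
  have key : ∀ (a : F × F) (v : Fin 2 → F), ∃ b c : AlgebraicClosure F, ∀ k : ℕ,
      algebraMap F (AlgebraicClosure F) (a.1 * (v ᵥ* (tor t ^ k).1) 0 + a.2 * (v ᵥ* (tor t ^ k).1) 1) =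
        b * ζ ^ k + c * ζ⁻¹ ^ k := by
    intro a v
    refine seq_eq hζ0 hz (fun k => algebraMap F (AlgebraicClosure F)
      (a.1 * (v ᵥ* (tor t ^ k).1) 0 + a.2 * (v ᵥ* (tor t ^ k).1) 1)) fun k => ?_
    have h1 : (tor t ^ (k + 2)).1 = t • (tor t ^ (k + 1)).1 + (tor t ^ k).1 := by
      rw [pow_succ (tor t) (k + 1), pow_succ (tor t) k]
      change (tor t ^ k).1 * (tor t).1 * (tor t).1 = t • ((tor t ^ k).1 * (tor t).1) + (tor t ^ k).1
      rw [Matrix.mul_assoc, tor_sq, Matrix.mul_add, Matrix.mul_one, Matrix.mul_smul]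
    have h2 : v ᵥ* (tor t ^ (k + 2)).1 = t • (v ᵥ* (tor t ^ (k + 1)).1) + v ᵥ* (tor t ^ k).1 := by
      rw [h1, Matrix.vecMul_add, Matrix.vecMul_smul]
    change algebraMap F _ (a.1 * (v ᵥ* (tor t ^ (k + 2)).1) 0 + a.2 * (v ᵥ* (tor t ^ (k + 2)).1) 1) =
      (ζ + ζ⁻¹) * algebraMap F _ (a.1 * (v ᵥ* (tor t ^ (k + 1)).1) 0 + a.2 * (v ᵥ* (tor t ^ (k + 1)).1) 1) +
      algebraMap F _ (a.1 * (v ᵥ* (tor t ^ k).1) 0 + a.2 * (v ᵥ* (tor t ^ k).1) 1)
    rw [h2, ← ht, ← map_mul, ← map_add]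
    congr 1
    simp only [Pi.add_apply, Pi.smul_apply, smul_eq_mul]
    ring
  refine ⟨t, ?_, fun I hI hne a => ?_⟩
  · -- the order
    have h1 : ∀ (a : F × F) (v : Fin 2 → F),
        a.1 * (v ᵥ* (tor t ^ (2 ^ m + 1)).1) 0 + a.2 * (v ᵥ* (tor t ^ (2 ^ m + 1)).1) 1 = a.1 * v 0 + a.2 * v 1 := by
      intro a v
      obtain ⟨b, c, hbc⟩ := key a v
      apply (algebraMap F (AlgebraicClosure F)).injective
      rw [hbc]
      have h0 := hbc 0
      rw [pow_zero, pow_zero, pow_zero, mul_one, mul_one] at h0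
      rw [inv_pow, hζ.pow_eq_one, inv_one, mul_one, mul_one, ← h0]
      simp only [_root_.Matrix.SpecialLinearGroup.coe_one, _root_.Fin.isValue, _root_.Matrix.vecMul_one, _root_.map_add, _root_.map_mul]
    apply Subtype.ext
    ext i j
    have h2 := h1 (1, 0) (Pi.single i 1)
    have h3 := h1 (0, 1) (Pi.single i 1)
    simp only [one_mul, zero_mul, add_zero, zero_add, Matrix.single_one_vecMul, Matrix.row_apply] at h2 h3
    change (tor t ^ (2 ^ m + 1)).1 i j = (1 : Matrix (Fin 2) (Fin 2) F) i j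
    fin_cases j
    · change (tor t ^ (2 ^ m + 1)).1 i 0 = (1 : Matrix (Fin 2) (Fin 2) F) i 0
      rw [h2, Matrix.one_apply, Pi.single_apply]
      exact if_congr eq_comm rfl rfl
    · change (tor t ^ (2 ^ m + 1)).1 i 1 = (1 : Matrix (Fin 2) (Fin 2) F) i 1
      rw [h3, Matrix.one_apply, Pi.single_apply]
      exact if_congr eq_comm rfl rfl
  · funext v
    obtain ⟨b, c, hbc⟩ := key a v
    apply (algebraMap F (AlgebraicClosure F)).injective
    rw [Finset.sum_apply, map_sum]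
    have h1 : ∀ k, algebraMap F (AlgebraicClosure F) (act (tor t ^ k) (linp (bits I) a) v) =
        (b * ζ ^ k + c * ζ⁻¹ ^ k) ^ bits I := by
      intro k
      rw [act_apply]
      change algebraMap F _ ((a.1 * (v ᵥ* (tor t ^ k).1) 0 + a.2 * (v ᵥ* (tor t ^ k).1) 1) ^ bits I) = _
      rw [map_pow, hbc]
    rw [Finset.sum_congr rfl fun k _ => h1 k, sum_seq hζ hI hne, Pi.zero_apply, map_zero]

end tor

section mod

variable {F : Type*} [Field F] [Fintype F] [CharP F 2] {m : ℕ}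

/-- the nonsplit torus kills every irreducible nontrivial `F₂ SL(2,F)`-module -/
theorem exists_tor_mod (hm : Fintype.card F = 2 ^ m) : ∃ t : F, tor t ^ (2 ^ m + 1) = 1 ∧
    ∀ {V : Type*} [AddCommGroup V] [Nontrivial V], (∀ v : V, v + v = 0) →
      ∀ ρ : _root_.Matrix.SpecialLinearGroup (Fin 2) F →* AddMonoid.End V,
        (∀ W : AddSubgroup V, (∀ g, ∀ w ∈ W, ρ g w ∈ W) → W = ⊥ ∨ W = ⊤) → (∃ g v, ρ g v ≠ v) →
          ∀ v, ∑ k ∈ range (2 ^ m + 1), ρ (tor t ^ k) v = 0 := by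
  obtain ⟨t, ht, hsum⟩ := exists_tor hm
  refine ⟨t, ht, ?_⟩
  intro V _ _ h2 ρ hirr hnt v
  obtain ⟨I, hI, hne, Ψ, hinj, heq, hrange⟩ := f2 hm h2 ρ hirr hnt
  apply hinj
  rw [map_sum, map_zero]
  rw [Finset.sum_congr rfl fun k _ => heq _ _]
  have hv : Ψ v ∈ AddSubgroup.closure (Set.range (linp (F := F) (bits I))) := by
    rw [← hrange]; exact ⟨v, rfl⟩
  generalize Ψ v = f at hv
  induction hv using AddSubgroup.closure_induction with
  | mem f hf =>
    obtain ⟨a, rfl⟩ := hf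
    exact hsum I hI hne a
  | zero => simp
  | add f g _ _ hf hg =>
    rw [Finset.sum_congr rfl fun k _ => map_add _ _ _, Finset.sum_add_distrib, hf, hg, add_zero]
  | neg f _ hf =>
    rw [Finset.sum_congr rfl fun k _ => map_neg _ _, Finset.sum_neg_distrib, hf, neg_zero]

end mod

end Cfsg.Agent.Omega.NO3S.SLTwo

end

section


/-!
# NO-3S, `q = 2`, `n = 1`, a component `SL₂(F)`: automorphisms of `SL(2,F)`, `F` finite of characteristic 2

`IsInn α` : `α` is inner; `exists_form` : `α x = s * σ(x) * s⁻¹`; `up_of_fix` : an automorphism trivial on the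
upper unitriangular group `U` is conjugation by an element of `U`; `up_of_inn` : an inner automorphism of order 2
which normalises `U` is conjugation by an element of `U`; `inn_mul` : two commuting non-inner involutions have an inner
product; `eq_top_of_normal` : `SL(2,F)` is simple, `|F| ≥ 4`.
-/

set_option autoImplicit false
set_option linter.unusedSectionVars false

namespace Cfsg.Agent.Omega.NO3S.SLTwo

open Matrix Subgroup Cfsg.Agent.Lib.SL2Mat Cfsg.Agent.Lib.AutSL2 Cfsg.Agent.Lib.AutSL2Out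

variable {F : Type*} [Field F]

local notation "SL2" => Matrix.SpecialLinearGroup (Fin 2) F

/-- inner automorphisms -/
def IsInn (α : MulAut SL2) : Prop := ∃ s : SL2, ∀ x, α x = s * x * s⁻¹

theorem fieldAut_one : fieldAut (1 : F ≃+* F) = 1 := map_one _

theorem isInn_one : IsInn (1 : MulAut SL2) := ⟨1, fun x => by simp⟩

theorem IsInn.mul {α β : MulAut SL2} (h : IsInn α) (h' : IsInn β) : IsInn (α * β) := by
  obtain ⟨s, hs⟩ := h
  obtain ⟨t, ht⟩ := h'
  exact ⟨s * t, fun x => by rw [MulAut.mul_apply, ht, hs]; group⟩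

theorem IsInn.inv {α : MulAut SL2} (h : IsInn α) : IsInn α⁻¹ := by
  obtain ⟨s, hs⟩ := h
  refine ⟨s⁻¹, fun x => ?_⟩
  apply α.injective
  rw [MulAut.apply_inv_self, hs]
  group

variable [CharP F 2]

theorem two_eq : (2 : F) = 0 := CharTwo.two_eq_zero

/-- `s` centralises `up b ↦ up (σ b)`: then `σ = 1` and `s ∈ U` -/
theorem of_fix {s : SL2} {σ : F ≃+* F} (h : ∀ b, s * up (σ b) * s⁻¹ = up b) : σ = 1 ∧ ∃ q, s = up q := by
  have h1 : ∀ b, s * up (σ b) = up b * s := fun b => by rw [← h b]; group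
  have h10 : ent s 1 0 = 0 := by
    have e := congrArg (fun y => ent y 0 0) (h1 1)
    simp only [ent_mul, up_00, up_01, up_10, map_one, mul_one, one_mul, mul_zero, add_zero] at e
    linear_combination -e
  have hd := det_eq s
  rw [h10, mul_zero, sub_zero] at hd
  have h2 : ∀ b, ent s 0 0 * σ b = b * ent s 1 1 := fun b => by
    have e := congrArg (fun y => ent y 0 1) (h1 b)
    simp only [ent_mul, up_00, up_01, up_11, mul_one, one_mul] at e
    linear_combination e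
  have h3 : ent s 0 0 = ent s 1 1 := by
    have := h2 1
    rwa [map_one, mul_one, one_mul] at this
  have h4 : ent s 0 0 = 1 := by
    have h5 : (ent s 0 0 - 1) * (ent s 0 0 - 1) = 0 := by
      rw [← h3] at hd
      linear_combination hd + (1 - ent s 0 0) * (two_eq (F := F))
    exact sub_eq_zero.1 (mul_self_eq_zero.1 h5)
  have h5 : ent s 1 1 = 1 := by rw [← h3, h4]
  refine ⟨?_, ent s 0 1, ?_⟩
  · ext b
    have := h2 b
    rwa [h4, h5, one_mul, mul_one] at this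
  · refine ext_ent ?_ ?_ ?_ ?_
    · rw [h4, up_00]
    · rw [up_01]
    · rw [h10, up_10]
    · rw [h5, up_11]

/-- the centre is trivial -/
theorem eq_one_of_comm {s : SL2} (h : ∀ x : SL2, s * x = x * s) : s = 1 := by
  obtain ⟨-, q, rfl⟩ := of_fix (s := s) (σ := 1) (fun b => by
    change s * up b * s⁻¹ = up b
    rw [h]; group)
  have h1 := congrArg (fun y => ent y 0 0) (h (lo 1))
  simp only [ent_mul, up_00, up_01, lo_00, lo_10, lo_01, mul_one, zero_mul, add_zero] at h1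
  have : q = 0 := by linear_combination h1
  rw [this, up_zero]

theorem eq_of_conj {s t : SL2} (h : ∀ x : SL2, s * x * s⁻¹ = t * x * t⁻¹) : s = t := by
  have h1 : t⁻¹ * s = 1 := by
    refine eq_one_of_comm fun x => ?_
    have := h x
    calc t⁻¹ * s * x = t⁻¹ * (s * x * s⁻¹) * s := by group
      _ = t⁻¹ * (t * x * t⁻¹) * s := by rw [this]
      _ = x * (t⁻¹ * s) := by group
  rw [inv_mul_eq_one] at h1
  exact h1.symm

section fin

variable [Finite F]

/-- the automorphisms of `SL(2,F)` -/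
theorem exists_form (α : MulAut SL2) : ∃ (s : SL2) (σ : F ≃+* F), ∀ x, α x = s * fieldAut σ x * s⁻¹ := by
  obtain ⟨g, σ, rfl⟩ := exists_eq α
  obtain ⟨d, hd⟩ : ∃ d : F, g.1.det = d ^ 2 := by
    have : Fintype F := Fintype.ofFinite F
    obtain ⟨d, hd⟩ := FiniteField.isSquare_of_char_two (F := F) (ringChar.eq F 2).symm.symm g.1.det
    exact ⟨d, by rw [hd, pow_two]⟩
  have hdet : g.1.det ≠ 0 := (Matrix.GeneralLinearGroup.det g).ne_zero
  obtain ⟨s, hs⟩ := conjGL_of_det_sq g d (by rintro rfl; exact hdet (by rw [hd]; simp)) hd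
  exact ⟨s, σ, fun x => by rw [MulAut.mul_apply, hs]⟩

/-- an automorphism trivial on `U` is conjugation by an element of `U` -/
theorem up_of_fix {α : MulAut SL2} (h : ∀ b, α (up b) = up b) : ∃ q, ∀ x, α x = up q * x * (up q)⁻¹ := by
  obtain ⟨s, σ, hα⟩ := exists_form α
  obtain ⟨rfl, q, rfl⟩ := of_fix (s := s) (σ := σ) (fun b => by rw [← fieldAut_up, ← hα, h])
  exact ⟨q, fun x => by rw [hα, fieldAut_one, MulAut.one_apply]⟩

/-- the field part of an inner automorphism is trivial -/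
theorem field_eq_one {α : MulAut SL2} (hα : IsInn α) {s : SL2} {σ : F ≃+* F}
    (h : ∀ x, α x = s * fieldAut σ x * s⁻¹) : σ = 1 := by
  obtain ⟨t, ht⟩ := hα
  refine (of_fix (s := t⁻¹ * s) (σ := σ) fun b => ?_).1
  rw [← fieldAut_up]
  have := h (up b)
  rw [ht] at this
  calc t⁻¹ * s * fieldAut σ (up b) * (t⁻¹ * s)⁻¹ = t⁻¹ * (s * fieldAut σ (up b) * s⁻¹) * t := by group
    _ = t⁻¹ * (t * up b * t⁻¹) * t := by rw [this]
    _ = up b := by group

/-- an inner automorphism of order 2 which normalises `U` -/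
theorem up_of_inn {α : MulAut SL2} (hα : IsInn α) (h2 : ∀ x, α (α x) = x) (hU : ∀ b, ∃ c, α (up b) = up c) :
    ∃ q, ∀ x, α x = up q * x * (up q)⁻¹ := by
  obtain ⟨s, hs⟩ := hα
  have h10 : ent s 1 0 = 0 := by
    obtain ⟨c, hc⟩ := hU 1
    rw [hs] at hc
    have h1 : s * up 1 = up c * s := by rw [← hc]; group
    have e1 := congrArg (fun y => ent y 1 1) h1
    simp only [ent_mul, up_10, up_01, up_11, mul_one, one_mul, zero_mul, zero_add] at e1
    linear_combination e1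
  have hss : s * s = 1 := by
    refine eq_one_of_comm fun x => ?_
    have := h2 x
    rw [hs, hs] at this
    calc s * s * x = s * (s * x * s⁻¹) * s⁻¹ * (s * s) := by group
      _ = x * (s * s) := by rw [this]
  have hd := det_eq s
  rw [h10, mul_zero, sub_zero] at hd
  have h00 : ent s 0 0 * ent s 0 0 = 1 := by
    have e1 := congrArg (fun y => ent y 0 0) hss
    simp only [ent_mul, h10, mul_zero, add_zero, ent_one_00] at e1
    exact e1
  have h4 : ent s 0 0 = 1 := by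
    have h5 : (ent s 0 0 - 1) * (ent s 0 0 - 1) = 0 := by
      linear_combination h00 + (1 - ent s 0 0) * (two_eq (F := F))
    exact sub_eq_zero.1 (mul_self_eq_zero.1 h5)
  rw [h4, one_mul] at hd
  refine ⟨ent s 0 1, fun x => ?_⟩
  have : s = up (ent s 0 1) := by
    refine ext_ent ?_ ?_ ?_ ?_
    · rw [h4, up_00]
    · rw [up_01]
    · rw [h10, up_10]
    · rw [hd, up_11]
  rw [hs, ← this]

theorem ringAut_involution_unique {σ τ : F ≃+* F} (hσ : σ * σ = 1) (hτ : τ * τ = 1) (hσ1 : σ ≠ 1)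
    (hτ1 : τ ≠ 1) : σ = τ := by
  classical
  have : IsCyclic (F ≃+* F) := Cfsg.Agent.LieRecognition.FieldSemilinear.isCyclic_ringAut F
  have : Finite (F ≃+* F) := Finite.of_injective (fun f : F ≃+* F => (f : F → F)) DFunLike.coe_injective
  let _ := Fintype.ofFinite (F ≃+* F)
  by_contra hne
  have h1 := IsCyclic.card_pow_eq_one_le (α := F ≃+* F) (n := 2) (by norm_num)
  have h3 : ({1, σ, τ} : Finset (F ≃+* F)) ⊆ Finset.univ.filter (fun a => a ^ 2 = 1) := by
    intro x hx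
    simp only [Finset.mem_insert, Finset.mem_singleton] at hx
    rw [Finset.mem_filter]
    refine ⟨Finset.mem_univ _, ?_⟩
    rcases hx with rfl | rfl | rfl
    · exact one_pow _
    · rw [sq, hσ]
    · rw [sq, hτ]
  have h4 := Finset.card_le_card h3
  have h5 : ({1, σ, τ} : Finset (F ≃+* F)).card = 3 := by
    rw [Finset.card_insert_of_notMem, Finset.card_insert_of_notMem, Finset.card_singleton]
    · rw [Finset.mem_singleton]; exact hne
    · simp only [Finset.mem_insert, Finset.mem_singleton, not_or]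
      exact ⟨hσ1.symm, hτ1.symm⟩
  omega

/-- the field part of an involution -/
theorem sq_field {α : MulAut SL2} (h2 : ∀ x, α (α x) = x) {s : SL2} {σ : F ≃+* F}
    (h : ∀ x, α x = s * fieldAut σ x * s⁻¹) : σ * σ = 1 := by
  refine field_eq_one (α := 1) isInn_one (s := s * fieldAut σ s) fun x => ?_
  rw [MulAut.one_apply]
  conv_lhs => rw [← h2 x, h (α x), h x]
  rw [map_mul, map_mul, map_mul fieldAut, MulAut.mul_apply, map_inv]
  group

/-- two non-inner involutory automorphisms differ by an inner one -/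
theorem inn_mul {α β : MulAut SL2} (hα : ∀ x, α (α x) = x) (hβ : ∀ x, β (β x) = x) (h1 : ¬ IsInn α)
    (h2 : ¬ IsInn β) : IsInn (α * β) := by
  obtain ⟨s, σ, hs⟩ := exists_form α
  obtain ⟨t, τ, ht⟩ := exists_form β
  have hσ := sq_field hα hs
  have hτ := sq_field hβ ht
  have hσ1 : σ ≠ 1 := by
    rintro rfl
    exact h1 ⟨s, fun x => by rw [hs, fieldAut_one, MulAut.one_apply]⟩
  have hτ1 : τ ≠ 1 := by
    rintro rfl
    exact h2 ⟨t, fun x => by rw [ht, fieldAut_one, MulAut.one_apply]⟩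
  obtain rfl := ringAut_involution_unique hσ hτ hσ1 hτ1
  refine ⟨s * fieldAut σ t, fun x => ?_⟩
  have h3 : fieldAut σ (fieldAut σ x) = x := by
    rw [← MulAut.mul_apply, ← map_mul, hσ, map_one, MulAut.one_apply]
  rw [MulAut.mul_apply, ht, hs, map_mul, map_mul, map_inv, h3]
  group

end fin

/-- `SL(2,F)` is simple -/
theorem eq_top_of_normal [Finite F] (h4 : 4 ≤ Nat.card F) {X : Subgroup SL2} (hX : X.Normal) (hne : X ≠ ⊥) :
    X = ⊤ := by
  classical
  have : Fintype F := Fintype.ofFinite F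
  rw [Nat.card_eq_fintype_card] at h4
  have hc : center SL2 = ⊥ := by
    rw [eq_bot_iff]
    intro s hs
    rw [mem_bot]
    exact eq_one_of_comm fun x => (mem_center_iff.1 hs x).symm
  have hs : IsSimpleGroup (Matrix.ProjectiveSpecialLinearGroup (Fin 2) F) :=
    Cfsg.Agent.TwoFusion.SLTwoFacts.isSimpleGroup_psl h4
  have hn : (X.map (QuotientGroup.mk' (center SL2))).Normal := hX.map _ (QuotientGroup.mk'_surjective _)
  rcases hs.eq_bot_or_eq_top_of_normal _ hn with h | h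
  · exfalso
    apply hne
    rw [Subgroup.map_eq_bot_iff, QuotientGroup.ker_mk', hc] at h
    exact le_bot_iff.1 h
  · rw [eq_top_iff]
    intro x _
    have hx : QuotientGroup.mk' (center SL2) x ∈ X.map (QuotientGroup.mk' (center SL2)) := by rw [h]; trivial
    obtain ⟨y, hy, hxy⟩ := hx
    have h1 : y⁻¹ * x ∈ center SL2 := by
      rw [← QuotientGroup.eq]
      exact hxy
    rw [hc, mem_bot, inv_mul_eq_one] at h1
    rw [← h1]
    exact hy

end Cfsg.Agent.Omega.NO3S.SLTwo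

end

section


/-!
# NO-3S, `q = 2`, `n = 1`, a component `SL₂(F)`: modules of groups with a normal subgroup `SL(2,F)`

`H` acts irreducibly on the elementary abelian 2-group `N`, `ι : SL(2,F) → H` with normal image acting nontrivially.

* `Inv ι X` : `X` is `SL(2,F)`-invariant, `Mn ι Y` : minimal invariant; `exists_mn`, `mn_span` (Clifford);
* `trace_zero` : `∑_k (tor t)^k = 0` on `N`;
* `card_le_sq` : `|N| ≤ |N : C_N(a)|²` if `a` acts on `SL(2,F)` as a conjugate of an involution.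
-/

set_option autoImplicit false
set_option linter.unusedSectionVars false

namespace Cfsg.Agent.Omega.NO3S.SLTwo

open Matrix Subgroup Cfsg.Agent.Lib.SL2Mat Cfsg.Agent.Lib.AutSL2 Cfsg.Agent.Lib.AutSL2Out
open Cfsg.Agent.Omega.KM (ww)

variable {F : Type*} [Field F]

local notation "SL2" => Matrix.SpecialLinearGroup (Fin 2) F

section defs

variable {H N : Type*} [Group H] [AddCommGroup N] [DistribMulAction H N]

/-- the fixed points of `a` -/
def fixN (N : Type*) [AddCommGroup N] {H : Type*} [Group H] [DistribMulAction H N] (a : H) : AddSubgroup N where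
  carrier := {n | a • n = n}
  add_mem' {x y} hx hy := by
    change a • (x + y) = x + y
    rw [smul_add, show a • x = x from hx, show a • y = y from hy]
  zero_mem' := smul_zero a
  neg_mem' {x} hx := by
    change a • (-x) = -x
    rw [smul_neg, show a • x = x from hx]

theorem mem_fixN {a : H} {n : N} : n ∈ fixN N a ↔ a • n = n := Iff.rfl

variable (ι : Matrix.SpecialLinearGroup (Fin 2) F →* H)

/-- `SL(2,F)`-invariant -/
def Inv (X : AddSubgroup N) : Prop := ∀ g : SL2, ∀ x ∈ X, ι g • x ∈ X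

/-- minimal `SL(2,F)`-invariant -/
structure Mn (Y : AddSubgroup N) : Prop where
  inv : Inv ι Y
  ne : Y ≠ ⊥
  min : ∀ X : AddSubgroup N, Inv ι X → X ≤ Y → X = ⊥ ∨ X = Y

variable {ι}

theorem exists_mn [Finite N] {X : AddSubgroup N} (hX : Inv ι X) (hne : X ≠ ⊥) : ∃ Y ≤ X, Mn ι Y := by
  obtain ⟨Y, ⟨hY1, hY2, hY3⟩, hmin⟩ := (wellFounded_lt (α := AddSubgroup N)).has_min
    {Y | Inv ι Y ∧ Y ≠ ⊥ ∧ Y ≤ X} ⟨X, hX, hne, le_rfl⟩
  refine ⟨Y, hY3, hY1, hY2, fun Z hZ hZY => ?_⟩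
  by_contra hcon
  push Not at hcon
  exact hmin Z ⟨hZ, hcon.1, hZY.trans hY3⟩ (lt_of_le_of_ne hZY hcon.2)

/-- translate of a subgroup -/
def tr (h : H) (Y : AddSubgroup N) : AddSubgroup N := Y.map (DistribSMul.toAddMonoidHom N h)

theorem mem_tr {h : H} {Y : AddSubgroup N} {n : N} : n ∈ tr h Y ↔ h⁻¹ • n ∈ Y := by
  constructor
  · rintro ⟨y, hy, rfl⟩
    change h⁻¹ • h • y ∈ Y
    rwa [inv_smul_smul]
  · intro hn
    exact ⟨h⁻¹ • n, hn, smul_inv_smul h n⟩

theorem tr_tr (g h : H) (Y : AddSubgroup N) : tr g (tr h Y) = tr (g * h) Y := by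
  ext n
  rw [mem_tr, mem_tr, mem_tr, _root_.mul_inv_rev, mul_smul]

theorem tr_one (Y : AddSubgroup N) : tr (1 : H) Y = Y := by
  ext n
  rw [mem_tr, inv_one, one_smul]

theorem tr_mono {h : H} {X Y : AddSubgroup N} (hXY : X ≤ Y) : tr h X ≤ tr h Y := fun _ hn =>
  mem_tr.2 (hXY (mem_tr.1 hn))

theorem tr_bot (h : H) : tr h (⊥ : AddSubgroup N) = ⊥ := by
  ext n
  rw [mem_tr, AddSubgroup.mem_bot, AddSubgroup.mem_bot]
  exact smul_eq_zero_iff_eq h⁻¹

theorem card_tr (h : H) (Y : AddSubgroup N) : Nat.card (tr h Y) = Nat.card Y :=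
  (Nat.card_congr (Y.equivMapOfInjective (DistribSMul.toAddMonoidHom N h) (MulAction.injective h)).toEquiv).symm

theorem inv_tr (hn : ι.range.Normal) {Y : AddSubgroup N} (hY : Inv ι Y) (h : H) : Inv ι (tr h Y) := by
  intro g n hnn
  rw [mem_tr] at *
  obtain ⟨g', hg'⟩ := hn.conj_mem (ι g) ⟨g, rfl⟩ h⁻¹
  rw [inv_inv] at hg'
  have := hY g' _ hnn
  rw [hg', ← mul_smul] at this
  rw [← mul_smul]
  have e : h⁻¹ * ι g * h * h⁻¹ = h⁻¹ * ι g := by group
  rwa [e] at this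

theorem mn_tr (hn : ι.range.Normal) {Y : AddSubgroup N} (hY : Mn ι Y) (h : H) : Mn ι (tr h Y) where
  inv := inv_tr hn hY.inv h
  ne := fun e => hY.ne (by
    have := congrArg (tr h⁻¹) e
    rwa [tr_tr, inv_mul_cancel, tr_one, tr_bot] at this)
  min := fun X hX hXY => by
    have h1 : tr h⁻¹ X ≤ Y := by
      have := tr_mono (h := h⁻¹) hXY
      rwa [tr_tr, inv_mul_cancel, tr_one] at this
    rcases hY.min _ (inv_tr hn hX h⁻¹) h1 with e | e
    · left
      have := congrArg (tr h) e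
      rwa [tr_tr, mul_inv_cancel, tr_one, tr_bot] at this
    · right
      have := congrArg (tr h) e
      rwa [tr_tr, mul_inv_cancel, tr_one] at this

/-- Clifford -/
theorem mn_span
    (irr : ∀ X : AddSubgroup N, (∀ h : H, ∀ x ∈ X, h • x ∈ X) → X = ⊥ ∨ X = ⊤) {Y : AddSubgroup N}
    (hY : Mn ι Y) : ⨆ h : H, tr h Y = ⊤ := by
  refine (irr _ fun g x hx => ?_).resolve_left fun e => hY.ne ?_
  · have h1 : tr g (⨆ h : H, tr h Y) ≤ ⨆ h : H, tr h Y := by
      unfold tr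
      rw [AddSubgroup.map_iSup]
      refine iSup_le fun h => ?_
      have := tr_tr g h Y
      unfold tr at this
      rw [this]
      exact le_iSup (fun h : H => Y.map (DistribSMul.toAddMonoidHom N h)) (g * h)
    apply h1
    rw [mem_tr, inv_smul_smul]
    exact hx
  · have h1 : tr (1 : H) Y ≤ ⨆ h : H, tr h Y := le_iSup (fun h : H => tr h Y) 1
    rw [e, tr_one] at h1
    exact le_bot_iff.1 h1

/-- `C_N(SL(2,F)) = 0` -/
theorem fix_eq_zero (hn : ι.range.Normal)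
    (irr : ∀ X : AddSubgroup N, (∀ h : H, ∀ x ∈ X, h • x ∈ X) → X = ⊥ ∨ X = ⊤)
    (hnt : ∃ g : SL2, ∃ n : N, ι g • n ≠ n) {n : N} (h : ∀ g : SL2, ι g • n = n) : n = 0 := by
  let C : AddSubgroup N :=
    { carrier := {n | ∀ g : SL2, ι g • n = n}
      add_mem' := fun {x y} hx hy g => by rw [smul_add, hx g, hy g]
      zero_mem' := fun g => smul_zero _
      neg_mem' := fun {x} hx g => by rw [smul_neg, hx g] }
  rcases irr C (fun h x hx g => by
    obtain ⟨g', hg'⟩ := hn.conj_mem (ι g) ⟨g, rfl⟩ h⁻¹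
    rw [inv_inv] at hg'
    have h1 := hx g'
    rw [hg'] at h1
    rw [← mul_smul]
    calc (ι g * h) • x = h • ((h⁻¹ * ι g * h) • x) := by rw [← mul_smul]; congr 1; group
      _ = h • x := by rw [h1]) with e | e
  · have : n ∈ C := h
    rwa [e, AddSubgroup.mem_bot] at this
  · exfalso
    obtain ⟨g, m, hm⟩ := hnt
    have : m ∈ C := by rw [e]; trivial
    exact hm (this g)

/-- the action on an invariant subgroup -/
def res {Y : AddSubgroup N} (hY : Inv ι Y) : SL2 →* AddMonoid.End Y where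
  toFun g :=
    { toFun := fun y => ⟨ι g • (y : N), hY g y y.2⟩
      map_zero' := Subtype.ext (smul_zero _)
      map_add' := fun x y => Subtype.ext (smul_add _ _ _) }
  map_one' := by
    ext y
    change ι 1 • (y : N) = y
    rw [map_one, one_smul]
  map_mul' g h := by
    ext y
    change ι (g * h) • (y : N) = ι g • (ι h • (y : N))
    rw [map_mul, mul_smul]

theorem res_irr {Y : AddSubgroup N} (hY : Mn ι Y) (W : AddSubgroup Y) (hW : ∀ g, ∀ w ∈ W, res hY.inv g w ∈ W) :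
    W = ⊥ ∨ W = ⊤ := by
  have h1 : Inv ι (W.map Y.subtype) := by
    rintro g _ ⟨w, hw, rfl⟩
    exact ⟨res hY.inv g w, hW g w hw, rfl⟩
  have h2 : W.map Y.subtype ≤ Y := by
    rintro _ ⟨w, -, rfl⟩
    exact w.2
  rcases hY.min _ h1 h2 with e | e
  · left
    rw [AddSubgroup.map_eq_bot_iff_of_injective] at e
    · exact e
    · exact Subtype.val_injective
  · right
    rw [eq_top_iff]
    intro y _
    have : (y : N) ∈ W.map Y.subtype := by rw [e]; exact y.2
    obtain ⟨w, hw, hwy⟩ := this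
    rwa [← Subtype.ext hwy]

theorem mn_nontrivial {Y : AddSubgroup N} (hY : Mn ι Y) : Nontrivial Y := by
  rcases subsingleton_or_nontrivial Y with h | h
  · refine absurd ?_ hY.ne
    rw [AddSubgroup.eq_bot_iff_forall]
    intro x hx
    exact congrArg Subtype.val (Subsingleton.elim (⟨x, hx⟩ : Y) 0)
  · exact h

end defs

section trace

variable {H : Type*} {N : Type*} [Group H] [AddCommGroup N] [DistribMulAction H N]
  {ι : Matrix.SpecialLinearGroup (Fin 2) F →* H} [Fintype F] [CharP F 2] {m : ℕ}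

/-- `∑_k (tor t)^k = 0` on `N`. -/
theorem trace_zero [Finite N] (hm : Fintype.card F = 2 ^ m) (h2 : ∀ n : N, n + n = 0) (hn : ι.range.Normal)
    (irr : ∀ X : AddSubgroup N, (∀ h : H, ∀ x ∈ X, h • x ∈ X) → X = ⊥ ∨ X = ⊤)
    (hnt : ∃ g : SL2, ∃ n : N, ι g • n ≠ n) :
    ∃ t : F, tor t ^ (2 ^ m + 1) = 1 ∧ ∀ n : N, ∑ k ∈ Finset.range (2 ^ m + 1), ι (tor t ^ k) • n = 0 := by
  obtain ⟨t, ht, hsum⟩ := exists_tor_mod hm
  refine ⟨t, ht, ?_⟩
  let τ : N →+ N := ∑ k ∈ Finset.range (2 ^ m + 1), DistribSMul.toAddMonoidHom N (ι (tor t ^ k))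
  have hτ : ∀ n, τ n = ∑ k ∈ Finset.range (2 ^ m + 1), ι (tor t ^ k) • n := fun n => by
    change (∑ k ∈ Finset.range (2 ^ m + 1), DistribSMul.toAddMonoidHom N (ι (tor t ^ k))) n = _
    rw [AddMonoidHom.finsetSum_apply]
    rfl
  have hne : (⊤ : AddSubgroup N) ≠ ⊥ := by
    obtain ⟨g, n, hgn⟩ := hnt
    intro e
    have h1 : n ∈ (⊥ : AddSubgroup N) := by rw [← e]; trivial
    rw [AddSubgroup.mem_bot] at h1
    rw [h1, smul_zero] at hgn
    exact hgn rfl
  obtain ⟨Y, -, hY⟩ := exists_mn (ι := ι) (X := (⊤ : AddSubgroup N)) (fun _ _ _ => trivial) hne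
  have h1 : ∀ Z : AddSubgroup N, Mn ι Z → Z ≤ τ.ker := by
    intro Z hZ z hz
    have : Nontrivial Z := mn_nontrivial hZ
    have h3 := hsum (V := Z) (fun v => Subtype.ext (h2 v)) (res hZ.inv) (res_irr hZ) (by
      by_contra hcon
      push Not at hcon
      apply hZ.ne
      rw [AddSubgroup.eq_bot_iff_forall]
      intro x hx
      exact fix_eq_zero hn irr hnt fun g => congrArg Subtype.val (hcon g ⟨x, hx⟩)) ⟨z, hz⟩
    rw [AddMonoidHom.mem_ker, hτ]
    have h4 := congrArg Subtype.val h3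
    rw [AddSubgroup.val_finsetSum] at h4
    exact h4
  have h5 : (⊤ : AddSubgroup N) ≤ τ.ker := by
    rw [← mn_span irr hY]
    exact iSup_le fun h => h1 _ (mn_tr hn hY h)
  intro n
  rw [← hτ]
  exact h5 trivial

/-- every `up b`, `b ≠ 0`, inverts an element which generates a nonsplit torus -/
theorem exists_inverted {t : F} (ht : tor t ^ (2 ^ m + 1) = 1)
    (hs : ∀ n : N, ∑ k ∈ Finset.range (2 ^ m + 1), ι (tor t ^ k) • n = 0) {b : F} (hb : b ≠ 0) :
    ∃ r : SL2, r ^ (2 ^ m + 1) = 1 ∧ up b * r * (up b)⁻¹ = r⁻¹ ∧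
      ∀ n : N, ∑ k ∈ Finset.range (2 ^ m + 1), ι (r ^ k) • n = 0 := by
  obtain ⟨s, hs'⟩ := FiniteField.isSquare_of_char_two (F := F) (ringChar.eq F 2).symm.symm b
  have hs0 : s ≠ 0 := by
    rintro rfl
    exact hb (by rw [hs', mul_zero])
  have hww : (ww : SL2) * ww = 1 := by
    apply Subtype.ext
    change (!![0, 1; 1, 0] : Matrix (Fin 2) (Fin 2) F) * !![0, 1; 1, 0] = 1
    ext i j
    (revert i j; simp only [Matrix.mul_apply, Fin.sum_univ_two, _root_.Fin.forall_fin_succ, _root_.Matrix.of_apply, _root_.Matrix.cons_val', _root_.Matrix.cons_val_fin_one, Fin.isValue, _root_.Matrix.cons_val_zero, _root_.Matrix.cons_val_one, _root_.MulZeroClass.mul_zero, _root_.mul_one, _root_.zero_add, _root_.Matrix.cons_val_succ, _root_.add_zero, _root_.IsEmpty.forall_iff, _root_.and_true, _root_.Matrix.one_apply_eq, Nat.reduceAdd, _root_.Fin.succ_zero_eq_one, _root_.ne_eq, _root_.zero_ne_one, _root_.not_false_eq_true, _root_.Matrix.one_apply_ne,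 _root_.and_self, _root_.Fin.succ_ne_zero, _root_.true_and])
  have h1 : (up 1 : SL2) = lo 1 * ww * lo 1 := by
    apply Subtype.ext
    change (!![1, 1; 0, 1] : Matrix (Fin 2) (Fin 2) F) = !![1, 0; 1, 1] * !![0, 1; 1, 0] * !![1, 0; 1, 1]
    ext i j
    (revert i j; simp only [Matrix.mul_apply, Fin.sum_univ_two, CharTwo.add_self_eq_zero, _root_.Fin.forall_fin_succ, _root_.Matrix.of_apply, _root_.Matrix.cons_val', _root_.Matrix.cons_val_fin_one, _root_.Matrix.cons_mul, _root_.Nat.succ_eq_add_one, Nat.reduceAdd, _root_.Matrix.vecMul_cons, _root_.Matrix.head_cons, _root_.one_smul, _root_.Matrix.tail_cons, _root_.zero_smul, _root_.Matrix.empty_vecMul, _root_.add_zero, _root_.Matrix.add_cons, _root_.zero_add, _root_.Matrix.empty_add_empty, _root_.Matrix.empty_mul, _root_.Equiv.symm_apply_apply, Fin.isValue, _root_.Matrix.cons_val_zero, _root_.Matrix.cons_val_one, _root_.mul_one, _root_.Matrix.cons_val_succ, _root_.MulZeroClass.mul_zero,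 _root_.implies_true, _root_.and_true, _root_.and_self])
  have hlo : (lo 1 : SL2)⁻¹ = lo 1 := by rw [lo_inv, CharTwo.neg_eq]
  have h2 : up b = dg s hs0 * lo 1 * ww * (dg s hs0 * lo 1)⁻¹ := by
    have e1 : up b = dg s hs0 * up 1 * (dg s hs0)⁻¹ := by
      rw [dg_up, mul_one, mul_inv_cancel_right, pow_two, hs']
    rw [e1, h1, _root_.mul_inv_rev, hlo]
    group
  set x := dg s hs0 * lo 1 with hx
  have hpow : ∀ k : ℕ, (x * tor t * x⁻¹) ^ k = x * tor t ^ k * x⁻¹ := fun k => conj_pow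
  refine ⟨x * tor t * x⁻¹, ?_, ?_, fun n => ?_⟩
  · rw [hpow, ht, mul_one, mul_inv_cancel]
  · rw [h2]
    have h3 := ww_tor t
    have h4 : (ww : SL2)⁻¹ = ww := inv_eq_of_mul_eq_one_left hww
    calc x * ww * x⁻¹ * (x * tor t * x⁻¹) * (x * ww * x⁻¹)⁻¹ = x * (ww * tor t * ww⁻¹) * x⁻¹ := by group
      _ = x * (tor t)⁻¹ * x⁻¹ := by rw [h4, h3]
      _ = (x * tor t * x⁻¹)⁻¹ := by group
  · have h5 : ∀ k, ι ((x * tor t * x⁻¹) ^ k) • n = ι x • (ι (tor t ^ k) • (ι x⁻¹ • n)) := fun k => by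
      rw [hpow, map_mul, map_mul, mul_smul, mul_smul]
    rw [Finset.sum_congr rfl fun k _ => h5 k, ← Finset.smul_sum, hs, smul_zero]

/-- `|N| ≤ |N : C_N(a)|²` if `a` acts on `SL(2,F)` as an involution of `U` -/
theorem card_le_sq [Finite N] (hm : Fintype.card F = 2 ^ m) (h2 : ∀ n : N, n + n = 0) {t : F}
    (ht : tor t ^ (2 ^ m + 1) = 1)
    (hs : ∀ n : N, ∑ k ∈ Finset.range (2 ^ m + 1), ι (tor t ^ k) • n = 0) {b : F} (hb : b ≠ 0) {a : H}
    (ha : ∀ g, a * ι g * a⁻¹ = ι (up b * g * (up b)⁻¹)) : Nat.card N ≤ (fixN N a).index ^ 2 := by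
  obtain ⟨r, hr1, hr2, hr3⟩ := exists_inverted ht hs hb
  have hm0 : m ≠ 0 := by
    rintro rfl
    have := Fintype.one_lt_card (α := F)
    rw [hm] at this
    simp at this
  -- `C ∩ C^r = 0`
  have key : ∀ n : N, n ∈ fixN N a → n ∈ tr (ι r) (fixN N a) → n = 0 := by
    intro n h3 h4
    rw [mem_tr, mem_fixN] at h4
    rw [mem_fixN] at h3
    have h5 : (ι r)⁻¹ • n = ι r • n := by
      have e1 : a * (ι r)⁻¹ * a⁻¹ = ι r := by
        have := ha r
        rw [hr2, map_inv] at this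
        calc a * (ι r)⁻¹ * a⁻¹ = (a * ι r * a⁻¹)⁻¹ := by group
          _ = ι r := by rw [this, inv_inv]
      calc (ι r)⁻¹ • n = a • (ι r)⁻¹ • n := h4.symm
        _ = (a * (ι r)⁻¹ * a⁻¹) • (a • n) := by rw [← mul_smul, ← mul_smul]; congr 1; group
        _ = ι r • n := by rw [e1, h3]
    have h6 : (ι r * ι r) • n = n := by
      rw [mul_smul, ← h5, smul_inv_smul]
    have h7 : ι r • n = n := by
      have h8 : ∀ k : ℕ, (ι r) ^ (2 * k) • n = n := by
        intro k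
        induction k with
        | zero => rw [mul_zero, pow_zero, one_smul]
        | succ k ih => rw [show 2 * (k + 1) = 2 * k + 2 by ring, pow_add, mul_smul, pow_two, h6, ih]
      have h9 : (ι r) ^ (2 ^ m + 1) = 1 := by rw [← map_pow, hr1, map_one]
      obtain ⟨k, hk⟩ := Nat.exists_eq_succ_of_ne_zero hm0
      have h10 : (ι r) ^ (2 ^ m) • n = n := by
        rw [hk, pow_succ, mul_comm]
        exact h8 _
      have h11 : (ι r) ^ (2 ^ m + 1) • n = ι r • ((ι r) ^ (2 ^ m) • n) := by rw [pow_succ', mul_smul]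
      rw [h9, one_smul, h10] at h11
      exact h11.symm
    have h8 : ∀ k : ℕ, ι (r ^ k) • n = n := by
      intro k
      induction k with
      | zero => rw [pow_zero, map_one, one_smul]
      | succ k ih => rw [pow_succ, map_mul, mul_smul, h7, ih]
    have h9 := hr3 n
    rw [Finset.sum_congr rfl fun k _ => h8 k, Finset.sum_const, Finset.card_range, succ_nsmul] at h9
    obtain ⟨k, hk⟩ := Nat.exists_eq_succ_of_ne_zero hm0
    have h10 : 2 ^ m • n = 0 := by
      rw [hk, pow_succ, mul_comm, mul_nsmul, two_nsmul, h2, nsmul_zero]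
    rwa [h10, zero_add] at h9
  have h3 : Nat.card (tr (ι r) (fixN N a)) ≤ (fixN N a).index := by
    refine Nat.card_le_card_of_injective
      (fun x : tr (ι r) (fixN N a) => (QuotientAddGroup.mk (x : N) : N ⧸ fixN N a)) ?_
    intro x y hxy
    have h4 := QuotientAddGroup.eq.1 hxy
    have h5 := key _ h4 (add_mem (neg_mem x.2) y.2)
    exact Subtype.ext (neg_add_eq_zero.1 h5)
  rw [card_tr] at h3
  rw [← AddSubgroup.card_mul_index (fixN N a), pow_two]
  exact Nat.mul_le_mul_right _ h3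

end trace

end Cfsg.Agent.Omega.NO3S.SLTwo

end

private theorem dce_778eef60ec5c : _root_.True := by
  try have : _root_.True := by simp only [_root_.Cfsg.Agent.Omega.NO3S.SLTwo.tor.eq_1]
  try have : _root_.True := by simp only [_root_.Cfsg.Agent.Omega.NO3S.SLTwo.tor.congr_simp]
  try have : _root_.True := by simp only [_root_.Cfsg.Agent.Omega.KM.ww.congr_simp]
  try have : _root_.True := by simp only [_root_.Cfsg.Agent.Omega.NO3S.SLTwo.res.congr_simp]
  exact _root_.True.intro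
end

-- part: Mrg/ParSys/RootExc
section
set_option linter.all false
open scoped Cfsg.Agent.FastGrp
private noncomputable def lq268b948eba {T : Sort _} (f :
    type_of% (@_root_.List.cons.{0} (Nat)) →
    type_of% (@_root_.Matrix.vecCons.{0}) →
    type_of% (@_root_.List.cons.{0}) →
    type_of% (@_root_.Matrix.vecEmpty.{0}) →
    type_of% (@_root_.List.nil.{0}) → T) : T :=
  f (@_root_.List.cons.{0} (Nat)) (@_root_.Matrix.vecCons.{0}) (@_root_.List.cons.{0}) (@_root_.Matrix.vecEmpty.{0}) (@_root_.List.nil.{0})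


/-!
# Positive roots of type `F₄`, `E₆`, `E₇`, `E₈` (coordinates = simple roots), checked by kernel computation
-/

set_option autoImplicit false
set_option Elab.async false

namespace Cfsg.Agent.ParSys.RootExc

open Cfsg.Agent.ChevalleyStructure.CoxeterGeom Cfsg.Agent.ParSys.RootCount

/-- the reflections permute the positive roots: `T` gives the index of the image -/
theorem perm_of_table {n : ℕ} {A : Fin n → Fin n → ℤ} (L : List (Fin n → ℤ)) (T : List (List ℕ))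
    (h : ∀ i : Fin n, ∀ j < L.length, L.getD j 0 = Pi.single i 1 ∨
      ((T.getD i []).getD j 0 < L.length ∧ refl A i (L.getD j 0) = L.getD ((T.getD i []).getD j 0) 0)) :
    ∀ i, ∀ v ∈ L.toFinset, v ≠ Pi.single i 1 → refl A i v ∈ L.toFinset := by
  intro i v hv hne
  rw [List.mem_toFinset] at hv ⊢
  obtain ⟨j, hj, rfl⟩ := List.getElem_of_mem hv
  have e : L.getD j 0 = L[j] := by rw [List.getD_eq_getElem?_getD, List.getElem?_eq_getElem hj]; rfl
  rcases h i j hj with h1 | ⟨h1, h2⟩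
  · rw [e] at h1; exact absurd h1 hne
  · rw [e] at h2
    rw [h2, List.getD_eq_getElem?_getD, List.getElem?_eq_getElem h1]
    exact List.getElem_mem h1

/-- Cartan matrix -/
def AF4 : Fin 4 → Fin 4 → ℤ := (beta% delta% lq268b948eba fun _ c _ e _ =>
 (c (c 2<|c (-1)<|c 0<|c 0<|e)<|
 c (c (-1)<|c 2<|c (-1)<|c 0<|e)<|
 c (c 0<|c (-2)<|c 2<|c (-1)<|e)<|
 c (c 0<|c 0<|c (-1)<|c 2<|e)<|e))

/-- positive roots -/
def LF4 : List (Fin 4 → ℤ) := (beta% delta% lq268b948eba fun _ c d e f =>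
 (d (c 0<|c 0<|c 0<|c 1<|e)<|
 d (c 0<|c 0<|c 1<|c 0<|e)<|
 d (c 0<|c 1<|c 0<|c 0<|e)<|
 d (c 1<|c 0<|c 0<|c 0<|e)<|
 d (c 0<|c 0<|c 1<|c 1<|e)<|
 d (c 0<|c 1<|c 1<|c 0<|e)<|
 d (c 1<|c 1<|c 0<|c 0<|e)<|
 d (c 0<|c 1<|c 1<|c 1<|e)<|
 d (c 0<|c 1<|c 2<|c 0<|e)<|
 d (c 1<|c 1<|c 1<|c 0<|e)<|
 d (c 0<|c 1<|c 2<|c 1<|e)<|
 d (c 1<|c 1<|c 1<|c 1<|e)<|
 d (c 1<|c 1<|c 2<|c 0<|e)<|
 d (c 0<|c 1<|c 2<|c 2<|e)<|
 d (c 1<|c 1<|c 2<|c 1<|e)<|
 d (c 1<|c 2<|c 2<|c 0<|e)<|
 d (c 1<|c 1<|c 2<|c 2<|e)<|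
 d (c 1<|c 2<|c 2<|c 1<|e)<|
 d (c 1<|c 2<|c 2<|c 2<|e)<|
 d (c 1<|c 2<|c 3<|c 1<|e)<|
 d (c 1<|c 2<|c 3<|c 2<|e)<|
 d (c 1<|c 2<|c 4<|c 2<|e)<|
 d (c 1<|c 3<|c 4<|c 2<|e)<|
 d (c 2<|c 3<|c 4<|c 2<|e)<|f))

/-- images under the simple reflections -/
def TF4 : List (List ℕ) := (beta% delta% lq268b948eba fun _ _ d _ f =>
 (d (d 0<|d 1<|d 6<|d 0<|d 4<|d 9<|d 2<|d 11<|d 12<|d 5<|d 14<|d 7<|d 8<|d 16<|d 10<|d 15<|d 13<|d 17<|d 18<|d 19<|d 20<|d 21<|d 23<|d 22<|f)<|
 d (d 0<|d 5<|d 0<|d 6<|d 7<|d 1<|d 3<|d 4<|d 8<|d 9<|d 10<|d 11<|d 15<|d 13<|d 17<|d 12<|d 18<|d 14<|d 16<|d 19<|d 20<|d 22<|d 21<|d 23<|f)<|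
 d (d 4<|d 0<|d 8<|d 3<|d 0<|d 5<|d 12<|d 10<|d 2<|d 9<|d 7<|d 14<|d 6<|d 13<|d 11<|d 15<|d 16<|d 19<|d 21<|d 17<|d 20<|d 18<|d 22<|d 23<|f)<|
 d (d 0<|d 4<|d 2<|d 3<|d 1<|d 7<|d 6<|d 5<|d 13<|d 11<|d 10<|d 9<|d 16<|d 8<|d 14<|d 18<|d 12<|d 17<|d 15<|d 20<|d 19<|d 21<|d 22<|d 23<|f)<|f))

def RF4 : Finset (Fin 4 → ℤ) := LF4.toFinset

set_option backward.isDefEq.respectTransparency false in
theorem isCartan_F4 : IsCartan CoxeterMatrix.F₄ AF4 := by
  constructor <;> decide +kernel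

private noncomputable def _root_.Cfsg.Agent.LsF.f5f22e5_0 : {f // @Cfsg.Agent.ParSys.RootExc.LF4 = f} := ⟨_, by first | (delta Cfsg.Agent.ParSys.RootExc.LF4; rewrite [Cfsg.Agent.LsF.vecCons_eq]; exact rfl) | exact rfl⟩
theorem card_F4 : RF4.card = 24 := by
  have h : LF4.Nodup := by (refine of_decide_eq_true ?_; (try (rewrite [Cfsg.Agent.LsF.dPiF_pat, Cfsg.Agent.LsF.f5f22e5_0.2, Cfsg.Agent.LsF.instIDecEq_eq, Cfsg.Agent.LsF.dNodup_eq, Cfsg.Agent.LsF.decide_eq])); decide +kernel)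
  exact (List.toFinset_card_of_nodup h).trans rfl

theorem posRoots_F4 : PosRoots AF4 RF4 where
  simple_mem := by
    have h : ∀ i, Pi.single i 1 ∈ LF4 := by decide +kernel
    exact fun i => List.mem_toFinset.2 (h i)
  pos := by
    have h : ∀ v ∈ LF4, ∀ i, 0 ≤ v i := by decide +kernel
    exact fun v hv => h v (List.mem_toFinset.1 hv)
  ne := by
    have h : (0 : Fin 4 → ℤ) ∉ LF4 := by decide +kernel
    exact fun h0 => h (List.mem_toFinset.1 h0)
  perm := perm_of_table LF4 TF4 (by decide +kernel)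

/-- Cartan matrix -/
def AE6 : Fin 6 → Fin 6 → ℤ := (beta% delta% lq268b948eba fun _ c _ e _ =>
 (c (c 2<|c 0<|c (-1)<|c 0<|c 0<|c 0<|e)<|
 c (c 0<|c 2<|c 0<|c (-1)<|c 0<|c 0<|e)<|
 c (c (-1)<|c 0<|c 2<|c (-1)<|c 0<|c 0<|e)<|
 c (c 0<|c (-1)<|c (-1)<|c 2<|c (-1)<|c 0<|e)<|
 c (c 0<|c 0<|c 0<|c (-1)<|c 2<|c (-1)<|e)<|
 c (c 0<|c 0<|c 0<|c 0<|c (-1)<|c 2<|e)<|e))

/-- positive roots -/
def LE6 : List (Fin 6 → ℤ) := [![0, 0, 0, 0, 0, 1],
  ![0, 0, 0, 0, 1, 0],
  ![0, 0, 0, 1, 0, 0],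
  ![0, 0, 1, 0, 0, 0],
  ![0, 1, 0, 0, 0, 0],
  ![1, 0, 0, 0, 0, 0],
  ![0, 0, 0, 0, 1, 1],
  ![0, 0, 0, 1, 1, 0],
  ![0, 0, 1, 1, 0, 0],
  ![0, 1, 0, 1, 0, 0],
  ![1, 0, 1, 0, 0, 0],
  ![0, 0, 0, 1, 1, 1],
  ![0, 0, 1, 1, 1, 0],
  ![0, 1, 0, 1, 1, 0],
  ![0, 1, 1, 1, 0, 0],
  ![1, 0, 1, 1, 0, 0],
  ![0, 0, 1, 1, 1, 1],
  ![0, 1, 0, 1, 1, 1],
  ![0, 1, 1, 1, 1, 0],
  ![1, 0, 1, 1, 1, 0],
  ![1, 1, 1, 1, 0, 0],
  ![0, 1, 1, 1, 1, 1],
  ![0, 1, 1, 2, 1, 0],
  ![1, 0, 1, 1, 1, 1],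
  ![1, 1, 1, 1, 1, 0],
  ![0, 1, 1, 2, 1, 1],
  ![1, 1, 1, 1, 1, 1],
  ![1, 1, 1, 2, 1, 0],
  ![0, 1, 1, 2, 2, 1],
  ![1, 1, 1, 2, 1, 1],
  ![1, 1, 2, 2, 1, 0],
  ![1, 1, 1, 2, 2, 1],
  ![1, 1, 2, 2, 1, 1],
  ![1, 1, 2, 2, 2, 1],
  ![1, 1, 2, 3, 2, 1],
  ![1, 2, 2, 3, 2, 1]]

/-- images under the simple reflections -/
def TE6 : List (List ℕ) := (beta% delta% lq268b948eba fun a _ d _ f =>
 (d (let b:=(let b:=(let b:=(a 28<|a 32<|a 33<|a 34<|a 35<|f);
 (a 22<|a 31<|a 25<|a 30<|b));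
 (let b:=(a 27<|a 16<|a 18<|a 29<|a 21<|b);
 (a 24<|a 12<|a 14<|a 26<|b)));
 (let b:=(let b:=(a 13<|a 20<|a 8<|a 23<|a 17<|b);
 (a 9<|a 3<|a 11<|a 19<|b));
 (let b:=(a 4<|a 0<|a 6<|a 7<|a 15<|b);
 (d 0<|d 1<|d 2<|d 10<|b))))<|
 d (let b:=(let b:=(let b:=(a 31<|a 32<|a 33<|a 35<|a 34<|f);
 (a 27<|a 28<|a 29<|a 30<|b));
 (let b:=(a 22<|a 26<|a 19<|a 25<|a 23<|b);
 (a 12<|a 24<|a 15<|a 16<|b)));
 (let b:=(let b:=(a 7<|a 8<|a 20<|a 21<|a 11<|b);
 (a 2<|a 10<|a 17<|a 18<|b));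
 (let b:=(a 0<|a 5<|a 6<|a 13<|a 14<|b);
 (d 0<|d 1<|d 9<|d 3<|b))))<|
 d (let b:=(let b:=(let b:=(a 33<|a 29<|a 31<|a 34<|a 35<|f);
 (a 30<|a 28<|a 32<|a 27<|b));
 (let b:=(a 22<|a 23<|a 24<|a 25<|a 26<|b);
 (a 13<|a 19<|a 20<|a 17<|b)));
 (let b:=(let b:=(a 18<|a 9<|a 15<|a 11<|a 21<|b);
 (a 14<|a 5<|a 16<|a 7<|b));
 (let b:=(a 4<|a 10<|a 6<|a 12<|a 2<|b);
 (d 0<|d 1<|d 8<|d 0<|b))))<|
 d (let b:=(let b:=(let b:=(a 31<|a 32<|a 34<|a 33<|a 35<|f);
 (a 24<|a 28<|a 26<|a 30<|b));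
 (let b:=(a 18<|a 23<|a 27<|a 21<|a 29<|b);
 (a 22<|a 19<|a 20<|a 25<|b)));
 (let b:=(let b:=(a 13<|a 14<|a 10<|a 16<|a 17<|b);
 (a 4<|a 15<|a 6<|a 12<|b));
 (let b:=(a 9<|a 5<|a 11<|a 1<|a 3<|b);
 (d 0<|d 7<|d 0<|d 8<|b))))<|
 d (let b:=(let b:=(let b:=(a 29<|a 33<|a 32<|a 34<|a 35<|f);
 (a 27<|a 25<|a 31<|a 30<|b));
 (let b:=(a 22<|a 23<|a 20<|a 28<|a 26<|b);
 (a 14<|a 15<|a 24<|a 21<|b)));
 (let b:=(let b:=(a 9<|a 18<|a 19<|a 16<|a 17<|b);
 (a 13<|a 10<|a 11<|a 8<|b));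
 (let b:=(a 4<|a 5<|a 0<|a 2<|a 12<|b);
 (d 6<|d 0<|d 7<|d 3<|b))))<|
 d (let b:=(let b:=(let b:=(a 31<|a 30<|a 33<|a 34<|a 35<|f);
 (a 29<|a 28<|a 27<|a 32<|b));
 (let b:=(a 25<|a 19<|a 26<|a 22<|a 24<|b);
 (a 21<|a 23<|a 20<|a 18<|b)));
 (let b:=(let b:=(a 17<|a 14<|a 15<|a 12<|a 13<|b);
 (a 9<|a 10<|a 7<|a 16<|b));
 (let b:=(a 4<|a 5<|a 1<|a 11<|a 8<|b);
 (d 0<|d 6<|d 2<|d 3<|b))))<|f))

def RE6 : Finset (Fin 6 → ℤ) := LE6.toFinset

set_option backward.isDefEq.respectTransparency false in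
theorem isCartan_E6 : IsCartan CoxeterMatrix.E₆ AE6 := by
  constructor <;> decide +kernel

theorem card_E6 : RE6.card = 36 := by
  have h : LE6.Nodup := by (set_option synthInstance.maxSize 100000 in exact Cfsg.Agent.Lib.Refl.of (by decide +kernel))
  exact (List.toFinset_card_of_nodup h).trans rfl

private noncomputable def _root_.Cfsg.Agent.LsF.f5f22e5_2 : {f // @Cfsg.Agent.ParSys.RootExc.LE6 = f} := ⟨_, by first | (delta Cfsg.Agent.ParSys.RootExc.LE6; rewrite [Cfsg.Agent.LsF.vecCons_eq]; exact rfl) | exact rfl⟩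
private noncomputable def _root_.Cfsg.Agent.LsF.f5f22e5_3 : {f // @Cfsg.Agent.ParSys.RootExc.AE6 = f} := ⟨_, by first | (delta Cfsg.Agent.ParSys.RootExc.AE6; rewrite [Cfsg.Agent.LsF.ineg_pat, Cfsg.Agent.LsF.vecCons_eq]; exact rfl) | exact rfl⟩
theorem posRoots_E6 : PosRoots AE6 RE6 where
  simple_mem := by
    have h : ∀ i, Pi.single i 1 ∈ LE6 := by decide +kernel
    exact fun i => List.mem_toFinset.2 (h i)
  pos := by
    have h : ∀ v ∈ LE6, ∀ i, 0 ≤ v i := by decide +kernel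
    exact fun v hv => h v (List.mem_toFinset.1 hv)
  ne := by
    have h : (0 : Fin 6 → ℤ) ∉ LE6 := by decide +kernel
    exact fun h0 => h (List.mem_toFinset.1 h0)
  perm := perm_of_table LE6 TE6 (by (refine of_decide_eq_true ?_; (try (delta Cfsg.Agent.ChevalleyStructure.CoxeterGeom.pairing Cfsg.Agent.ChevalleyStructure.CoxeterGeom.refl Function.update Pi.single; rewrite [Cfsg.Agent.LsF.dPiF_pat, Cfsg.Agent.LsF.f5f22e5_2.2, Cfsg.Agent.LsF.f5f22e5_3.2, Cfsg.Agent.LsF.finFintype_eq, Cfsg.Agent.LsF.decLt_eq, Cfsg.Agent.LsF.getD_eq, Cfsg.Agent.LsF.instIDecEq_eq, Cfsg.Agent.LsF.dAnd_eq, Cfsg.Agent.LsF.dOr_eq, Cfsg.Agent.LsF.dFinEq_eq, Cfsg.Agent.LsF.dBallLT_eq, Cfsg.Agent.LsF.dForallFin_eq, Cfsg.Agent.LsF.length_eq, Cfsg.Agent.LsF.decide_eq])); decide +kernel))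

/-- Cartan matrix -/
def AE7 : Fin 7 → Fin 7 → ℤ := (beta% delta% lq268b948eba fun _ c _ e _ =>
 (c (c 2<|c 0<|c (-1)<|c 0<|c 0<|c 0<|c 0<|e)<|
 c (c 0<|c 2<|c 0<|c (-1)<|c 0<|c 0<|c 0<|e)<|
 c (c (-1)<|c 0<|c 2<|c (-1)<|c 0<|c 0<|c 0<|e)<|
 c (c 0<|c (-1)<|c (-1)<|c 2<|c (-1)<|c 0<|c 0<|e)<|
 c (c 0<|c 0<|c 0<|c (-1)<|c 2<|c (-1)<|c 0<|e)<|
 c (c 0<|c 0<|c 0<|c 0<|c (-1)<|c 2<|c (-1)<|e)<|
 c (c 0<|c 0<|c 0<|c 0<|c 0<|c (-1)<|c 2<|e)<|e))

/-- positive roots -/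
def LE7 : List (Fin 7 → ℤ) := [![0, 0, 0, 0, 0, 0, 1],
  ![0, 0, 0, 0, 0, 1, 0],
  ![0, 0, 0, 0, 1, 0, 0],
  ![0, 0, 0, 1, 0, 0, 0],
  ![0, 0, 1, 0, 0, 0, 0],
  ![0, 1, 0, 0, 0, 0, 0],
  ![1, 0, 0, 0, 0, 0, 0],
  ![0, 0, 0, 0, 0, 1, 1],
  ![0, 0, 0, 0, 1, 1, 0],
  ![0, 0, 0, 1, 1, 0, 0],
  ![0, 0, 1, 1, 0, 0, 0],
  ![0, 1, 0, 1, 0, 0, 0],
  ![1, 0, 1, 0, 0, 0, 0],
  ![0, 0, 0, 0, 1, 1, 1],
  ![0, 0, 0, 1, 1, 1, 0],
  ![0, 0, 1, 1, 1, 0, 0],
  ![0, 1, 0, 1, 1, 0, 0],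
  ![0, 1, 1, 1, 0, 0, 0],
  ![1, 0, 1, 1, 0, 0, 0],
  ![0, 0, 0, 1, 1, 1, 1],
  ![0, 0, 1, 1, 1, 1, 0],
  ![0, 1, 0, 1, 1, 1, 0],
  ![0, 1, 1, 1, 1, 0, 0],
  ![1, 0, 1, 1, 1, 0, 0],
  ![1, 1, 1, 1, 0, 0, 0],
  ![0, 0, 1, 1, 1, 1, 1],
  ![0, 1, 0, 1, 1, 1, 1],
  ![0, 1, 1, 1, 1, 1, 0],
  ![0, 1, 1, 2, 1, 0, 0],
  ![1, 0, 1, 1, 1, 1, 0],
  ![1, 1, 1, 1, 1, 0, 0],
  ![0, 1, 1, 1, 1, 1, 1],
  ![0, 1, 1, 2, 1, 1, 0],
  ![1, 0, 1, 1, 1, 1, 1],
  ![1, 1, 1, 1, 1, 1, 0],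
  ![1, 1, 1, 2, 1, 0, 0],
  ![0, 1, 1, 2, 1, 1, 1],
  ![0, 1, 1, 2, 2, 1, 0],
  ![1, 1, 1, 1, 1, 1, 1],
  ![1, 1, 1, 2, 1, 1, 0],
  ![1, 1, 2, 2, 1, 0, 0],
  ![0, 1, 1, 2, 2, 1, 1],
  ![1, 1, 1, 2, 1, 1, 1],
  ![1, 1, 1, 2, 2, 1, 0],
  ![1, 1, 2, 2, 1, 1, 0],
  ![0, 1, 1, 2, 2, 2, 1],
  ![1, 1, 1, 2, 2, 1, 1],
  ![1, 1, 2, 2, 1, 1, 1],
  ![1, 1, 2, 2, 2, 1, 0],
  ![1, 1, 1, 2, 2, 2, 1],
  ![1, 1, 2, 2, 2, 1, 1],
  ![1, 1, 2, 3, 2, 1, 0],
  ![1, 1, 2, 2, 2, 2, 1],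
  ![1, 1, 2, 3, 2, 1, 1],
  ![1, 2, 2, 3, 2, 1, 0],
  ![1, 1, 2, 3, 2, 2, 1],
  ![1, 2, 2, 3, 2, 1, 1],
  ![1, 1, 2, 3, 3, 2, 1],
  ![1, 2, 2, 3, 2, 2, 1],
  ![1, 2, 2, 3, 3, 2, 1],
  ![1, 2, 2, 4, 3, 2, 1],
  ![1, 2, 3, 4, 3, 2, 1],
  ![2, 2, 3, 4, 3, 2, 1]]

/-- images under the simple reflections -/
def TE7 : List (List ℕ) := (beta% delta% lq268b948eba fun a _ d _ f =>
 (d (let b:=(let b:=(let b:=(let b:=(a 59<|a 60<|a 62<|a 61<|f);
 (a 55<|a 56<|a 57<|a 58<|b));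
 (let b:=(a 51<|a 52<|a 53<|a 54<|b);
 (a 47<|a 48<|a 45<|a 50<|b)));
 (let b:=(let b:=(a 37<|a 44<|a 49<|a 41<|b);
 (a 32<|a 40<|a 46<|a 36<|b));
 (let b:=(a 28<|a 42<|a 43<|a 31<|b);
 (a 38<|a 39<|a 25<|a 27<|b))));
 (let b:=(let b:=(let b:=(a 34<|a 35<|a 20<|a 22<|b);
 (a 15<|a 17<|a 33<|a 26<|b));
 (let b:=(a 19<|a 29<|a 21<|a 30<|b);
 (a 23<|a 16<|a 24<|a 10<|b)));
 (let b:=(let b:=(a 11<|a 4<|a 13<|a 14<|b);
 (a 7<|a 8<|a 9<|a 18<|b));
 (d 0<|d 1<|d 2<|d 3<|d 12<|d 5<|d 0<|b))))<|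
 d (let b:=(let b:=(let b:=(let b:=(a 57<|a 60<|a 61<|a 62<|f);
 (a 58<|a 53<|a 59<|a 55<|b));
 (let b:=(a 54<|a 52<|a 56<|a 51<|b);
 (a 47<|a 48<|a 49<|a 50<|b)));
 (let b:=(let b:=(a 43<|a 44<|a 45<|a 46<|b);
 (a 39<|a 40<|a 41<|a 42<|b));
 (let b:=(a 35<|a 36<|a 37<|a 33<|b);
 (a 25<|a 32<|a 38<|a 29<|b))));
 (let b:=(let b:=(let b:=(a 20<|a 28<|a 34<|a 23<|b);
 (a 30<|a 18<|a 31<|a 19<|b));
 (let b:=(a 26<|a 27<|a 14<|a 15<|b);
 (a 22<|a 9<|a 10<|a 24<|b)));
 (let b:=(let b:=(a 3<|a 12<|a 13<|a 21<|b);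
 (a 7<|a 8<|a 16<|a 17<|b));
 (d 0<|d 1<|d 2<|d 11<|d 4<|d 0<|d 6<|b))))<|
 d (let b:=(let b:=(let b:=(let b:=(a 59<|a 61<|a 60<|a 62<|f);
 (a 55<|a 56<|a 57<|a 58<|b));
 (let b:=(a 51<|a 49<|a 53<|a 54<|b);
 (a 42<|a 43<|a 52<|a 46<|b)));
 (let b:=(let b:=(a 48<|a 39<|a 45<|a 50<|b);
 (a 44<|a 35<|a 41<|a 47<|b));
 (let b:=(a 40<|a 36<|a 37<|a 38<|b);
 (a 26<|a 32<|a 33<|a 34<|b))));
 (let b:=(let b:=(let b:=(a 21<|a 28<|a 29<|a 30<|b);
 (a 23<|a 24<|a 19<|a 31<|b));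
 (let b:=(a 25<|a 14<|a 27<|a 16<|b);
 (a 9<|a 22<|a 11<|a 18<|b)));
 (let b:=(let b:=(a 17<|a 6<|a 13<|a 20<|b);
 (a 7<|a 8<|a 15<|a 3<|b));
 (d 0<|d 1<|d 2<|d 10<|d 0<|d 5<|d 12<|b))))<|
 d (let b:=(let b:=(let b:=(let b:=(a 60<|a 59<|a 61<|a 62<|f);
 (a 52<|a 56<|a 57<|a 58<|b));
 (let b:=(a 48<|a 55<|a 50<|a 54<|b);
 (a 47<|a 51<|a 49<|a 53<|b)));
 (let b:=(let b:=(a 43<|a 44<|a 45<|a 46<|b);
 (a 34<|a 40<|a 41<|a 38<|b));
 (let b:=(a 30<|a 31<|a 37<|a 42<|b);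
 (a 36<|a 27<|a 33<|a 39<|b))));
 (let b:=(let b:=(let b:=(a 32<|a 22<|a 29<|a 35<|b);
 (a 23<|a 24<|a 25<|a 26<|b));
 (let b:=(a 13<|a 20<|a 21<|a 28<|b);
 (a 15<|a 16<|a 17<|a 12<|b)));
 (let b:=(let b:=(a 5<|a 18<|a 19<|a 8<|b);
 (a 7<|a 14<|a 2<|a 4<|b));
 (d 0<|d 1<|d 9<|d 0<|d 10<|d 11<|d 6<|b))))<|
 d (let b:=(let b:=(let b:=(let b:=(a 58<|a 60<|a 61<|a 62<|f);
 (a 57<|a 56<|a 55<|a 59<|b));
 (let b:=(a 51<|a 52<|a 53<|a 54<|b);
 (a 50<|a 44<|a 49<|a 47<|b)));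
 (let b:=(let b:=(a 39<|a 48<|a 45<|a 42<|b);
 (a 43<|a 40<|a 36<|a 46<|b));
 (let b:=(a 35<|a 41<|a 32<|a 38<|b);
 (a 31<|a 37<|a 33<|a 34<|b))));
 (let b:=(let b:=(let b:=(a 27<|a 28<|a 29<|a 24<|b);
 (a 18<|a 30<|a 25<|a 26<|b));
 (let b:=(a 19<|a 20<|a 21<|a 17<|b);
 (a 10<|a 11<|a 22<|a 23<|b)));
 (let b:=(let b:=(a 16<|a 12<|a 7<|a 14<|b);
 (a 13<|a 1<|a 3<|a 15<|b));
 (d 0<|d 8<|d 0<|d 9<|d 4<|d 5<|d 6<|b))))<|
 d (let b:=(let b:=(let b:=(let b:=(a 59<|a 60<|a 61<|a 62<|f);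
 (a 53<|a 58<|a 57<|a 56<|b));
 (let b:=(a 51<|a 50<|a 55<|a 54<|b);
 (a 47<|a 48<|a 46<|a 52<|b)));
 (let b:=(let b:=(a 43<|a 40<|a 41<|a 49<|b);
 (a 35<|a 44<|a 45<|a 42<|b));
 (let b:=(a 39<|a 36<|a 37<|a 38<|b);
 (a 31<|a 28<|a 33<|a 30<|b))));
 (let b:=(let b:=(let b:=(a 22<|a 32<|a 23<|a 34<|b);
 (a 29<|a 24<|a 25<|a 26<|b));
 (let b:=(a 19<|a 15<|a 16<|a 27<|b);
 (a 20<|a 21<|a 17<|a 18<|b)));
 (let b:=(let b:=(a 11<|a 12<|a 13<|a 9<|b);
 (a 0<|a 2<|a 14<|a 10<|b));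
 (d 7<|d 0<|d 8<|d 3<|d 4<|d 5<|d 6<|b))))<|
 d (let b:=(let b:=(let b:=(let b:=(a 59<|a 60<|a 61<|a 62<|f);
 (a 55<|a 54<|a 57<|a 58<|b));
 (let b:=(a 53<|a 52<|a 51<|a 56<|b);
 (a 44<|a 50<|a 49<|a 48<|b)));
 (let b:=(let b:=(a 46<|a 47<|a 45<|a 43<|b);
 (a 42<|a 40<|a 37<|a 39<|b));
 (let b:=(a 35<|a 32<|a 41<|a 34<|b);
 (a 27<|a 36<|a 29<|a 38<|b))));
 (let b:=(let b:=(let b:=(a 31<|a 28<|a 33<|a 30<|b);
 (a 23<|a 24<|a 20<|a 21<|b));
 (let b:=(a 14<|a 25<|a 26<|a 22<|b);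
 (a 15<|a 16<|a 17<|a 18<|b)));
 (let b:=(let b:=(a 11<|a 12<|a 8<|a 19<|b);
 (a 1<|a 13<|a 9<|a 10<|b));
 (d 0<|d 7<|d 2<|d 3<|d 4<|d 5<|d 6<|b))))<|f))

def RE7 : Finset (Fin 7 → ℤ) := LE7.toFinset

set_option backward.isDefEq.respectTransparency false in
theorem isCartan_E7 : IsCartan CoxeterMatrix.E₇ AE7 := by
  constructor <;> decide +kernel

theorem card_E7 : RE7.card = 63 := by
  have h : LE7.Nodup := by (set_option synthInstance.maxSize 100000 in exact Cfsg.Agent.Lib.Refl.of (by decide +kernel))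
  exact (List.toFinset_card_of_nodup h).trans rfl

private noncomputable def _root_.Cfsg.Agent.LsF.f5f22e5_4 : {f // @Cfsg.Agent.ParSys.RootExc.LE7 = f} := ⟨_, by first | (delta Cfsg.Agent.ParSys.RootExc.LE7; rewrite [Cfsg.Agent.LsF.vecCons_eq]; exact rfl) | exact rfl⟩
private noncomputable def _root_.Cfsg.Agent.LsF.f5f22e5_5 : {f // @Cfsg.Agent.ParSys.RootExc.AE7 = f} := ⟨_, by first | (delta Cfsg.Agent.ParSys.RootExc.AE7; rewrite [Cfsg.Agent.LsF.ineg_pat, Cfsg.Agent.LsF.vecCons_eq]; exact rfl) | exact rfl⟩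
theorem posRoots_E7 : PosRoots AE7 RE7 where
  simple_mem := by
    have h : ∀ i, Pi.single i 1 ∈ LE7 := by decide +kernel
    exact fun i => List.mem_toFinset.2 (h i)
  pos := by
    have h : ∀ v ∈ LE7, ∀ i, 0 ≤ v i := by (refine of_decide_eq_true ?_; (try (rewrite [Cfsg.Agent.LsF.f5f22e5_4.2, Cfsg.Agent.LsF.idecLe_eq, Cfsg.Agent.LsF.dBAll_eq, Cfsg.Agent.LsF.dForallFin_eq, Cfsg.Agent.LsF.decide_eq])); decide +kernel)
    exact fun v hv => h v (List.mem_toFinset.1 hv)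
  ne := by
    have h : (0 : Fin 7 → ℤ) ∉ LE7 := by decide +kernel
    exact fun h0 => h (List.mem_toFinset.1 h0)
  perm := perm_of_table LE7 TE7 (by (set_option synthInstance.maxSize 100000 in exact Cfsg.Agent.Lib.Refl.of (by ((try (delta Cfsg.Agent.ChevalleyStructure.CoxeterGeom.pairing Cfsg.Agent.ChevalleyStructure.CoxeterGeom.refl Function.update Pi.single; rewrite [Cfsg.Agent.LsF.f5f22e5_5.2, Cfsg.Agent.LsF.f5f22e5_4.2, Cfsg.Agent.LsF.finFintype_eq, Cfsg.Agent.LsF.getD_eq, Cfsg.Agent.LsF.dFinEq_eq])); decide +kernel))))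

/-- Cartan matrix -/
def AE8 : Fin 8 → Fin 8 → ℤ := (beta% delta% lq268b948eba fun _ c _ e _ =>
 (c (c 2<|c 0<|c (-1)<|c 0<|c 0<|c 0<|c 0<|c 0<|e)<|
 c (c 0<|c 2<|c 0<|c (-1)<|c 0<|c 0<|c 0<|c 0<|e)<|
 c (c (-1)<|c 0<|c 2<|c (-1)<|c 0<|c 0<|c 0<|c 0<|e)<|
 c (c 0<|c (-1)<|c (-1)<|c 2<|c (-1)<|c 0<|c 0<|c 0<|e)<|
 c (c 0<|c 0<|c 0<|c (-1)<|c 2<|c (-1)<|c 0<|c 0<|e)<|
 c (c 0<|c 0<|c 0<|c 0<|c (-1)<|c 2<|c (-1)<|c 0<|e)<|
 c (c 0<|c 0<|c 0<|c 0<|c 0<|c (-1)<|c 2<|c (-1)<|e)<|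
 c (c 0<|c 0<|c 0<|c 0<|c 0<|c 0<|c (-1)<|c 2<|e)<|e))

/-- positive roots -/
def LE8 : List (Fin 8 → ℤ) := [![0, 0, 0, 0, 0, 0, 0, 1],
  ![0, 0, 0, 0, 0, 0, 1, 0],
  ![0, 0, 0, 0, 0, 1, 0, 0],
  ![0, 0, 0, 0, 1, 0, 0, 0],
  ![0, 0, 0, 1, 0, 0, 0, 0],
  ![0, 0, 1, 0, 0, 0, 0, 0],
  ![0, 1, 0, 0, 0, 0, 0, 0],
  ![1, 0, 0, 0, 0, 0, 0, 0],
  ![0, 0, 0, 0, 0, 0, 1, 1],
  ![0, 0, 0, 0, 0, 1, 1, 0],
  ![0, 0, 0, 0, 1, 1, 0, 0],
  ![0, 0, 0, 1, 1, 0, 0, 0],
  ![0, 0, 1, 1, 0, 0, 0, 0],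
  ![0, 1, 0, 1, 0, 0, 0, 0],
  ![1, 0, 1, 0, 0, 0, 0, 0],
  ![0, 0, 0, 0, 0, 1, 1, 1],
  ![0, 0, 0, 0, 1, 1, 1, 0],
  ![0, 0, 0, 1, 1, 1, 0, 0],
  ![0, 0, 1, 1, 1, 0, 0, 0],
  ![0, 1, 0, 1, 1, 0, 0, 0],
  ![0, 1, 1, 1, 0, 0, 0, 0],
  ![1, 0, 1, 1, 0, 0, 0, 0],
  ![0, 0, 0, 0, 1, 1, 1, 1],
  ![0, 0, 0, 1, 1, 1, 1, 0],
  ![0, 0, 1, 1, 1, 1, 0, 0],
  ![0, 1, 0, 1, 1, 1, 0, 0],
  ![0, 1, 1, 1, 1, 0, 0, 0],
  ![1, 0, 1, 1, 1, 0, 0, 0],
  ![1, 1, 1, 1, 0, 0, 0, 0],
  ![0, 0, 0, 1, 1, 1, 1, 1],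
  ![0, 0, 1, 1, 1, 1, 1, 0],
  ![0, 1, 0, 1, 1, 1, 1, 0],
  ![0, 1, 1, 1, 1, 1, 0, 0],
  ![0, 1, 1, 2, 1, 0, 0, 0],
  ![1, 0, 1, 1, 1, 1, 0, 0],
  ![1, 1, 1, 1, 1, 0, 0, 0],
  ![0, 0, 1, 1, 1, 1, 1, 1],
  ![0, 1, 0, 1, 1, 1, 1, 1],
  ![0, 1, 1, 1, 1, 1, 1, 0],
  ![0, 1, 1, 2, 1, 1, 0, 0],
  ![1, 0, 1, 1, 1, 1, 1, 0],
  ![1, 1, 1, 1, 1, 1, 0, 0],
  ![1, 1, 1, 2, 1, 0, 0, 0],
  ![0, 1, 1, 1, 1, 1, 1, 1],
  ![0, 1, 1, 2, 1, 1, 1, 0],
  ![0, 1, 1, 2, 2, 1, 0, 0],
  ![1, 0, 1, 1, 1, 1, 1, 1],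
  ![1, 1, 1, 1, 1, 1, 1, 0],
  ![1, 1, 1, 2, 1, 1, 0, 0],
  ![1, 1, 2, 2, 1, 0, 0, 0],
  ![0, 1, 1, 2, 1, 1, 1, 1],
  ![0, 1, 1, 2, 2, 1, 1, 0],
  ![1, 1, 1, 1, 1, 1, 1, 1],
  ![1, 1, 1, 2, 1, 1, 1, 0],
  ![1, 1, 1, 2, 2, 1, 0, 0],
  ![1, 1, 2, 2, 1, 1, 0, 0],
  ![0, 1, 1, 2, 2, 1, 1, 1],
  ![0, 1, 1, 2, 2, 2, 1, 0],
  ![1, 1, 1, 2, 1, 1, 1, 1],
  ![1, 1, 1, 2, 2, 1, 1, 0],
  ![1, 1, 2, 2, 1, 1, 1, 0],
  ![1, 1, 2, 2, 2, 1, 0, 0],
  ![0, 1, 1, 2, 2, 2, 1, 1],
  ![1, 1, 1, 2, 2, 1, 1, 1],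
  ![1, 1, 1, 2, 2, 2, 1, 0],
  ![1, 1, 2, 2, 1, 1, 1, 1],
  ![1, 1, 2, 2, 2, 1, 1, 0],
  ![1, 1, 2, 3, 2, 1, 0, 0],
  ![0, 1, 1, 2, 2, 2, 2, 1],
  ![1, 1, 1, 2, 2, 2, 1, 1],
  ![1, 1, 2, 2, 2, 1, 1, 1],
  ![1, 1, 2, 2, 2, 2, 1, 0],
  ![1, 1, 2, 3, 2, 1, 1, 0],
  ![1, 2, 2, 3, 2, 1, 0, 0],
  ![1, 1, 1, 2, 2, 2, 2, 1],
  ![1, 1, 2, 2, 2, 2, 1, 1],
  ![1, 1, 2, 3, 2, 1, 1, 1],
  ![1, 1, 2, 3, 2, 2, 1, 0],
  ![1, 2, 2, 3, 2, 1, 1, 0],
  ![1, 1, 2, 2, 2, 2, 2, 1],
  ![1, 1, 2, 3, 2, 2, 1, 1],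
  ![1, 1, 2, 3, 3, 2, 1, 0],
  ![1, 2, 2, 3, 2, 1, 1, 1],
  ![1, 2, 2, 3, 2, 2, 1, 0],
  ![1, 1, 2, 3, 2, 2, 2, 1],
  ![1, 1, 2, 3, 3, 2, 1, 1],
  ![1, 2, 2, 3, 2, 2, 1, 1],
  ![1, 2, 2, 3, 3, 2, 1, 0],
  ![1, 1, 2, 3, 3, 2, 2, 1],
  ![1, 2, 2, 3, 2, 2, 2, 1],
  ![1, 2, 2, 3, 3, 2, 1, 1],
  ![1, 2, 2, 4, 3, 2, 1, 0],
  ![1, 1, 2, 3, 3, 3, 2, 1],
  ![1, 2, 2, 3, 3, 2, 2, 1],
  ![1, 2, 2, 4, 3, 2, 1, 1],
  ![1, 2, 3, 4, 3, 2, 1, 0],
  ![1, 2, 2, 3, 3, 3, 2, 1],
  ![1, 2, 2, 4, 3, 2, 2, 1],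
  ![1, 2, 3, 4, 3, 2, 1, 1],
  ![2, 2, 3, 4, 3, 2, 1, 0],
  ![1, 2, 2, 4, 3, 3, 2, 1],
  ![1, 2, 3, 4, 3, 2, 2, 1],
  ![2, 2, 3, 4, 3, 2, 1, 1],
  ![1, 2, 2, 4, 4, 3, 2, 1],
  ![1, 2, 3, 4, 3, 3, 2, 1],
  ![2, 2, 3, 4, 3, 2, 2, 1],
  ![1, 2, 3, 4, 4, 3, 2, 1],
  ![2, 2, 3, 4, 3, 3, 2, 1],
  ![1, 2, 3, 5, 4, 3, 2, 1],
  ![2, 2, 3, 4, 4, 3, 2, 1],
  ![1, 3, 3, 5, 4, 3, 2, 1],
  ![2, 2, 3, 5, 4, 3, 2, 1],
  ![2, 2, 4, 5, 4, 3, 2, 1],
  ![2, 3, 3, 5, 4, 3, 2, 1],
  ![2, 3, 4, 5, 4, 3, 2, 1],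
  ![2, 3, 4, 6, 4, 3, 2, 1],
  ![2, 3, 4, 6, 5, 3, 2, 1],
  ![2, 3, 4, 6, 5, 4, 2, 1],
  ![2, 3, 4, 6, 5, 4, 3, 1],
  ![2, 3, 4, 6, 5, 4, 3, 2]]

/-- images under the simple reflections -/
def TE8 : List (List ℕ) := (beta% delta% lq268b948eba fun a _ d _ f =>
 (d (let b:=(let b:=(let b:=(let b:=(let b:=(a 116<|a 117<|a 118<|a 119<|f);
 (a 112<|a 110<|a 114<|a 115<|b));
 (a 101<|a 109<|a 104<|a 111<|a 106<|a 113<|a 108<|b));
 (let b:=(let b:=(a 105<|a 98<|a 103<|a 107<|b);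
 (a 97<|a 102<|a 95<|a 100<|b));
 (a 90<|a 91<|a 92<|a 93<|a 94<|a 99<|a 96<|b)));
 (let b:=(let b:=(let b:=(a 86<|a 87<|a 88<|a 89<|b);
 (a 82<|a 83<|a 84<|a 85<|b));
 (a 75<|a 76<|a 77<|a 78<|a 79<|a 80<|a 81<|b));
 (let b:=(let b:=(a 71<|a 72<|a 73<|a 68<|b);
 (a 67<|a 74<|a 62<|a 70<|b));
 (a 60<|a 61<|a 69<|a 56<|a 57<|a 65<|a 66<|b))));
 (let b:=(let b:=(let b:=(let b:=(a 63<|a 64<|a 50<|a 51<|b);
 (a 43<|a 44<|a 45<|a 55<|b));
 (a 54<|a 36<|a 38<|a 39<|a 49<|a 58<|a 59<|b));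
 (let b:=(let b:=(a 32<|a 33<|a 52<|a 53<|b);
 (a 37<|a 47<|a 48<|a 30<|b));
 (a 40<|a 31<|a 41<|a 42<|a 24<|a 26<|a 46<|b)));
 (let b:=(let b:=(let b:=(a 35<|a 18<|a 20<|a 29<|b);
 (a 22<|a 23<|a 34<|a 25<|b));
 (a 15<|a 16<|a 17<|a 27<|a 19<|a 28<|a 12<|b));
 (let b:=(let b:=(a 11<|a 21<|a 13<|a 5<|b);
 (a 0<|a 8<|a 9<|a 10<|b));
 (d 0<|d 1<|d 2<|d 3<|d 4<|d 14<|d 6<|b)))))<|
 d (let b:=(let b:=(let b:=(let b:=(let b:=(a 116<|a 117<|a 118<|a 119<|f);
 (a 114<|a 111<|a 112<|a 115<|b));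
 (a 105<|a 106<|a 107<|a 110<|a 109<|a 108<|a 113<|b));
 (let b:=(let b:=(a 101<|a 102<|a 103<|a 104<|b);
 (a 97<|a 98<|a 99<|a 100<|b));
 (a 85<|a 91<|a 96<|a 88<|a 94<|a 95<|a 92<|b)));
 (let b:=(let b:=(let b:=(a 80<|a 81<|a 93<|a 84<|b);
 (a 76<|a 77<|a 89<|a 90<|b));
 (a 75<|a 82<|a 83<|a 72<|a 79<|a 86<|a 87<|b));
 (let b:=(let b:=(a 71<|a 78<|a 67<|a 74<|b);
 (a 73<|a 68<|a 69<|a 70<|b));
 (a 60<|a 61<|a 62<|a 63<|a 64<|a 65<|a 66<|b))));
 (let b:=(let b:=(let b:=(let b:=(a 56<|a 57<|a 58<|a 59<|b);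
 (a 46<|a 53<|a 54<|a 55<|b));
 (a 45<|a 52<|a 40<|a 48<|a 49<|a 50<|a 51<|b));
 (let b:=(let b:=(a 34<|a 42<|a 36<|a 44<|b);
 (a 29<|a 30<|a 39<|a 47<|b));
 (a 38<|a 23<|a 24<|a 33<|a 41<|a 27<|a 43<|b)));
 (let b:=(let b:=(let b:=(a 18<|a 35<|a 21<|a 37<|b);
 (a 22<|a 31<|a 32<|a 17<|b));
 (a 15<|a 16<|a 25<|a 26<|a 11<|a 12<|a 28<|b));
 (let b:=(let b:=(a 19<|a 20<|a 4<|a 14<|b);
 (a 7<|a 8<|a 9<|a 10<|b));
 (d 0<|d 1<|d 2<|d 3<|d 13<|d 5<|d 0<|b)))))<|
 d (let b:=(let b:=(let b:=(let b:=(let b:=(a 116<|a 117<|a 118<|a 119<|f);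
 (a 111<|a 114<|a 113<|a 115<|b));
 (a 105<|a 103<|a 107<|a 108<|a 109<|a 110<|a 112<|b));
 (let b:=(let b:=(a 97<|a 102<|a 106<|a 100<|b);
 (a 101<|a 94<|a 99<|a 104<|b));
 (a 90<|a 95<|a 92<|a 93<|a 98<|a 91<|a 96<|b)));
 (let b:=(let b:=(let b:=(a 86<|a 87<|a 88<|a 89<|b);
 (a 82<|a 83<|a 84<|a 85<|b));
 (a 69<|a 76<|a 77<|a 78<|a 74<|a 80<|a 81<|b));
 (let b:=(let b:=(a 64<|a 72<|a 73<|a 79<|b);
 (a 67<|a 68<|a 75<|a 63<|b));
 (a 53<|a 54<|a 62<|a 70<|a 71<|a 58<|a 59<|b))));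
 (let b:=(let b:=(let b:=(let b:=(a 56<|a 57<|a 65<|a 66<|b);
 (a 52<|a 60<|a 61<|a 48<|b));
 (a 45<|a 46<|a 47<|a 55<|a 42<|a 50<|a 51<|b));
 (let b:=(let b:=(a 41<|a 49<|a 37<|a 44<|b);
 (a 43<|a 31<|a 39<|a 40<|b));
 (a 23<|a 38<|a 25<|a 33<|a 34<|a 35<|a 29<|b)));
 (let b:=(let b:=(let b:=(a 19<|a 27<|a 28<|a 36<|b);
 (a 22<|a 30<|a 17<|a 32<|b));
 (a 15<|a 16<|a 24<|a 11<|a 26<|a 13<|a 21<|b));
 (let b:=(let b:=(a 18<|a 4<|a 20<|a 7<|b);
 (a 14<|a 8<|a 9<|a 10<|b));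
 (d 0<|d 1<|d 2<|d 3<|d 12<|d 0<|d 6<|b)))))<|
 d (let b:=(let b:=(let b:=(let b:=(let b:=(a 116<|a 117<|a 118<|a 119<|f);
 (a 112<|a 113<|a 115<|a 114<|b));
 (a 105<|a 108<|a 107<|a 106<|a 111<|a 110<|a 109<|b));
 (let b:=(let b:=(a 101<|a 102<|a 103<|a 104<|b);
 (a 93<|a 98<|a 99<|a 96<|b));
 (a 94<|a 87<|a 92<|a 97<|a 90<|a 95<|a 100<|b)));
 (let b:=(let b:=(let b:=(a 86<|a 91<|a 88<|a 89<|b);
 (a 82<|a 83<|a 79<|a 85<|b));
 (a 80<|a 70<|a 71<|a 78<|a 84<|a 75<|a 81<|b));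
 (let b:=(let b:=(a 77<|a 66<|a 73<|a 74<|b);
 (a 61<|a 68<|a 69<|a 76<|b));
 (a 60<|a 67<|a 62<|a 63<|a 64<|a 65<|a 72<|b))));
 (let b:=(let b:=(let b:=(let b:=(a 56<|a 57<|a 52<|a 59<|b);
 (a 58<|a 47<|a 54<|a 55<|b));
 (a 45<|a 46<|a 53<|a 41<|a 49<|a 43<|a 51<|b));
 (let b:=(let b:=(a 48<|a 35<|a 50<|a 38<|b);
 (a 37<|a 44<|a 32<|a 40<|b));
 (a 30<|a 31<|a 39<|a 26<|a 34<|a 42<|a 36<|b)));
 (let b:=(let b:=(let b:=(a 33<|a 27<|a 28<|a 22<|b);
 (a 29<|a 16<|a 24<|a 25<|b));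
 (a 15<|a 23<|a 10<|a 18<|a 19<|a 20<|a 14<|b));
 (let b:=(let b:=(a 3<|a 5<|a 6<|a 21<|b);
 (a 7<|a 8<|a 9<|a 17<|b));
 (d 0<|d 1<|d 2<|d 11<|d 0<|d 12<|d 13<|b)))))<|
 d (let b:=(let b:=(let b:=(let b:=(let b:=(a 115<|a 117<|a 118<|a 119<|f);
 (a 112<|a 113<|a 114<|a 116<|b));
 (a 105<|a 104<|a 109<|a 108<|a 107<|a 110<|a 111<|b));
 (let b:=(let b:=(a 101<|a 102<|a 100<|a 106<|b);
 (a 97<|a 98<|a 99<|a 103<|b));
 (a 86<|a 91<|a 92<|a 89<|a 94<|a 95<|a 96<|b)));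
 (let b:=(let b:=(let b:=(a 90<|a 83<|a 84<|a 93<|b);
 (a 82<|a 87<|a 88<|a 80<|b));
 (a 75<|a 76<|a 81<|a 78<|a 79<|a 85<|a 77<|b));
 (let b:=(let b:=(a 71<|a 72<|a 73<|a 74<|b);
 (a 67<|a 68<|a 69<|a 65<|b));
 (a 66<|a 55<|a 62<|a 58<|a 64<|a 70<|a 60<|b))));
 (let b:=(let b:=(let b:=(let b:=(a 50<|a 57<|a 63<|a 53<|b);
 (a 52<|a 59<|a 48<|a 61<|b));
 (a 39<|a 46<|a 47<|a 54<|a 49<|a 56<|a 44<|b));
 (let b:=(let b:=(a 41<|a 42<|a 43<|a 51<|b);
 (a 37<|a 38<|a 45<|a 40<|b));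
 (a 30<|a 31<|a 32<|a 33<|a 34<|a 28<|a 36<|b)));
 (let b:=(let b:=(let b:=(a 20<|a 21<|a 35<|a 29<|b);
 (a 15<|a 23<|a 24<|a 25<|b));
 (a 22<|a 9<|a 17<|a 12<|a 13<|a 26<|a 27<|b));
 (let b:=(let b:=(a 4<|a 18<|a 19<|a 14<|b);
 (a 7<|a 8<|a 16<|a 2<|b));
 (d 0<|d 1<|d 10<|d 0<|d 11<|d 5<|d 6<|b)))))<|
 d (let b:=(let b:=(let b:=(let b:=(let b:=(a 117<|a 116<|a 118<|a 119<|f);
 (a 112<|a 113<|a 114<|a 115<|b));
 (a 107<|a 106<|a 105<|a 108<|a 109<|a 110<|a 111<|b));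
 (let b:=(let b:=(a 104<|a 102<|a 103<|a 101<|b);
 (a 100<|a 98<|a 99<|a 97<|b));
 (a 90<|a 91<|a 88<|a 96<|a 94<|a 95<|a 93<|b)));
 (let b:=(let b:=(let b:=(a 82<|a 87<|a 92<|a 89<|b);
 (a 86<|a 78<|a 84<|a 85<|b));
 (a 70<|a 80<|a 72<|a 83<|a 79<|a 76<|a 81<|b));
 (let b:=(let b:=(a 66<|a 77<|a 73<|a 74<|b);
 (a 67<|a 68<|a 63<|a 75<|b));
 (a 60<|a 61<|a 56<|a 69<|a 59<|a 65<|a 71<|b))));
 (let b:=(let b:=(let b:=(let b:=(a 62<|a 51<|a 58<|a 64<|b);
 (a 52<|a 53<|a 54<|a 49<|b));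
 (a 45<|a 46<|a 47<|a 42<|a 55<|a 50<|a 57<|b));
 (let b:=(let b:=(a 35<|a 48<|a 43<|a 44<|b);
 (a 37<|a 38<|a 33<|a 40<|b));
 (a 30<|a 31<|a 26<|a 39<|a 27<|a 41<|a 36<|b)));
 (let b:=(let b:=(let b:=(a 32<|a 34<|a 28<|a 29<|b);
 (a 22<|a 23<|a 18<|a 19<|b));
 (a 8<|a 16<|a 11<|a 24<|a 25<|a 20<|a 21<|b));
 (let b:=(let b:=(a 17<|a 12<|a 13<|a 14<|b);
 (a 7<|a 15<|a 1<|a 3<|b));
 (d 0<|d 9<|d 0<|d 10<|d 4<|d 5<|d 6<|b)))))<|
 d (let b:=(let b:=(let b:=(let b:=(let b:=(a 116<|a 118<|a 117<|a 119<|f);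
 (a 112<|a 113<|a 114<|a 115<|b));
 (a 102<|a 106<|a 107<|a 108<|a 109<|a 110<|a 111<|b));
 (let b:=(let b:=(a 98<|a 105<|a 103<|a 104<|b);
 (a 94<|a 101<|a 99<|a 100<|b));
 (a 93<|a 91<|a 92<|a 90<|a 97<|a 95<|a 96<|b)));
 (let b:=(let b:=(let b:=(a 89<|a 87<|a 85<|a 86<|b);
 (a 82<|a 83<|a 80<|a 88<|b));
 (a 79<|a 76<|a 77<|a 73<|a 75<|a 84<|a 81<|b));
 (let b:=(let b:=(a 71<|a 67<|a 78<|a 69<|b);
 (a 72<|a 62<|a 74<|a 70<|b));
 (a 55<|a 66<|a 68<|a 63<|a 64<|a 65<|a 61<|b))));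
 (let b:=(let b:=(let b:=(let b:=(a 56<|a 57<|a 58<|a 54<|b);
 (a 52<|a 48<|a 59<|a 60<|b));
 (a 51<|a 46<|a 41<|a 53<|a 49<|a 50<|a 45<|b));
 (let b:=(let b:=(a 47<|a 42<|a 43<|a 39<|b);
 (a 37<|a 32<|a 44<|a 34<|b));
 (a 24<|a 25<|a 38<|a 33<|a 40<|a 35<|a 36<|b)));
 (let b:=(let b:=(let b:=(a 26<|a 27<|a 28<|a 29<|b);
 (a 22<|a 17<|a 30<|a 31<|b));
 (a 15<|a 10<|a 23<|a 18<|a 19<|a 20<|a 21<|b));
 (let b:=(let b:=(a 11<|a 12<|a 13<|a 14<|b);
 (a 7<|a 0<|a 2<|a 16<|b));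
 (d 8<|d 0<|d 9<|d 3<|d 4<|d 5<|d 6<|b)))))<|
 d (let b:=(let b:=(let b:=(let b:=(let b:=(a 116<|a 117<|a 119<|a 118<|f);
 (a 112<|a 113<|a 114<|a 115<|b));
 (a 105<|a 106<|a 107<|a 108<|a 109<|a 110<|a 111<|b));
 (let b:=(let b:=(a 101<|a 99<|a 103<|a 104<|b);
 (a 97<|a 95<|a 102<|a 100<|b));
 (a 87<|a 94<|a 92<|a 93<|a 91<|a 98<|a 96<|b)));
 (let b:=(let b:=(let b:=(a 83<|a 90<|a 88<|a 89<|b);
 (a 78<|a 86<|a 84<|a 81<|b));
 (a 71<|a 72<|a 80<|a 82<|a 79<|a 77<|a 85<|b));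
 (let b:=(let b:=(a 75<|a 76<|a 73<|a 74<|b);
 (a 67<|a 68<|a 64<|a 66<|b));
 (a 65<|a 61<|a 57<|a 59<|a 69<|a 60<|a 70<|b))));
 (let b:=(let b:=(let b:=(let b:=(a 51<|a 62<|a 53<|a 63<|b);
 (a 47<|a 58<|a 54<|a 55<|b));
 (a 45<|a 40<|a 52<|a 48<|a 49<|a 44<|a 56<|b));
 (let b:=(let b:=(a 41<|a 42<|a 38<|a 50<|b);
 (a 31<|a 43<|a 39<|a 46<|b));
 (a 36<|a 37<|a 32<|a 33<|a 34<|a 35<|a 30<|b)));
 (let b:=(let b:=(let b:=(a 26<|a 27<|a 28<|a 23<|b);
 (a 16<|a 29<|a 24<|a 25<|b));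
 (a 9<|a 22<|a 17<|a 18<|a 19<|a 20<|a 21<|b));
 (let b:=(let b:=(a 11<|a 12<|a 13<|a 14<|b);
 (a 7<|a 1<|a 15<|a 10<|b));
 (d 0<|d 8<|d 2<|d 3<|d 4<|d 5<|d 6<|b)))))<|f))

def RE8 : Finset (Fin 8 → ℤ) := LE8.toFinset

set_option backward.isDefEq.respectTransparency false in
theorem isCartan_E8 : IsCartan CoxeterMatrix.E₈ AE8 := by
  constructor <;> decide +kernel

private noncomputable def _root_.Cfsg.Agent.LsF.f5f22e5_6 : {f // @Cfsg.Agent.ParSys.RootExc.LE8 = f} := ⟨_, by first | (delta Cfsg.Agent.ParSys.RootExc.LE8; rewrite [Cfsg.Agent.LsF.vecCons_eq]; exact rfl) | exact rfl⟩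
theorem card_E8 : RE8.card = 120 := by
  have h : LE8.Nodup := by (set_option synthInstance.maxSize 100000 in exact Cfsg.Agent.Lib.Refl.of (by ((try (rewrite [Cfsg.Agent.LsF.f5f22e5_6.2])); decide +kernel)))
  exact (List.toFinset_card_of_nodup h).trans rfl

private noncomputable def _root_.Cfsg.Agent.LsF.f5f22e5_7 : {f // @Cfsg.Agent.ParSys.RootExc.AE8 = f} := ⟨_, by first | (delta Cfsg.Agent.ParSys.RootExc.AE8; rewrite [Cfsg.Agent.LsF.ineg_pat, Cfsg.Agent.LsF.vecCons_eq]; exact rfl) | exact rfl⟩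
theorem posRoots_E8 : PosRoots AE8 RE8 where
  simple_mem := by
    have h : ∀ i, Pi.single i 1 ∈ LE8 := by decide +kernel
    exact fun i => List.mem_toFinset.2 (h i)
  pos := by
    have h : ∀ v ∈ LE8, ∀ i, 0 ≤ v i := by (refine of_decide_eq_true ?_; (try (rewrite [Cfsg.Agent.LsF.f5f22e5_6.2, Cfsg.Agent.LsF.idecLe_eq, Cfsg.Agent.LsF.dBAll_eq, Cfsg.Agent.LsF.dForallFin_eq, Cfsg.Agent.LsF.decide_eq])); decide +kernel)
    exact fun v hv => h v (List.mem_toFinset.1 hv)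
  ne := by
    have h : (0 : Fin 8 → ℤ) ∉ LE8 := by decide +kernel
    exact fun h0 => h (List.mem_toFinset.1 h0)
  perm := perm_of_table LE8 TE8 (by (refine of_decide_eq_true ?_; (try (delta Cfsg.Agent.ChevalleyStructure.CoxeterGeom.pairing Cfsg.Agent.ChevalleyStructure.CoxeterGeom.refl Function.update Pi.single; rewrite [Cfsg.Agent.LsF.dPiF_pat, Cfsg.Agent.LsF.f5f22e5_6.2, Cfsg.Agent.LsF.f5f22e5_7.2, Cfsg.Agent.LsF.finFintype_eq, Cfsg.Agent.LsF.decLt_eq, Cfsg.Agent.LsF.getD_eq, Cfsg.Agent.LsF.instIDecEq_eq, Cfsg.Agent.LsF.dAnd_eq, Cfsg.Agent.LsF.dOr_eq, Cfsg.Agent.LsF.dFinEq_eq, Cfsg.Agent.LsF.dBallLT_eq, Cfsg.Agent.LsF.dForallFin_eq, Cfsg.Agent.LsF.length_eq, Cfsg.Agent.LsF.decide_eq])); decide +kernel))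

end Cfsg.Agent.ParSys.RootExc
end

-- part: Mrg/Omega/EH3Close/Roots
section
set_option linter.all false


/-!
# EH3 END: the positive roots of `A₅`, `D₆`, `B₃`, `C₃` in the coordinates of the simple roots
-/

set_option autoImplicit false
set_option Elab.async false

namespace Cfsg.Agent.Omega.EH3Close.Roots

open Cfsg.Agent.ChevalleyStructure.CoxeterGeom Cfsg.Agent.ParSys.RootCount Cfsg.Agent.ParSys.RootExc
open Cfsg.Agent.LieRecognition.BNCox (cA)

/-- Cartan matrix -/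
def AA5 : Fin 5 → Fin 5 → ℤ := ![![2, -1, 0, 0, 0],
  ![-1, 2, -1, 0, 0],
  ![0, -1, 2, -1, 0],
  ![0, 0, -1, 2, -1],
  ![0, 0, 0, -1, 2]]

/-- positive roots -/
def LA5 : List (Fin 5 → ℤ) := [![0, 0, 0, 0, 1],
  ![0, 0, 0, 1, 0],
  ![0, 0, 1, 0, 0],
  ![0, 1, 0, 0, 0],
  ![1, 0, 0, 0, 0],
  ![0, 0, 0, 1, 1],
  ![0, 0, 1, 1, 0],
  ![0, 1, 1, 0, 0],
  ![1, 1, 0, 0, 0],
  ![0, 0, 1, 1, 1],
  ![0, 1, 1, 1, 0],
  ![1, 1, 1, 0, 0],
  ![0, 1, 1, 1, 1],
  ![1, 1, 1, 1, 0],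
  ![1, 1, 1, 1, 1]]

/-- images under the simple reflections -/
def TA5 : List (List ℕ) := [[0, 1, 2, 8, 0, 5, 6, 11, 3, 9, 13, 7, 14, 10, 12],
  [0, 1, 7, 0, 8, 5, 10, 2, 4, 12, 6, 11, 9, 13, 14],
  [0, 6, 0, 7, 4, 9, 1, 3, 11, 5, 10, 8, 12, 13, 14],
  [5, 0, 6, 3, 4, 0, 2, 10, 8, 9, 7, 13, 12, 11, 14],
  [0, 5, 2, 3, 4, 1, 9, 7, 8, 6, 12, 11, 10, 14, 13]]

def RA5 : Finset (Fin 5 → ℤ) := LA5.toFinset

theorem nodup_A5 : LA5.Nodup := by decide +kernel

theorem posRoots_A5 : PosRoots AA5 RA5 where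
  simple_mem := by
    have h : ∀ i, Pi.single i 1 ∈ LA5 := by decide +kernel
    exact fun i => List.mem_toFinset.2 (h i)
  pos := by
    have h : ∀ v ∈ LA5, ∀ i, 0 ≤ v i := by decide +kernel
    exact fun v hv => h v (List.mem_toFinset.1 hv)
  ne := by
    have h : (0 : Fin 5 → ℤ) ∉ LA5 := by decide +kernel
    exact fun h0 => h (List.mem_toFinset.1 h0)
  perm := perm_of_table LA5 TA5 (by decide +kernel)

/-- Cartan matrix -/
def AD6 : Fin 6 → Fin 6 → ℤ := ![![2, -1, 0, 0, 0, 0],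
  ![-1, 2, -1, 0, 0, 0],
  ![0, -1, 2, -1, 0, 0],
  ![0, 0, -1, 2, -1, -1],
  ![0, 0, 0, -1, 2, 0],
  ![0, 0, 0, -1, 0, 2]]

/-- positive roots -/
def LD6 : List (Fin 6 → ℤ) := [![0, 0, 0, 0, 0, 1],
  ![0, 0, 0, 0, 1, 0],
  ![0, 0, 0, 1, 0, 0],
  ![0, 0, 1, 0, 0, 0],
  ![0, 1, 0, 0, 0, 0],
  ![1, 0, 0, 0, 0, 0],
  ![0, 0, 0, 1, 0, 1],
  ![0, 0, 0, 1, 1, 0],
  ![0, 0, 1, 1, 0, 0],
  ![0, 1, 1, 0, 0, 0],
  ![1, 1, 0, 0, 0, 0],
  ![0, 0, 0, 1, 1, 1],
  ![0, 0, 1, 1, 0, 1],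
  ![0, 0, 1, 1, 1, 0],
  ![0, 1, 1, 1, 0, 0],
  ![1, 1, 1, 0, 0, 0],
  ![0, 0, 1, 1, 1, 1],
  ![0, 1, 1, 1, 0, 1],
  ![0, 1, 1, 1, 1, 0],
  ![1, 1, 1, 1, 0, 0],
  ![0, 0, 1, 2, 1, 1],
  ![0, 1, 1, 1, 1, 1],
  ![1, 1, 1, 1, 0, 1],
  ![1, 1, 1, 1, 1, 0],
  ![0, 1, 1, 2, 1, 1],
  ![1, 1, 1, 1, 1, 1],
  ![0, 1, 2, 2, 1, 1],
  ![1, 1, 1, 2, 1, 1],
  ![1, 1, 2, 2, 1, 1],
  ![1, 2, 2, 2, 1, 1]]

/-- images under the simple reflections -/
def TD6 : List (List ℕ) := [[0, 1, 2, 3, 10, 0, 6, 7, 8, 15, 4, 11, 12, 13, 19, 9, 16, 22, 23, 14, 20, 25, 17, 18, 27, 21, 28, 24, 26, 29],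
  [0, 1, 2, 9, 0, 10, 6, 7, 14, 3, 5, 11, 17, 18, 8, 15, 21, 12, 13, 19, 24, 16, 22, 23, 20, 25, 26, 27, 29, 28],
  [0, 1, 8, 0, 9, 5, 12, 13, 2, 4, 15, 16, 6, 7, 14, 10, 11, 17, 18, 19, 20, 21, 22, 23, 26, 25, 24, 28, 27, 29],
  [6, 7, 0, 8, 4, 5, 0, 1, 3, 14, 10, 11, 12, 13, 9, 19, 20, 17, 18, 15, 16, 24, 22, 23, 21, 27, 26, 25, 28, 29],
  [0, 0, 7, 3, 4, 5, 11, 2, 13, 9, 10, 6, 16, 8, 18, 15, 12, 21, 14, 23, 20, 17, 25, 19, 24, 22, 26, 27, 28, 29],
  [0, 1, 6, 3, 4, 5, 2, 11, 12, 9, 10, 7, 8, 16, 17, 15, 13, 14, 21, 22, 20, 18, 19, 25, 24, 23, 26, 27, 28, 29]]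

def RD6 : Finset (Fin 6 → ℤ) := LD6.toFinset

theorem nodup_D6 : LD6.Nodup := by decide +kernel

theorem posRoots_D6 : PosRoots AD6 RD6 where
  simple_mem := by
    have h : ∀ i, Pi.single i 1 ∈ LD6 := by decide +kernel
    exact fun i => List.mem_toFinset.2 (h i)
  pos := by
    have h : ∀ v ∈ LD6, ∀ i, 0 ≤ v i := by decide +kernel
    exact fun v hv => h v (List.mem_toFinset.1 hv)
  ne := by
    have h : (0 : Fin 6 → ℤ) ∉ LD6 := by decide +kernel
    exact fun h0 => h (List.mem_toFinset.1 h0)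
  perm := perm_of_table LD6 TD6 (by decide +kernel)

/-- Cartan matrix -/
def AB3 : Fin 3 → Fin 3 → ℤ := ![![2, -1, 0],
  ![-1, 2, -1],
  ![0, -2, 2]]

/-- positive roots -/
def LB3 : List (Fin 3 → ℤ) := [![0, 0, 1],
  ![0, 1, 0],
  ![1, 0, 0],
  ![0, 1, 1],
  ![1, 1, 0],
  ![0, 1, 2],
  ![1, 1, 1],
  ![1, 1, 2],
  ![1, 2, 2]]

/-- images under the simple reflections -/
def TB3 : List (List ℕ) := [[0, 4, 0, 6, 1, 7, 3, 5, 8],
  [3, 0, 4, 0, 2, 5, 6, 8, 7],
  [0, 5, 2, 3, 7, 1, 6, 4, 8]]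

def RB3 : Finset (Fin 3 → ℤ) := LB3.toFinset

theorem nodup_B3 : LB3.Nodup := by decide +kernel

theorem posRoots_B3 : PosRoots AB3 RB3 where
  simple_mem := by
    have h : ∀ i, Pi.single i 1 ∈ LB3 := by decide +kernel
    exact fun i => List.mem_toFinset.2 (h i)
  pos := by
    have h : ∀ v ∈ LB3, ∀ i, 0 ≤ v i := by decide +kernel
    exact fun v hv => h v (List.mem_toFinset.1 hv)
  ne := by
    have h : (0 : Fin 3 → ℤ) ∉ LB3 := by decide +kernel
    exact fun h0 => h (List.mem_toFinset.1 h0)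
  perm := perm_of_table LB3 TB3 (by decide +kernel)

/-- Cartan matrix -/
def AC3 : Fin 3 → Fin 3 → ℤ := ![![2, -1, 0],
  ![-1, 2, -2],
  ![0, -1, 2]]

/-- positive roots -/
def LC3 : List (Fin 3 → ℤ) := [![0, 0, 1],
  ![0, 1, 0],
  ![1, 0, 0],
  ![0, 1, 1],
  ![1, 1, 0],
  ![0, 2, 1],
  ![1, 1, 1],
  ![1, 2, 1],
  ![2, 2, 1]]

/-- images under the simple reflections -/
def TC3 : List (List ℕ) := [[0, 4, 0, 6, 1, 8, 3, 7, 5],
  [5, 0, 4, 3, 2, 0, 7, 6, 8],
  [0, 3, 2, 1, 6, 5, 4, 7, 8]]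

def RC3 : Finset (Fin 3 → ℤ) := LC3.toFinset

theorem nodup_C3 : LC3.Nodup := by decide +kernel

theorem posRoots_C3 : PosRoots AC3 RC3 where
  simple_mem := by
    have h : ∀ i, Pi.single i 1 ∈ LC3 := by decide +kernel
    exact fun i => List.mem_toFinset.2 (h i)
  pos := by
    have h : ∀ v ∈ LC3, ∀ i, 0 ≤ v i := by decide +kernel
    exact fun v hv => h v (List.mem_toFinset.1 hv)
  ne := by
    have h : (0 : Fin 3 → ℤ) ∉ LC3 := by decide +kernel
    exact fun h0 => h (List.mem_toFinset.1 h0)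
  perm := perm_of_table LC3 TC3 (by decide +kernel)

end Cfsg.Agent.Omega.EH3Close.Roots
end

-- part: Mrg/ParSys/RootEpsBD
section
prune_inst 0x30306544756202000018058613001826be000490000b0000312006460fcf5e208d4126215e103d00180a80c418300020025c0090404000000e000000411d04a1802852041350ad0476008f803883180c00000000000000000000000000041004200000000
set_option linter.all false
open scoped Cfsg.Agent.FastGrp

section


/-!
# Positive roots of type `B_n` (`n = m + 1`) and `D_n` (`n = m + 2`) in `ε`-coordinates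
-/

set_option autoImplicit false
set_option linter.unusedSectionVars false

namespace Cfsg.Agent.ParSys.RootEpsBD

open Cfsg.Agent.ChevalleyStructure.CoxeterGeom Cfsg.Agent.Tits.Core Cfsg.Agent.ParSys.RootCount
  Cfsg.Agent.ParSys.RootEps

/-! ### Common facts -/

theorem mem_plus' {n a b : ℕ} (hab : a ≠ b) (ha : a < n) (hb : b < n) : E a + E b ∈ plus n := by
  rw [mem_plus]
  rcases lt_or_gt_of_ne hab with h | h
  · exact ⟨a, b, h, hb, rfl⟩
  · exact ⟨b, a, h, ha, add_comm _ _⟩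

theorem mem_minus' {n a b : ℕ} (hab : a < b) (hb : b < n) : E a - E b ∈ minus n := by
  rw [mem_minus]; exact ⟨a, b, hab, hb, rfl⟩

theorem mem_short' {n a : ℕ} (ha : a < n) : E a ∈ short n := by
  rw [mem_short]; exact ⟨a, ha, rfl⟩

theorem S_minus {n : ℕ} {α : ℕ → ℤ} (h : α ∈ minus n) : S n α = 0 := by
  obtain ⟨i, j, h1, h2, rfl⟩ := mem_minus.1 h
  rw [map_sub, S_E, S_E, if_pos (by omega), if_pos h2, sub_self]

theorem S_plus {n : ℕ} {α : ℕ → ℤ} (h : α ∈ plus n) : S n α = 2 := by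
  obtain ⟨i, j, h1, h2, rfl⟩ := mem_plus.1 h
  rw [map_add, S_E, S_E, if_pos (by omega), if_pos h2]; rfl

theorem S_short {n : ℕ} {α : ℕ → ℤ} (h : α ∈ short n) : S n α = 1 := by
  obtain ⟨i, h1, rfl⟩ := mem_short.1 h
  rw [S_E, if_pos h1]

theorem disj_mp (n : ℕ) : Disjoint (minus n) (plus n) := by
  rw [Finset.disjoint_left]
  intro α h1 h2
  have h3 := S_minus h1
  rw [S_plus h2] at h3
  omega

section

open Classical

/-- the positive roots of type `D` -/
noncomputable def rootsD (n : ℕ) : Finset (ℕ → ℤ) := minus n ∪ plus n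

/-- the positive roots of type `B` -/
noncomputable def rootsB (n : ℕ) : Finset (ℕ → ℤ) := rootsD n ∪ short n

theorem mem_rootsD {n : ℕ} {α : ℕ → ℤ} : α ∈ rootsD n ↔ α ∈ minus n ∨ α ∈ plus n := by
  unfold rootsD; rw [Finset.mem_union]

theorem mem_rootsB {n : ℕ} {α : ℕ → ℤ} : α ∈ rootsB n ↔ α ∈ rootsD n ∨ α ∈ short n := by
  unfold rootsB; rw [Finset.mem_union]

theorem card_rootsD (n : ℕ) : (rootsD n).card = n * (n - 1) := by
  unfold rootsD
  rw [Finset.card_union_of_disjoint (disj_mp n), card_minus, card_plus, ← card_pairs_two]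
  ring

theorem disj_ds (n : ℕ) : Disjoint (rootsD n) (short n) := by
  rw [Finset.disjoint_left]
  intro α h1 h2
  have h3 := S_short h2
  rcases mem_rootsD.1 h1 with h4 | h4
  · rw [S_minus h4] at h3; omega
  · rw [S_plus h4] at h3; omega

/-- the weight of type `B`: `x` on the roots `ε_i ± ε_j`, `y` on the roots `ε_i` -/
noncomputable def wtB {T : Type*} (n : ℕ) (x y : T) (α : ℕ → ℤ) : T := if Even (S n α) then x else y

theorem prod_rootsB {T : Type*} [CommMonoid T] (n : ℕ) (x y : T) :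
    ∏ α ∈ rootsB n, wtB n x y α = x ^ (n * (n - 1)) * y ^ n := by
  unfold rootsB
  rw [Finset.prod_union (disj_ds n)]
  congr 1
  · rw [← card_rootsD, ← Finset.prod_const]
    refine Finset.prod_congr rfl fun α hα => ?_
    unfold wtB
    rw [if_pos]
    rcases mem_rootsD.1 hα with h | h
    · rw [S_minus h]; exact Even.zero
    · rw [S_plus h]; exact even_two
  · rw [← Finset.prod_congr rfl (fun α hα => ?_), Finset.prod_const, card_short]
    unfold wtB
    rw [if_neg]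
    rw [S_short hα]; decide

end

/-- swapping `i` and `i + 1` -/
def tau (i j : ℕ) : ℕ := if j = i then i + 1 else if j = i + 1 then i else j

theorem tau_ne {i a b : ℕ} (h : a ≠ b) : tau i a ≠ tau i b := by
  unfold tau; (first | (lia; done) | (split_ifs <;> omega))

theorem tau_le {i a m : ℕ} (hi : i < m) (h : a ≤ m) : tau i a ≤ m := by
  unfold tau; split_ifs <;> omega

theorem tau_lt {i a b : ℕ} (h : a < b) (hne : ¬ (a = i ∧ b = i + 1)) : tau i a < tau i b := by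
  unfold tau; (first | (lia; done) | (split_ifs <;> omega))

/-- the swapping reflection on `ε_j` -/
theorem swap_E {B : Type*} (a : B → ℕ → ℤ) (c : B → (ℕ → ℤ) →+ ℤ) (x : B) (i : ℕ)
    (ha : a x = E i - E (i + 1)) (hc : ∀ v, c x v = v i - v (i + 1)) (j : ℕ) :
    rho a c x (E j) = E (tau i j) := by
  unfold rho tau
  rw [hc, ha]
  simp only [E_apply]
  by_cases h1 : j = i
  · subst h1
    rw [if_pos rfl, if_pos rfl, if_neg (by omega), sub_zero, one_smul]; abel
  · by_cases h2 : j = i + 1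
    · subst h2
      rw [if_neg (by omega), if_neg h1, if_pos rfl, if_pos rfl, zero_sub, neg_smul, one_smul]; abel
    · rw [if_neg h1, if_neg h2, if_neg (Ne.symm h1), if_neg (Ne.symm h2), sub_zero, zero_smul, sub_zero]

/-! ### Type B -/

section B

variable {m : ℕ}

def aB (i : Fin (m + 1)) : ℕ → ℤ := if (i : ℕ) = m then E m else E i - E (i + 1)
def cB (i : Fin (m + 1)) : (ℕ → ℤ) →+ ℤ := if (i : ℕ) = m then 2 • co m else co i - co (i + 1)

/-- type `B_{m+1}` -/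
def TypeB (M : CoxeterMatrix (Fin (m + 1))) : Prop :=
  ∀ i j : Fin (m + 1), i ≠ j → M i j =
    if ((i : ℕ) + 1 = j ∧ (j : ℕ) = m) ∨ ((j : ℕ) + 1 = i ∧ (i : ℕ) = m) then 4
    else if (i : ℕ) + 1 = j ∨ (j : ℕ) + 1 = i then 3 else 2

theorem aB_lt {i : Fin (m + 1)} (h : (i : ℕ) < m) : aB i = E i - E (i + 1) := by
  unfold aB; rw [if_neg (by omega)]

theorem aB_last {i : Fin (m + 1)} (h : (i : ℕ) = m) : aB i = E m := by
  unfold aB; rw [if_pos h]

theorem cB_lt {i : Fin (m + 1)} (h : (i : ℕ) < m) (v : ℕ → ℤ) : cB i v = v i - v (i + 1) := by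
  unfold cB; rw [if_neg (by omega)]; rfl

theorem cB_last {i : Fin (m + 1)} (h : (i : ℕ) = m) (v : ℕ → ℤ) : cB i v = 2 * v m := by
  unfold cB; rw [if_pos h, AddMonoidHom.nsmul_apply, co_apply, nsmul_eq_mul]; rfl

theorem car_B (i j : Fin (m + 1)) : car aB cB i j =
    if i = j then 2
    else if ((i : ℕ) + 1 = j ∧ (j : ℕ) = m) then -1
    else if ((j : ℕ) + 1 = i ∧ (i : ℕ) = m) then -2
    else if (i : ℕ) + 1 = j ∨ (j : ℕ) + 1 = i then -1 else 0 := by
  have hi := i.2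
  have hj := j.2
  unfold car
  rcases Nat.lt_or_ge i m with h1 | h1 <;> rcases Nat.lt_or_ge j m with h2 | h2
  · rw [cB_lt h1, aB_lt h2]
    simp only [Pi.sub_apply, E_apply, Fin.ext_iff]
    (first | (lia; done) | (split_ifs <;> omega))
  · rw [cB_lt h1, aB_last (by omega)]
    simp only [E_apply, Fin.ext_iff]
    (first | (lia; done) | (split_ifs <;> omega))
  · rw [cB_last (by omega), aB_lt h2]
    simp only [Pi.sub_apply, E_apply, Fin.ext_iff]
    (first | (lia; done) | (split_ifs <;> omega))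
  · rw [cB_last (by omega), aB_last (by omega)]
    simp only [E_apply, Fin.ext_iff]
    (first | (lia; done) | (split_ifs <;> omega))

theorem isCartan_B {M : CoxeterMatrix (Fin (m + 1))} (hM : TypeB M) : IsCartan M (car (aB (m := m)) cB) where
  diag i := by rw [car_B, if_pos rfl]
  rel i j hij := by
    rw [hM i j hij, car_B, car_B, if_neg hij, if_neg (Ne.symm hij)]
    by_cases h1 : (i : ℕ) + 1 = j ∧ (j : ℕ) = m
    · rw [if_pos (Or.inl h1), if_pos h1, if_neg (by omega), if_pos h1]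
      right; right; left; exact ⟨rfl, Or.inl ⟨rfl, rfl⟩⟩
    · by_cases h2 : (j : ℕ) + 1 = i ∧ (i : ℕ) = m
      · rw [if_pos (Or.inr h2), if_neg h1, if_pos h2, if_pos h2]
        right; right; left; exact ⟨rfl, Or.inr ⟨rfl, rfl⟩⟩
      · rw [if_neg (by (clear * - h1 h2; itauto)), if_neg h1, if_neg h2, if_neg h2, if_neg h1]
        by_cases h : (i : ℕ) + 1 = j ∨ (j : ℕ) + 1 = i
        · rw [if_pos h, if_pos h, if_pos h.symm]; right; left; exact ⟨rfl, rfl, rfl⟩
        · rw [if_neg h, if_neg h, if_neg (fun h' => h h'.symm)]; left; exact ⟨rfl, rfl, rfl⟩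

theorem rho_B_lt {i : Fin (m + 1)} (h : (i : ℕ) < m) (j : ℕ) : rho aB cB i (E j) = E (tau i j) :=
  swap_E aB cB i i (aB_lt h) (cB_lt h) j

theorem rho_B_last {i : Fin (m + 1)} (h : (i : ℕ) = m) (j : ℕ) :
    rho aB cB i (E j) = if j = m then - E m else E j := by
  unfold rho
  rw [cB_last h, aB_last h]
  simp only [E_apply]
  by_cases h1 : j = m
  · subst h1
    rw [if_pos rfl, if_pos rfl, mul_one, two_smul]; abel
  · rw [if_neg h1, if_neg (Ne.symm h1), mul_zero, zero_smul, sub_zero]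

theorem cone_B_short {i : ℕ} (hi : i ≤ m) : E i ∈ cone (aB (m := m)) := by
  have key : ∀ d i, i + d = m → E i ∈ cone (aB (m := m)) := by
    intro d
    induction d with
    | zero =>
      intro i hi
      have := mem_cone aB (⟨m, by omega⟩ : Fin (m + 1))
      rw [aB_last rfl] at this
      obtain rfl : i = m := by omega
      exact this
    | succ d ih =>
      intro i hi
      have h1 := mem_cone aB (⟨i, by omega⟩ : Fin (m + 1))
      rw [aB_lt (show ((⟨i, by omega⟩ : Fin (m + 1)) : ℕ) < m by simp only; omega)] at h1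
      have h2 := add_mem h1 (ih (i + 1) (by omega))
      have e : E i - E (i + 1) + E (i + 1) = E i := by abel
      simp only at h2
      rwa [e] at h2
  exact key (m - i) i (by omega)

theorem cone_B_minus {i j : ℕ} (hij : i < j) (hj : j ≤ m) : E i - E j ∈ cone (aB (m := m)) := by
  induction j with
  | zero => omega
  | succ j ih =>
    have h1 := mem_cone aB (⟨j, by omega⟩ : Fin (m + 1))
    rw [aB_lt (show ((⟨j, by omega⟩ : Fin (m + 1)) : ℕ) < m by simp only; omega)] at h1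
    simp only at h1
    rcases Nat.lt_or_ge i j with h | h
    · have h2 := add_mem (ih h (by omega)) h1
      have e : E i - E j + (E j - E (j + 1)) = E i - E (j + 1) := by abel
      rwa [e] at h2
    · obtain rfl : i = j := by omega
      exact h1

theorem roots_B : Roots (car (aB (m := m)) cB) (lin aB) (rho aB cB) (rootsB (m + 1)) := by
  refine roots_mk aB cB (fun j => S (j + 1)) ?_ ?_ ?_ ?_ ?_ ?_
  · intro i j hij
    have hi := i.2
    have hj := j.2
    have : (i : ℕ) ≠ j := fun h => hij (Fin.ext h)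
    rcases Nat.lt_or_ge i m with h1 | h1
    · rw [aB_lt h1, map_sub, S_E, S_E]
      split_ifs <;> omega
    · rw [aB_last (by omega), S_E]
      split_ifs <;> omega
  · intro j
    have hj := j.2
    rcases Nat.lt_or_ge j m with h1 | h1
    · rw [aB_lt h1, map_sub, S_E, S_E]
      (first | (omega; done) | (split_ifs <;> omega))
    · rw [aB_last (by omega), S_E]
      split_ifs <;> omega
  · intro i
    have hi := i.2
    rw [mem_rootsB, mem_rootsD]
    rcases Nat.lt_or_ge i m with h1 | h1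
    · rw [aB_lt h1]; exact Or.inl (Or.inl (mem_minus' (by omega) (by omega)))
    · rw [aB_last (by omega)]; exact Or.inr (mem_short' (by omega))
  · intro α hα
    rw [mem_rootsB, mem_rootsD, mem_minus, mem_plus, mem_short] at hα
    rcases hα with (⟨i, j, h1, h2, rfl⟩ | ⟨i, j, h1, h2, rfl⟩) | ⟨i, h1, rfl⟩
    · exact cone_B_minus h1 (by omega)
    · exact add_mem (cone_B_short (by omega)) (cone_B_short (by omega))
    · exact cone_B_short (by omega)
  · intro h0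
    rw [mem_rootsB, mem_rootsD, mem_minus, mem_plus, mem_short] at h0
    rcases h0 with (⟨i, j, h1, h2, h3⟩ | ⟨i, j, h1, h2, h3⟩) | ⟨i, h1, h3⟩
    · exact sub_ne_zero' (by omega) h3.symm
    · exact add_ne_zero' _ _ h3.symm
    · exact E_ne_zero _ h3.symm
  · intro i α hα hne
    have hi := i.2
    rw [mem_rootsB, mem_rootsD, mem_minus, mem_plus, mem_short] at hα
    rw [mem_rootsB, mem_rootsD]
    rcases Nat.lt_or_ge i m with h0 | h0
    · rw [aB_lt h0] at hne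
      rcases hα with (⟨a, b, h1, h2, rfl⟩ | ⟨a, b, h1, h2, rfl⟩) | ⟨a, h1, rfl⟩
      · left; left
        rw [rho_sub, rho_B_lt h0, rho_B_lt h0]
        refine mem_minus' (tau_lt h1 ?_) (Nat.lt_succ_of_le (tau_le h0 (by omega)))
        rintro ⟨rfl, rfl⟩; exact hne rfl
      · left; right
        rw [rho_add, rho_B_lt h0, rho_B_lt h0]
        exact mem_plus' (tau_ne (by omega)) (Nat.lt_succ_of_le (tau_le h0 (by omega)))
          (Nat.lt_succ_of_le (tau_le h0 (by omega)))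
      · right
        rw [rho_B_lt h0]
        exact mem_short' (Nat.lt_succ_of_le (tau_le h0 (by omega)))
    · have h0' : (i : ℕ) = m := by omega
      rw [aB_last h0'] at hne
      rcases hα with (⟨a, b, h1, h2, rfl⟩ | ⟨a, b, h1, h2, rfl⟩) | ⟨a, h1, rfl⟩
      · left
        rw [rho_sub, rho_B_last h0', rho_B_last h0', if_neg (by omega)]
        by_cases hb : b = m
        · rw [if_pos hb, sub_neg_eq_add]; right
          exact mem_plus' (by omega) (by omega) (by omega)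
        · rw [if_neg hb]; left
          exact mem_minus' h1 h2
      · left
        rw [rho_add, rho_B_last h0', rho_B_last h0', if_neg (by omega)]
        by_cases hb : b = m
        · rw [if_pos hb, ← sub_eq_add_neg]; left
          exact mem_minus' (by omega) (by omega)
        · rw [if_neg hb]; right
          exact mem_plus' (by omega) (by omega) h2
      · right
        rw [rho_B_last h0']
        by_cases ha : a = m
        · subst ha; exact absurd rfl hne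
        · rw [if_neg ha]; exact mem_short' h1

theorem wtB_rho {T : Type*} (x y : T) (i : Fin (m + 1)) (α : ℕ → ℤ) :
    wtB (m + 1) x y (rho aB cB i α) = wtB (m + 1) x y α := by
  have hi := i.2
  have key : Even (S (m + 1) (rho aB cB i α)) ↔ Even (S (m + 1) α) := by
    unfold rho
    rw [map_sub, map_zsmul, smul_eq_mul]
    rcases Nat.lt_or_ge i m with h0 | h0
    · rw [aB_lt h0, map_sub, S_E, S_E, if_pos (by omega), if_pos (by omega), sub_self, mul_zero, sub_zero]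
    · rw [cB_last (by omega), mul_assoc, Int.even_sub]
      simp only [_root_.even_two, _root_.Even.mul_right, _root_.iff_true]
  unfold wtB
  simp only [key]

end B

/-! ### Type D -/

section D

variable {m : ℕ}

def aD (i : Fin (m + 2)) : ℕ → ℤ := if (i : ℕ) = m + 1 then E m + E (m + 1) else E i - E (i + 1)
def cD (i : Fin (m + 2)) : (ℕ → ℤ) →+ ℤ := if (i : ℕ) = m + 1 then co m + co (m + 1) else co i - co (i + 1)

/-- type `D_{m+2}`: the last node is joined with the node `m - 1` -/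
def TypeD (M : CoxeterMatrix (Fin (m + 2))) : Prop :=
  ∀ i j : Fin (m + 2), i ≠ j → M i j =
    if ((i : ℕ) + 1 = j ∧ (j : ℕ) ≤ m) ∨ ((j : ℕ) + 1 = i ∧ (i : ℕ) ≤ m) ∨
      ((i : ℕ) + 2 = j ∧ (j : ℕ) = m + 1) ∨ ((j : ℕ) + 2 = i ∧ (i : ℕ) = m + 1) then 3 else 2

theorem aD_lt {i : Fin (m + 2)} (h : (i : ℕ) ≤ m) : aD i = E i - E (i + 1) := by
  unfold aD; rw [if_neg (by omega)]

theorem aD_last {i : Fin (m + 2)} (h : (i : ℕ) = m + 1) : aD i = E m + E (m + 1) := by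
  unfold aD; rw [if_pos h]

theorem cD_lt {i : Fin (m + 2)} (h : (i : ℕ) ≤ m) (v : ℕ → ℤ) : cD i v = v i - v (i + 1) := by
  unfold cD; rw [if_neg (by omega)]; rfl

theorem cD_last {i : Fin (m + 2)} (h : (i : ℕ) = m + 1) (v : ℕ → ℤ) : cD i v = v m + v (m + 1) := by
  unfold cD; rw [if_pos h]; rfl

theorem car_D (i j : Fin (m + 2)) : car aD cD i j =
    if i = j then 2
    else if ((i : ℕ) + 1 = j ∧ (j : ℕ) ≤ m) ∨ ((j : ℕ) + 1 = i ∧ (i : ℕ) ≤ m) ∨
      ((i : ℕ) + 2 = j ∧ (j : ℕ) = m + 1) ∨ ((j : ℕ) + 2 = i ∧ (i : ℕ) = m + 1) then -1 else 0 := by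
  have hi := i.2
  have hj := j.2
  unfold car
  rcases Nat.lt_or_ge i (m + 1) with h1 | h1 <;> rcases Nat.lt_or_ge j (m + 1) with h2 | h2
  · rw [cD_lt (by omega), aD_lt (by omega)]
    simp only [Pi.sub_apply, E_apply, Fin.ext_iff]
    (first | (lia; done) | (split_ifs <;> omega))
  · rw [cD_lt (by omega), aD_last (by omega)]
    simp only [Pi.add_apply, E_apply, Fin.ext_iff]
    (first | (lia; done) | (split_ifs <;> omega))
  · rw [cD_last (by omega), aD_lt (by omega)]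
    simp only [Pi.sub_apply, E_apply, Fin.ext_iff]
    (first | (lia; done) | (split_ifs <;> omega))
  · rw [cD_last (by omega), aD_last (by omega)]
    simp only [Pi.add_apply, E_apply, Fin.ext_iff]
    (first | (lia; done) | (split_ifs <;> omega))

theorem isCartan_D {M : CoxeterMatrix (Fin (m + 2))} (hM : TypeD M) : IsCartan M (car (aD (m := m)) cD) where
  diag i := by rw [car_D, if_pos rfl]
  rel i j hij := by
    rw [hM i j hij, car_D, car_D, if_neg hij, if_neg (Ne.symm hij)]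
    by_cases h : ((i : ℕ) + 1 = j ∧ (j : ℕ) ≤ m) ∨ ((j : ℕ) + 1 = i ∧ (i : ℕ) ≤ m) ∨
      ((i : ℕ) + 2 = j ∧ (j : ℕ) = m + 1) ∨ ((j : ℕ) + 2 = i ∧ (i : ℕ) = m + 1)
    · rw [if_pos h, if_pos h, if_pos (by (clear * - h; itauto))]; right; left; exact ⟨rfl, rfl, rfl⟩
    · rw [if_neg h, if_neg h, if_neg (by (clear * - h; itauto))]; left; exact ⟨rfl, rfl, rfl⟩

theorem rho_D_lt {i : Fin (m + 2)} (h : (i : ℕ) ≤ m) (j : ℕ) : rho aD cD i (E j) = E (tau i j) :=
  swap_E aD cD i i (aD_lt h) (cD_lt h) j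

theorem rho_D_last {i : Fin (m + 2)} (h : (i : ℕ) = m + 1) (j : ℕ) :
    rho aD cD i (E j) = if j = m then - E (m + 1) else if j = m + 1 then - E m else E j := by
  unfold rho
  rw [cD_last h, aD_last h]
  simp only [E_apply]
  by_cases h1 : j = m
  · subst h1
    rw [if_pos rfl, if_neg (by omega), if_pos rfl, add_zero, one_smul]; abel
  · by_cases h2 : j = m + 1
    · subst h2
      rw [if_neg (by omega), if_pos rfl, if_neg h1, if_pos rfl, zero_add, one_smul]; abel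
    · rw [if_neg h1, if_neg h2, if_neg (Ne.symm h1), if_neg (Ne.symm h2), add_zero, zero_smul, sub_zero]

theorem cone_D_minus {i j : ℕ} (hij : i < j) (hj : j ≤ m + 1) : E i - E j ∈ cone (aD (m := m)) := by
  induction j with
  | zero => omega
  | succ j ih =>
    have h1 := mem_cone aD (⟨j, by omega⟩ : Fin (m + 2))
    rw [aD_lt (show ((⟨j, by omega⟩ : Fin (m + 2)) : ℕ) ≤ m by simp only; omega)] at h1
    simp only at h1
    rcases Nat.lt_or_ge i j with h | h
    · have h2 := add_mem (ih h (by omega)) h1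
      have e : E i - E j + (E j - E (j + 1)) = E i - E (j + 1) := by abel
      rwa [e] at h2
    · obtain rfl : i = j := by omega
      exact h1

theorem cone_D_plus {i j : ℕ} (hij : i < j) (hj : j ≤ m + 1) : E i + E j ∈ cone (aD (m := m)) := by
  have h0 := mem_cone aD (⟨m + 1, by omega⟩ : Fin (m + 2))
  rw [aD_last rfl] at h0
  have h1 : E i + E (m + 1) ∈ cone (aD (m := m)) := by
    rcases Nat.lt_or_ge i m with h | h
    · have h2 := add_mem (cone_D_minus (m := m) h (by omega)) h0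
      have e : E i - E m + (E m + E (m + 1)) = E i + E (m + 1) := by abel
      rwa [e] at h2
    · obtain rfl : i = m := by omega
      exact h0
  rcases Nat.lt_or_ge j (m + 1) with h | h
  · have h2 := add_mem h1 (cone_D_minus (m := m) h le_rfl)
    have e : E i + E (m + 1) + (E j - E (m + 1)) = E i + E j := by abel
    rwa [e] at h2
  · obtain rfl : j = m + 1 := by omega
    exact h1

/-- the dual functionals -/
def omD (j : Fin (m + 2)) : (ℕ → ℤ) →+ ℤ :=
  if (j : ℕ) = m then S (m + 1) - co (m + 1) else S (j + 1)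

theorem roots_D : Roots (car (aD (m := m)) cD) (lin aD) (rho aD cD) (rootsD (m + 2)) := by
  refine roots_mk aD cD omD ?_ ?_ ?_ ?_ ?_ ?_
  · intro i j hij
    have hi := i.2
    have hj := j.2
    have : (i : ℕ) ≠ j := fun h => hij (Fin.ext h)
    unfold omD
    rcases Nat.lt_or_ge i (m + 1) with h1 | h1
    · rw [aD_lt (by omega)]
      by_cases h2 : (j : ℕ) = m
      · rw [if_pos h2, AddMonoidHom.sub_apply, map_sub, map_sub, S_E, S_E, co_apply, co_apply, E_apply, E_apply]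
        (first | (lia; done) | (split_ifs <;> omega))
      · rw [if_neg h2, map_sub, S_E, S_E]
        split_ifs <;> omega
    · rw [aD_last (by omega)]
      by_cases h2 : (j : ℕ) = m
      · rw [if_pos h2, AddMonoidHom.sub_apply, map_add, map_add, S_E, S_E, co_apply, co_apply, E_apply, E_apply]
        (first | (lia; done) | (split_ifs <;> omega))
      · rw [if_neg h2, map_add, S_E, S_E]
        (first | (lia; done) | (split_ifs <;> omega))
  · intro j
    have hj := j.2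
    unfold omD
    rcases Nat.lt_or_ge j (m + 1) with h1 | h1
    · rw [aD_lt (by omega)]
      by_cases h2 : (j : ℕ) = m
      · rw [if_pos h2, AddMonoidHom.sub_apply, map_sub, map_sub, S_E, S_E, co_apply, co_apply, E_apply, E_apply]
        (first | (omega; done) | (split_ifs <;> omega))
      · rw [if_neg h2, map_sub, S_E, S_E]
        (first | (omega; done) | (split_ifs <;> omega))
    · rw [aD_last (by omega), if_neg (by omega), map_add, S_E, S_E]
      (first | (omega; done) | (split_ifs <;> omega))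
  · intro i
    have hi := i.2
    rw [mem_rootsD]
    rcases Nat.lt_or_ge i (m + 1) with h1 | h1
    · rw [aD_lt (by omega)]; exact Or.inl (mem_minus' (by omega) (by omega))
    · rw [aD_last (by omega)]; exact Or.inr (mem_plus' (by omega) (by omega) (by omega))
  · intro α hα
    rw [mem_rootsD, mem_minus, mem_plus] at hα
    rcases hα with ⟨i, j, h1, h2, rfl⟩ | ⟨i, j, h1, h2, rfl⟩
    · exact cone_D_minus h1 (by omega)
    · exact cone_D_plus h1 (by omega)
  · intro h0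
    rw [mem_rootsD, mem_minus, mem_plus] at h0
    rcases h0 with ⟨i, j, h1, h2, h3⟩ | ⟨i, j, h1, h2, h3⟩
    · exact sub_ne_zero' (by omega) h3.symm
    · exact add_ne_zero' _ _ h3.symm
  · intro i α hα hne
    have hi := i.2
    rw [mem_rootsD, mem_minus, mem_plus] at hα
    rw [mem_rootsD]
    rcases Nat.lt_or_ge i (m + 1) with h0 | h0
    · have h0 : (i : ℕ) ≤ m := by omega
      rw [aD_lt h0] at hne
      rcases hα with ⟨a, b, h1, h2, rfl⟩ | ⟨a, b, h1, h2, rfl⟩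
      · left
        rw [rho_sub, rho_D_lt h0, rho_D_lt h0]
        refine mem_minus' (tau_lt h1 ?_) (Nat.lt_succ_of_le (tau_le (m := m + 1) (by omega) (by omega)))
        rintro ⟨rfl, rfl⟩; exact hne rfl
      · right
        rw [rho_add, rho_D_lt h0, rho_D_lt h0]
        exact mem_plus' (tau_ne (by omega)) (Nat.lt_succ_of_le (tau_le (m := m + 1) (by omega) (by omega)))
          (Nat.lt_succ_of_le (tau_le (m := m + 1) (by omega) (by omega)))
    · have h0' : (i : ℕ) = m + 1 := by omega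
      rw [aD_last h0'] at hne
      rcases hα with ⟨a, b, h1, h2, rfl⟩ | ⟨a, b, h1, h2, rfl⟩
      · rw [rho_sub, rho_D_last h0', rho_D_last h0']
        by_cases ha : a = m
        · obtain rfl : b = m + 1 := by omega
          left
          rw [if_pos ha, if_neg (by omega), if_pos rfl]
          have e : -E (m + 1) - -E m = E m - E (m + 1) := by abel
          rw [e]; exact mem_minus' (by omega) (by omega)
        · rw [if_neg ha, if_neg (by omega)]
          by_cases hb : b = m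
          · right
            rw [if_pos hb, sub_neg_eq_add]; exact mem_plus' (by omega) (by omega) (by omega)
          · rw [if_neg hb]
            by_cases hb' : b = m + 1
            · right
              rw [if_pos hb', sub_neg_eq_add]; exact mem_plus' (by omega) (by omega) (by omega)
            · left
              rw [if_neg hb']; exact mem_minus' h1 h2
      · rw [rho_add, rho_D_last h0', rho_D_last h0']
        by_cases ha : a = m
        · obtain rfl : b = m + 1 := by omega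
          subst ha; exact absurd rfl hne
        · rw [if_neg ha, if_neg (by omega)]
          by_cases hb : b = m
          · left
            rw [if_pos hb, ← sub_eq_add_neg]; exact mem_minus' (by omega) (by omega)
          · rw [if_neg hb]
            by_cases hb' : b = m + 1
            · left
              rw [if_pos hb', ← sub_eq_add_neg]; exact mem_minus' (by omega) (by omega)
            · right
              rw [if_neg hb']; exact mem_plus' (by omega) (by omega) h2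

end D

end Cfsg.Agent.ParSys.RootEpsBD

end

section


/-!
# THEOREM FREE: the number `q_{w₀}` for the irreducible spherical diagrams

`HasQ M q N` : the Coxeter group of `M` is finite and the product of the `q i` along a reduced word of `w₀` is `N`.
`HasQ.exists_bnPair` : a system (`Free.Sys`) of type `M` with `|U| = N` is a (B,N)-pair.
`conn_of_parent` : connectedness of a diagram.
-/

set_option autoImplicit false

namespace Cfsg.Agent.ParSys.FreeCount

open Cfsg.Agent.ChevalleyStructure.CoxeterGeom Cfsg.Agent.Tits.Core Cfsg.Agent.ParSys.RootCount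
  Cfsg.Agent.ParSys.RootEps Cfsg.Agent.ParSys.RootEpsBD Cfsg.Agent.ParSys.RootExc

variable {I : Type*}

/-! ### Reindexing -/

section reindex

variable {J : Type*} {M : CoxeterMatrix I} {W : Type*} [Group W] (cs : CoxeterSystem M W) (e : I ≃ J)

theorem wordProd_reindex (F : List I) : (cs.reindex e).wordProd (F.map e) = cs.wordProd F := by
  unfold CoxeterSystem.wordProd
  rw [List.map_map]
  congr 1
  refine List.map_congr_left fun i _ => ?_
  rw [Function.comp_apply, CoxeterSystem.reindex_simple, Equiv.symm_apply_apply]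

theorem length_reindex (w : W) : (cs.reindex e).length w = cs.length w := by
  apply le_antisymm
  · obtain ⟨F, hF, rfl⟩ := cs.exists_isReduced w
    have h1 := (cs.reindex e).length_wordProd_le (F.map e)
    rw [wordProd_reindex, List.length_map] at h1
    rw [hF.eq]; exact h1
  · obtain ⟨F, hF, rfl⟩ := (cs.reindex e).exists_isReduced w
    have h2 : (cs.reindex e).wordProd F = cs.wordProd (F.map e.symm) := by
      rw [← wordProd_reindex cs e, List.map_map]
      simp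
    have h1 := cs.length_wordProd_le (F.map e.symm)
    rw [List.length_map] at h1
    rw [hF.eq, h2]; exact h1

theorem isReduced_reindex {F : List I} (hF : cs.IsReduced F) : (cs.reindex e).IsReduced (F.map e) := by
  unfold CoxeterSystem.IsReduced at hF ⊢
  rw [wordProd_reindex, length_reindex, List.length_map]
  exact hF

theorem w0_reindex [Finite W] : w0 (cs.reindex e) = w0 cs := by
  symm
  apply Tits.Exchange.eq_w0_of_length
  rw [length_reindex, length_reindex]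
  exact Tits.Exchange.length_le_w0 cs _

end reindex

/-! ### The invariant -/

/-- the Coxeter group of `M` is finite and the product of the `q i` along a reduced word of `w₀` is `N` -/
def HasQ (M : CoxeterMatrix I) (q : I → ℕ) (N : ℕ) : Prop :=
  Finite M.Group ∧ ∀ F : List I, M.toCoxeterSystem.IsReduced F →
    M.toCoxeterSystem.wordProd F = w0 M.toCoxeterSystem → (F.map q).prod = N

variable {M : CoxeterMatrix I} {q : I → ℕ} {N : ℕ}

/-- **THEOREM FREE** with the number `q_{w₀}` known -/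
theorem HasQ.exists_bnPair {G : Type*} [Group G] [Finite G] [Finite I] (hM : HasQ M q N)
    {B : Subgroup G} {P : I → Subgroup G} {U : Subgroup G}
    (h : Free.Sys M.toCoxeterSystem B P U q) (hcard : Nat.card U = N) :
    ∃ Q : Cfsg.BNPair G, Q.B = B ∧ Q.rank = Nat.card I ∧ (∃ e : I ≃ Q.S, ∀ i, (e i : G) ∈ P i) ∧
      ((∀ J : Set I, J.Nonempty → Jᶜ.Nonempty → ∃ i ∈ J, ∃ j ∈ Jᶜ, M i j ≠ 2) → Q.Irreducible) := by
  have := hM.1
  obtain ⟨F, hF, he⟩ := M.toCoxeterSystem.exists_isReduced (w0 M.toCoxeterSystem)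
  exact h.exists_bnPair hF he.symm (by rw [hcard, hM.2 F hF he.symm])

/-- the bound for `|U|` -/
theorem HasQ.card_le {G : Type*} [Group G] [Finite G] [Finite I] (hM : HasQ M q N)
    {B : Subgroup G} {P : I → Subgroup G} {U : Subgroup G}
    (h : Free.Sys M.toCoxeterSystem B P U q) : Nat.card U ≤ N := by
  have := hM.1
  obtain ⟨F, hF, he⟩ := M.toCoxeterSystem.exists_isReduced (w0 M.toCoxeterSystem)
  have := h.card_le hF he.symm
  rwa [hM.2 F hF he.symm] at this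

/-- transport to an arbitrary index set -/
theorem hasQ_of_fin {n : ℕ} (e : I ≃ Fin n) {A : Fin n → Fin n → ℤ} (hA : IsCartan (M.reindex e) A)
    {L : Type*} [AddCommGroup L] {f : (Fin n → ℤ) →+ L} {ρ : Fin n → L → L} {Φ : Finset L}
    (hΦ : Roots A f ρ Φ) (wt : L → ℕ)
    (hwt : ∀ i, ∀ α ∈ Φ, α ≠ f (Pi.single i 1) → wt (ρ i α) = wt α)
    (hq : ∀ i, q i = wt (f (Pi.single (e i) 1))) (hN : ∏ α ∈ Φ, wt α = N) : HasQ M q N := by
  have hfin : Finite M.Group := hΦ.finite hA (M.toCoxeterSystem.reindex e)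
  refine ⟨hfin, fun F hF hw => ?_⟩
  have h1 := hΦ.prod_w0 hA (M.toCoxeterSystem.reindex e) wt hwt (F.map e)
    (isReduced_reindex _ e hF) (by rw [wordProd_reindex, w0_reindex, hw])
  rw [List.map_map, hN] at h1
  rw [← h1]
  congr 1
  exact List.map_congr_left fun i _ => hq i

theorem hasQ_of_pos {n : ℕ} (e : I ≃ Fin n) {A : Fin n → Fin n → ℤ} (hA : IsCartan (M.reindex e) A)
    {R : Finset (Fin n → ℤ)} (hR : PosRoots A R) (wt : (Fin n → ℤ) → ℕ)
    (hwt : ∀ i, ∀ v ∈ R, v ≠ Pi.single i 1 → wt (refl A i v) = wt v)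
    (hq : ∀ i, q i = wt (Pi.single (e i) 1)) (hN : ∏ v ∈ R, wt v = N) : HasQ M q N := by
  have hfin : Finite M.Group := hR.finite hA (M.toCoxeterSystem.reindex e)
  refine ⟨hfin, fun F hF hw => ?_⟩
  have h1 := hR.prod_w0 hA (M.toCoxeterSystem.reindex e) wt hwt (F.map e)
    (isReduced_reindex _ e hF) (by rw [wordProd_reindex, w0_reindex, hw])
  rw [List.map_map, hN] at h1
  rw [← h1]
  congr 1
  exact List.map_congr_left fun i _ => hq i

/-! ### The diagrams -/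

/-- type `A_n` -/
theorem hasQ_A {n : ℕ} (e : I ≃ Fin n) (hM : TypeA (M.reindex e)) {x : ℕ} (hq : ∀ i, q i = x) :
    HasQ M q (x ^ (n * (n + 1) / 2)) := by
  refine hasQ_of_fin e (isCartan_A hM) roots_A (fun _ => x) (fun _ _ _ _ => rfl) hq ?_
  rw [Finset.prod_const, card_minus, card_pairs, Nat.add_sub_cancel, mul_comm]

/-- type `B_n`, `n = m + 1`: the last node has the parameter `y` -/
theorem hasQ_B {m : ℕ} (e : I ≃ Fin (m + 1)) (hM : TypeB (M.reindex e)) {x y : ℕ}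
    (hq : ∀ i, q i = if (e i : ℕ) = m then y else x) : HasQ M q (x ^ ((m + 1) * m) * y ^ (m + 1)) := by
  refine hasQ_of_fin e (isCartan_B hM) roots_B (wtB (m + 1) x y) (fun i α _ _ => wtB_rho x y i α) ?_ ?_
  · intro i
    rw [hq, lin_single, one_smul]
    have hi := (e i).2
    rcases Nat.lt_or_ge (e i) m with h | h
    · have h1 : S (m + 1) (aB (e i)) = 0 := by
        rw [aB_lt h, map_sub, S_E, S_E, if_pos (by omega), if_pos (by omega), sub_self]
      rw [if_neg (show ¬ (e i : ℕ) = m by omega)]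
      unfold wtB
      rw [h1, if_pos Even.zero]
    · have h1 : S (m + 1) (aB (e i)) = 1 := by
        rw [aB_last (show (e i : ℕ) = m by omega), S_E, if_pos (by omega)]
      rw [if_pos (show (e i : ℕ) = m by omega)]
      unfold wtB
      rw [h1, if_neg (by decide)]
  · rw [prod_rootsB]; rfl

/-- type `D_n`, `n = m + 2` -/
theorem hasQ_D {m : ℕ} (e : I ≃ Fin (m + 2)) (hM : TypeD (M.reindex e)) {x : ℕ} (hq : ∀ i, q i = x) :
    HasQ M q (x ^ ((m + 2) * (m + 1))) := by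
  refine hasQ_of_fin e (isCartan_D hM) roots_D (fun _ => x) (fun _ _ _ _ => rfl) hq ?_
  rw [Finset.prod_const, card_rootsD]; rfl

/-- the weight of type `F₄` -/
def longF (v : Fin 4 → ℤ) : Bool := v 2 % 2 == 0 && v 3 % 2 == 0

theorem longF_refl : ∀ i, ∀ v ∈ LF4, v ≠ Pi.single i 1 → longF (refl AF4 i v) = longF v := by
  decide +kernel

theorem count_long : (LF4.filter fun v => longF v).length = 12 := by decide +kernel
theorem nodup_F4 : LF4.Nodup := by decide +kernel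

theorem prod_F4 (x y : ℕ) : ∏ v ∈ RF4, (if longF v then x else y) = x ^ 12 * y ^ 12 := by
  rw [Finset.prod_ite, Finset.prod_const, Finset.prod_const]
  have h1 : (RF4.filter fun v => longF v = true).card = 12 := by
    unfold RF4
    rw [← List.toFinset_filter, List.toFinset_card_of_nodup (nodup_F4.filter _)]
    simpa using count_long
  have h2 : (RF4.filter fun v => ¬ longF v = true).card = 12 := by
    have h3 := Finset.card_filter_add_card_filter_not (s := RF4) (fun v => longF v = true)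
    rw [h1, card_F4] at h3
    omega
  rw [h1, h2]

/-- type `F₄`: the nodes `0, 1` have the parameter `x`, the nodes `2, 3` the parameter `y` -/
theorem hasQ_F4 (e : I ≃ Fin 4) (hM : M.reindex e = CoxeterMatrix.F₄) {x y : ℕ}
    (hq : ∀ i, q i = if (e i : ℕ) < 2 then x else y) : HasQ M q (x ^ 12 * y ^ 12) := by
  refine hasQ_of_pos e (hM ▸ isCartan_F4) posRoots_F4 (fun v => if longF v then x else y) ?_ ?_
    (prod_F4 x y)
  · intro i v hv hne
    show (if longF (refl AF4 i v) then x else y) = if longF v then x else y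
    rw [longF_refl i v (List.mem_toFinset.1 hv) hne]
  · intro i
    rw [hq]
    have key : ∀ k : Fin 4, longF (Pi.single k 1) = decide ((k : ℕ) < 2) := by decide
    rw [key]
    simp

theorem hasQ_E6 (e : I ≃ Fin 6) (hM : M.reindex e = CoxeterMatrix.E₆) {x : ℕ} (hq : ∀ i, q i = x) :
    HasQ M q (x ^ 36) := by
  refine hasQ_of_pos e (hM ▸ isCartan_E6) posRoots_E6 (fun _ => x) (fun _ _ _ _ => rfl) hq ?_
  rw [Finset.prod_const, card_E6]

theorem hasQ_E7 (e : I ≃ Fin 7) (hM : M.reindex e = CoxeterMatrix.E₇) {x : ℕ} (hq : ∀ i, q i = x) :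
    HasQ M q (x ^ 63) := by
  refine hasQ_of_pos e (hM ▸ isCartan_E7) posRoots_E7 (fun _ => x) (fun _ _ _ _ => rfl) hq ?_
  rw [Finset.prod_const, card_E7]

theorem hasQ_E8 (e : I ≃ Fin 8) (hM : M.reindex e = CoxeterMatrix.E₈) {x : ℕ} (hq : ∀ i, q i = x) :
    HasQ M q (x ^ 120) := by
  refine hasQ_of_pos e (hM ▸ isCartan_E8) posRoots_E8 (fun _ => x) (fun _ _ _ _ => rfl) hq ?_
  rw [Finset.prod_const, card_E8]

/-! ### Connectedness -/

/-- a diagram in which every node but one is joined with a node of smaller rank is connected -/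
theorem conn_of_rank {J₀ : Type*} (e : I ≃ J₀) (r : J₀ → ℕ) (o : J₀)
    (h : ∀ k : J₀, k ≠ o → ∃ l : J₀, r l < r k ∧ M.reindex e k l ≠ 2) :
    ∀ J : Set I, J.Nonempty → Jᶜ.Nonempty → ∃ i ∈ J, ∃ j ∈ Jᶜ, M i j ≠ 2 := by
  intro J hJ hJ'
  have key : ∀ T : Set J₀, T.Nonempty → Tᶜ.Nonempty →
      ∃ i ∈ T, ∃ j ∈ Tᶜ, M.reindex e i j ≠ 2 := by
    intro T hT hT'
    by_contra hcon
    push Not at hcon
    obtain ⟨a, ha⟩ := hT
    obtain ⟨b, hb⟩ := hT'
    have hsym : ∀ i j, M.reindex e i j = M.reindex e j i := fun i j => (M.reindex e).symmetric i j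
    have hall : ∀ (m : ℕ) (k : J₀), r k = m → (k ∈ T ↔ o ∈ T) := by
      intro m
      induction m using Nat.strong_induction_on with
      | _ m ih =>
        intro k hk
        by_cases hko : k = o
        · rw [hko]
        · obtain ⟨l, hl, hne⟩ := h k hko
          have h1 := ih (r l) (by omega) l rfl
          rw [← h1]
          constructor
          · intro h2
            by_contra h3
            exact hne (hcon _ h2 l h3)
          · intro h2
            by_contra h3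
            exact hne (by rw [hsym]; exact hcon l h2 _ h3)
    exact hb ((hall _ b rfl).2 ((hall _ a rfl).1 ha))
  obtain ⟨i, hi, j, hj, hij⟩ := key (e '' J) (hJ.image e) (by
    obtain ⟨x, hx⟩ := hJ'
    exact ⟨e x, fun ⟨y, hy, hxy⟩ => hx (e.injective hxy ▸ hy)⟩)
  obtain ⟨x, hx, rfl⟩ := hi
  refine ⟨x, hx, e.symm j, fun h3 => hj ⟨_, h3, e.apply_symm_apply j⟩, ?_⟩
  rw [CoxeterMatrix.reindex_apply, Equiv.symm_apply_apply] at hij
  exact hij

/-- a diagram in which every node `k > 0` is joined with a smaller node is connected -/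
theorem conn_of_parent {n : ℕ} (e : I ≃ Fin n)
    (h : ∀ k : Fin n, 0 < (k : ℕ) → ∃ l : Fin n, (l : ℕ) < k ∧ M.reindex e k l ≠ 2) :
    ∀ J : Set I, J.Nonempty → Jᶜ.Nonempty → ∃ i ∈ J, ∃ j ∈ Jᶜ, M i j ≠ 2 := by
  intro J hJ hJ'
  have hn : 0 < n := by
    obtain ⟨x, -⟩ := hJ
    exact lt_of_le_of_lt (Nat.zero_le _) (e x).2
  refine conn_of_rank e (fun k => (k : ℕ)) ⟨0, hn⟩ (fun k hk => h k ?_) J hJ hJ'
  rcases Nat.eq_zero_or_pos (k : ℕ) with h0 | h0
  · exact absurd (Fin.ext h0) hk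
  · exact h0

theorem conn_B {m : ℕ} (e : I ≃ Fin (m + 1)) (hM : TypeB (M.reindex e)) :
    ∀ J : Set I, J.Nonempty → Jᶜ.Nonempty → ∃ i ∈ J, ∃ j ∈ Jᶜ, M i j ≠ 2 := by
  refine conn_of_parent e fun k hk => ⟨⟨k - 1, by omega⟩, by simp only; omega, ?_⟩
  rw [hM _ _ (fun h => by rw [Fin.ext_iff] at h; simp only at h; omega)]
  split_ifs with h1 h2
  · decide
  · decide
  · exact absurd (by simp only; omega) h2

theorem conn_D {m : ℕ} (e : I ≃ Fin (m + 2)) (h1m : 1 ≤ m) (hM : TypeD (M.reindex e)) :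
    ∀ J : Set I, J.Nonempty → Jᶜ.Nonempty → ∃ i ∈ J, ∃ j ∈ Jᶜ, M i j ≠ 2 := by
  refine conn_of_parent e fun k hk => ?_
  have hk2 := k.2
  rcases Nat.lt_or_ge k (m + 1) with h | h
  · refine ⟨⟨k - 1, by omega⟩, by simp only; omega, ?_⟩
    rw [hM _ _ (fun h => by rw [Fin.ext_iff] at h; simp only at h; omega), if_pos (by simp only; omega)]
    decide
  · refine ⟨⟨m - 1, by omega⟩, by simp only; omega, ?_⟩
    rw [hM _ _ (fun h => by rw [Fin.ext_iff] at h; simp only at h; omega), if_pos (by simp only; omega)]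
    decide

/-- a Cartan matrix whose graph is connected -/
theorem conn_of_cartan {n : ℕ} {M₀ : CoxeterMatrix (Fin n)} {A : Fin n → Fin n → ℤ} (hA : IsCartan M₀ A)
    (e : I ≃ Fin n) (hM : M.reindex e = M₀) (r : Fin n → ℕ) (o : Fin n)
    (h : ∀ k : Fin n, k ≠ o → ∃ l : Fin n, r l < r k ∧ A k l ≠ 0) :
    ∀ J : Set I, J.Nonempty → Jᶜ.Nonempty → ∃ i ∈ J, ∃ j ∈ Jᶜ, M i j ≠ 2 := by
  refine conn_of_rank e r o fun k hk => ?_
  obtain ⟨l, h1, h2⟩ := h k hk
  refine ⟨l, h1, fun h3 => h2 ?_⟩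
  have h4 := hA.rel k l (fun h => by rw [h] at h1; omega)
  rw [← hM, h3] at h4
  rcases h4 with h4 | h4 | h4 | h4
  · exact h4.2.1
  all_goals exact absurd h4.1 (by decide)

theorem conn_F4 (e : I ≃ Fin 4) (hM : M.reindex e = CoxeterMatrix.F₄) :
    ∀ J : Set I, J.Nonempty → Jᶜ.Nonempty → ∃ i ∈ J, ∃ j ∈ Jᶜ, M i j ≠ 2 :=
  conn_of_cartan isCartan_F4 e hM ![0, 1, 2, 3] 0 (by decide)

theorem conn_E6 (e : I ≃ Fin 6) (hM : M.reindex e = CoxeterMatrix.E₆) :
    ∀ J : Set I, J.Nonempty → Jᶜ.Nonempty → ∃ i ∈ J, ∃ j ∈ Jᶜ, M i j ≠ 2 :=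
  conn_of_cartan isCartan_E6 e hM ![0, 3, 1, 2, 3, 4] 0 (by decide)

theorem conn_E7 (e : I ≃ Fin 7) (hM : M.reindex e = CoxeterMatrix.E₇) :
    ∀ J : Set I, J.Nonempty → Jᶜ.Nonempty → ∃ i ∈ J, ∃ j ∈ Jᶜ, M i j ≠ 2 :=
  conn_of_cartan isCartan_E7 e hM ![0, 3, 1, 2, 3, 4, 5] 0 (by decide)

theorem conn_E8 (e : I ≃ Fin 8) (hM : M.reindex e = CoxeterMatrix.E₈) :
    ∀ J : Set I, J.Nonempty → Jᶜ.Nonempty → ∃ i ∈ J, ∃ j ∈ Jᶜ, M i j ≠ 2 :=
  conn_of_cartan isCartan_E8 e hM ![0, 3, 1, 2, 3, 4, 5, 6] 0 (by decide +kernel)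

end Cfsg.Agent.ParSys.FreeCount

end
end

-- part: Omega/EH3/ESix/Base
section
set_option linter.all false
open scoped Cfsg.Agent.FastGrp

/-!
# EH3, shape (iii): `End_L(V) = F₄`, the `F₄`-structure (helper415; bb OMEGA #16215)

`Zt ρ b ζ` : `ζ² + ζ + 1 = 0`, `H` normalises `⟨ζ⟩`, `ζ` is self-adjoint (`B`) or an isometry (`U`).
`Lin ρ ζ h` : `h` commutes with `ζ`; `AA ζ a = F₄ a`; `AP b ζ a = (F₄ a)^⊥`.

* `exists_nonlin` : some `x ∈ X` does not commute with `ζ`;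
* `fix_lin` : `C_V(X₀) = F₄ a`, `X₀ = C_X(ζ)`; `AA_le_D`, `inter` : `D ∩ ζ D = F₄ a`, `exists_dec` : `(F₄ a)^⊥ = D + ζ D`;
* `card_AP`, `card_AA`.
-/

set_option autoImplicit false

namespace Cfsg.Agent.Omega.EH3.ESix.Base

open Cfsg.Agent.Omega.EH3

variable {H V : Type*} [Group H] [AddCommGroup V] [Module (ZMod 2) V]
  {ρ : H →* (V ≃ₗ[ZMod 2] V)} {b : LinearMap.BilinForm (ZMod 2) V} {q : V → ZMod 2}
  {a : V} {D : Submodule (ZMod 2) V} {X : Subgroup H} {w : ℕ} {ζ : V →ₗ[ZMod 2] V}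

/-- the `F₄`-structure -/
structure Zt (ρ : H →* (V ≃ₗ[ZMod 2] V)) (b : LinearMap.BilinForm (ZMod 2) V) (ζ : V →ₗ[ZMod 2] V) : Prop where
  sq : ∀ v, ζ (ζ v) = ζ v + v
  semi : ∀ h, (∀ v, ρ h (ζ v) = ζ (ρ h v)) ∨ (∀ v, ρ h (ζ v) = ζ (ρ h v) + ρ h v)
  type : (∀ u v, b (ζ u) v = b u (ζ v)) ∨ (∀ u v, b (ζ u) v = b u (ζ v) + b u v)

/-- `h` commutes with `ζ` -/
def Lin (ρ : H →* (V ≃ₗ[ZMod 2] V)) (ζ : V →ₗ[ZMod 2] V) (h : H) : Prop := ∀ v, ρ h (ζ v) = ζ (ρ h v)

theorem vv (v : V) : v + v = 0 := ZModModule.add_self v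

theorem Zt.zero (Z : Zt ρ b ζ) {v : V} (h : ζ v = 0) : v = 0 := by
  have := Z.sq v
  rwa [h, map_zero, zero_add, eq_comm] at this

theorem Zt.inj (Z : Zt ρ b ζ) : Function.Injective ζ := by
  intro u v h
  have h1 : ζ (u - v) = 0 := by rw [map_sub, h, sub_self]
  exact sub_eq_zero.1 (Z.zero h1)

theorem Zt.ne (Z : Zt ρ b ζ) {v : V} (h : ζ v = v) : v = 0 := by
  have := Z.sq v
  rw [h, vv] at this
  rwa [h] at this

theorem rho_mul (g h : H) (v : V) : ρ (g * h) v = ρ g (ρ h v) := by rw [map_mul]; rfl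

theorem rho_one (v : V) : ρ 1 v = v := by rw [map_one]; rfl

theorem Zt.nonlin (Z : Zt ρ b ζ) {h : H} (hh : ¬ Lin ρ ζ h) (v : V) : ρ h (ζ v) = ζ (ρ h v) + ρ h v :=
  (Z.semi h).resolve_left hh v

theorem Zt.lin_mul' (Z : Zt ρ b ζ) {g h : H} (hg : ¬ Lin ρ ζ g) (hh : ¬ Lin ρ ζ h) : Lin ρ ζ (g * h) := by
  intro v
  rw [rho_mul, rho_mul, Z.nonlin hh, map_add, Z.nonlin hg, add_assoc, vv, add_zero]

theorem lin_mul {g h : H} (hg : Lin ρ ζ g) (hh : Lin ρ ζ h) : Lin ρ ζ (g * h) := by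
  intro v
  rw [rho_mul, rho_mul, hh v, hg]

theorem lin_one : Lin ρ ζ (1 : H) := by
  intro v
  rw [rho_one, rho_one]

theorem lin_inv {g : H} (hg : Lin ρ ζ g) : Lin ρ ζ g⁻¹ := by
  intro v
  apply (ρ g).injective
  rw [← rho_mul, mul_inv_cancel, rho_one, hg, ← rho_mul, mul_inv_cancel, rho_one]

theorem exists_nonlin (C : Cfg ρ b q a D X w) (Z : Zt ρ b ζ) : ∃ x ∈ X, ¬ Lin ρ ζ x := by
  by_contra hcon
  push Not at hcon
  have h1 : ∀ x ∈ X, ρ x (ζ a) = ζ a := fun x hx => by rw [hcon x hx, C.X_a hx]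
  rcases C.fix_X h1 with h | h
  · exact C.a_ne (Z.zero h)
  · exact C.a_ne (Z.ne h)

/-! ### `F₄ a` -/

/-- `F₄ a` -/
def AA (ζ : V →ₗ[ZMod 2] V) (a : V) : Submodule (ZMod 2) V := Submodule.span (ZMod 2) {a, ζ a}

theorem mem_AA {v : V} : v ∈ AA ζ a ↔ ∃ s t : ZMod 2, s • a + t • ζ a = v := Submodule.mem_span_pair

theorem a_mem_AA : a ∈ AA ζ a := Submodule.subset_span (by simp)

theorem za_mem_AA : ζ a ∈ AA ζ a := Submodule.subset_span (by simp)

theorem Zt.z_mem_AA (Z : Zt ρ b ζ) {v : V} (h : v ∈ AA ζ a) : ζ v ∈ AA ζ a := by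
  obtain ⟨s, t, rfl⟩ := mem_AA.1 h
  rw [map_add, map_smul, map_smul, Z.sq]
  exact add_mem (Submodule.smul_mem _ _ za_mem_AA)
    (Submodule.smul_mem _ _ (add_mem za_mem_AA a_mem_AA))

/-- **`C_V(X₀) = F₄ a`** -/
theorem fix_lin (C : Cfg ρ b q a D X w) (Z : Zt ρ b ζ) {v : V} (h : ∀ x ∈ X, Lin ρ ζ x → ρ x v = v) :
    v ∈ AA ζ a := by
  obtain ⟨x₁, hx₁, hn⟩ := exists_nonlin C Z
  have key : ∀ u : V, (∀ x ∈ X, Lin ρ ζ x → ρ x u = u) → ρ x₁ u = u ∨ ρ x₁ u = u + a := by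
    intro u hu
    have h1 : ρ x₁ u + u = 0 ∨ ρ x₁ u + u = a := by
      apply C.fix_X
      intro x hx
      by_cases hl : Lin ρ ζ x
      · rw [map_add, hu x hx hl, ← rho_mul, C.X_comm hx hx₁, rho_mul, hu x hx hl]
      · have h2 : ρ (x * x₁) u = u := hu _ (X.mul_mem hx hx₁) (Z.lin_mul' hl hn)
        have h3 : ρ (x₁ * x) u = u := by rw [C.X_comm hx₁ hx]; exact h2
        have h4 : ρ x u = ρ x₁ u := by
          rw [rho_mul] at h3
          have h5 := congrArg (ρ x₁) h3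
          rwa [← rho_mul, C.X_sq x₁ hx₁, rho_one] at h5
        rw [map_add, ← rho_mul, h2, h4, add_comm]
    rcases h1 with h1 | h1
    · left
      have := congrArg (· + u) h1
      simpa [add_assoc, vv] using this
    · right
      have := congrArg (· + u) h1
      simpa [add_assoc, vv, add_comm u a] using this
  have hz : ∀ x ∈ X, Lin ρ ζ x → ρ x (ζ v) = ζ v := fun x hx hl => by rw [hl, h x hx hl]
  rcases key v h with h1 | h1
  · have h2 : v = 0 ∨ v = a := by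
      apply C.fix_X
      intro x hx
      by_cases hl : Lin ρ ζ x
      · exact h x hx hl
      · have h2 : ρ (x₁ * x) v = v := h _ (X.mul_mem hx₁ hx) (Z.lin_mul' hn hl)
        rw [rho_mul] at h2
        have h3 := congrArg (ρ x₁) h2
        rwa [← rho_mul, C.X_sq x₁ hx₁, rho_one, h1] at h3
    rcases h2 with rfl | rfl
    · exact zero_mem _
    · exact a_mem_AA
  · have h2 := key (ζ v) hz
    rw [Z.nonlin hn, h1, map_add] at h2
    -- `ζ v + ζ a + (v + a) = ζ v` or `= ζ v + a`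
    have h3 : v = ζ a + a ∨ v = ζ a := by
      rcases h2 with h2 | h2
      · left
        have h4 : ζ a + (v + a) = 0 := by
          have : ζ v + (ζ a + (v + a)) = ζ v + 0 := by rw [← add_assoc, h2, add_zero]
          exact add_left_cancel this
        have h5 : v + (ζ a + a) = 0 := by rw [← h4]; abel
        exact (add_eq_zero_iff_eq_neg.1 h5).trans (ZModModule.neg_eq_self _)
      · right
        have h4 : ζ a + (v + a) = a := by
          have : ζ v + (ζ a + (v + a)) = ζ v + a := by rw [← add_assoc, h2]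
          exact add_left_cancel this
        have h5 : v + ζ a = 0 := by
          rw [show v + ζ a = (ζ a + (v + a)) - a by abel, h4, sub_self]
        exact (add_eq_zero_iff_eq_neg.1 h5).trans (ZModModule.neg_eq_self _)
    rcases h3 with rfl | rfl
    · exact add_mem za_mem_AA a_mem_AA
    · exact za_mem_AA

theorem za_mem_D (C : Cfg ρ b q a D X w) (Z : Zt ρ b ζ) : ζ a ∈ D := by
  refine C.mem_D_of_fix_mod fun x hx => ?_
  rcases Z.semi x with h | h
  · exact ⟨0, by rw [h, C.X_a hx, vv, zero_smul]⟩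
  · refine ⟨1, ?_⟩
    rw [h, C.X_a hx, one_smul, add_right_comm, vv, zero_add]

theorem AA_le_D (C : Cfg ρ b q a D X w) (Z : Zt ρ b ζ) : AA ζ a ≤ D := by
  rw [AA, Submodule.span_le]
  rintro v (rfl | rfl)
  · exact C.a_mem
  · exact za_mem_D C Z

/-- `D ∩ ζ D ≤ F₄ a` -/
theorem inter (C : Cfg ρ b q a D X w) (Z : Zt ρ b ζ) {d : V} (hd : d ∈ D) (hzd : ζ d ∈ D) : d ∈ AA ζ a := by
  refine fix_lin C Z fun x hx hl => ?_
  rcases C.X_D x hx d hd with h | h
  · exact h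
  · exfalso
    have h1 := C.X_D x hx _ hzd
    rw [hl, h, map_add] at h1
    rcases h1 with h1 | h1
    · exact C.a_ne (Z.zero (left_eq_add.1 h1.symm))
    · exact C.a_ne (Z.ne (add_left_cancel h1))

theorem card_AA (C : Cfg ρ b q a D X w) (Z : Zt ρ b ζ) : Nat.card (AA ζ a) = 4 := by
  let f : ZMod 2 × ZMod 2 → AA ζ a := fun p => ⟨p.1 • a + p.2 • ζ a, mem_AA.2 ⟨p.1, p.2, rfl⟩⟩
  have hf : Function.Bijective f := by
    constructor
    · rintro ⟨s, t⟩ ⟨s', t'⟩ h
      have h1 : s • a + t • ζ a = s' • a + t' • ζ a := congrArg Subtype.val h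
      have h2 : (s + s') • a + (t + t') • ζ a = 0 := by
        rw [add_smul, add_smul]
        have : s • a + s' • a + (t • ζ a + t' • ζ a) = (s • a + t • ζ a) + (s' • a + t' • ζ a) := by abel
        rw [this, h1, vv]
      have h3 : s + s' = 0 ∧ t + t' = 0 := by
        rcases zmod_two (s + s') with h4 | h4 <;> rcases zmod_two (t + t') with h5 | h5
        · exact ⟨h4, h5⟩
        · rw [h4, h5, zero_smul, one_smul, zero_add] at h2
          exact absurd (Z.zero h2) C.a_ne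
        · rw [h4, h5, zero_smul, one_smul, add_zero] at h2
          exact absurd h2 C.a_ne
        · rw [h4, h5, one_smul, one_smul] at h2
          exact absurd (Z.ne ((add_eq_zero_iff_eq_neg.1 h2).trans (ZModModule.neg_eq_self _)).symm) C.a_ne
      exact Prod.ext (CharTwo.add_eq_zero.1 h3.1) (CharTwo.add_eq_zero.1 h3.2)
    · rintro ⟨v, hv⟩
      obtain ⟨s, t, rfl⟩ := mem_AA.1 hv
      exact ⟨(s, t), rfl⟩
  rw [← Nat.card_eq_of_bijective f hf, Nat.card_prod, Nat.card_zmod]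

/-! ### `(F₄ a)^⊥` -/

/-- `(F₄ a)^⊥` -/
def AP (b : LinearMap.BilinForm (ZMod 2) V) (ζ : V →ₗ[ZMod 2] V) (a : V) : Submodule (ZMod 2) V where
  carrier := {v | b a v = 0 ∧ b (ζ a) v = 0}
  zero_mem' := ⟨map_zero _, map_zero _⟩
  add_mem' := by
    rintro u v ⟨h1, h2⟩ ⟨h3, h4⟩
    exact ⟨by rw [map_add, h1, h3, add_zero], by rw [map_add, h2, h4, add_zero]⟩
  smul_mem' := by
    rintro c v ⟨h1, h2⟩
    exact ⟨by rw [map_smul, h1, smul_zero], by rw [map_smul, h2, smul_zero]⟩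

theorem AP_perp {v u : V} (hv : v ∈ AP b ζ a) (hu : u ∈ AA ζ a) : b u v = 0 := by
  obtain ⟨s, t, rfl⟩ := mem_AA.1 hu
  rw [map_add, map_smul, map_smul, LinearMap.add_apply, LinearMap.smul_apply, LinearMap.smul_apply, hv.1, hv.2,
    smul_zero, smul_zero, add_zero]

theorem AP_eq : AP b ζ a = b.orthogonal (AA ζ a) := by
  ext v
  rw [LinearMap.BilinForm.mem_orthogonal_iff]
  exact ⟨fun h u hu => AP_perp h hu, fun h => ⟨h a a_mem_AA, h (ζ a) za_mem_AA⟩⟩

theorem card_AP (C : Cfg ρ b q a D X w) (Z : Zt ρ b ζ) : 4 * Nat.card (AP b ζ a) = 2 ^ (2 * w) := by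
  rw [AP_eq, ← C.card_V, ← card_AA C Z]
  exact C.card_perp _

theorem Zt.z_mem_AP (Z : Zt ρ b ζ) {v : V} (h : v ∈ AP b ζ a) : ζ v ∈ AP b ζ a := by
  rcases Z.type with t | t
  · refine ⟨by rw [← t]; exact h.2, ?_⟩
    rw [t, Z.sq, map_add, ← t, h.2, h.1, add_zero]
  · have e : ∀ u v, b u (ζ v) = b (ζ u) v + b u v := by
      intro u v
      rw [t, add_assoc, CharTwo.add_self_eq_zero, add_zero]
    refine ⟨by rw [e, h.1, h.2, add_zero], ?_⟩
    rw [e, Z.sq, map_add, LinearMap.add_apply, h.1, h.2, add_zero, add_zero]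

theorem D_le_AP (C : Cfg ρ b q a D X w) (Z : Zt ρ b ζ) : D ≤ AP b ζ a := fun _ hd =>
  ⟨C.b_D C.a_mem hd, C.b_D (za_mem_D C Z) hd⟩

/-- `(F₄ a)^⊥ = D + ζ D` -/
theorem exists_dec (C : Cfg ρ b q a D X w) (Z : Zt ρ b ζ) {v : V} (hv : v ∈ AP b ζ a) :
    ∃ d ∈ D, ∃ d' ∈ D, v = d + ζ d' := by
  have := C.finite_V
  have : Module.Finite (ZMod 2) V := Module.Finite.of_finite
  have hle : D ⊔ D.map ζ ≤ AP b ζ a := by
    refine sup_le (D_le_AP C Z) ?_
    rintro _ ⟨d, hd, rfl⟩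
    exact Z.z_mem_AP (D_le_AP C Z hd)
  have h1 := Submodule.finrank_sup_add_finrank_inf_eq D (D.map ζ)
  have h2 : Module.finrank (ZMod 2) D = w := by
    have h := Module.natCard_eq_pow_finrank (K := ZMod 2) (V := D)
    rw [C.card_D, Nat.card_zmod] at h
    exact (Nat.pow_right_injective (le_refl 2) h).symm
  have h3 : Module.finrank (ZMod 2) (D.map ζ) = w := by
    rw [← h2]
    exact (LinearEquiv.finrank_eq (Submodule.equivMapOfInjective ζ Z.inj D)).symm
  have h4 : Module.finrank (ZMod 2) (D ⊓ D.map ζ : Submodule (ZMod 2) V) ≤ 2 := by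
    have h5 : D ⊓ D.map ζ ≤ AA ζ a := by
      rintro _ ⟨h6, d, hd, rfl⟩
      exact Z.z_mem_AA (inter C Z hd h6)
    have h6 : Module.finrank (ZMod 2) (AA ζ a) = 2 := by
      have h := Module.natCard_eq_pow_finrank (K := ZMod 2) (V := AA ζ a)
      rw [card_AA C Z, Nat.card_zmod] at h
      exact (Nat.pow_right_injective (le_refl 2) (show 2 ^ 2 = _ from h)).symm
    exact (Submodule.finrank_mono h5).trans h6.le
  have h5 : Module.finrank (ZMod 2) (AP b ζ a) + 2 = 2 * w := by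
    have h := Module.natCard_eq_pow_finrank (K := ZMod 2) (V := AP b ζ a)
    rw [Nat.card_zmod] at h
    have h6 := card_AP C Z
    rw [h, show 4 = 2 ^ 2 from rfl, ← pow_add] at h6
    have := Nat.pow_right_injective (le_refl 2) h6
    omega
  have h6 : D ⊔ D.map ζ = AP b ζ a := by
    apply Submodule.eq_of_le_of_finrank_le hle
    omega
  rw [← h6] at hv
  obtain ⟨d, hd, _, ⟨d', hd', rfl⟩, rfl⟩ := Submodule.mem_sup.1 hv
  exact ⟨d, hd, d', hd', rfl⟩

end Cfsg.Agent.Omega.EH3.ESix.Base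

private theorem dce_1af684c9a8dd : _root_.True := by
  try have : _root_.True := by simp only [_root_.Cfsg.Agent.Omega.EH3.ESix.Base.AA.eq_1]
  exact _root_.True.intro
end
end
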