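import Cfsg.Agent.Mrg.Omega.FOne.Lift.SdIso_m3
import Cfsg.Agent.Mrg.Omega.Lie.End.KDead
import Cfsg.Agent.Mrg.Omega.HTwo.TComp_m3
import Cfsg.Agent.Mrg.Omega.HOneQ.Entry
import Cfsg.Agent.Mrg.Omega.Lie.End.KSideMain
import Cfsg.Agent.Mrg.Omega.NO3S.MidB.Main_m3
import Cfsg.Agent.Mrg.Omega.HTwo.EightMain_m3
import Cfsg.Agent.Mrg.Omega.All.Basic_m3
import Cfsg.Agent.Mrg.Omega.BTwo.RadQ_m3
import Cfsg.Agent.Mrg.Omega.NOThreeL.RRed.Blk.BadBkD_m3
import Cfsg.Agent.Mrg.Omega.Lie.LQThm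
import Cfsg.Agent.Mrg.Omega.BTwo.CoordNat
import Mathlib
import Cfsg.Agent.Mrg.Omega.BTwo.Conj
import Cfsg.Agent.FastGrp
import Cfsg.Agent.Prune
set_option linter.all false
prune_inst 0x7ff4fefbaffcbddfdfff7e7ffffcdffdf9b9fffff6dff9cbffe0e9ffcbbf4b86c9e5fbad0fe8dafe4ed6609410f87b13fdffcabfeb6bdc7ffffd5ff45ffbff8ffdf7bd0951d788340fbc0fff63f07f8e7f3fffffffffffffffffffffffffffbeffffffffffff
open scoped Cfsg.Agent.FastGrp

-- part: Mrg/Omega/HOne/SameOf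
section
/-!
# II.0h1, SPLIT, same type, `q ≥ 4`: the cut of the socket `HOne.Main.Same4`

`Sit4 S P g M` : the hypotheses of `Same4` (without the class `K`); `V = N`, points `pt M i`.
Derived: `Sit4.bts`, `Sit4.exists_coord`, `Sit4.exists_torD`, `Sit4.CenX_ne`, `Sit4.exists_ZZ`, `Sit4.odd`.

Sockets (each a Prop):
* `LayH K` : LAYER at every pair of points (helper835);
* `FrH K` : `N(R i) = E (N(R i) ∩ N(V))`, `E = EE V R i j` (helper407, 466, 951);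
* `SysH K` : the parabolic system of the moved components with its residues `(0, k)`, no node of type `(γ)`
  (helper43, 105 : `RealSys`; helper725, 551, 812, 976 : residues; helper910, 811 : `(γ)`);
* `DH K` : `D ∩ C(X) ≠ 1` (helper499);
* `EndH K` : the identification of `G₀ = X E` (helper124, 384).

`same4_of` : `LayH K`, `FrH K`, `SysH K`, `DH K`, `EndH K` imply `Same4 K`.
-/

set_option autoImplicit false
set_option linter.unusedSectionVars false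

namespace Cfsg.Agent.Omega.HOne.SameOf

open Subgroup Cfsg Cfsg.Agent.ZN Cfsg.Agent.Omega.MinPar Cfsg.Agent.Omega.Frame
open Cfsg.Agent.Omega.FrameFF Cfsg.Agent.Omega.HOne.Main
open Cfsg.Agent.Omega.FrameLE (AllIn)
open Cfsg.Agent.Omega.NatPair (NatMod)
open Cfsg.Agent.Omega.BTwo Cfsg.Agent.Omega.Lie Cfsg.Agent.Omega.Lie.Quot Cfsg.Agent.Omega.Lie.End
open Cfsg.Agent.Omega.IIa4 (LayAll)
open Cfsg.Agent.Omega.IIa4.Moved (EE NR_le_NEE EE_le_cen Y_le_EE QQ_le_up)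

universe u

/-- the hypotheses of `Same4` -/
structure Sit4 {G : Type u} [Group G] [Finite G] (S : Sylow 2 G) (P : Subgroup G) (g : G) {F : Type} [Field F]
    [Finite F] [CharP F 2] {N : Subgroup G} (M : NatMod F N) : Prop where
  ctx : Ctx G
  full : Full (S : Subgroup G)
  allIn : AllIn (S : Subgroup G)
  allSingle : AllSingle (S : Subgroup G)
  allSplit : AllSplit (S : Subgroup G)
  same : Same (S : Subgroup G) P g M
  four : 4 ≤ Nat.card F

namespace Sit4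

variable {G : Type u} [Group G] [Finite G] {S : Sylow 2 G} {P : Subgroup G} {g : G} {F : Type} [Field F]
  [Finite F] [CharP F 2] {N : Subgroup G} {M : NatMod F N} (h : Sit4 S P g M)
include h

theorem S_le_P : (S : Subgroup G) ≤ P := h.same.mp.star₁.le

theorem le_N : (S : Subgroup G) ≤ normalizer (N : Set G) := h.S_le_P.trans h.same.le

theorem bts : BTS N (pt M) := HOneQ.bts M S h.le_N h.ctx.char2 h.same.pair h.same.VQ

theorem bt : BT N (pt M) := h.bts.toBT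

theorem exists_ne : ∃ a : F, a ≠ 0 ∧ a ≠ 1 := HOneQ.exists_ne_one h.four

/-- coordinates at two points -/
theorem exists_coord {i j : Pt M} (hij : i ≠ j) :
    ∃ (v : F → F → G) (w1 w2 : F → G), Coord N (pt M) i j v w1 w2 := by
  obtain ⟨w, u, -, -, -, w1, w2, c⟩ := BTwo.exists_coord M S h.le_N h.same.pair h.same.VQ hij
  exact ⟨_, w1, w2, c⟩

/-- the torus at two points -/
theorem exists_torD {i j : Pt M} {v : F → F → G} {w1 w2 : F → G} (c : Coord N (pt M) i j v w1 w2) :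
    ∃ t : F → G, Lie.TorD N (pt M) i j v t :=
  Lie.coord_exists_torD h.bt c (h.bts.cen_W_isPGroup i)

theorem exists_pair : ∃ i j : Pt M, i ≠ j := h.bt.exists_pair

/-- a Sylow 2-subgroup in `N(V) ∩ N(R i)` -/
theorem exists_sylow (i : Pt M) : ∃ S₁ : Sylow 2 G, (S₁ : Subgroup G) ≤ normalizer (N : Set G) ∧
    (S₁ : Subgroup G) ≤ normalizer (pt M i : Set G) := by
  obtain ⟨S₁, h1, h2, -⟩ := HOneQ.exists_sylow_pt M S h.le_N i
  exact ⟨S₁, h1, h2⟩

/-- `|N(R i) : N(R i) ∩ N(V)|` is odd -/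
theorem odd (i : Pt M) : Odd ((normalizer (N : Set G)).relIndex (normalizer (pt M i : Set G))) := by
  have hfact : Fact (Nat.Prime 2) := ⟨Nat.prime_two⟩
  obtain ⟨S₁, h1, h2, h3⟩ := HOneQ.exists_sylow_pt M S h.le_N i
  rw [← Nat.not_even_iff_odd, even_iff_two_dvd] at h3 ⊢
  exact fun hd => h3 (hd.trans (relIndex_dvd_of_le_left _ h1))

theorem cv_le : cv (S : Subgroup G) P ≤ CenX N (pt M) := by
  refine le_trans ?_ (HOneQ.cen_P_le M S h.le_N h.bt h.S_le_P h.same.lift)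
  intro x hx
  rw [mem_centralizer_iff]
  exact fun p hp => (mem_centralizer_iff.1 (h.same.cen hp) x hx).symm

/-- `C(X) ≠ 1` -/
theorem CenX_ne : CenX N (pt M) ≠ ⊥ := fun h0 => h.same.ne (le_bot_iff.1 (h.cv_le.trans h0.le))

theorem exists_ZZ {i k : Pt M} (hik : i ≠ k) : ∃ z ∈ ZZ N (pt M) i, z ∉ QQ (pt M k) :=
  HOneQ.exists_ZZ_of_mutual M S h.le_N h.ctx.char2 h.four h.same.pair h.same.VQ hik h.CenX_ne

/-- the hypothesis `hZ` of `HOne/SimpleOf.lean` -/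
theorem exists_ZZ' {i k : Pt M} (hik : i ≠ k) : ∃ z ∈ ZZ N (pt M) k, z ∉ DD N (pt M) := by
  obtain ⟨z, hz, hzQ⟩ := h.exists_ZZ (i := k) (k := i) (Ne.symm hik)
  exact ⟨z, hz, fun hD => hzQ ((h.bt.W_le_Q i) (D_le_W N (pt M) i hD))⟩

end Sit4

/-! ### The output for the identification -/

/-- What is known about `G₀ = X E`, `U` a Sylow 2-subgroup of the Borel subgroup. -/
structure GOut {G : Type u} [Group G] (V R G₀ U : Subgroup G) : Prop where
  bn : ∃ (Q : BNPair ↥G₀) (s₀ : ↥G₀), s₀ ∈ Q.S ∧ U.subgroupOf G₀ ≤ Q.B ∧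
      (∀ x ∈ Q.B, (x : G) ∈ normalizer (V : Set G) ∧ (x : G) ∈ normalizer (R : Set G) ∧
        (x : G) ∈ normalizer (U : Set G)) ∧
      (∀ s ∈ Q.S, s ≠ s₀ → (s : G) ∈ normalizer (R : Set G)) ∧
      (∀ x ∈ Q.B, ∃ u ∈ U.subgroupOf G₀, ∃ t ∈ Q.B ⊓ Q.N, x = u * t) ∧ 3 ≤ Q.rank ∧ Q.Irreducible
  U_le : U ≤ G₀
  U_p : IsPGroup 2 U
  NV : normalizer (V : Set G) ≤ normalizer (G₀ : Set G)
  NR : normalizer (R : Set G) ≤ normalizer (G₀ : Set G)
  cen : centralizer (G₀ : Set G) = ⊥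
  R_le : R ≤ U
  R_ne : R ≠ ⊥
  R_not : ¬ G₀ ≤ normalizer (R : Set G)
  R_cen : ∀ u ∈ U, ∀ r ∈ R, u * r = r * u
  /-- `C(v) ∩ G₀ ≰ N(R)` for some `1 ≠ v ∈ Z(U)` -/
  v : ∃ v ∈ U, v ≠ 1 ∧ (∀ u ∈ U, u * v = v * u) ∧ ∃ x ∈ G₀, x * v = v * x ∧ x ∉ normalizer (R : Set G)
  /-- `O₂(N(R)) ∩ G₀` is nonabelian -/
  w : ∃ W ≤ U, normalizer (R : Set G) ≤ normalizer (W : Set G) ∧ ∃ x ∈ W, ∃ y ∈ W, x * y ≠ y * x

section out

variable {G : Type u} [Group G] {ι : Type*} {V : Subgroup G} {R : ι → Subgroup G} {i j : ι} {F : Type*} [Field F]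
  {v : F → F → G} {w1 w2 : F → G} {B U : Subgroup G} {J : Type} {P : J → Subgroup G} {m : J → J → ℕ}

/-- `N(V)` and `N(R i)` normalise `X E` -/
theorem norm_G0 (b : BT V R)
    (hfr : ∀ x ∈ normalizer (R i : Set G), ∃ e ∈ EE V R i j, e * x ∈ normalizer (V : Set G)) :
    normalizer (V : Set G) ≤ normalizer ((XX V R ⊔ EE V R i j : Subgroup G) : Set G) ∧
      normalizer (R i : Set G) ≤ normalizer ((XX V R ⊔ EE V R i j : Subgroup G) : Set G) := by
  have hE : normalizer (R i : Set G) ≤ normalizer (EE V R i j : Set G) := NR_le_NEE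
  have key : ∀ g ∈ normalizer (R i : Set G), g ∈ normalizer (V : Set G) →
      g ∈ normalizer ((XX V R ⊔ EE V R i j : Subgroup G) : Set G) := by
    intro g h1 h2
    rw [← BTwo.cj_eq_self_iff, cj_sup, BTwo.cj_eq_self_iff.2 (b.NV_le_NX h2), BTwo.cj_eq_self_iff.2 (hE h1)]
  constructor
  · intro g hg
    obtain ⟨k, hk⟩ := b.perm g hg i
    obtain ⟨x, hx, ex⟩ := b.trans_X_one k i
    have h1 : x * g ∈ normalizer (R i : Set G) := by
      rw [← BTwo.cj_eq_self_iff, BTwo.cj_mul, hk, ex]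
    have h2 := key _ h1 (mul_mem (b.X_le_NV hx) hg)
    have h3 : x ∈ normalizer ((XX V R ⊔ EE V R i j : Subgroup G) : Set G) := le_normalizer (mem_sup_left hx)
    have e : g = x⁻¹ * (x * g) := by group
    rw [e]
    exact mul_mem (inv_mem h3) h2
  · intro g hg
    obtain ⟨e, he, h1⟩ := hfr g hg
    have h2 : e ∈ normalizer (R i : Set G) := centralizer_le_normalizer _ (EE_le_cen b he)
    have h3 := key _ (mul_mem h2 hg) h1
    have h4 : e ∈ normalizer ((XX V R ⊔ EE V R i j : Subgroup G) : Set G) := le_normalizer (mem_sup_right he)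
    have e1 : g = e⁻¹ * (e * g) := by group
    rw [e1]
    exact mul_mem (inv_mem h4) h3

/-- `C(X E) = 1` -/
theorem cen_G0 [Finite G] (b : BTS V R)
    (hfr : ∀ x ∈ normalizer (R i : Set G), ∃ e ∈ EE V R i j, e * x ∈ normalizer (V : Set G)) :
    centralizer ((XX V R ⊔ EE V R i j : Subgroup G) : Set G) = ⊥ := by
  obtain ⟨h1, h2⟩ := norm_G0 b.toBT hfr
  have h3 : centralizer ((XX V R ⊔ EE V R i j : Subgroup G) : Set G) ≤ CenX V R :=
    centralizer_le (le_sup_left : XX V R ≤ _)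
  have h4 : CenX V R ≤ centralizer (WW V (R i) : Set G) := cen_X_le i
  have h5 : centralizer (WW V (R i) : Set G) ≤ centralizer (V : Set G) := cen_W_le V (R i)
  refine b.nonloc i _ ((b.cen_W_isPGroup i).to_le (h3.trans h4)) ?_ ?_ ?_ ?_
  · exact ((h3.trans h4).trans h5).trans (cen_le_NV V)
  · exact ((h3.trans h4).trans h5).trans (b.toBT.cen_le_N i)
  · exact h1.trans (normalizer_le_normalizer_centralizer _)
  · exact h2.trans (normalizer_le_normalizer_centralizer _)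

/-- `X E` does not normalise `R i` -/
theorem not_norm (b : BT V R) {E : Subgroup G} : ¬ (XX V R ⊔ E) ≤ normalizer (R i : Set G) := by
  intro h
  obtain ⟨k, hk, -⟩ := b.third i i
  obtain ⟨x, hx, ex⟩ := b.trans_X_one i k
  have h1 := h (mem_sup_left hx)
  rw [← BTwo.cj_eq_self_iff, ex] at h1
  exact hk (b.R_index h1)

theorem gOut [Finite G] [Finite F] [CharP F 2] [Finite J] (b : BTS V R) (c : Coord V R i j v w1 w2)
    (hF : ∃ a : F, a ≠ 0 ∧ a ≠ 1) (hij : i ≠ j)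
    (hfr : ∀ x ∈ normalizer (R i : Set G), ∃ e ∈ EE V R i j, e * x ∈ normalizer (V : Set G))
    (D : RealSys V R i (EE V R i j) B U P m) (hg : ∀ k, ¬ GamT V (P k))
    (hPR : ∀ k, P k ≤ normalizer (R i : Set G))
    (hr : ∀ k, ¬ P k ≤ normalizer (V : Set G) → ∃ m0, 3 ≤ m0 ∧ Res0 V R B U P k m0)
    (hD : DD V R ⊓ CenX V R ≠ ⊥) : GOut V (R i) (XX V R ⊔ EE V R i j) U := by
  have hfact : Fact (Nat.Prime 2) := ⟨Nat.prime_two⟩
  obtain ⟨Q, s₀, hQB, hs₀, hs, hB, hrk, hirr, hJ⟩ := EndBN.exists_bn_real b.toBT c hF hij hfr D hg hr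
  have hne : Nonempty J := by
    by_contra h1
    rw [not_nonempty_iff] at h1
    rw [Nat.card_of_isEmpty] at hJ
    omega
  have hBG : B ≤ XX V R ⊔ EE V R i j := (D.pre.le hne.some).trans (D.le_E _)
  have hUG : U ≤ XX V R ⊔ EE V R i j := D.pre.U_le.trans hBG
  have hWU : WW V (R i) ≤ U := D.dat.WU
  have hWC : WW V (R i) ≤ centralizer (R i : Set G) := (b.W_le_Q i).trans (Q_le_C b.toBT i)
  have hUC : ∀ u ∈ U, ∀ r ∈ R i, u * r = r * u := by
    intro u hu r hr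
    obtain ⟨w, hw, hc⟩ := D.dat.UC u hu
    have h1 := mem_centralizer_iff.1 hc r (b.R_le i hr)
    have h2 := mem_centralizer_iff.1 (hWC hw) r hr
    have e : u * r = w * (w⁻¹ * u * r) := by group
    rw [e, ← h1]
    have e2 : w * (r * (w⁻¹ * u)) = (w * r) * (w⁻¹ * u) := by group
    rw [e2, ← h2]
    group
  obtain ⟨h1, h2⟩ := norm_G0 b.toBT hfr
  exact
    { bn := by
        refine ⟨Q, s₀, hs₀, ?_, ?_, ?_, hB, hrk, hirr⟩
        · rw [hQB]
          exact fun x hx => D.pre.U_le hx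
        · intro x hx
          rw [hQB] at hx
          exact ⟨D.dat.BV hx, D.dat.BR hx, D.pre.norm hx⟩
        · intro s hsS hne'
          exact (iSup_le hPR) (hs s hsS hne')
      U_le := hUG
      U_p := D.pre.isP
      NV := h1
      NR := h2
      cen := cen_G0 b hfr
      R_le := (b.R_le_W i i).trans hWU
      R_ne := b.R_ne i
      R_not := not_norm b.toBT
      R_cen := hUC
      v := by
        -- `U` normalises `D ∩ C(X)`
        have hUN : U ≤ normalizer (V : Set G) := D.pre.U_le.trans D.dat.BV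
        have hn : U ≤ normalizer ((DD V R ⊓ CenX V R : Subgroup G) : Set G) := by
          intro u hu
          rw [← BTwo.cj_eq_self_iff, cj_inf, BTwo.cj_eq_self_iff.2 (b.NV_le_ND (hUN hu)),
            BTwo.cj_eq_self_iff.2 (b.toBT.NV_le_NCenX (hUN hu))]
        have hDU : DD V R ⊓ CenX V R ≤ U := inf_le_left.trans ((D_le_W V R i).trans hWU)
        obtain ⟨y, hy, hy1, hyZ⟩ := exists_mem_zc D.pre.isP hD hDU hn
        rw [MinSimple.VModule.mem_zc] at hyZ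
        obtain ⟨k, hk, -⟩ := b.third i i
        obtain ⟨x, hx, ex⟩ := b.trans_X_one i k
        refine ⟨y, hDU hy, hy1, fun u hu => hyZ.2.1 u hu, x, mem_sup_left hx, ?_, ?_⟩
        · exact mem_centralizer_iff.1 hy.2 x hx
        · intro hxR
          rw [← BTwo.cj_eq_self_iff, ex] at hxR
          exact hk (b.R_index hxR)
      w := by
        refine ⟨WW V (R i), hWU, normalizer_le_WW V (R i), w1 1, c.w1_mem 1, v 0 1,
          V_le_WW V (R i) (c.v_mem 0 1), fun h => ?_⟩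
        have h3 := c.w1_act 1 0 1
        rw [h, mul_inv_cancel_right] at h3
        have h4 := (c.v_inj h3).1
        rw [mul_one, zero_add] at h4
        exact zero_ne_one h4 }

end out

/-! ### The sockets -/

section sockets

variable (K : Cls.{u})

/-- **`D ∩ C(X) ≠ 1`** (helper499) -/
def DH : Prop :=
  ∀ (G : Type u) [Group G] [Finite G], K G → ∀ (S : Sylow 2 G) (P : Subgroup G) (g : G) (F : Type) [Field F]
    [Finite F] [CharP F 2] (N : Subgroup G) (M : NatMod F N), Sit4 S P g M → LayAll N (pt M) F →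
      DD N (pt M) ⊓ CenX N (pt M) ≠ ⊥

variable {K}

end sockets

end Cfsg.Agent.Omega.HOne.SameOf
end

-- part: Mrg/Omega/Lie/ModQS
section
section


/-!
# (h1), SPLIT: the module `M = W i / R i` for `H = HQ (R i)` when `C_D(X) ≠ 1` is allowed (`b : BTS V R`)

`D1 = C_D(X) R i / R i`, `rad = Z(W i)/R i`, `e = V / R i`.

* `A_rad`: `[rad, A] ≤ D1`; `T_D1`: `T` is trivial on `D1`; `e_rad`: `e ∩ rad = 0`; `fix_D`: `C_M(T) ≤ D/R i`;
* `quadD`: `(1 + a)(1 + tat⁻¹) M ≤ e + D1`; `quad_U`: it vanishes on `U i / R i`; `quad4`: `≤ e` for `q = 4`;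
* `lemN`: `e ≤ (1 + a) M + rad` (LEMMA N', #14071); `faith`: `A` is faithful on `M / rad`;
* `stab_e`, `cen_T_norm_A`: `C_H(T)` stabilises `e` and normalises `A`, `q ≥ 8` (over `BT`, after helper932).
-/

set_option autoImplicit false
set_option linter.unusedSectionVars false

namespace Cfsg.Agent.Omega.Lie.ModQS

open Subgroup Cfsg.Agent.Omega.Lie Cfsg.Agent.Omega.Lie.Quot
open Cfsg.Agent.Omega.BTwo hiding ZZ
open Cfsg.Agent.Omega.Lie.LemN (ZZ N0_sq hallWitt ZZ_le_U)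

universe u v w

variable {G : Type u} [Group G] {ι : Type w} {V : Subgroup G} {R : ι → Subgroup G} {F : Type v} [Field F]
  {i j : ι} {vv : F → F → G} {w1 w2 t : F → G}

/-! ### In `G` -/

/-- **(N0)** for `BTS`: `[[W i, u], t u t⁻¹] ≤ V C_D(X)` for `t ∈ X` fixing `R i` and `R j` -/
theorem N0_T (b : BTS V R) {w u t : G} (hw : w ∈ WW V (R i)) (hu : u ∈ UU V R j)
    (ht : t ∈ XX V R) (hti : cj t (R i) = R i) (htj : cj t (R j) = R j) :
    (w * u * w⁻¹ * u⁻¹) * (t * u * t⁻¹) * (w * u * w⁻¹ * u⁻¹)⁻¹ * (t * u * t⁻¹)⁻¹ ∈ DD V R ∧ ∃ y ∈ V,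
      y * ((w * u * w⁻¹ * u⁻¹) * (t * u * t⁻¹) * (w * u * w⁻¹ * u⁻¹)⁻¹ * (t * u * t⁻¹)⁻¹) ∈ DD V R ⊓ CenX V R := by
  have htN := b.X_le_NV ht
  have hu' : t * u * t⁻¹ ∈ UU V R j := by
    have := conj_mem_cj (g := t) hu
    rwa [b.cj_UU htN htj] at this
  have hy := b.WU' hw hu
  have hsq := N0_sq b.toBT hw hu
  set y := w * u * w⁻¹ * u⁻¹ with hydef
  have hyY := UU_le_YY i hy
  have huY := UU_le_YY j hu
  have hu'Y := UU_le_YY j hu'
  have hyu := b.Y_comm hyY hu'Y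
  refine ⟨hyu, b.cen_DU (i := i) hyu fun h hh => ?_⟩
  have hhY := UU_le_YY i hh
  have hhy : h * y * h⁻¹ * y⁻¹ ∈ V := b.R_le i (b.WW_comm i (UU_le_WW i hh) (UU_le_WW i hy))
  have h1 := hallWitt b.toBT hhY hyY hu'Y hhy
  -- `h' = t⁻¹ h t`
  have hti' : cj t⁻¹ (R i) = R i := by rw [← cj_eq_iff.1 hti]
  have hh' : t⁻¹ * h * t ∈ UU V R i := by
    have := conj_mem_cj (g := t⁻¹) hh
    rwa [b.cj_UU (inv_mem htN) hti', inv_inv] at this
  have hh'Y := UU_le_YY i hh'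
  have hh'y : (t⁻¹ * h * t) * y * (t⁻¹ * h * t)⁻¹ * y⁻¹ ∈ V :=
    b.R_le i (b.WW_comm i (UU_le_WW i hh') (UU_le_WW i hy))
  have h2 := hallWitt b.toBT hh'Y hyY huY hh'y
  have h3 : (t⁻¹ * h * t) * (y * u * y⁻¹ * u⁻¹) * (t⁻¹ * h * t)⁻¹ * (y * u * y⁻¹ * u⁻¹)⁻¹ = 1 := by
    rw [← mem_centralizer_iff.1 (YY_le_cen hh'Y) _ hsq]; group
  rw [h3] at h2
  have hδ' : (t⁻¹ * h * t) * u * (t⁻¹ * h * t)⁻¹ * u⁻¹ ∈ DD V R := b.Y_comm hh'Y huY
  set δ' := (t⁻¹ * h * t) * u * (t⁻¹ * h * t)⁻¹ * u⁻¹ with hδ'def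
  have h4 : h * (t * u * t⁻¹) * h⁻¹ * (t * u * t⁻¹)⁻¹ = (t * δ' * t⁻¹ * δ'⁻¹) * δ' := by
    rw [hδ'def]; group
  have h5 : t * δ' * t⁻¹ * δ'⁻¹ ∈ V := b.XD ht hδ'
  have h6 : y * ((t * δ' * t⁻¹ * δ'⁻¹) * δ') * y⁻¹ * ((t * δ' * t⁻¹ * δ'⁻¹) * δ')⁻¹ = 1 := by
    have k1 := mem_centralizer_iff.1 (YY_le_cen hyY) _ h5
    set r := t * δ' * t⁻¹ * δ'⁻¹
    calc y * (r * δ') * y⁻¹ * (r * δ')⁻¹ = (y * r) * δ' * y⁻¹ * δ'⁻¹ * r⁻¹ := by group
      _ = r * (y * δ' * y⁻¹ * δ'⁻¹) * r⁻¹ := by rw [← k1]; group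
      _ = 1 := by rw [← h2]; group
  rw [h4, h6, mul_inv_eq_one, mul_inv_eq_iff_eq_mul] at h1
  exact h1.symm

/-- `[[y, u], t u t⁻¹] = 1` for `y ∈ U i` -/
theorem N0_TU (b : BT V R) {y u t : G} (hy : y ∈ UU V R i) (hu : u ∈ UU V R j)
    (ht : t ∈ XX V R) :
    (y * u * y⁻¹ * u⁻¹) * (t * u * t⁻¹) * (y * u * y⁻¹ * u⁻¹)⁻¹ * (t * u * t⁻¹)⁻¹ = 1 := by
  have hyY := UU_le_YY i hy
  have huY := UU_le_YY j hu
  have hδ := b.Y_comm hyY huY
  set δ := y * u * y⁻¹ * u⁻¹ with hδdef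
  -- `[δ, u] = 1`
  have h1 : δ * u = u * δ := by
    have hr := b.R_le j (b.W_sq j (UU_le_WW j hu))
    have h2 := mem_centralizer_iff.1 (UU_le_cen i hy) _ hr
    have e0 : y * u * y⁻¹ = δ * u := by rw [hδdef]; group
    have e1 : y * (u * u) * y⁻¹ = (δ * u) * (δ * u) := by rw [← e0]; group
    have e2 : y * (u * u) * y⁻¹ = u * u := by rw [← h2]; group
    rw [e2] at e1
    have h3 : u = δ * u * δ := by
      have e3 : u * u = (δ * u * δ) * u := by rw [e1]; group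
      exact mul_right_cancel e3
    have h4 := b.D_sq hδ
    calc δ * u = δ * (δ * u * δ) := by rw [← h3]
      _ = (δ * δ) * u * δ := by group
      _ = u * δ := by rw [h4, one_mul]
  have hXt : t⁻¹ ∈ XX V R := inv_mem ht
  have h2 := b.XD hXt hδ
  set r := t⁻¹ * δ * t⁻¹⁻¹ * δ⁻¹ with hr
  have e1 : t⁻¹ * δ * t = r * δ := by rw [hr]; group
  have hru := mem_centralizer_iff.1 (UU_le_cen j hu) _ h2
  calc δ * (t * u * t⁻¹) * δ⁻¹ * (t * u * t⁻¹)⁻¹ =
        t * ((t⁻¹ * δ * t) * u * (t⁻¹ * δ * t)⁻¹ * u⁻¹) * t⁻¹ := by group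
    _ = t * (r * (δ * u) * δ⁻¹ * r⁻¹ * u⁻¹) * t⁻¹ := by rw [e1]; group
    _ = t * ((r * u) * r⁻¹ * u⁻¹) * t⁻¹ := by rw [h1]; group
    _ = 1 := by rw [hru]; group

/-! ### In `M` -/

variable {M B : Type u} [AddCommGroup M] [AddCommGroup B]
  [DistribMulAction (NR R i) M] [DistribMulAction (NR R i) B] [DistribMulAction (HQ (R i)) M] {p : G → M}
  {r : G → B} {f : M →+ M →+ B} (m : ModQ V R i M B p r f)

/-- `C_D(X) R i / R i` -/
def D1 : AddSubgroup M := m.sb (DD V R ⊓ CenX V R)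

include m

/-- `e ∩ rad = 0` -/
theorem e_rad (b : BT V R) {c : M} (hc : c ∈ m.sb V) (hr : c ∈ m.rad) : c = 0 := by
  obtain ⟨x, hx, hxW, rfl⟩ := hc
  obtain ⟨z, hz, e⟩ := (m.mem_rad b).1 hr
  rw [m.p_ker _ hxW]
  refine b.cen_VW hx ?_
  have h1 := (m.p_eq_iff hz.1 hxW).1 e
  have e2 : x = (z * x⁻¹)⁻¹ * z := by group
  rw [e2]
  exact mul_mem (inv_mem (b.R_cen_W i h1)) hz.2

/-- `A` centralises `e` -/
theorem A_e (b : BT V R) {a : HQ (R i)} (ha : a ∈ AA V R i j) {c : M} (hc : c ∈ m.sb V) : a • c = c := by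
  obtain ⟨u, hu, rfl⟩ := (mem_AA b).1 ha
  rw [m.pr_smul]
  exact m.cen_e b (UU_le_cen j hu) hc

/-- `T` is trivial on `D1` -/
theorem T_D1 (τ : TorD V R i j vv t) {s : HQ (R i)} (hs : s ∈ TT τ) {c : M} (hc : c ∈ D1 m) : s • c = c := by
  obtain ⟨a, ha, rfl⟩ := (mem_TT τ).1 hs
  obtain ⟨x, hx, hxW, rfl⟩ := hc
  have h1 : t a * x = x * t a := mem_centralizer_iff.1 hx.2 _ (τ.memX a ha)
  rw [m.act (τ.normR ha) hxW, h1, mul_inv_cancel_right]

/-- `T` normalises `e` -/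
theorem T_mem_e (b : BT V R) (τ : TorD V R i j vv t) {s : HQ (R i)} (hs : s ∈ TT τ) {c : M} (hc : c ∈ m.sb V) :
    s • c ∈ m.sb V := by
  obtain ⟨a, ha, rfl⟩ := (mem_TT τ).1 hs
  obtain ⟨x, hx, hxW, rfl⟩ := hc
  rw [m.act (τ.normR ha) hxW]
  have h1 := conj_mem_of_normalizer (b.X_le_NV (τ.memX a ha)) hx
  exact m.p_mem (V_le_WW V (R i) h1) h1

/-- `[rad, A] ≤ D1` -/
theorem A_rad (b : BTS V R) (hij : i ≠ j) {a : HQ (R i)} (ha : a ∈ AA V R i j) {c : M} (hc : c ∈ m.rad) :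
    c + a • c ∈ D1 m := by
  obtain ⟨u, hu, rfl⟩ := (mem_AA b.toBT).1 ha
  obtain ⟨z, hz, rfl⟩ := (m.mem_rad b.toBT).1 hc
  rw [m.smul_A b.toBT hz.1 hu]
  obtain ⟨h1, h2⟩ := b.cen_W_U hij hz.2 hu
  obtain ⟨x, hx, hf⟩ := b.cen_DW h1 h2
  set y := z * u * z⁻¹ * u⁻¹
  have h3 : p y = p (x * y) := by
    rw [m.p_mul _ (b.R_le_W i i hx) _ (D_le_W V R i h1), (m.p_ker _ (b.R_le_W i i hx)).2 hx, zero_add]
  rw [h3]
  exact m.p_mem (D_le_W V R i hf.1) hf

/-- `(1 + a)(1 + sas⁻¹) M ≤ e + D1`, `s ∈ T` -/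
theorem quadD (b : BTS V R) (τ : TorD V R i j vv t) {a s : HQ (R i)} (ha : a ∈ AA V R i j) (hs : s ∈ TT τ)
    (c : M) : ∃ x ∈ m.sb V, ∃ d ∈ D1 m,
      c + a • c + (s * a * s⁻¹) • c + (a * (s * a * s⁻¹)) • c = x + d := by
  obtain ⟨u, hu, rfl⟩ := (mem_AA b.toBT).1 ha
  obtain ⟨α, hα, rfl⟩ := (mem_TT τ).1 hs
  obtain ⟨w, hw, rfl⟩ := m.p_surj c
  have hu' := t_norm_U b.toBT τ hα hu
  have hN := U_le_N b.toBT i j hu
  have hN' := U_le_N b.toBT i j hu'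
  have ht := τ.normR hα
  have hy := LemN.cm_mem b.toBT hw (UU_le_cen j hu)
  have h1 := m.smul_A b.toBT hw hu
  have h2 := m.smul_A b.toBT hy hu'
  have e1 : pr (R i) ⟨t α, ht⟩ * pr (R i) ⟨u, hN⟩ * (pr (R i) ⟨t α, ht⟩)⁻¹ = pr (R i) ⟨_, hN'⟩ := rfl
  rw [e1]
  have hA' : pr (R i) ⟨_, hN'⟩ ∈ AA V R i j := (mem_AA b.toBT).2 ⟨_, hu', rfl⟩
  have hc : pr (R i) ⟨u, hN⟩ * pr (R i) ⟨_, hN'⟩ = pr (R i) ⟨_, hN'⟩ * pr (R i) ⟨u, hN⟩ := by
    have k1 := A_sq b.toBT τ.ne (mul_mem ha hA')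
    have k2 : (pr (R i) ⟨u, hN⟩ * pr (R i) ⟨_, hN'⟩)⁻¹ = pr (R i) ⟨u, hN⟩ * pr (R i) ⟨_, hN'⟩ :=
      inv_eq_of_mul_eq_one_left k1
    rw [mul_inv_rev, inv_eq_of_mul_eq_one_left (A_sq b.toBT τ.ne ha),
      inv_eq_of_mul_eq_one_left (A_sq b.toBT τ.ne hA')] at k2
    exact k2.symm
  rw [hc, mul_smul]
  have e2 : p w + pr (R i) ⟨u, hN⟩ • p w + pr (R i) ⟨_, hN'⟩ • p w +
      pr (R i) ⟨_, hN'⟩ • (pr (R i) ⟨u, hN⟩ • p w) =
      (p w + pr (R i) ⟨u, hN⟩ • p w) + pr (R i) ⟨_, hN'⟩ • (p w + pr (R i) ⟨u, hN⟩ • p w) := by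
    rw [smul_add]; abel
  rw [e2, h1, h2]
  obtain ⟨h3, y, hy, h4⟩ := N0_T b hw hu (τ.memX α hα) (cj_eq_self_iff.2 (τ.normR hα))
    (cj_eq_self_iff.2 (τ.normR' hα))
  have hyW := V_le_WW V (R i) hy
  refine ⟨p y⁻¹, m.p_mem (inv_mem hyW) (inv_mem hy), _, m.p_mem (D_le_W V R i h4.1) h4, ?_⟩
  rw [← m.p_mul _ (inv_mem hyW) _ (D_le_W V R i h4.1), inv_mul_cancel_left]

/-- `(1 + a)(1 + sas⁻¹)` vanishes on `U i / R i` -/
theorem quad_U (b : BT V R) (τ : TorD V R i j vv t) {a s : HQ (R i)} (ha : a ∈ AA V R i j) (hs : s ∈ TT τ)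
    {c : M} (hc : c ∈ m.sb (UU V R i)) : c + a • c + (s * a * s⁻¹) • c + (a * (s * a * s⁻¹)) • c = 0 := by
  obtain ⟨u, hu, rfl⟩ := (mem_AA b).1 ha
  obtain ⟨α, hα, rfl⟩ := (mem_TT τ).1 hs
  obtain ⟨w, hwU, hw, rfl⟩ := hc
  have hu' := t_norm_U b τ hα hu
  have hN := U_le_N b i j hu
  have hN' := U_le_N b i j hu'
  have ht := τ.normR hα
  have hy := LemN.cm_mem b hw (UU_le_cen j hu)
  have h1 := m.smul_A b hw hu
  have h2 := m.smul_A b hy hu'
  have e1 : pr (R i) ⟨t α, ht⟩ * pr (R i) ⟨u, hN⟩ * (pr (R i) ⟨t α, ht⟩)⁻¹ = pr (R i) ⟨_, hN'⟩ := rfl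
  rw [e1]
  have hA' : pr (R i) ⟨_, hN'⟩ ∈ AA V R i j := (mem_AA b).2 ⟨_, hu', rfl⟩
  have hcc : pr (R i) ⟨u, hN⟩ * pr (R i) ⟨_, hN'⟩ = pr (R i) ⟨_, hN'⟩ * pr (R i) ⟨u, hN⟩ := by
    have k1 := A_sq b τ.ne (mul_mem ha hA')
    have k2 : (pr (R i) ⟨u, hN⟩ * pr (R i) ⟨_, hN'⟩)⁻¹ = pr (R i) ⟨u, hN⟩ * pr (R i) ⟨_, hN'⟩ :=
      inv_eq_of_mul_eq_one_left k1
    rw [mul_inv_rev, inv_eq_of_mul_eq_one_left (A_sq b τ.ne ha),
      inv_eq_of_mul_eq_one_left (A_sq b τ.ne hA')] at k2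
    exact k2.symm
  rw [hcc, mul_smul]
  have e2 : p w + pr (R i) ⟨u, hN⟩ • p w + pr (R i) ⟨_, hN'⟩ • p w +
      pr (R i) ⟨_, hN'⟩ • (pr (R i) ⟨u, hN⟩ • p w) =
      (p w + pr (R i) ⟨u, hN⟩ • p w) + pr (R i) ⟨_, hN'⟩ • (p w + pr (R i) ⟨u, hN⟩ • p w) := by
    rw [smul_add]; abel
  rw [e2, h1, h2, N0_TU b hwU hu (τ.memX α hα), m.p_one]

/-- `C_M(T) ≤ D / R i` -/
theorem fix_D' (b : BT V R) (τ : TorD V R i j vv t) {β : F} (hβ : β ≠ 0) (hβ2 : 1 + β ≠ 0) {c : M}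
    (h1 : ModQ.tq τ hβ • c = c) (h2 : ModQ.tq τ hβ2 • c = c) : c ∈ m.sb (DD V R) := by
  have key : ∀ {X : Subgroup G} {x : G}, x ∈ WW V (R i) → p x = c →
      t (1 + β) * x * (t (1 + β))⁻¹ * (t 1 * x * (t 1)⁻¹ * (t β * x * (t β)⁻¹))⁻¹ ∈ X → c ∈ m.sb X := by
    intro X x hx e h
    have h3 := m.drop τ hβ hβ2 hx h
    rw [e, h1, h2, m.two_M b, sub_zero] at h3
    exact h3
  obtain ⟨x, hx, e⟩ := m.p_surj c
  obtain ⟨y, hyU, hyW, e'⟩ := key (X := UU V R i) hx e (τ.wW 1 β one_ne_zero hβ hβ2 x hx)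
  exact key hyW e' (τ.wU 1 β one_ne_zero hβ hβ2 y hyU)

/-- **LEMMA N'** in `M`: `e ≤ (1 + a) M + rad` -/
theorem lemN [Finite G] [CharP F 2] (b : BTS V R) (hF : ∃ a : F, a ≠ 0 ∧ a ≠ 1) (c : Coord V R i j vv w1 w2)
    (τ : TorD V R i j vv t) (hodd : Odd ((normalizer (V : Set G)).relIndex (normalizer (R i : Set G))))
    {a : HQ (R i)} (ha : a ∈ AA V R i j) (ha1 : a ≠ 1) {x : M} (hx : x ∈ m.sb V) :
    ∃ y : M, ∃ ζ ∈ m.rad, x = y + a • y + ζ := by
  obtain ⟨u, hu, rfl⟩ := (mem_AA b.toBT).1 ha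
  obtain ⟨y, hy, -, rfl⟩ := hx
  have hD : u ∉ DD V R := by
    intro hD
    exact ha1 ((pr_eq_one _).2 ((U_inf_Q b.toBT c.ne hu).2 hD))
  obtain ⟨w, hw, ζ, hζ, e⟩ := LemNS.lemNS b hF c τ hodd hu hD hy
  have hW : w * u * w⁻¹ * u⁻¹ ∈ WW V (R i) := LemN.cm_mem b.toBT hw (UU_le_cen j hu)
  refine ⟨p w, p ζ, (m.mem_rad b.toBT).2 ⟨ζ, hζ, rfl⟩, ?_⟩
  rw [e, m.p_mul _ hW _ hζ.1, m.smul_A b.toBT hw hu]

/-! ### `q = 4` -/

/-- `1 + s + s² = 0` on `e`, `s = t ω` -/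
theorem T_e_sum (b : BT V R) (τ : TorD V R i j vv t) {ω : F} (hω0 : ω ≠ 0) (hω : ω * ω + ω + 1 = 0) {c : M}
    (hc : c ∈ m.sb V) :
    c + ModQ.tq τ hω0 • c + ModQ.tq τ hω0 • ModQ.tq τ hω0 • c = 0 := by
  have h2 : (1 : F) + 1 = 0 := τ.two b 1
  obtain ⟨x, hx, hxW, rfl⟩ := hc
  obtain ⟨β, γ, rfl⟩ := (τ.v_mem x).1 hx
  have hvW : ∀ y z, vv y z ∈ WW V (R i) := fun y z => V_le_WW V (R i) ((τ.v_mem _).2 ⟨_, _, rfl⟩)
  rw [m.tq_act τ hω0 (hvW _ _), τ.act _ _ _ hω0, m.tq_act τ hω0 (hvW _ _), τ.act _ _ _ hω0,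
    ← m.p_mul _ (hvW _ _) _ (hvW _ _), ← τ.v_add, ← m.p_mul _ (hvW _ _) _ (hvW _ _), ← τ.v_add,
    m.p_ker _ (hvW _ _)]
  have h3 : γ + ω⁻¹ * γ + ω⁻¹ * (ω⁻¹ * γ) = 0 := by
    have h4 : ω * ω * (γ + ω⁻¹ * γ + ω⁻¹ * (ω⁻¹ * γ)) = (ω * ω + ω + 1) * γ := by
      field_simp
    rw [hω, zero_mul] at h4
    exact (mul_eq_zero.1 h4).resolve_left (mul_ne_zero hω0 hω0)
  rw [h3]
  exact (τ.Ri _).2 ⟨_, rfl⟩

omit m in
/-- `a · aˢ · aˢˢ = 1`, `s = t ω`, `q = 4` -/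
theorem A_sum (b : BT V R) (τ : TorD V R i j vv t) {w : F} (hw0 : w ≠ 0) (hw : w * w + w + 1 = 0)
    {a : HQ (R i)} (ha : a ∈ AA V R i j) :
    a * (ModQ.tq τ hw0 * a * (ModQ.tq τ hw0)⁻¹) *
      (ModQ.tq τ hw0 * ModQ.tq τ hw0 * a * (ModQ.tq τ hw0 * ModQ.tq τ hw0)⁻¹) = 1 := by
  have h2 : (1 : F) + 1 = 0 := τ.two b 1
  have hww : w * w ≠ 0 := mul_ne_zero hw0 hw0
  have hw3 : w * w * w = 1 := by linear_combination (w - 1) * hw
  have hww1 : 1 + w = w * w := by linear_combination hw - (w * w) * h2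
  have htN := τ.normR hw0
  have ht2 : t w * t w = t (w * w) := (τ.mul w w hw0 hw0).symm
  have ht3 : t w * t w * t w = 1 := by
    rw [ht2, ← τ.mul _ _ hww hw0, hw3, τ.one]
  obtain ⟨u, hu, rfl⟩ := (mem_AA b).1 ha
  have h1 := τ.wU' 1 w one_ne_zero hw0 (by rw [hww1]; exact hww) u hu
  have hi1 : (t (w * w))⁻¹ = t w := inv_eq_of_mul_eq_one_left (by rw [← τ.mul _ _ hw0 hww, ← mul_assoc, hw3, τ.one])
  have hi2 : (t w)⁻¹ = t w * t w := inv_eq_of_mul_eq_one_left ht3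
  rw [hww1, hi1, τ.one, inv_one, one_mul, mul_one, hi2] at h1
  have hi3 : t (w * w) = (t w)⁻¹ := by rw [← hi1, inv_inv]
  have hi4 : t w = (t w * t w)⁻¹ := by rw [← hi2, inv_inv]
  have hN := U_le_N b i j hu
  have h3 : u * (t w * u * (t w)⁻¹) * (t w * t w * u * (t w * t w)⁻¹) ∈ DD V R := by
    have k1 := t_norm_U b τ hw0 hu
    have hx : (t w * u * (t w)⁻¹) * (u * (t w * t w * u * (t w * t w)⁻¹))⁻¹ ∈ DD V R := by
      have e : t w * u * (t w)⁻¹ * (u * (t w * t w * u * (t w * t w)⁻¹))⁻¹ =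
        t w * u * t (w * w) * (u * (t w * t w * u * t w))⁻¹ := by rw [hi3, ← hi4]
      rw [e]; exact h1
    set x := t w * u * (t w)⁻¹ with hxdef
    set z := t w * t w * u * (t w * t w)⁻¹ with hz
    have hxU : x ∈ UU V R j := k1
    have hzU : z ∈ UU V R j := by
      have k2 := t_norm_U b τ hww hu
      rwa [← ht2] at k2
    have hY : ∀ {y : G}, y ∈ UU V R j → y ∈ YY V R := fun h => UU_le_YY j h
    have k3 := b.Y_comm (hY hu) (hY hxU)
    have k4 := b.Y_sq (hY (mul_mem hu hzU))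
    have e : u * x * z = (u * x * u⁻¹ * x⁻¹) * (x * (u * z)⁻¹) * ((u * z) * (u * z)) := by group
    rw [e]
    exact mul_mem (mul_mem k3 hx) k4
  have e : pr (R i) ⟨u, hN⟩ * (ModQ.tq τ hw0 * pr (R i) ⟨u, hN⟩ * (ModQ.tq τ hw0)⁻¹) *
      (ModQ.tq τ hw0 * ModQ.tq τ hw0 * pr (R i) ⟨u, hN⟩ *
        (ModQ.tq τ hw0 * ModQ.tq τ hw0)⁻¹) =
      pr (R i) ⟨u * (t w * u * (t w)⁻¹) * (t w * t w * u * (t w * t w)⁻¹),
        b.cen_le_N i (b.D_le_cen h3)⟩ := rfl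
  rw [e, pr_eq_one]
  exact b.W_le_Q i (mem_DD.1 h3 i)

omit m in
theorem tq_cube (b : BT V R) (τ : TorD V R i j vv t) {w : F} (hw0 : w ≠ 0) (hw : w * w + w + 1 = 0) :
    ModQ.tq τ hw0 * ModQ.tq τ hw0 * ModQ.tq τ hw0 = 1 := by
  have _ := b
  have hww : w * w ≠ 0 := mul_ne_zero hw0 hw0
  have hw3 : w * w * w = 1 := by linear_combination (w - 1) * hw
  have ht2 : t w * t w = t (w * w) := (τ.mul w w hw0 hw0).symm
  have ht3 : t w * t w * t w = 1 := by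
    rw [ht2, ← τ.mul _ _ hww hw0, hw3, τ.one]
  unfold ModQ.tq
  rw [← map_mul, ← map_mul]
  have e : (⟨t w, τ.normR hw0⟩ * ⟨t w, τ.normR hw0⟩ * ⟨t w, τ.normR hw0⟩ : ↥(normalizer (R i : Set G))) = 1 :=
    Subtype.ext ht3
  rw [e, map_one]

/-- `tq (1 + ω) = (tq ω)²` -/
theorem tq_one_add (b : BT V R) (τ : TorD V R i j vv t) {w : F} (hw0 : w ≠ 0) (hw : w * w + w + 1 = 0)
    (h : 1 + w ≠ 0) (c : M) : ModQ.tq τ h • c = ModQ.tq τ hw0 • ModQ.tq τ hw0 • c := by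
  have _ := m
  have h2 : (1 : F) + 1 = 0 := τ.two b 1
  have hww1 : 1 + w = w * w := by linear_combination hw - (w * w) * h2
  rw [smul_smul]
  congr 1
  unfold ModQ.tq
  rw [← map_mul]
  congr 1
  apply Subtype.ext
  change t (1 + w) = t w * t w
  rw [hww1, τ.mul w w hw0 hw0]

/-- **#14316 (0')**: `(1 + a)(1 + sas⁻¹) M ≤ e` for `q = 4`, `s = t ω` -/
theorem quad4 (b : BTS V R) (τ : TorD V R i j vv t) {w : F} (hw0 : w ≠ 0) (hw : w * w + w + 1 = 0)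
    {a : HQ (R i)} (ha : a ∈ AA V R i j) (c : M) :
    c + a • c + (ModQ.tq τ hw0 * a * (ModQ.tq τ hw0)⁻¹) • c +
      (a * (ModQ.tq τ hw0 * a * (ModQ.tq τ hw0)⁻¹)) • c ∈ m.sb V := by
  have h2 : (1 : F) + 1 = 0 := τ.two b.toBT 1
  have hww1 : 1 + w = w * w := by linear_combination hw - (w * w) * h2
  have hw1 : 1 + w ≠ 0 := by rw [hww1]; exact mul_ne_zero hw0 hw0
  have hsT := ModQ.tq_mem τ hw0
  have hs3 := tq_cube b.toBT τ hw0 hw
  have hsum := A_sum b.toBT τ hw0 hw ha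
  have ha2 := TA_mem b.toBT τ hsT ha
  have haa := A_sq b.toBT τ.ne ha
  have haa2 := A_sq b.toBT τ.ne ha2
  have hone := tq_one_add m b.toBT τ hw0 hw hw1
  set s := ModQ.tq τ hw0 with hs
  set a₂ := s * a * s⁻¹ with ha₂
  have hcomm : a * a₂ = a₂ * a := by
    have k1 := A_sq b.toBT τ.ne (mul_mem ha ha2)
    have k2 : (a * a₂)⁻¹ = a * a₂ := inv_eq_of_mul_eq_one_left k1
    rw [mul_inv_rev, inv_eq_of_mul_eq_one_left haa, inv_eq_of_mul_eq_one_left haa2] at k2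
    exact k2.symm
  -- `s a₂ s⁻¹ = a a₂`
  have h3 : s * a₂ * s⁻¹ = a * a₂ := by
    have e : s * s * a * (s * s)⁻¹ = s * a₂ * s⁻¹ := by rw [ha₂]; group
    rw [e] at hsum
    have h := eq_inv_of_mul_eq_one_right hsum
    rw [h, mul_inv_rev, inv_eq_of_mul_eq_one_left haa, inv_eq_of_mul_eq_one_left haa2, hcomm]
  have h4 : s * (a * a₂) * s⁻¹ = a := by
    calc s * (a * a₂) * s⁻¹ = (s * a * s⁻¹) * (s * a₂ * s⁻¹) := by group
      _ = a₂ * (a * a₂) := by rw [h3]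
      _ = a * (a₂ * a₂) := by rw [← mul_assoc, ← hcomm, mul_assoc]
      _ = a := by rw [haa2, mul_one]
  let θ : M → M := fun x => x + a • x + a₂ • x + (a * a₂) • x
  have hθadd : ∀ x y, θ (x + y) = θ x + θ y := by
    intro x y
    change (x + y) + a • (x + y) + a₂ • (x + y) + (a * a₂) • (x + y) =
      (x + a • x + a₂ • x + (a * a₂) • x) + (y + a • y + a₂ • y + (a * a₂) • y)
    rw [smul_add, smul_add, smul_add]; abel
  have hcs : ∀ {x y : HQ (R i)}, s * x * s⁻¹ = y → ∀ z : M, s • (x • z) = y • (s • z) := by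
    intro x y h z
    rw [smul_smul, smul_smul, ← h, inv_mul_cancel_right]
  have hθs : ∀ x, s • θ x = θ (s • x) := by
    intro x
    change s • (x + a • x + a₂ • x + (a * a₂) • x) =
      s • x + a • s • x + a₂ • s • x + (a * a₂) • s • x
    rw [smul_add, smul_add, smul_add, hcs ha₂.symm, hcs h3, hcs h4]
    abel
  change θ c ∈ m.sb V
  obtain ⟨x, hx, d, hd, e⟩ := quadD m b τ ha hsT c
  change θ c = x + d at e
  -- the sum over `T`
  have h5 : θ (c + s • c + s • s • c) = 0 := by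
    refine quad_U m b.toBT τ ha hsT ?_
    refine m.sb_mono (b.D_le_U i) ?_
    have hfix : s • (c + s • c + s • s • c) = c + s • c + s • s • c := by
      rw [smul_add, smul_add, smul_smul s s (s • c), smul_smul (s * s) s c, hs3, one_smul]
      abel
    exact fix_D' m b.toBT τ hw0 hw1 hfix (by rw [hone, hfix, hfix])
  have h6 : θ (c + s • c + s • s • c) = θ c + s • θ c + s • s • θ c := by
    rw [hθadd, hθadd, ← hθs, ← hθs, ← hθs]
  have hd1 : s • d = d := T_D1 m τ hsT hd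
  have hx1 := T_e_sum m b.toBT τ hw0 hw hx
  rw [← hs] at hx1
  rw [h6, e, smul_add, hd1, smul_add, hd1] at h5
  have h7 : x + d + (s • x + d) + (s • s • x + d) = (x + s • x + s • s • x) + (d + d) + d := by abel
  rw [h7, hx1, m.two_M b.toBT, add_zero, zero_add] at h5
  rw [e, h5, add_zero]
  exact hx

end Cfsg.Agent.Omega.Lie.ModQS

end

section


/-!
# (h1), SPLIT, `q = 4`: `A` centralises `O(H⁰)` (#12397; #14316 (2') of helper499), `C_D(X) ≠ 1` allowed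

The variants of `OddQ4Core.lean`, `OddQ4.lean` (helper844) with a radical moved by `A`.
-/

set_option autoImplicit false

namespace Cfsg.Agent.Omega.Lie.OddQ4

section Core

variable {H M R : Type*} [Group H] [AddCommGroup M] [DistribMulAction H M] [AddCommGroup R]

/-- **#12397, (3)**: there is no nonzero vector without fixed component. -/
theorem no_three' [Finite M] {r : ℕ} [hp : Fact r.Prime] (hr2 : r ≠ 2) (h2 : ∀ m : M, m + m = 0)
    (hR2 : ∀ s : R, s + s = 0) (hR : 2 < Nat.card R) {x₁ x₂ x₃ a₁ a₂ : H} (hx₁ : x₁ ^ r = 1)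
    (hx₂ : x₂ ^ r = 1) (hx₃ : x₃ ^ r = 1)
    (h12 : x₁ * x₂ = x₂ * x₁) (h13 : x₁ * x₃ = x₃ * x₁) (h23 : x₂ * x₃ = x₃ * x₂)
    (a11 : a₁ * x₁ * a₁⁻¹ = x₁) (a12 : a₁ * x₂ * a₁⁻¹ = x₂⁻¹) (a13 : a₁ * x₃ * a₁⁻¹ = x₃⁻¹)
    (a21 : a₂ * x₁ * a₂⁻¹ = x₁⁻¹) (a22 : a₂ * x₂ * a₂⁻¹ = x₂) (a23 : a₂ * x₃ * a₂⁻¹ = x₃⁻¹)
    (hθ : Nat.card (Set.range fun m : M => m + a₁ • m + a₂ • m + (a₁ * a₂) • m) ≤ 4)
    (f : M →+ M →+ R) (halt : ∀ m, f m m = 0)
    (hinv : ∀ u v, f (x₁ • u) (x₁ • v) = f u v ∧ f (x₂ • u) (x₂ • v) = f u v ∧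
      f (x₃ • u) (x₃ • v) = f u v)
    (hkey : ∀ v : M, ∀ R₀ : AddSubgroup R, R₀ ≠ ⊤ → (∀ u, f u v ∈ R₀) →
      v + a₁ • v + a₂ • v + (a₁ * a₂) • v = 0) (v₀ : M)
    (hv1 : sg r x₁ v₀ = 0) (hv2 : sg r x₂ v₀ = 0) (hv3 : sg r x₃ v₀ = 0) : v₀ = 0 := by
  classical
  by_contra hv0
  have hrodd : Odd r := hp.out.odd_of_ne_two hr2
  obtain ⟨c, hc, hv'⟩ := exists_grid h2 hrodd hx₁ h12 hv0 hv1 hv2
  set z : H := x₂ * (x₁ ^ c)⁻¹ with hz
  have cz1 : z * x₁ = x₁ * z := by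
    have e : Commute x₂ x₁ := h12.symm
    exact (e.mul_left (((Commute.refl x₁).pow_left c).inv_left)).eq
  have cz3 : z * x₃ = x₃ * z := by
    have e : Commute x₂ x₃ := h23
    have e' : Commute x₁ x₃ := h13
    exact (e.mul_left ((e'.pow_left c).inv_left)).eq
  have hv'1 : sg r x₁ (sg r z v₀) = 0 := by rw [sg_comm cz1.symm, hv1, sg_zero]
  have hv'3 : sg r x₃ (sg r z v₀) = 0 := by rw [sg_comm cz3.symm, hv3, sg_zero]
  obtain ⟨d, hd, hv''⟩ := exists_grid h2 hrodd hx₁ h13 hv' hv'1 hv'3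
  set z' : H := x₃ * (x₁ ^ d)⁻¹ with hz'
  have cz'1 : z' * x₁ = x₁ * z' := by
    have e : Commute x₃ x₁ := h13.symm
    exact (e.mul_left (((Commute.refl x₁).pow_left d).inv_left)).eq
  have czz' : z * z' = z' * z := by
    have e1 : Commute z x₃ := cz3
    have e2 : Commute z x₁ := cz1
    exact (e1.mul_right ((e2.pow_right d).inv_right)).eq
  have hzr : z ^ r = 1 := by
    have e : Commute x₂ (x₁ ^ c)⁻¹ := ((show Commute x₂ x₁ from h12.symm).pow_right c).inv_right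
    rw [hz, e.mul_pow, hx₂, inv_pow, ← pow_mul, mul_comm c, pow_mul, hx₁, one_pow, inv_one, mul_one]
  have hz'r : z' ^ r = 1 := by
    have e : Commute x₃ (x₁ ^ d)⁻¹ := ((show Commute x₃ x₁ from h13.symm).pow_right d).inv_right
    rw [hz', e.mul_pow, hx₃, inv_pow, ← pow_mul, mul_comm d, pow_mul, hx₁, one_pow, inv_one, mul_one]
  -- the piece `E`
  let E : Set M := {v | z • v = v ∧ z' • v = v ∧ sg r x₁ v = 0}
  have hπ : ∀ u : M, sg r x₁ u = 0 → sg r z' (sg r z u) ∈ E := by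
    intro u hu
    refine ⟨?_, smul_sg hz'r _, ?_⟩
    · rw [smul_sg_of (a := z) (x := z') (y := z') (by rw [czz']; group), smul_sg hzr]
    · rw [sg_comm cz'1.symm, sg_comm cz1.symm, hu, sg_zero, sg_zero]
  set v : M := sg r z' (sg r z v₀) with hv
  have hvE : v ∈ E := hπ v₀ hv1
  have hfix2 : ∀ {y w : M} {g : H}, g • w = w → g⁻¹ • w = w := by
    intro y w g h
    rw [inv_smul_eq_iff, h]
  -- the units `2c`, `2d`
  have hu2 : ∀ n : ℕ, (n : ZMod r) ≠ 0 → IsUnit (((2 * n : ℕ)) : ZMod r) := by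
    intro n hn
    rw [isUnit_iff_ne_zero, Nat.cast_mul]
    refine mul_ne_zero ?_ hn
    intro h
    have h' : ((2 : ℕ) : ZMod r) = 0 := h
    rw [ZMod.natCast_eq_zero_iff] at h'
    exact hr2 ((Nat.prime_dvd_prime_iff_eq hp.out Nat.prime_two).mp h')
  -- `w` with `y x₁ⁿ w = w`, `S₁ w = 0`: `S_{y x₁^{-n}} w = 0`
  have hkill : ∀ (y : H) (n : ℕ) (w : M), y * x₁ = x₁ * y → (n : ZMod r) ≠ 0 →
      (y * x₁ ^ n) • w = w → sg r x₁ w = 0 → sg r (y * (x₁ ^ n)⁻¹) w = 0 := by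
    intro y n w hy hn hw hs
    have cy : Commute y x₁ := hy
    have e1 : (y * (x₁ ^ n)⁻¹) • w = (x₁ ^ (2 * n))⁻¹ • w := by
      have e2 : y * (x₁ ^ n)⁻¹ = (x₁ ^ (2 * n))⁻¹ * (y * x₁ ^ n) := by
        have c1 : Commute y (x₁ ^ (2 * n))⁻¹ := (cy.pow_right _).inv_right
        rw [← mul_assoc, ← c1.eq, mul_assoc]
        congr 1
        rw [two_mul, pow_add]
        group
      rw [e2, ← smul_smul, hw]
    have c2 : (y * (x₁ ^ n)⁻¹) * (x₁ ^ (2 * n))⁻¹ = (x₁ ^ (2 * n))⁻¹ * (y * (x₁ ^ n)⁻¹) := by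
      have c1 : Commute y (x₁ ^ (2 * n))⁻¹ := (cy.pow_right _).inv_right
      have c3 : Commute (x₁ ^ n)⁻¹ (x₁ ^ (2 * n))⁻¹ :=
        (((Commute.refl x₁).pow_left n).pow_right (2 * n)).inv_left.inv_right
      exact (c1.mul_left c3).eq
    rw [sg_congr c2 e1, sg_inv (by rw [← pow_mul, mul_comm, pow_mul, hx₁, one_pow]), sg_pow hx₁ (hu2 n hn), hs]
  have hsa : ∀ (a x : H), a * x * a⁻¹ = x ∨ a * x * a⁻¹ = x⁻¹ → x ^ r = 1 → ∀ w : M,
      sg r x (a • w) = a • sg r x w := by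
    intro a x h hx w
    rcases h with h | h
    · exact (smul_sg_of h w).symm
    · rw [smul_sg_of h w, sg_inv hx]
  have hcj : ∀ (a y : H) (w : M), y • w = w → (a * y * a⁻¹) • (a • w) = a • w := by
    intro a y w h
    rw [smul_smul, inv_mul_cancel_right, ← smul_smul, h]
  have ci : ∀ (a y y' : H) (n : ℕ), a * (y * (y' ^ n)⁻¹) * a⁻¹
      = (a * y * a⁻¹) * ((a * y' * a⁻¹) ^ n)⁻¹ := by
    intro a y y' n
    rw [conj_pow]
    group
  -- `θ` is injective on `E`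
  have hθE : ∀ w ∈ E, sg r z' (sg r z (w + a₁ • w + a₂ • w + (a₁ * a₂) • w)) = w := by
    intro w hw
    obtain ⟨w1, w2, w3⟩ := hw
    have e0 : sg r z w = w := sg_of_fix h2 hrodd w1
    have k1 : sg r x₁ (a₁ • w) = 0 := by rw [hsa a₁ x₁ (Or.inl a11) hx₁, w3, smul_zero]
    have k2 : sg r x₁ (a₂ • w) = 0 := by rw [hsa a₂ x₁ (Or.inr a21) hx₁, w3, smul_zero]
    have k3 : sg r x₁ ((a₁ * a₂) • w) = 0 := by
      rw [← smul_smul, hsa a₁ x₁ (Or.inl a11) hx₁, k2, smul_zero]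
    -- `a₁ w`
    have e1 : sg r z (a₁ • w) = 0 := by
      refine hkill x₂ c _ h12.symm hc ?_ k1
      have h := hcj a₁ z w w1
      rw [hz, ci, a12, a11] at h
      have h' := hfix2 (y := w) h
      rw [mul_inv_rev, inv_inv, inv_inv] at h'
      have e : Commute (x₁ ^ c) x₂ := (show Commute x₁ x₂ from h12).pow_left c
      rwa [e.eq] at h'
    have e2 : sg r z (a₂ • w) = 0 := by
      refine hkill x₂ c _ h12.symm hc ?_ k2
      have h := hcj a₂ z w w1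
      rw [hz, ci, a22, a21, inv_pow, inv_inv] at h
      exact h
    have h3 : (a₁ * a₂) • w = a₁ • (a₂ • w) := (smul_smul _ _ _).symm
    have e3 : sg r z ((a₁ * a₂) • w) = (a₁ * a₂) • w := by
      refine sg_of_fix h2 hrodd ?_
      have h := hcj a₂ z w w1
      rw [hz, ci, a22, a21, inv_pow, inv_inv] at h
      have h' := hcj a₁ _ _ h
      have e : a₁ * (x₂ * x₁ ^ c) * a₁⁻¹ = z⁻¹ := by
        have e5 : a₁ * (x₂ * x₁ ^ c) * a₁⁻¹ = (a₁ * x₂ * a₁⁻¹) * (a₁ * x₁ * a₁⁻¹) ^ c := by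
          rw [conj_pow]
          group
        rw [e5, a12, a11, hz, mul_inv_rev, inv_inv]
        exact ((show Commute x₂ x₁ from h12.symm).inv_left.pow_right c).eq
      rw [e] at h'
      have h'' := hfix2 (y := w) h'
      rw [inv_inv] at h''
      rw [h3]
      exact h''
    have e4 : sg r z' ((a₁ * a₂) • w) = 0 := by
      refine hkill x₃ d _ h13.symm hd ?_ k3
      have h := hcj a₂ z' w w2
      rw [hz', ci, a23, a21, inv_pow, inv_inv] at h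
      have h' := hcj a₁ _ _ h
      have e : a₁ * (x₃⁻¹ * x₁ ^ d) * a₁⁻¹ = x₃ * x₁ ^ d := by
        have e5 : a₁ * (x₃⁻¹ * x₁ ^ d) * a₁⁻¹ = (a₁ * x₃ * a₁⁻¹)⁻¹ * (a₁ * x₁ * a₁⁻¹) ^ d := by
          rw [conj_pow]
          group
        rw [e5, a13, a11, inv_inv]
      rw [e] at h'
      rw [h3]
      exact h'
    have e5 : sg r z (w + a₁ • w + a₂ • w + (a₁ * a₂) • w) = w + (a₁ * a₂) • w := by
      rw [sg_add, sg_add, sg_add, e0, e1, e2, e3, add_zero, add_zero]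
    rw [e5, sg_add, e4, sg_of_fix h2 hrodd w2, add_zero]
  have hEcard : Nat.card E ≤ 4 := by
    refine le_trans (Nat.card_le_card_of_injective
      (fun w : E => (⟨(w : M) + a₁ • (w : M) + a₂ • (w : M) + (a₁ * a₂) • (w : M), ⟨w, rfl⟩⟩ :
        Set.range fun m : M => m + a₁ • m + a₂ • m + (a₁ * a₂) • m)) ?_) hθ
    intro w w' h
    have h' := congrArg Subtype.val h
    dsimp only at h'
    apply Subtype.ext
    rw [← hθE w w.2, ← hθE w' w'.2, h']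
  -- the form
  have hodd2 : ∀ s : R, (r : ℕ) • s = s := by
    intro s
    obtain ⟨k, hk⟩ := hrodd
    rw [hk, add_smul, mul_comm, mul_smul, two_nsmul, hR2, smul_zero, zero_add, one_smul]
  have hinvp : ∀ {g : H}, (∀ u w, f (g • u) (g • w) = f u w) → ∀ (n : ℕ) (u w : M),
      f (g ^ n • u) (g ^ n • w) = f u w := by
    intro g hg n
    induction n with
    | zero => intro u w; rw [pow_zero, one_smul, one_smul]
    | succ n ih => intro u w; rw [pow_succ', ← smul_smul, ← smul_smul, hg, ih]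
  have hinvi : ∀ {g : H}, (∀ u w, f (g • u) (g • w) = f u w) → ∀ (u w : M),
      f (g⁻¹ • u) (g⁻¹ • w) = f u w := by
    intro g hg u w
    rw [← hg (g⁻¹ • u) (g⁻¹ • w), smul_inv_smul, smul_inv_smul]
  have hi1 : ∀ u w, f (x₁ • u) (x₁ • w) = f u w := fun u w => (hinv u w).1
  have hi2 : ∀ u w, f (x₂ • u) (x₂ • w) = f u w := fun u w => (hinv u w).2.1
  have hi3 : ∀ u w, f (x₃ • u) (x₃ • w) = f u w := fun u w => (hinv u w).2.2
  have hiz : ∀ u w, f (z • u) (z • w) = f u w := by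
    intro u w
    rw [hz, ← smul_smul, ← smul_smul, hi2, hinvi (hinvp hi1 c)]
  have hiz' : ∀ u w, f (z' • u) (z' • w) = f u w := by
    intro u w
    rw [hz', ← smul_smul, ← smul_smul, hi3, hinvi (hinvp hi1 d)]
  have hpowfix : ∀ {g : H} {w : M}, g • w = w → ∀ n : ℕ, g ^ n • w = w := by
    intro g w h n
    induction n with
    | zero => rw [pow_zero, one_smul]
    | succ n ih => rw [pow_succ, ← smul_smul, h, ih]
  have hsf : ∀ {g : H}, (∀ u w, f (g • u) (g • w) = f u w) → ∀ u w : M, g • w = w →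
      f (sg r g u) w = f u w := by
    intro g hg u w hw
    have e1 : f (sg r g u) w = ∑ k : ZMod r, f (g ^ k.val • u) w := by
      unfold sg
      rw [map_sum, AddMonoidHom.finsetSum_apply]
    have e2 : ∀ k : ZMod r, f (g ^ k.val • u) w = f u w := by
      intro k
      conv_lhs => rw [← hpowfix hw k.val]
      exact hinvp hg _ _ _
    rw [e1, Finset.sum_congr rfl fun k _ => e2 k, Finset.sum_const, Finset.card_univ, ZMod.card]
    exact hodd2 _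
  have hperp : ∀ u w : M, sg r x₁ w = 0 → f (sg r x₁ u) w = 0 := by
    intro u w hw
    have e0 : x₁ • sg r x₁ u = sg r x₁ u := smul_sg hx₁ u
    have e1 : ∀ k : ZMod r, f (sg r x₁ u) w = f (sg r x₁ u) (x₁ ^ k.val • w) := by
      intro k
      rw [← hinvp hi1 k.val (sg r x₁ u) w, hpowfix e0]
    have e2 : ∑ k : ZMod r, f (sg r x₁ u) (x₁ ^ k.val • w) = f (sg r x₁ u) (sg r x₁ w) := by
      unfold sg
      rw [← map_sum]
    rw [hw, map_zero, ← Finset.sum_congr rfl fun k _ => e1 k, Finset.sum_const, Finset.card_univ,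
      ZMod.card] at e2
    exact (hodd2 _).symm.trans e2
  have hE : ∀ u : M, ∃ e ∈ E, f u v = f e v := by
    intro u
    have h0 : sg r x₁ (u + sg r x₁ u) = 0 := by
      rw [sg_add, sg_of_fix h2 hrodd (smul_sg hx₁ u), h2]
    refine ⟨_, hπ _ h0, ?_⟩
    rw [hsf hiz' _ _ hvE.2.1, hsf hiz _ _ hvE.1, map_add, AddMonoidHom.add_apply,
      hperp u v hvE.2.2, add_zero]
  have hEadd : ∀ a ∈ E, ∀ b ∈ E, a + b ∈ E := by
    rintro a ⟨p1, p2, p3⟩ b ⟨q1, q2, q3⟩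
    exact ⟨by rw [smul_add, p1, q1], by rw [smul_add, p2, q2], by rw [sg_add, p3, q3, add_zero]⟩
  have hE0 : (0 : M) ∈ E := ⟨smul_zero _, smul_zero _, sg_zero _⟩
  have hfix : v + a₁ • v + a₂ • v + (a₁ * a₂) • v = 0 := by
    by_cases hall : ∀ e ∈ E, f e v = 0
    · refine hkey v ⊥ ?_ ?_
      · intro h
        have h1 : Nat.card (⊥ : AddSubgroup R) = Nat.card R := by rw [h, AddSubgroup.card_top]
        rw [AddSubgroup.card_bot] at h1
        omega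
      · intro u
        obtain ⟨e, he, heq⟩ := hE u
        rw [heq, hall e he]
        exact zero_mem _
    · push Not at hall
      obtain ⟨e₁, he₁, hne⟩ := hall
      refine hkey v (AddSubgroup.zmultiples (f e₁ v)) ?_ ?_
      · intro h
        have h1 : Nat.card (AddSubgroup.zmultiples (f e₁ v)) = Nat.card R := by
          rw [h, AddSubgroup.card_top]
        rw [Nat.card_zmultiples] at h1
        have h3 : addOrderOf (f e₁ v) ∣ 2 :=
          addOrderOf_dvd_of_nsmul_eq_zero (by rw [two_nsmul]; exact hR2 _)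
        have h4 := Nat.le_of_dvd (by norm_num) h3
        omega
      · intro u
        obtain ⟨e, he, heq⟩ := hE u
        rw [heq]
        by_cases h0 : e = 0
        · rw [h0, map_zero, AddMonoidHom.zero_apply]
          exact zero_mem _
        by_cases h1 : e = v
        · rw [h1, halt]
          exact zero_mem _
        by_cases h3 : e = e₁
        · rw [h3]
          exact AddSubgroup.mem_zmultiples _
        by_cases h4 : e = e₁ + v
        · rw [h4, map_add, AddMonoidHom.add_apply, halt, add_zero]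
          exact AddSubgroup.mem_zmultiples _
        exfalso
        have e10 : e₁ ≠ 0 := by
          rintro rfl
          exact hne (by rw [map_zero, AddMonoidHom.zero_apply])
        have e1v : e₁ ≠ v := by
          rintro rfl
          exact hne (halt _)
        refine five (S := E) hEcard (u₁ := e₁) (u₂ := v) (u₃ := e) hE0 he₁ hvE he (hEadd _ he₁ _ hvE)
          e10 hv'' h0 e1v (fun h => h3 h.symm) (fun h => h1 h.symm) ?_ (fun h => h4 h.symm)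
        intro h
        apply e1v
        calc e₁ = e₁ + (v + v) := by rw [h2, add_zero]
          _ = (e₁ + v) + v := by rw [add_assoc]
          _ = v := by rw [h, zero_add]
  have h1 := hθE v hvE
  rw [hfix, sg_zero, sg_zero] at h1
  exact hv'' h1.symm

/-- **#12397, core.** `x₁` centralises `[M, a₁]`. -/
theorem core' [Finite M] {r : ℕ} [hp : Fact r.Prime] (hr2 : r ≠ 2) (h2 : ∀ m : M, m + m = 0)
    (hR2 : ∀ s : R, s + s = 0) (hR : 2 < Nat.card R) {x₁ x₂ x₃ a₁ a₂ t : H} (hx₁ : x₁ ^ r = 1)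
    (h12 : x₁ * x₂ = x₂ * x₁) (h13 : x₁ * x₃ = x₃ * x₁) (h23 : x₂ * x₃ = x₃ * x₂)
    (a11 : a₁ * x₁ * a₁⁻¹ = x₁) (a12 : a₁ * x₂ * a₁⁻¹ = x₂⁻¹) (a13 : a₁ * x₃ * a₁⁻¹ = x₃⁻¹)
    (a21 : a₂ * x₁ * a₂⁻¹ = x₁⁻¹) (a22 : a₂ * x₂ * a₂⁻¹ = x₂) (a23 : a₂ * x₃ * a₂⁻¹ = x₃⁻¹)
    (hA2 : a₂ * a₂ = 1) (hA12 : a₁ * a₂ = a₂ * a₁)
    (t1 : t * x₁ * t⁻¹ = x₂) (t2 : t * x₂ * t⁻¹ = x₃) (t3 : t * x₃ * t⁻¹ = x₁)
    (ta1 : t * a₁ * t⁻¹ = a₂) (ta2 : t * a₂ * t⁻¹ = a₁ * a₂)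
    (hθ : Nat.card (Set.range fun m : M => m + a₁ • m + a₂ • m + (a₁ * a₂) • m) ≤ 4)
    (f : M →+ M →+ R) (halt : ∀ m, f m m = 0)
    (hinv : ∀ u v, f (x₁ • u) (x₁ • v) = f u v ∧ f (x₂ • u) (x₂ • v) = f u v ∧
      f (x₃ • u) (x₃ • v) = f u v)
    (hkey : ∀ v : M, ∀ R₀ : AddSubgroup R, R₀ ≠ ⊤ → (∀ u, f u v ∈ R₀) →
      v + a₁ • v + a₂ • v + (a₁ * a₂) • v = 0) (m : M) :
    x₁ • (m + a₁ • m) = m + a₁ • m := by
  classical
  have hrodd : Odd r := hp.out.odd_of_ne_two hr2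
  have hx₂ : x₂ ^ r = 1 := by rw [← t1, conj_pow, hx₁]; group
  have hx₃ : x₃ ^ r = 1 := by rw [← t2, conj_pow, hx₂]; group
  have hsa : ∀ (a x : H), a * x * a⁻¹ = x ∨ a * x * a⁻¹ = x⁻¹ → x ^ r = 1 → ∀ w : M,
      sg r x (a • w) = a • sg r x w := by
    intro a x h hx w
    rcases h with h | h
    · exact (smul_sg_of h w).symm
    · rw [smul_sg_of h w, sg_inv hx]
  have hss : ∀ {x : H}, x ^ r = 1 → ∀ w : M, sg r x (sg r x w) = sg r x w := fun hx w =>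
    sg_of_fix h2 hrodd (smul_sg hx w)
  have h0 := no_three' hr2 h2 hR2 hR hx₁ hx₂ hx₃ h12 h13 h23 a11 a12 a13 a21 a22 a23 hθ f halt hinv hkey
  -- the image of `θ`
  set θ : M → M := fun m => m + a₁ • m + a₂ • m + (a₁ * a₂) • m with hθdef
  have hθx : ∀ (x : H), (a₁ * x * a₁⁻¹ = x ∨ a₁ * x * a₁⁻¹ = x⁻¹) →
      (a₂ * x * a₂⁻¹ = x ∨ a₂ * x * a₂⁻¹ = x⁻¹) → x ^ r = 1 → ∀ w, sg r x (θ w) = θ (sg r x w) := by
    intro x ha hb hx w
    rw [hθdef]
    dsimp only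
    rw [sg_add, sg_add, sg_add, hsa a₁ x ha hx, hsa a₂ x hb hx, ← smul_smul, hsa a₁ x ha hx,
      hsa a₂ x hb hx, smul_smul]
  have hθ1 : ∀ w, sg r x₁ (θ w) = θ (sg r x₁ w) := hθx x₁ (Or.inl a11) (Or.inr a21) hx₁
  have hθ2 : ∀ w, sg r x₂ (θ w) = θ (sg r x₂ w) := hθx x₂ (Or.inr a12) (Or.inl a22) hx₂
  have hθ3 : ∀ w, sg r x₃ (θ w) = θ (sg r x₃ w) := hθx x₃ (Or.inr a13) (Or.inr a23) hx₃
  have hta3 : t * (a₁ * a₂) * t⁻¹ = a₁ := by
    calc t * (a₁ * a₂) * t⁻¹ = (t * a₁ * t⁻¹) * (t * a₂ * t⁻¹) := by group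
      _ = a₂ * (a₁ * a₂) := by rw [ta1, ta2]
      _ = a₁ := by rw [hA12, ← mul_assoc, hA2, one_mul]
  have hcs : ∀ {a b : H}, t * a * t⁻¹ = b → ∀ w : M, t • (a • w) = b • (t • w) := by
    intro a b h w
    rw [smul_smul, smul_smul, ← h, inv_mul_cancel_right]
  have hθt : ∀ w, t • θ w = θ (t • w) := by
    intro w
    rw [hθdef]
    dsimp only
    rw [smul_add, smul_add, smul_add, hcs ta1, hcs ta2, hcs hta3]
    abel
  have hθadd : ∀ u w, θ (u + w) = θ u + θ w := by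
    intro u w
    rw [hθdef]
    dsimp only
    rw [smul_add, smul_add, smul_add]
    abel
  have hθzero : θ 0 = 0 := by
    rw [hθdef]
    dsimp only
    rw [smul_zero, smul_zero, smul_zero, add_zero, add_zero, add_zero]
  set Θ : Set M := Set.range θ with hΘ
  have Θ0 : (0 : M) ∈ Θ := ⟨0, hθzero⟩
  have Θadd : ∀ u ∈ Θ, ∀ w ∈ Θ, u + w ∈ Θ := by
    rintro _ ⟨u, rfl⟩ _ ⟨w, rfl⟩
    exact ⟨u + w, hθadd u w⟩
  have Θ1 : ∀ u ∈ Θ, sg r x₁ u ∈ Θ := by
    rintro _ ⟨u, rfl⟩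
    exact ⟨_, (hθ1 u).symm⟩
  have Θ2 : ∀ u ∈ Θ, sg r x₂ u ∈ Θ := by
    rintro _ ⟨u, rfl⟩
    exact ⟨_, (hθ2 u).symm⟩
  have Θ3 : ∀ u ∈ Θ, sg r x₃ u ∈ Θ := by
    rintro _ ⟨u, rfl⟩
    exact ⟨_, (hθ3 u).symm⟩
  have Θt : ∀ u ∈ Θ, t • u ∈ Θ := by
    rintro _ ⟨u, rfl⟩
    exact ⟨_, (hθt u).symm⟩
  -- transport by `t`
  have st1 : ∀ w : M, t • sg r x₁ w = sg r x₂ (t • w) := fun w => smul_sg_of t1 w
  have st2 : ∀ w : M, t • sg r x₂ w = sg r x₃ (t • w) := fun w => smul_sg_of t2 w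
  have st3 : ∀ w : M, t • sg r x₃ w = sg r x₁ (t • w) := fun w => smul_sg_of t3 w
  have htne : ∀ {w : M}, w ≠ 0 → t • w ≠ 0 := by
    intro w hw h
    exact hw ((smul_eq_zero_iff_eq t).mp h)
  have hdd : ∀ {u w : M}, u + w = 0 → u = w := by
    intro u w h
    calc u = u + (w + w) := by rw [h2, add_zero]
      _ = (u + w) + w := by rw [add_assoc]
      _ = w := by rw [h, zero_add]
  -- pieces with one support
  have hone : ∀ u ∈ Θ, sg r x₁ u = 0 → sg r x₂ u = u → sg r x₃ u = u → u = 0 := by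
    intro u hu s1 s2 s3
    by_contra hu0
    have e21 : sg r x₂ (t • u) = 0 := by rw [← st1, s1, smul_zero]
    have e23 : sg r x₃ (t • u) = t • u := by rw [← st2, s2]
    have e22 : sg r x₁ (t • u) = t • u := by rw [← st3, s3]
    have e31 : sg r x₃ (t • t • u) = 0 := by rw [← st2, e21, smul_zero]
    refine five (S := Θ) hθ Θ0 hu (Θt _ hu) (Θt _ (Θt _ hu)) (Θadd _ hu _ (Θt _ hu)) hu0 (htne hu0)
      (htne (htne hu0)) ?_ ?_ ?_ ?_ ?_
    · intro h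
      apply htne hu0
      rw [← e22, ← h, s1]
    · intro h
      apply hu0
      rw [← s3, h, e31]
    · intro h
      apply htne hu0
      rw [← e23, h, e31]
    · intro h
      apply htne hu0
      rw [← e22, ← hdd h, s1]
    · intro h
      have h' : u + t • u = 0 := by
        have := congrArg (sg r x₃) h
        rwa [sg_add, s3, e23, e31] at this
      apply htne hu0
      rw [← e22, ← hdd h', s1]
  have htwo : ∀ u ∈ Θ, sg r x₁ u = u → sg r x₂ u = 0 → sg r x₃ u = 0 → u = 0 := by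
    intro u hu s1 s2 s3
    by_contra hu0
    have e22 : sg r x₂ (t • u) = t • u := by rw [← st1, s1]
    have e23 : sg r x₃ (t • u) = 0 := by rw [← st2, s2, smul_zero]
    have e21 : sg r x₁ (t • u) = 0 := by rw [← st3, s3, smul_zero]
    have e33 : sg r x₃ (t • t • u) = t • t • u := by rw [← st2, e22]
    refine five (S := Θ) hθ Θ0 hu (Θt _ hu) (Θt _ (Θt _ hu)) (Θadd _ hu _ (Θt _ hu)) hu0 (htne hu0)
      (htne (htne hu0)) ?_ ?_ ?_ ?_ ?_
    · intro h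
      apply hu0
      rw [← s1, h, e21]
    · intro h
      apply htne (htne hu0)
      rw [← e33, ← h, s3]
    · intro h
      apply htne (htne hu0)
      rw [← e33, ← h, e23]
    · intro h
      apply hu0
      rw [← s1, hdd h, e21]
    · intro h
      apply htne (htne hu0)
      rw [← e33, ← h, sg_add, s3, e23, add_zero]
  have c12 : ∀ w : M, sg r x₁ (sg r x₂ w) = sg r x₂ (sg r x₁ w) := sg_comm h12
  have c13 : ∀ w : M, sg r x₁ (sg r x₃ w) = sg r x₃ (sg r x₁ w) := sg_comm h13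
  have c23 : ∀ w : M, sg r x₂ (sg r x₃ w) = sg r x₃ (sg r x₂ w) := sg_comm h23
  -- the same for the other positions
  have hone' : ∀ u ∈ Θ, sg r x₂ u = 0 → sg r x₁ u = u → sg r x₃ u = u → u = 0 := by
    intro u hu s2 s1 s3
    have e1 := Θt _ (Θt _ hu)
    have e := hone (t • t • u) e1 (by rw [← st3, ← st2, s2, smul_zero, smul_zero])
      (by rw [← st1, ← st3, s3]) (by rw [← st2, ← st1, s1])
    by_contra hu0
    exact htne (htne hu0) e
  have htwo2 : ∀ u ∈ Θ, sg r x₂ u = u → sg r x₁ u = 0 → sg r x₃ u = 0 → u = 0 := by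
    intro u hu s2 s1 s3
    have e1 := Θt _ (Θt _ hu)
    have e := htwo (t • t • u) e1 (by rw [← st3, ← st2, s2])
      (by rw [← st1, ← st3, s3, smul_zero, smul_zero]) (by rw [← st2, ← st1, s1, smul_zero, smul_zero])
    by_contra hu0
    exact htne (htne hu0) e
  have htwo3 : ∀ u ∈ Θ, sg r x₃ u = u → sg r x₁ u = 0 → sg r x₂ u = 0 → u = 0 := by
    intro u hu s3 s1 s2
    have e := htwo (t • u) (Θt _ hu) (by rw [← st3, s3])
      (by rw [← st1, s1, smul_zero]) (by rw [← st2, s2, smul_zero])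
    by_contra hu0
    exact htne hu0 e
  -- `(1 + S₁) θ = 0`
  have hp1 : ∀ u ∈ Θ, sg r x₁ u = u := by
    intro u hu
    have hd : ∀ {x : H}, x ^ r = 1 → ∀ w : M, sg r x (w + sg r x w) = 0 := by
      intro x hx w
      rw [sg_add, hss hx, h2]
    have hu1 : u + sg r x₁ u ∈ Θ := Θadd _ hu _ (Θ1 _ hu)
    set w := u + sg r x₁ u with hw
    have w1 : sg r x₁ w = 0 := hd hx₁ u
    -- `S₂ S₃ w = 0`
    have e23 : sg r x₂ (sg r x₃ w) = 0 := hone _ (Θ2 _ (Θ3 _ hu1))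
      (by rw [c12, c13, w1, sg_zero, sg_zero]) (hss hx₂ _) (by rw [← c23, hss hx₃])
    -- `S₂ w = 0`
    have e2 : sg r x₂ w = 0 := htwo2 _ (Θ2 _ hu1) (hss hx₂ _) (by rw [c12, w1, sg_zero])
      (by rw [← c23, e23])
    have e3 : sg r x₃ w = 0 := htwo3 _ (Θ3 _ hu1) (hss hx₃ _) (by rw [c13, w1, sg_zero]) e23
    have e := h0 w w1 e2 e3
    exact (hdd (hw ▸ e)).symm
  -- the vector `k`
  have hKK : ∀ w : M, a₂ • ((w + a₁ • w) + sg r x₁ (w + a₁ • w)) = (w + a₁ • w) + sg r x₁ (w + a₁ • w) := by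
    intro w
    have e1 : θ w = (w + a₁ • w) + a₂ • (w + a₁ • w) := by
      rw [hθdef]
      dsimp only
      rw [smul_add, smul_smul, hA12]
      abel
    have e2 := hp1 (θ w) ⟨w, rfl⟩
    rw [e1, sg_add, hsa a₂ x₁ (Or.inr a21) hx₁] at e2
    have e3 : (w + a₁ • w) + sg r x₁ (w + a₁ • w) = a₂ • (w + a₁ • w) + a₂ • sg r x₁ (w + a₁ • w) := by
      apply hdd
      have : (w + a₁ • w) + sg r x₁ (w + a₁ • w) + (a₂ • (w + a₁ • w) + a₂ • sg r x₁ (w + a₁ • w))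
          = ((w + a₁ • w) + a₂ • (w + a₁ • w)) + (sg r x₁ (w + a₁ • w) + a₂ • sg r x₁ (w + a₁ • w)) := by
        abel
      rw [this, e2, h2]
    rw [smul_add, ← e3]
  set k : M := (m + a₁ • m) + sg r x₁ (m + a₁ • m) with hk
  have hk1 : a₂ • k = k := hKK m
  have hxk : x₁ • k = (x₁ • m + a₁ • (x₁ • m)) + sg r x₁ (x₁ • m + a₁ • (x₁ • m)) := by
    have e1 : ∀ w : M, x₁ • sg r x₁ w = sg r x₁ (x₁ • w) := fun w => smul_sg_of (by group) w
    have e2 : x₁ • (a₁ • m) = a₁ • (x₁ • m) := by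
      rw [smul_smul, smul_smul]
      congr 1
      have := a11
      rw [mul_inv_eq_iff_eq_mul] at this
      exact this.symm
    rw [hk, smul_add, smul_add, e1, smul_add, e2]
  have hk2 : a₂ • (x₁ • k) = x₁ • k := by rw [hxk]; exact hKK _
  have hk3 : x₁⁻¹ • k = x₁ • k := by
    rw [← hk2, smul_smul]
    have e : a₂ * x₁ = x₁⁻¹ * a₂ := by
      rw [← a21, inv_mul_cancel_right]
    rw [e, ← smul_smul, hk1]
  have hk4 : x₁ • (x₁ • k) = k := by rw [← hk3, smul_inv_smul]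
  have hk5 : x₁ • k = k := by
    obtain ⟨j, hj⟩ := hrodd
    have h1 : ∀ n : ℕ, x₁ ^ (2 * n) • k = k := by
      intro n
      induction n with
      | zero => rw [mul_zero, pow_zero, one_smul]
      | succ n ih => rw [mul_add, mul_one, pow_add, ← smul_smul, pow_two, ← smul_smul, hk4, ih]
    have h3 : x₁ ^ (2 * j + 1) • k = k := by rw [← hj, hx₁, one_smul]
    rwa [pow_succ', ← smul_smul, h1] at h3
  have hk6 : sg r x₁ k = 0 := by rw [hk, sg_add, hss hx₁, h2]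
  have hk7 : k = 0 := by rw [← hk6]; exact (sg_of_fix h2 hrodd hk5).symm
  have hk8 : m + a₁ • m = sg r x₁ (m + a₁ • m) := hdd (hk ▸ hk7)
  rw [hk8]
  exact smul_sg hx₁ _


theorem sg_eq_range {r : ℕ} [NeZero r] (x : H) (y : M) : sg r x y = ∑ k ∈ Finset.range r, x ^ k • y := by
  unfold sg
  refine Finset.sum_nbij (fun k : ZMod r => k.val) ?_ ?_ ?_ ?_
  · intro k _
    exact Finset.mem_range.2 (ZMod.val_lt k)
  · intro a _ b _ h
    exact ZMod.val_injective r h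
  · intro k hk
    exact ⟨(k : ZMod r), Finset.mem_coe.2 (Finset.mem_univ _), ZMod.val_natCast_of_lt (Finset.mem_range.1 hk)⟩
  · intro k _
    rfl

/-- a vector of `ker S_x` fixed by an involution inverting `x` is a commutator with it -/
theorem dihedral {r : ℕ} [NeZero r] (hrodd : Odd r) (h2 : ∀ m : M, m + m = 0) {x a : H} (hx : x ^ r = 1)
    (hax : a * x * a⁻¹ = x⁻¹) {rad : AddSubgroup M} (hrad : ∀ v ∈ rad, x • v ∈ rad) {y : M} (hy : y ∈ rad)
    (hs : sg r x y = 0) (ha : a • y = y) : ∃ u ∈ rad, y = u + a • u := by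
  obtain ⟨n, hn⟩ := hrodd
  have hpow : ∀ k : ℕ, x ^ k • y ∈ rad := by
    intro k
    induction k with
    | zero => rw [pow_zero, one_smul]; exact hy
    | succ k ih => rw [pow_succ', mul_smul]; exact hrad _ ih
  refine ⟨∑ k ∈ Finset.range n, x ^ (k + 1) • y, AddSubgroup.sum_mem _ fun k _ => hpow _, ?_⟩
  have ha2 : a • ∑ k ∈ Finset.range n, x ^ (k + 1) • y = ∑ k ∈ Finset.range n, (x ^ (k + 1))⁻¹ • y := by
    rw [Finset.smul_sum]
    refine Finset.sum_congr rfl fun k _ => ?_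
    have e : a * x ^ (k + 1) = (x ^ (k + 1))⁻¹ * a := by
      have h := conj_pow (a := a) (b := x) (i := k + 1)
      rw [hax, inv_pow] at h
      rw [h]; group
    rw [← mul_smul, e, mul_smul, ha]
  have h3 : ∑ k ∈ Finset.range n, (x ^ (k + 1))⁻¹ • y = ∑ k ∈ Finset.range n, x ^ (n + 1 + k) • y := by
    rw [← Finset.sum_range_reflect]
    refine Finset.sum_congr rfl fun k hk => ?_
    have hk' := Finset.mem_range.1 hk
    congr 1
    rw [inv_eq_iff_mul_eq_one, ← pow_add]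
    have : n - 1 - k + 1 + (n + 1 + k) = r := by omega
    rw [this, hx]
  have h4 := hs
  rw [sg_eq_range, hn, show 2 * n + 1 = (n + 1) + n by ring, Finset.sum_range_add, Finset.sum_range_succ',
    pow_zero, one_smul] at h4
  rw [ha2, h3]
  have h5 : y + (∑ k ∈ Finset.range n, x ^ (k + 1) • y + ∑ k ∈ Finset.range n, x ^ (n + 1 + k) • y) = 0 := by
    rw [← h4]; abel
  calc y = y + ((∑ k ∈ Finset.range n, x ^ (k + 1) • y + ∑ k ∈ Finset.range n, x ^ (n + 1 + k) • y) +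
        (∑ k ∈ Finset.range n, x ^ (k + 1) • y + ∑ k ∈ Finset.range n, x ^ (n + 1 + k) • y)) := by
        rw [h2, add_zero]
    _ = _ := by rw [← add_assoc, h5, zero_add]

/-- **END of #14316 (2')**: `x₁` fixes `e` pointwise. -/
theorem fix_e {r : ℕ} [hp : Fact r.Prime] (hr2 : r ≠ 2) (h2 : ∀ m : M, m + m = 0)
    {x₁ x₂ x₃ a₁ a₂ t : H} (hx₁ : x₁ ^ r = 1) (hx₂ : x₂ ^ r = 1) (hx₃ : x₃ ^ r = 1)
    (h12 : x₁ * x₂ = x₂ * x₁) (h13 : x₁ * x₃ = x₃ * x₁) (h23 : x₂ * x₃ = x₃ * x₂)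
    (a11 : a₁ * x₁ * a₁⁻¹ = x₁) (a12 : a₁ * x₂ * a₁⁻¹ = x₂⁻¹) (a13 : a₁ * x₃ * a₁⁻¹ = x₃⁻¹)
    (a21 : a₂ * x₁ * a₂⁻¹ = x₁⁻¹) (a22 : a₂ * x₂ * a₂⁻¹ = x₂) (a23 : a₂ * x₃ * a₂⁻¹ = x₃⁻¹)
    (t1 : t * x₁ * t⁻¹ = x₂) (t2 : t * x₂ * t⁻¹ = x₃) (t3 : t * x₃ * t⁻¹ = x₁)
    (rad D₁ Ee : AddSubgroup M) (r1 : ∀ v ∈ rad, x₁ • v ∈ rad) (r2 : ∀ v ∈ rad, x₂ • v ∈ rad)
    (r3 : ∀ v ∈ rad, x₃ • v ∈ rad) (m1 : ∀ v ∈ Ee, v + x₁ • v ∈ rad) (m2 : ∀ v ∈ Ee, v + x₂ • v ∈ rad)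
    (m3 : ∀ v ∈ Ee, v + x₃ • v ∈ rad) (e1 : ∀ v ∈ Ee, a₁ • v = v) (e2 : ∀ v ∈ Ee, a₂ • v = v)
    (d1 : ∀ v ∈ rad, v + a₁ • v ∈ D₁) (d2 : ∀ v ∈ rad, v + a₂ • v ∈ D₁) (htD : ∀ v ∈ D₁, t • v = v)
    (hte : ∀ v ∈ Ee, t • v ∈ Ee ∧ v + t • v + t • t • v = 0) : ∀ v ∈ Ee, x₁ • v = v := by
  classical
  have hrodd : Odd r := hp.out.odd_of_ne_two hr2
  have hsa : ∀ (a x : H), a * x * a⁻¹ = x ∨ a * x * a⁻¹ = x⁻¹ → x ^ r = 1 → ∀ w : M,
      sg r x (a • w) = a • sg r x w := by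
    intro a x h hx w
    rcases h with h | h
    · exact (smul_sg_of h w).symm
    · rw [smul_sg_of h w, sg_inv hx]
  have hss : ∀ {x : H}, x ^ r = 1 → ∀ w : M, sg r x (sg r x w) = sg r x w := fun hx w =>
    sg_of_fix h2 hrodd (smul_sg hx w)
  have hd : ∀ {x : H}, x ^ r = 1 → ∀ w : M, sg r x (w + sg r x w) = 0 := by
    intro x hx w
    rw [sg_add, hss hx, h2]
  have hpowr : ∀ {x : H}, (∀ v ∈ rad, x • v ∈ rad) → ∀ (k : ℕ) (v : M), v ∈ rad → x ^ k • v ∈ rad := by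
    intro x hx k
    induction k with
    | zero => intro v hv; rw [pow_zero, one_smul]; exact hv
    | succ k ih => intro v hv; rw [pow_succ', mul_smul]; exact hx _ (ih v hv)
  have hsr : ∀ {x : H}, (∀ v ∈ rad, x • v ∈ rad) → ∀ v ∈ rad, sg r x v ∈ rad := by
    intro x hx v hv
    unfold sg
    exact AddSubgroup.sum_mem _ fun k _ => hpowr hx _ v hv
  have hrv : ∀ v : M, (r : ℕ) • v = v := by
    intro s
    obtain ⟨k, hk⟩ := hrodd
    rw [hk, add_smul, mul_comm, mul_smul, two_nsmul, h2, smul_zero, zero_add, one_smul]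
  -- `(1 + S_x) v ∈ rad`
  have hP : ∀ {x : H}, (∀ v ∈ rad, x • v ∈ rad) → ∀ v, v + x • v ∈ rad → v + sg r x v ∈ rad := by
    intro x hx v hv
    have h1 : ∀ k : ℕ, v + x ^ k • v ∈ rad := by
      intro k
      induction k with
      | zero => rw [pow_zero, one_smul, h2]; exact zero_mem _
      | succ k ih =>
        have h3 := add_mem hv (hx _ ih)
        rw [smul_add, ← mul_smul, ← pow_succ'] at h3
        have h4 : v + x • v + (x • v + x ^ (k + 1) • v) = (v + x ^ (k + 1) • v) + (x • v + x • v) := by abel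
        rwa [h4, h2, add_zero] at h3
    have h3 : v + sg r x v = ∑ k : ZMod r, (v + x ^ k.val • v) := by
      rw [Finset.sum_add_distrib, Finset.sum_const, Finset.card_univ, ZMod.card, hrv]
      rfl
    rw [h3]
    exact AddSubgroup.sum_mem _ fun k _ => h1 _
  -- the three pieces
  have key : ∀ v ∈ Ee, v + sg r x₃ (sg r x₂ (sg r x₁ v)) ∈ D₁ := by
   intro v hv
   have p0 : v + sg r x₁ v ∈ D₁ := by
     obtain ⟨u, hu, e⟩ := dihedral hrodd h2 hx₁ a21 r1 (hP r1 v (m1 v hv)) (hd hx₁ v)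
       (by rw [smul_add, ← hsa a₂ x₁ (Or.inr a21) hx₁, e2 v hv])
     rw [e]; exact d2 u hu
   have p1 : sg r x₁ v + sg r x₂ (sg r x₁ v) ∈ D₁ := by
     have h0 : sg r x₁ v + sg r x₂ (sg r x₁ v) = sg r x₁ (v + sg r x₂ v) := by
       rw [sg_add, sg_comm h12]
     have h3 : sg r x₁ v + sg r x₂ (sg r x₁ v) ∈ rad := by
       rw [h0]; exact hsr r1 _ (hP r2 v (m2 v hv))
     obtain ⟨u, hu, e⟩ := dihedral hrodd h2 hx₂ a12 r2 h3 (hd hx₂ _)
       (by rw [smul_add, ← hsa a₁ x₂ (Or.inr a12) hx₂, ← hsa a₁ x₁ (Or.inl a11) hx₁, e1 v hv])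
     rw [e]; exact d1 u hu
   have p2 : sg r x₂ (sg r x₁ v) + sg r x₃ (sg r x₂ (sg r x₁ v)) ∈ D₁ := by
     have h0 : sg r x₂ (sg r x₁ v) + sg r x₃ (sg r x₂ (sg r x₁ v)) = sg r x₂ (sg r x₁ (v + sg r x₃ v)) := by
       rw [sg_add, sg_add, sg_comm h23.symm, sg_comm h13.symm]
     have h3 : sg r x₂ (sg r x₁ v) + sg r x₃ (sg r x₂ (sg r x₁ v)) ∈ rad := by
       rw [h0]; exact hsr r2 _ (hsr r1 _ (hP r3 v (m3 v hv)))
     obtain ⟨u, hu, e⟩ := dihedral hrodd h2 hx₃ a13 r3 h3 (hd hx₃ _)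
       (by rw [smul_add, ← hsa a₁ x₃ (Or.inr a13) hx₃, ← hsa a₁ x₂ (Or.inr a12) hx₂,
         ← hsa a₁ x₁ (Or.inl a11) hx₁, e1 v hv])
     rw [e]; exact d1 u hu
   have p3 := add_mem p0 (add_mem p1 p2)
   have e0 : v + sg r x₁ v + (sg r x₁ v + sg r x₂ (sg r x₁ v) +
      (sg r x₂ (sg r x₁ v) + sg r x₃ (sg r x₂ (sg r x₁ v)))) =
      (v + sg r x₃ (sg r x₂ (sg r x₁ v))) + ((sg r x₁ v + sg r x₁ v) +
        (sg r x₂ (sg r x₁ v) + sg r x₂ (sg r x₁ v))) := by abel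
   rwa [e0, h2, h2, add_zero, add_zero] at p3
  -- equivariance under `t`
  have ht : ∀ v : M, t • (v + sg r x₃ (sg r x₂ (sg r x₁ v))) =
      t • v + sg r x₃ (sg r x₂ (sg r x₁ (t • v))) := by
    intro v
    rw [smul_add, smul_sg_of t3, smul_sg_of t2, smul_sg_of t1, sg_comm h13 (sg r x₂ (t • v)), sg_comm h12,
      sg_comm h23.symm]
  intro v hv
  obtain ⟨q1, q2⟩ := hte v hv
  obtain ⟨q3, -⟩ := hte _ q1
  have k1 := htD _ (key v hv)
  have k2 := htD _ (key _ q1)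
  rw [ht] at k1 k2
  have k3 : v + sg r x₃ (sg r x₂ (sg r x₁ v)) = 0 := by
    have h3 : (v + t • v + t • t • v) + sg r x₃ (sg r x₂ (sg r x₁ (v + t • v + t • t • v))) = 0 := by
      rw [q2, sg_zero, sg_zero, sg_zero, add_zero]
    rw [sg_add, sg_add, sg_add, sg_add, sg_add, sg_add] at h3
    have h4 : (v + t • v + t • t • v) + (sg r x₃ (sg r x₂ (sg r x₁ v)) + sg r x₃ (sg r x₂ (sg r x₁ (t • v))) +
        sg r x₃ (sg r x₂ (sg r x₁ (t • t • v)))) = (v + sg r x₃ (sg r x₂ (sg r x₁ v))) +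
        (t • v + sg r x₃ (sg r x₂ (sg r x₁ (t • v)))) + (t • t • v + sg r x₃ (sg r x₂ (sg r x₁ (t • t • v)))) := by
      abel
    rw [h4, k2, k1, h2, zero_add] at h3
    exact h3
  have hdd : ∀ {u w : M}, u + w = 0 → u = w := by
    intro u w h
    calc u = u + (w + w) := by rw [h2, add_zero]
      _ = (u + w) + w := by rw [add_assoc]
      _ = w := by rw [h, zero_add]
  have k4 := hdd k3
  rw [k4, sg_comm h23.symm, sg_comm h13.symm, sg_comm h12.symm]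
  exact smul_sg hx₁ _

end Core

section main

open Subgroup
open scoped commutatorElement
open OddPart (eq_one_of_inv)

variable {G : Type*} [Group G]

/-- **#12397**: `q = 4`, `A` centralises every solvable subgroup of odd order normalised by `A` and `t`.
`A` elementary abelian 2-group, `t` of order `3` acting on `A` by scalars of order `3`
(`a · aᵗ · aᵗᵗ = 1`); `Hh ≥ A` normalised by `Y`; `M` the module `W₁/R₁`, `f` the commutator form with
values in `R` (`|R| = 4`); `rad = Z(W₁)/R₁`, `D₁ = C_D(X) R₁/R₁`, `Ee = V/R₁`; `hLN` = LEMMA N' (#14071). -/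
theorem centralizes' {M R : Type*} [Finite G] [AddCommGroup M] [Finite M] [DistribMulAction G M]
    [AddCommGroup R] (h2 : ∀ m : M, m + m = 0) (hR2 : ∀ s : R, s + s = 0) (hR : 2 < Nat.card R)
    (f : M →+ M →+ R) (halt : ∀ m, f m m = 0) {A Hh Y : Subgroup G} {t : G}
    (hA : ∀ a ∈ A, a * a = 1) (ht3 : t * t * t = 1) (htA : t ∈ normalizer (A : Set G))
    (hfpf : ∀ a ∈ A, a * (t * a * t⁻¹) * (t * t * a * (t * t)⁻¹) = 1)
    (hAY : A ≤ normalizer (Y : Set G)) (htY : t ∈ normalizer (Y : Set G))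
    (hYodd : Odd (Nat.card Y)) (hYs : Group.IsSolvable Y)
    (hAH : A ≤ Hh) (hYH : ∀ y ∈ Y, ∀ a ∈ A, y * a * y⁻¹ ∈ Hh)
    (hinv : ∀ x ∈ Hh, ∀ u v, f (x • u) (x • v) = f u v)
    (rad D₁ Ee : AddSubgroup M) (hrad : ∀ x ∈ Hh, ∀ v ∈ rad, x • v ∈ rad)
    (hkey : ∀ v : M, ∀ R₀ : AddSubgroup R, R₀ ≠ ⊤ → (∀ u, f u v ∈ R₀) → v ∈ rad)
    (hN0 : ∀ a ∈ A, ∀ m : M, m + a • m + (t * a * t⁻¹) • m + (a * (t * a * t⁻¹)) • m ∈ Ee)
    (he4 : Nat.card Ee ≤ 4) (her : ∀ v ∈ Ee, v ∈ rad → v = 0) (hAe : ∀ a ∈ A, ∀ v ∈ Ee, a • v = v)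
    (hAr : ∀ a ∈ A, ∀ v ∈ rad, v + a • v ∈ D₁) (htD : ∀ v ∈ D₁, t • v = v)
    (hte : ∀ v ∈ Ee, t • v ∈ Ee ∧ v + t • v + t • t • v = 0)
    (hLN : ∀ a ∈ A, a ≠ 1 → ∀ v ∈ Ee, ∃ m : M, ∃ ζ ∈ rad, v = m + a • m + ζ)
    (hnorm : ∀ x ∈ Hh, (∀ v ∈ Ee, x • v = v) → ∀ b ∈ A, x * b * x⁻¹ ∈ A) :
    ∀ y ∈ Y, ∀ a ∈ A, a * y = y * a := by
  classical
  have hAc : ∀ a ∈ A, ∀ b ∈ A, a * b = b * a := by
    intro a ha b hb
    have e1 : a⁻¹ = a := inv_eq_of_mul_eq_one_right (hA a ha)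
    have e2 : b⁻¹ = b := inv_eq_of_mul_eq_one_right (hA b hb)
    have e3 : (a * b)⁻¹ = a * b := inv_eq_of_mul_eq_one_right (hA _ (mul_mem ha hb))
    rw [← e3, mul_inv_rev, e1, e2]
  have htAm : ∀ a ∈ A, t * a * t⁻¹ ∈ A := fun a ha => (mem_normalizer_iff.mp htA a).mp ha
  have htAi : ∀ a ∈ A, t⁻¹ * a * t ∈ A := by
    intro a ha
    have := (mem_normalizer_iff.mp (inv_mem htA) a).mp ha
    simpa using this
  have ht2 : t * t = t⁻¹ := by rw [eq_inv_iff_mul_eq_one]; exact ht3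
  have hordY : ∀ x ∈ Y, Odd (orderOf x) := by
    intro x hx
    refine Odd.of_dvd_nat hYodd ?_
    have : orderOf (⟨x, hx⟩ : Y) ∣ Nat.card Y := orderOf_dvd_natCard _
    rwa [← Subgroup.orderOf_coe] at this
  -- `T = ⟨t⟩`
  have hT : ∀ s ∈ zpowers t, s = 1 ∨ s = t ∨ s = t⁻¹ := by
    intro s hs
    obtain ⟨n, rfl⟩ := mem_zpowers_iff.mp hs
    have h3 : t ^ (3 : ℤ) = 1 := by
      rw [show (3 : ℤ) = 1 + 1 + 1 by norm_num, zpow_add, zpow_add, zpow_one]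
      exact ht3
    have e : n = 3 * (n / 3) + n % 3 := (Int.mul_ediv_add_emod n 3).symm
    have h : n % 3 = 0 ∨ n % 3 = 1 ∨ n % 3 = 2 := by omega
    rw [e, zpow_add, zpow_mul, h3, one_zpow, one_mul]
    rcases h with h | h | h
    · left; rw [h, zpow_zero]
    · right; left; rw [h, zpow_one]
    · right; right
      rw [h, show (2 : ℤ) = 1 + 1 by norm_num, zpow_add, zpow_one]
      exact ht2
  have hTo : ∀ s ∈ zpowers t, Odd (orderOf s) := by
    intro s hs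
    have h3 : s ^ 3 = 1 := by
      have ht : t ^ 3 = 1 := by rw [pow_succ, pow_two]; exact ht3
      rcases hT s hs with rfl | rfl | rfl
      · exact one_pow 3
      · exact ht
      · rw [inv_pow, ht, inv_one]
    exact Odd.of_dvd_nat (by decide) (orderOf_dvd_of_pow_eq_one h3)
  have hTf : ∀ s ∈ zpowers t, s ≠ 1 → ∀ a ∈ A, s * a = a * s → a = 1 := by
    intro s hs hs1 a ha h
    have hta : t * a * t⁻¹ = a := by
      rcases hT s hs with rfl | rfl | rfl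
      · exact absurd rfl hs1
      · rw [h, mul_inv_cancel_right]
      · have h' : a * t = t * a := by
          calc a * t = t * (t⁻¹ * a) * t := by group
            _ = t * (a * t⁻¹) * t := by rw [h]
            _ = t * a := by group
        rw [← h', mul_inv_cancel_right]
    have h1 := hfpf a ha
    have e : t * t * a * (t * t)⁻¹ = t * (t * a * t⁻¹) * t⁻¹ := by group
    rw [e, hta, hta, hA a ha, one_mul] at h1
    exact h1
  have hsemi := OddPart.semi_of_fpf hA (zpowers_le.mpr htA) hTo hTf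
  refine reduce hA (zpowers_le.mpr htA) hsemi (Nat.card Y) Y le_rfl hYodd hYs hAY
    (zpowers_le.mpr htY) ?_
  intro x hx hxw hxc
  by_contra hcon
  push Not at hcon
  obtain ⟨a₀, ha₀, hne⟩ := hcon
  -- an element of prime order
  have hxodd := hordY x hx
  have hx1 : x ≠ 1 := by
    rintro rfl
    exact hne (by rw [mul_one, one_mul])
  have hn1 : orderOf x ≠ 1 := by rwa [Ne, orderOf_eq_one_iff]
  set r : ℕ := (orderOf x).minFac with hr
  have hrp : r.Prime := Nat.minFac_prime hn1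
  have hp : Fact r.Prime := ⟨hrp⟩
  have hrn : r ∣ orderOf x := Nat.minFac_dvd _
  have hrodd : Odd r := Odd.of_dvd_nat hxodd hrn
  have hr2 : r ≠ 2 := by
    rintro h
    rw [h] at hrodd
    exact absurd hrodd (by decide)
  have hpos : 0 < orderOf x := orderOf_pos x
  set w : G := x ^ (orderOf x / r) with hw
  have hwr : w ^ r = 1 := by
    rw [hw, ← pow_mul, Nat.div_mul_cancel hrn, pow_orderOf_eq_one]
  have hw1 : w ≠ 1 := by
    intro h
    have h1 : orderOf x ∣ orderOf x / r := orderOf_dvd_of_pow_eq_one h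
    have h3 : orderOf x / r < orderOf x := Nat.div_lt_self hpos hrp.one_lt
    have h4 : 0 < orderOf x / r := Nat.div_pos (Nat.le_of_dvd hpos hrn) hrp.pos
    exact absurd (Nat.le_of_dvd h4 h1) (by omega)
  have hwY : w ∈ Y := pow_mem hx _
  have hww : ∀ a ∈ A, a * w * a⁻¹ = w ∨ a * w * a⁻¹ = w⁻¹ := by
    intro a ha
    rcases hxw a ha with h | h
    · left
      rw [hw, ← conj_pow, h]
    · right
      rw [hw, ← conj_pow, h, inv_pow]
  -- nontrivial elements of exponent `r` are not inverted and centralised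
  have hnr : ∀ y : G, y ^ r = 1 → y * y = 1 → y = 1 := by
    intro y hy hyy
    obtain ⟨k, hk⟩ := hrodd
    rw [hk, pow_succ, pow_mul, pow_two, hyy, one_pow, one_mul] at hy
    exact hy
  have hnot : ∀ y : G, y ^ r = 1 → y ≠ 1 → y ≠ y⁻¹ := by
    intro y hy hy1 h
    apply hy1
    apply hnr y hy
    nth_rewrite 2 [h]
    exact mul_inv_cancel y
  have ha₀w : a₀ * w * a₀⁻¹ = w⁻¹ := by
    rcases hxw a₀ ha₀ with h | h
    · exact absurd (mul_inv_eq_iff_eq_mul.mp h) hne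
    · rw [hw, ← conj_pow, h, inv_pow]
  -- parity
  have hfi : ∀ a ∈ A, ∀ b ∈ A, a * w * a⁻¹ = w⁻¹ → b * w * b⁻¹ = w⁻¹ → (a * b) * w * (a * b)⁻¹ = w := by
    intro a _ b _ ha hb
    calc (a * b) * w * (a * b)⁻¹ = a * (b * w * b⁻¹) * a⁻¹ := by group
      _ = (a * w * a⁻¹)⁻¹ := by rw [hb]; group
      _ = w := by rw [ha, inv_inv]
  have hff : ∀ a ∈ A, ∀ b ∈ A, a * w * a⁻¹ = w → b * w * b⁻¹ = w → (a * b) * w * (a * b)⁻¹ = w := by
    intro a _ b _ ha hb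
    calc (a * b) * w * (a * b)⁻¹ = a * (b * w * b⁻¹) * a⁻¹ := by group
      _ = w := by rw [hb, ha]
  -- `a₁`
  obtain ⟨a₁, ha₁, p1, p2, p3⟩ : ∃ a₁ ∈ A, a₁ * w * a₁⁻¹ = w ∧
      (t⁻¹ * a₁ * t) * w * (t⁻¹ * a₁ * t)⁻¹ = w⁻¹ ∧ (t * a₁ * t⁻¹) * w * (t * a₁ * t⁻¹)⁻¹ = w⁻¹ := by
    have hb := htAi a₀ ha₀
    have hc := htAm a₀ ha₀
    have hprod : a₀ * ((t⁻¹ * a₀ * t) * (t * a₀ * t⁻¹)) = 1 := by
      have h := hfpf a₀ ha₀
      rw [ht2, inv_inv, mul_assoc] at h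
      rwa [hAc _ hb _ hc]
    have hexp : a₀ = (t⁻¹ * a₀ * t) * (t * a₀ * t⁻¹) := by
      have h := hA a₀ ha₀
      exact mul_left_cancel (h.trans hprod.symm)
    rcases hww _ hb with h | h
    · -- `t⁻¹ a₀ t` centralises
      have hc' : (t * a₀ * t⁻¹) * w * (t * a₀ * t⁻¹)⁻¹ = w⁻¹ := by
        rcases hww _ hc with h' | h'
        · exfalso
          apply hnot w hwr hw1
          have h3 := hff _ hb _ hc h h'
          rw [← hexp] at h3
          rw [← ha₀w, h3]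
        · exact h'
      refine ⟨t⁻¹ * a₀ * t, hb, h, ?_, ?_⟩
      · have e : t⁻¹ * (t⁻¹ * a₀ * t) * t = t * a₀ * t⁻¹ := by
          calc t⁻¹ * (t⁻¹ * a₀ * t) * t = (t⁻¹ * t⁻¹) * a₀ * (t * t) := by group
            _ = t * a₀ * t⁻¹ := by
              have e1 : t⁻¹ * t⁻¹ = t := by
                rw [← mul_inv_rev, ht2, inv_inv]
              rw [e1, ht2]
        rw [e]
        exact hc'
      · have e : t * (t⁻¹ * a₀ * t) * t⁻¹ = a₀ := by group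
        rw [e]
        exact ha₀w
    · -- `t⁻¹ a₀ t` inverts
      have hc' : (t * a₀ * t⁻¹) * w * (t * a₀ * t⁻¹)⁻¹ = w := by
        rcases hww _ hc with h' | h'
        · exact h'
        · exfalso
          apply hnot w hwr hw1
          have h3 := hfi _ hb _ hc h h'
          rw [← hexp] at h3
          rw [← ha₀w, h3]
      refine ⟨t * a₀ * t⁻¹, hc, hc', ?_, ?_⟩
      · have e : t⁻¹ * (t * a₀ * t⁻¹) * t = a₀ := by group
        rw [e]
        exact ha₀w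
      · have e : t * (t * a₀ * t⁻¹) * t⁻¹ = t⁻¹ * a₀ * t := by
          calc t * (t * a₀ * t⁻¹) * t⁻¹ = (t * t) * a₀ * (t * t)⁻¹ := by group
            _ = t⁻¹ * a₀ * t := by rw [ht2, inv_inv]
        rw [e]
        exact h
  -- the data of `core`
  have ha₂ : t * a₁ * t⁻¹ ∈ A := htAm a₁ ha₁
  set a₂ : G := t * a₁ * t⁻¹ with ha₂def
  set x₂ : G := t * w * t⁻¹ with hx₂def
  set x₃ : G := t⁻¹ * w * t with hx₃def
  have hx₂ : x₂ ^ r = 1 := by rw [hx₂def, conj_pow, hwr]; group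
  have hx₃ : x₃ ^ r = 1 := by
    have e : x₃ = t⁻¹ * w * (t⁻¹)⁻¹ := by rw [hx₃def, inv_inv]
    rw [e, conj_pow, hwr]
    group
  have hx₂1 : x₂ ≠ 1 := by
    intro h
    apply hw1
    calc w = t⁻¹ * x₂ * t := by rw [hx₂def]; group
      _ = 1 := by rw [h]; group
  have hx₃1 : x₃ ≠ 1 := by
    intro h
    apply hw1
    calc w = t * x₃ * t⁻¹ := by rw [hx₃def]; group
      _ = 1 := by rw [h]; group
  have hx₂Y : x₂ ∈ Y := (mem_normalizer_iff.mp htY w).mp hwY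
  have hx₃Y : x₃ ∈ Y := by
    have := (mem_normalizer_iff.mp (inv_mem htY) w).mp hwY
    rw [inv_inv] at this
    exact this
  have a12 : a₁ * x₂ * a₁⁻¹ = x₂⁻¹ := by
    calc a₁ * x₂ * a₁⁻¹ = t * ((t⁻¹ * a₁ * t) * w * (t⁻¹ * a₁ * t)⁻¹) * t⁻¹ := by
          rw [hx₂def]; group
      _ = x₂⁻¹ := by rw [p2, hx₂def]; group
  have a13 : a₁ * x₃ * a₁⁻¹ = x₃⁻¹ := by
    calc a₁ * x₃ * a₁⁻¹ = t⁻¹ * ((t * a₁ * t⁻¹) * w * (t * a₁ * t⁻¹)⁻¹) * t := by
          rw [hx₃def]; group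
      _ = x₃⁻¹ := by
        change t⁻¹ * (a₂ * w * a₂⁻¹) * t = x₃⁻¹
        rw [p3, hx₃def]; group
  have a22 : a₂ * x₂ * a₂⁻¹ = x₂ := by
    calc a₂ * x₂ * a₂⁻¹ = t * (a₁ * w * a₁⁻¹) * t⁻¹ := by rw [ha₂def, hx₂def]; group
      _ = x₂ := by rw [p1]
  have htt : t⁻¹ * t⁻¹ = t := by rw [← mul_inv_rev, ht2, inv_inv]
  have a23 : a₂ * x₃ * a₂⁻¹ = x₃⁻¹ := by
    have e : t⁻¹ * (t⁻¹ * a₁ * t) * t = a₂ := by
      calc t⁻¹ * (t⁻¹ * a₁ * t) * t = (t⁻¹ * t⁻¹) * a₁ * (t * t) := by group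
        _ = a₂ := by rw [htt, ht2]
    have e' : a₂ * x₃ * a₂⁻¹ = t⁻¹ * ((t⁻¹ * a₁ * t) * w * (t⁻¹ * a₁ * t)⁻¹) * t := by
      rw [← e, hx₃def]
      simp only [mul_inv_rev, inv_inv, mul_assoc, mul_inv_cancel_left]
    rw [e', p2, hx₃def]
    group
  have hcomm1 : w * x₂ = x₂ * w := by
    have h : Commute x (t * x * t⁻¹) := by
      have h' := hxc 1 (one_mem _) t (mem_zpowers t)
      rw [one_mul, inv_one, mul_one] at h'
      exact h'
    have h' : Commute w ((t * x * t⁻¹) ^ (orderOf x / r)) := h.pow_pow _ _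
    rw [conj_pow] at h'
    exact h'.eq
  have hcomm3 : w * x₃ = x₃ * w := by
    have h : Commute x (t⁻¹ * x * (t⁻¹)⁻¹) := by
      have h' := hxc 1 (one_mem _) t⁻¹ (inv_mem (mem_zpowers t))
      rw [one_mul, inv_one, mul_one] at h'
      exact h'
    have h' : Commute w ((t⁻¹ * x * (t⁻¹)⁻¹) ^ (orderOf x / r)) := h.pow_pow _ _
    rw [conj_pow, inv_inv] at h'
    exact h'.eq
  have hcomm23 : x₂ * x₃ = x₃ * x₂ := by
    have h : Commute (t * x * t⁻¹) (t⁻¹ * x * (t⁻¹)⁻¹) :=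
      hxc t (mem_zpowers t) t⁻¹ (inv_mem (mem_zpowers t))
    have h' := h.pow_pow (orderOf x / r) (orderOf x / r)
    rw [conj_pow, conj_pow, inv_inv] at h'
    exact h'.eq
  have t2 : t * x₂ * t⁻¹ = x₃ := by
    calc t * x₂ * t⁻¹ = (t * t) * w * (t * t)⁻¹ := by rw [hx₂def]; group
      _ = x₃ := by rw [ht2, inv_inv]
  have t3 : t * x₃ * t⁻¹ = w := by rw [hx₃def]; group
  have ta2 : t * a₂ * t⁻¹ = a₁ * a₂ := by
    have h := hfpf a₁ ha₁
    have e : t * t * a₁ * (t * t)⁻¹ = t * a₂ * t⁻¹ := by rw [ha₂def]; group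
    rw [e] at h
    have h' := eq_inv_of_mul_eq_one_right h
    rw [h']
    exact inv_eq_of_mul_eq_one_right (hA _ (mul_mem ha₁ ha₂))
  -- membership in `Hh`
  have hmem : ∀ y ∈ Y, y ^ r = 1 → ∀ a ∈ A, a * y * a⁻¹ = y⁻¹ → y ∈ Hh := by
    intro y hy hyr a ha h
    have h1 : y⁻¹ * y⁻¹ ∈ Hh := by
      have e : y⁻¹ * y⁻¹ = a * (y * a⁻¹ * y⁻¹) := by
        nth_rewrite 1 [← h]
        group
      rw [e]
      exact mul_mem (hAH ha) (hYH y hy _ (inv_mem ha))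
    have h3 : y * y ∈ Hh := by
      have := inv_mem h1
      rwa [mul_inv_rev, inv_inv] at this
    obtain ⟨k, hk⟩ := hrodd
    have e : y = (y * y) ^ (k + 1) := by
      rw [← pow_two, ← pow_mul, mul_add, mul_one, show 2 * k + 2 = (2 * k + 1) + 1 by ring, pow_succ,
        ← hk, hyr, one_mul]
    rw [e]
    exact pow_mem h3 _
  have hwH : w ∈ Hh := hmem w hwY hwr a₂ ha₂ p3
  have hx₂H : x₂ ∈ Hh := hmem x₂ hx₂Y hx₂ a₁ ha₁ a12
  have hx₃H : x₃ ∈ Hh := hmem x₃ hx₃Y hx₃ a₁ ha₁ a13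
  have ha₁1 : a₁ ≠ 1 := by
    rintro h
    rw [h, one_mul, inv_one, mul_one] at a12
    exact hnot x₂ hx₂ hx₂1 a12
  have hrep : ∀ a ∈ A, ∀ v ∈ rad, v + a • v + (t * a * t⁻¹) • v + (a * (t * a * t⁻¹)) • v = 0 := by
    intro a ha v hv
    refine her _ (hN0 a ha v) ?_
    exact add_mem (add_mem (add_mem hv (hrad a (hAH ha) v hv)) (hrad _ (hAH (htAm a ha)) v hv))
      (hrad _ (hAH (mul_mem ha (htAm a ha))) v hv)
  have hcore : ∀ m : M, w • (m + a₁ • m) = m + a₁ • m := by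
    refine core' hr2 h2 hR2 hR hwr hcomm1 hcomm3 hcomm23 p1 a12 a13 p3 a22 a23 (hA a₂ ha₂)
      (hAc a₁ ha₁ a₂ ha₂) rfl t2 t3 rfl ta2 ?_ f halt
      (fun u v => ⟨hinv w hwH u v, hinv x₂ hx₂H u v, hinv x₃ hx₃H u v⟩)
      (fun v R₀ hR₀ h => hrep a₁ ha₁ v (hkey v R₀ hR₀ h))
    have := Finite.of_injective (Subtype.val : Ee → M) Subtype.val_injective
    refine le_trans (Nat.card_le_card_of_injective (β := Ee) (Set.inclusion ?_)
      (Set.inclusion_injective _)) he4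
    rintro _ ⟨m, rfl⟩
    exact hN0 a₁ ha₁ m
  -- conjugates of `hcore`
  have hcj : ∀ g : G, ∀ m : M, (g * w * g⁻¹) • (m + (g * a₁ * g⁻¹) • m) = m + (g * a₁ * g⁻¹) • m := by
    intro g m
    have h : g • (w • (g⁻¹ • m + a₁ • g⁻¹ • m)) = g • (g⁻¹ • m + a₁ • g⁻¹ • m) := by
      rw [hcore (g⁻¹ • m)]
    have e1 : m + (g * a₁ * g⁻¹) • m = g • (g⁻¹ • m + a₁ • g⁻¹ • m) := by
      rw [smul_add, smul_inv_smul, ← mul_smul, ← mul_smul]
    rw [e1, mul_smul, mul_smul, inv_smul_smul]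
    exact h
  have hmod : ∀ g : G, g * w * g⁻¹ ∈ Hh → g * a₁ * g⁻¹ ∈ A → ∀ v ∈ Ee, v + (g * w * g⁻¹) • v ∈ rad := by
    intro g hgH hgA v hv
    have hg1 : g * a₁ * g⁻¹ ≠ 1 := by
      intro h
      apply ha₁1
      calc a₁ = g⁻¹ * (g * a₁ * g⁻¹) * g := by group
        _ = 1 := by rw [h]; group
    obtain ⟨m, ζ, hζ, rfl⟩ := hLN _ hgA hg1 v hv
    rw [smul_add, hcj g m]
    have e1 : m + (g * a₁ * g⁻¹) • m + ζ + (m + (g * a₁ * g⁻¹) • m + (g * w * g⁻¹) • ζ) =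
        ((m + (g * a₁ * g⁻¹) • m) + (m + (g * a₁ * g⁻¹) • m)) + (ζ + (g * w * g⁻¹) • ζ) := by abel
    rw [e1, h2, zero_add]
    exact add_mem hζ (hrad _ hgH _ hζ)
  have hm1 : ∀ v ∈ Ee, v + w • v ∈ rad := by
    have h := hmod 1 (by simpa using hwH) (by simpa using ha₁)
    simpa using h
  have hm2 : ∀ v ∈ Ee, v + x₂ • v ∈ rad := hmod t hx₂H ha₂
  have hm3 : ∀ v ∈ Ee, v + x₃ • v ∈ rad := by
    have h := hmod t⁻¹ (by rw [inv_inv]; exact hx₃H) (by rw [inv_inv]; exact htAi a₁ ha₁)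
    rwa [inv_inv] at h
  have hfixe : ∀ v ∈ Ee, w • v = v :=
    fix_e hr2 h2 hwr hx₂ hx₃ hcomm1 hcomm3 hcomm23 p1 a12 a13 p3 a22 a23 rfl t2 t3 rad D₁ Ee
      (hrad w hwH) (hrad x₂ hx₂H) (hrad x₃ hx₃H) hm1 hm2 hm3 (hAe a₁ ha₁) (hAe a₂ ha₂) (hAr a₁ ha₁) (hAr a₂ ha₂)
      htD hte
  have h1 := hnorm w hwH hfixe a₂ ha₂
  have h3 : w * w ∈ A := by
    have e : w * w = (w * a₂ * w⁻¹) * a₂⁻¹ := by
      have e1 : w = (a₂ * w * a₂⁻¹)⁻¹ := by rw [p3, inv_inv]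
      nth_rewrite 2 [e1]
      group
    rw [e]
    exact mul_mem h1 (inv_mem ha₂)
  have h4 : (w * w) * (w * w) = 1 := hA _ h3
  have h5 : w * w = 1 := by
    refine hnr (w * w) ?_ h4
    rw [(Commute.refl w).mul_pow, hwr, one_mul]
  exact hw1 (hnr w hwr h5)

end main

end Cfsg.Agent.Omega.Lie.OddQ4

end

section


/-!
# (h1), SPLIT, `q ≥ 4`: `A` centralises every solvable odd order subgroup of `H⁰` normalised by `A` and `T`

`b : BTS V R`, `C_D(X) ≠ 1` allowed.  `q = 4`: `OddQ4S` (#14316 (2')); `q ≥ 8`: `OddPart.centralizes'` (helper843) with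
helper932's `stab_e`, over `BT`.
-/

set_option autoImplicit false
set_option linter.unusedSectionVars false

namespace Cfsg.Agent.Omega.Lie.OddAllS

open Subgroup Cfsg.Agent.Omega.Lie Cfsg.Agent.Omega.Lie.Quot Cfsg.Agent.Omega.Lie.ModQ Cfsg.Agent.Omega.Lie.ModQS
open Cfsg.Agent.Omega.BTwo hiding ZZ

universe u v w

variable {G : Type u} [Group G] {ι : Type w} {V : Subgroup G} {R : ι → Subgroup G} {F : Type v} [Field F]
  {i j : ι} {vv : F → F → G} {w1 w2 t : F → G}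

section

variable {M B : Type u} [AddCommGroup M] [AddCommGroup B]
  [DistribMulAction (NR R i) M] [DistribMulAction (NR R i) B] [DistribMulAction (HQ (R i)) M] {p : G → M}
  {r : G → B} {f : M →+ M →+ B} (m : ModQ V R i M B p r f)
include m

/-- `C_H(T)` stabilises `e`, `q ≥ 8` -/
theorem stab_e' [Finite F] (b : BT V R) (τ : TorD V R i j vv t) (h5 : 5 ≤ Nat.card F) {x : HQ (R i)}
    (hx : ∀ s ∈ TT τ, s * x * s⁻¹ = x) : ∀ d ∈ m.sb V, x • d ∈ m.sb V := by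
  obtain ⟨β, hβ, hβ1, hβ3⟩ := exists_outside h5
  have htwo : ∀ a : F, a + a = 0 := fun a => τ.two b a
  have hneg : ∀ a : F, -a = a := fun a => (eq_neg_of_add_eq_zero_left (htwo a)).symm
  have hβ2 : 1 + β ≠ 0 := by
    intro h
    apply hβ1
    have h1 := eq_neg_of_add_eq_zero_right h
    rw [h1, hneg]
  set s2 := tq τ hβ2 with hs2
  set s := tq τ hβ with hs
  -- the operators
  let Dp : M → M := fun a => s2 • a - (a + s • a)
  let Φ : M → M := fun a => s • Dp (Dp a) - Dp (Dp a)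
  have hcomm : ∀ {z : HQ (R i)}, z ∈ TT τ → ∀ a : M, z • x • a = x • z • a := by
    intro z hz a
    have h1 := hx z hz
    rw [mul_inv_eq_iff_eq_mul] at h1
    rw [smul_smul, smul_smul, h1]
  have hD : ∀ a : M, Dp (x • a) = x • Dp a := by
    intro a
    change s2 • x • a - (x • a + s • x • a) = x • (s2 • a - (a + s • a))
    rw [hcomm (tq_mem τ hβ2), hcomm (tq_mem τ hβ), smul_sub, smul_add]
  have hΦx : ∀ a : M, Φ (x • a) = x • Φ a := by
    intro a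
    change s • Dp (Dp (x • a)) - Dp (Dp (x • a)) = x • (s • Dp (Dp a) - Dp (Dp a))
    rw [hD, hD, hcomm (tq_mem τ hβ)]
    exact (smul_sub x _ _).symm
  have hDU : ∀ a : M, Dp a ∈ m.sb (UU V R i) := by
    intro a
    obtain ⟨w, hw, rfl⟩ := m.p_surj a
    exact m.drop τ hβ hβ2 hw (τ.wW 1 β one_ne_zero hβ hβ2 w hw)
  have hDD : ∀ a ∈ m.sb (UU V R i), Dp a ∈ m.sb (DD V R) := by
    rintro _ ⟨w, hw, hwW, rfl⟩
    exact m.drop τ hβ hβ2 hwW (τ.wU 1 β one_ne_zero hβ hβ2 w hw)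
  have hΦe : ∀ a : M, Φ a ∈ m.sb V := by
    intro a
    obtain ⟨d, hd, hdW, e⟩ := hDD _ (hDU a)
    change s • Dp (Dp a) - Dp (Dp a) ∈ m.sb V
    have hn : t β * d * (t β)⁻¹ ∈ WW V (R i) :=
      conj_mem_of_normalizer (normalizer_le_WW V (R i) (τ.normR hβ)) hdW
    rw [← e, m.tq_act τ hβ hdW, sub_eq_add_neg, ← m.p_inv hdW, ← m.p_mul _ hn _ (inv_mem hdW)]
    exact m.p_mem (mul_mem hn (inv_mem hdW)) (b.XD (τ.memX β hβ) hd)
  -- `Φ` on `e`
  have hv : ∀ y z, vv y z ∈ V := fun y z => (τ.v_mem _).2 ⟨_, _, rfl⟩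
  have hvW : ∀ y z, vv y z ∈ WW V (R i) := fun y z => V_le_WW V (R i) (hv y z)
  have hp0 : ∀ y z, p (vv y z) = p (vv 0 z) := by
    intro y z
    rw [m.p_eq_iff (hvW _ _) (hvW _ _)]
    have h1 := τ.v_add y 0 0 z
    rw [add_zero, zero_add] at h1
    rw [h1, mul_inv_cancel_right]
    exact (τ.Ri _).2 ⟨y, rfl⟩
  have hpa : ∀ z z', p (vv 0 z) + p (vv 0 z') = p (vv 0 (z + z')) := by
    intro z z'
    rw [← m.p_mul _ (hvW _ _) _ (hvW _ _), ← τ.v_add, add_zero]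
  have hpn : ∀ z, - p (vv 0 z) = p (vv 0 z) := fun z =>
    (eq_neg_of_add_eq_zero_left (m.two_M b _)).symm
  have hts : ∀ {a : F} (ha : a ≠ 0) (z : F), tq τ ha • p (vv 0 z) = p (vv 0 (a⁻¹ * z)) := by
    intro a ha z
    rw [m.tq_act τ ha (hvW _ _), τ.act a 0 z ha, mul_zero]
  have hDe : ∀ z, Dp (p (vv 0 z)) = p (vv 0 (((1 + β)⁻¹ + (1 + β⁻¹)) * z)) := by
    intro z
    change s2 • p (vv 0 z) - (p (vv 0 z) + s • p (vv 0 z)) = _
    rw [hts, hts, hpa, sub_eq_add_neg, hpn, hpa]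
    congr 2
    ring
  have hΦv : ∀ z, Φ (p (vv 0 z)) = p (vv 0 ((β⁻¹ + 1) * (((1 + β)⁻¹ + (1 + β⁻¹)) *
      (((1 + β)⁻¹ + (1 + β⁻¹)) * z)))) := by
    intro z
    change s • Dp (Dp (p (vv 0 z))) - Dp (Dp (p (vv 0 z))) = _
    rw [hDe, hDe, hts, sub_eq_add_neg, hpn, hpa]
    congr 2
    ring
  have hκ : (1 + β)⁻¹ + (1 + β⁻¹) ≠ 0 := by
    intro h
    apply hβ3
    have h1 : β + ((1 + β) * β + (1 + β)) = 0 := by
      have h2 : (1 + β) * β * ((1 + β)⁻¹ + (1 + β⁻¹)) = β + ((1 + β) * β + (1 + β)) := by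
        field_simp
      rw [← h2, h, mul_zero]
    have h3 : β + β = 0 := htwo β
    linear_combination h1 - h3
  have hκ' : β⁻¹ + 1 ≠ 0 := by
    intro h
    apply hβ1
    have h1 := eq_neg_of_add_eq_zero_left h
    rw [hneg] at h1
    rw [← inv_inv β, h1, inv_one]
  generalize (1 + β)⁻¹ + (1 + β⁻¹) = κ at hκ hΦv
  generalize β⁻¹ + 1 = κ' at hκ' hΦv
  intro d hd
  obtain ⟨y, hy, -, rfl⟩ := hd
  obtain ⟨y1, z, rfl⟩ := (τ.v_mem y).1 hy
  have h1 : p (vv y1 z) = Φ (p (vv 0 (κ⁻¹ * (κ⁻¹ * (κ'⁻¹ * z))))) := by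
    rw [hΦv, hp0]
    congr 2
    field_simp
  rw [h1, ← hΦx]
  exact hΦe _

/-- `C_H(T)` normalises `A`, `q ≥ 8` -/
theorem cen_T_norm_A' [Finite F] (b : BT V R) (τ : TorD V R i j vv t) (h5 : 5 ≤ Nat.card F) {x : HQ (R i)}
    (hx : ∀ s ∈ TT τ, s * x * s⁻¹ = x) : x ∈ normalizer (AA V R i j : Set (HQ (R i))) := by
  have hx' : ∀ s ∈ TT τ, s * x⁻¹ * s⁻¹ = x⁻¹ := by
    intro s hs
    have h1 := hx s hs
    calc s * x⁻¹ * s⁻¹ = (s * x * s⁻¹)⁻¹ := by group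
      _ = x⁻¹ := by rw [h1]
  have h1 := stab_e' m b τ h5 hx
  have h2 := stab_e' m b τ h5 hx'
  rw [mem_normalizer_iff]
  intro a
  refine ⟨fun ha => m.norm_of_stab b τ.ne h1 h2 ha, fun ha => ?_⟩
  have h3 := m.norm_of_stab (x := x⁻¹) b τ.ne h2 (by rw [inv_inv]; exact h1) ha
  have e : x⁻¹ * (x * a * x⁻¹) * x⁻¹⁻¹ = a := by group
  rwa [e] at h3

end

/-- **#14316 (2')**: `q = 4` -/
theorem centralizes4 [Finite G] [Finite F] [CharP F 2] (b : BTS V R) (c : Coord V R i j vv w1 w2)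
    (τ : TorD V R i j vv t) (hidx : Odd ((normalizer (V : Set G)).relIndex (normalizer (R i : Set G))))
    (hF : Nat.card F = 4) {Y : Subgroup (HQ (R i))} (hY : Y ≤ H0 R i)
    (hodd : Odd (Nat.card Y)) (hsol : Group.IsSolvable Y) (hA : AA V R i j ≤ normalizer (Y : Set (HQ (R i))))
    (hT : TT τ ≤ normalizer (Y : Set (HQ (R i)))) :
    ∀ y ∈ Y, ∀ a ∈ AA V R i j, a * y = y * a := by
  obtain ⟨w, hw0, hw1, hw⟩ := OddQ4BT.exists_omega hF
  obtain ⟨M, B, _, _, _, _, _, p, r, f, m⟩ := exists_modQ b.toBT i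
  have hfin := m.finite_M
  have hij := c.ne
  have hne : ∃ a : F, a ≠ 0 ∧ a ≠ 1 := ⟨w, hw0, hw1⟩
  have htT := ModQ.tq_mem τ hw0
  refine OddQ4.centralizes' (M := M) (R := B) (m.two_M b.toBT) (m.two_B b.toBT) ?_ f (m.f_self b.toBT)
    (A := AA V R i j) (Hh := HA V R i j) (Y := Y) (t := ModQ.tq τ hw0)
    (fun a ha => A_sq b.toBT hij ha) (tq_cube b.toBT τ hw0 hw) ?_ (fun a ha => A_sum b.toBT τ hw0 hw ha) hA
    (hT htT) hodd hsol A_le_HA ?_ (fun x hx u v => m.f_act b.toBT (HA_le_H0 b.toBT j hx) u v)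
    m.rad (D1 m) (m.sb V) (fun x hx v hv => m.smul_rad b.toBT (HA_le_H0 b.toBT j hx) hv)
    (fun v R₀ hR₀ h => m.mem_rad_of b.toBT hR₀ h) (fun a ha x => quad4 m b τ hw0 hw ha x)
    ((m.card_e τ).trans hF.le) (fun v hv hr => e_rad m b.toBT hv hr) (fun a ha v hv => A_e m b.toBT ha hv)
    (fun a ha v hv => A_rad m b hij ha hv) (fun v hv => T_D1 m τ htT hv)
    (fun v hv => ⟨T_mem_e m b.toBT τ htT hv, T_e_sum m b.toBT τ hw0 hw hv⟩)
    (fun a ha ha1 v hv => lemN m b hne c τ hidx ha ha1 hv)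
    (fun x hx h y hy => m.norm_of_fix b.toBT hij (HA_le_H0 b.toBT j hx) h hy)
  · -- |R i| = 4
    rw [m.card_B]
    have h1 : Nat.card F ≤ Nat.card (R i) := by
      refine Nat.card_le_card_of_injective (fun β : F => (⟨vv β 0, (τ.Ri _).2 ⟨β, rfl⟩⟩ : R i)) ?_
      intro β β' h
      exact (c.v_inj (congrArg Subtype.val h)).1
    omega
  · -- t normalises A
    rw [mem_normalizer_iff]
    intro a
    refine ⟨fun ha => TA_mem b.toBT τ htT ha, fun ha => ?_⟩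
    have h1 := TA_mem b.toBT τ (inv_mem htT) ha
    have e : (ModQ.tq τ hw0)⁻¹ * (ModQ.tq τ hw0 * a * (ModQ.tq τ hw0)⁻¹) * (ModQ.tq τ hw0)⁻¹⁻¹ = a := by group
    rwa [e] at h1
  · -- conjugates
    intro y hy a ha
    exact conj_mem_HA (hY hy) ha

/-- **`A` centralises every solvable subgroup of odd order of `H⁰` normalised by `A` and `T`**, `q ≥ 4`. -/
theorem centralizes [Finite G] [Finite F] [CharP F 2] (b : BTS V R) (c : Coord V R i j vv w1 w2)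
    (τ : TorD V R i j vv t) (hidx : Odd ((normalizer (V : Set G)).relIndex (normalizer (R i : Set G))))
    (hF : 4 ≤ Nat.card F) {Y : Subgroup (HQ (R i))} (hY : Y ≤ H0 R i)
    (hodd : Odd (Nat.card Y)) (hsol : Group.IsSolvable Y) (hA : AA V R i j ≤ normalizer (Y : Set (HQ (R i))))
    (hT : TT τ ≤ normalizer (Y : Set (HQ (R i)))) :
    ∀ y ∈ Y, ∀ a ∈ AA V R i j, a * y = y * a := by
  rcases hF.lt_or_eq with h5 | h4
  · obtain ⟨M, B, _, _, _, _, _, p, r, f, m⟩ := exists_modQ b.toBT i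
    have hsq : ∀ a ∈ AA V R i j, a * a = 1 := fun a ha => A_sq b.toBT c.ne ha
    have hTA : TT τ ≤ normalizer (AA V R i j : Set (HQ (R i))) := by
      intro s hs
      rw [mem_normalizer_iff]
      intro a
      refine ⟨fun ha => TA_mem b.toBT τ hs ha, fun ha => ?_⟩
      have h1 := TA_mem b.toBT τ (inv_mem hs) ha
      have e : s⁻¹ * (s * a * s⁻¹) * s⁻¹⁻¹ = a := by group
      rwa [e] at h1
    refine OddPart.centralizes' hsq hTA ?_ hodd hsol hA hT fun x _ hx => cen_T_norm_A' m b.toBT τ h5 hx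
    refine OddPart.semi_of_fpf hsq hTA (fun s hs => OddAll.odd_TT τ hs) ?_
    intro s hs hs1 a ha h
    by_contra ha1
    apply hs1
    refine T_reg b.toBT τ c.ne ha ha1 hs ?_
    rw [h, mul_inv_cancel_right]
  · exact centralizes4 b c τ hidx h4.symm hY hodd hsol hA hT

/-- the hypothesis `OddC` of `LayerPerf.lean` -/
theorem oddC [Finite G] [Finite F] [CharP F 2] (b : BTS V R) (c : Coord V R i j vv w1 w2)
    (τ : TorD V R i j vv t) (hidx : Odd ((normalizer (V : Set G)).relIndex (normalizer (R i : Set G))))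
    (hF : 4 ≤ Nat.card F) : Layer.OddC V R i j := by
  intro N hN hN0 hnil hodd x hx a ha
  refine centralizes b c τ hidx hF hN0 hodd ?_ ?_ ?_ x hx a ha
  · have := hnil
    infer_instance
  · rw [normalizer_eq_top_iff.2 hN]; exact le_top
  · rw [normalizer_eq_top_iff.2 hN]; exact le_top

end Cfsg.Agent.Omega.Lie.OddAllS

end
end

-- part: Mrg/Omega/HOneQ/ECen
section
section


/-!
# II.0h1, SPLIT, all `q ≥ 4` (bb #15121 (a)): the components of `H⁰` centralised by `A`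

`H = HQ (R i)`, `A = AA V R i j`, `T = TT τ`, `N₀ = N0 V R i` the kernel of `C(R i)` on `W i / Z(W i)`.

* `SylI τ S`: what is used of `S` (for `S₁ : Sylow 2 G` with `S₁ ≤ N(V) ∩ N(R i)`: `sylI_of_sylow`);
* `comp_le_N0`: a component `K ≤ H⁰` of even order centralised by `A` is contained in `N₀`;
* `E_eq`: `⟨A^H⟩` is the product of the components `K ≤ H⁰` with `A ∩ K ≠ 1`; `E_gen`: `⟨A^H⟩ = ⟨A^E⟩`; `E_perf`.
-/

set_option autoImplicit false
set_option linter.unusedSectionVars false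

namespace Cfsg.Agent.Omega.HOneQ.ECen

open Subgroup Cfsg Cfsg.Agent.Omega.BTwo Cfsg.Agent.Omega.Lie Cfsg.Agent.Omega.Lie.Quot
open Cfsg.Agent.Omega.HOne.ModZ (MZ exists_MZ Fq)
open Cfsg.Agent.Omega.Lie.Layer (OddC InnC InnA Cps)

universe u v w

variable {G : Type u} [Group G] {ι : Type w} {V : Subgroup G} {R : ι → Subgroup G} {i j : ι}
  {F : Type v} [Field F] {vv : F → F → G} {w1 w2 t : F → G}

/-- the group `S` -/
structure SylI (τ : TorD V R i j vv t) (S : Subgroup (HQ (R i))) : Prop where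
  S2 : IsPGroup 2 S
  AS : AA V R i j ≤ S
  rep : ∀ s ∈ S, ∃ (g : G) (hg : g ∈ normalizer (R i : Set G)), g ∈ centralizer (V : Set G) ∧ pr (R i) ⟨g, hg⟩ = s
  ST : ∀ x ∈ TT τ, ∀ s ∈ S, s⁻¹ * (x * s * x⁻¹) ∈ AA V R i j
  syl : ∀ K : Subgroup (HQ (R i)), K.IsSubnormal → K ≤ H0 R i → ∀ P ≤ K, IsPGroup 2 P → S ⊓ K ≤ P → P ≤ S

/-! ### `N₀` in `H` -/

section NN

variable (V R i)

/-- the image of `N₀` in `H` -/
def KN : Subgroup (HQ (R i)) := im (R i) (LemNS.N0 V R i)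

instance KN_normal : (KN V R i).Normal := Layer.im_normal fun _ hg _ hx => LemNS.N_le_NN0 i hg hx

variable {V R i}

theorem Q_le_N0 (b : BT V R) : QQ (R i) ≤ LemNS.N0 V R i := by
  intro g hg
  refine mem_inf.2 ⟨Q_le_C b i hg, LemNS.N_le_NZ i (b.Q_le i hg), fun w hw => ?_⟩
  exact b.R_le_Z i (b.WQ i hg hw)

theorem pr_mem_KN (b : BT V R) {g : G} (hg : g ∈ normalizer (R i : Set G)) :
    pr (R i) ⟨g, hg⟩ ∈ KN V R i ↔ g ∈ LemNS.N0 V R i := pr_mem_im_iff (Q_le_N0 b) hg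

variable [Finite G] [Finite F] [CharP F 2]

/-- `A ∩ N₀ = 1` -/
theorem AA_inf_KN (b : BTS V R) (hF : ∃ a : F, a ≠ 0 ∧ a ≠ 1) (c : Coord V R i j vv w1 w2)
    (τ : TorD V R i j vv t) (hodd : Odd ((normalizer (V : Set G)).relIndex (normalizer (R i : Set G))))
    {a : HQ (R i)} (ha : a ∈ AA V R i j) (h : a ∈ KN V R i) : a = 1 := by
  obtain ⟨u, hu, rfl⟩ := (mem_AA b.toBT).1 ha
  rw [pr_mem_KN b.toBT] at h
  rw [pr_eq_one, U_inf_Q b.toBT c.ne hu]
  refine LemNS.faithful b hF c τ hodd hu fun w hw => ?_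
  have h1 := inv_mem (h.2.2 w hw)
  rwa [show (u * w * u⁻¹ * w⁻¹)⁻¹ = w * u * w⁻¹ * u⁻¹ by group] at h1

/-- `N₀` centralises `A` -/
theorem KN_comm_A (b : BTS V R) (hF : ∃ a : F, a ≠ 0 ∧ a ≠ 1) (c : Coord V R i j vv w1 w2)
    (τ : TorD V R i j vv t) (hodd : Odd ((normalizer (V : Set G)).relIndex (normalizer (R i : Set G))))
    {n a : HQ (R i)} (hn : n ∈ KN V R i) (ha : a ∈ AA V R i j) : n * a = a * n := by
  obtain ⟨u, hu, rfl⟩ := (mem_AA b.toBT).1 ha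
  obtain ⟨g, hg, hg0, rfl⟩ := mem_im.1 hn
  have huN := U_le_N b.toBT i j hu
  have hM := LemNS.N_le_NM0 b.toBT i
  -- `[n, u] ∈ Q i`
  have h1 : g * u * g⁻¹ * u⁻¹ ∈ QQ (R i) := by
    refine LemNS.N1_le b ?_ fun w hw => ?_
    · have e : g * u * g⁻¹ * u⁻¹ = g * (u * g⁻¹ * u⁻¹) := by group
      rw [e]
      exact mul_mem hg0 (LemNS.N_le_NN0 i huN (inv_mem hg0))
    · -- `u` and `g u g⁻¹` act trivially on `W i / M₀`
      have k1 : ∀ w ∈ WW V (R i), u * w * u⁻¹ * w⁻¹ ∈ LemNS.M0 b.toBT i := by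
        intro w hw
        have h2 := inv_mem (LemNS.comm_M0 b hF c τ hodd hw hu)
        rwa [show (w * u * w⁻¹ * u⁻¹)⁻¹ = u * w * u⁻¹ * w⁻¹ by group] at h2
      have k2 : ∀ w ∈ WW V (R i), u⁻¹ * w * u * w⁻¹ ∈ LemNS.M0 b.toBT i := by
        intro w hw
        have h2 := inv_mem (k1 _ (conj_inv_mem_of_normalizer (normalizer_le_WW V (R i) huN) hw))
        rwa [show (u * (u⁻¹ * w * u) * u⁻¹ * (u⁻¹ * w * u)⁻¹)⁻¹ = u⁻¹ * w * u * w⁻¹ by group] at h2
      have hw1 : u⁻¹ * w * u ∈ WW V (R i) := conj_inv_mem_of_normalizer (normalizer_le_WW V (R i) huN) hw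
      have hw2 : g⁻¹ * (u⁻¹ * w * u) * g ∈ WW V (R i) :=
        conj_inv_mem_of_normalizer (normalizer_le_WW V (R i) hg) hw1
      have k3 := conj_mem_of_normalizer (hM hg) (k1 _ hw2)
      have e : g * u * g⁻¹ * u⁻¹ * w * (g * u * g⁻¹ * u⁻¹)⁻¹ * w⁻¹ =
          g * (u * (g⁻¹ * (u⁻¹ * w * u) * g) * u⁻¹ * (g⁻¹ * (u⁻¹ * w * u) * g)⁻¹) * g⁻¹ * (u⁻¹ * w * u * w⁻¹) := by
        group
      rw [e]
      exact mul_mem k3 (k2 w hw)
  have h2 : pr (R i) ⟨g, hg⟩ * pr (R i) ⟨u, huN⟩ * (pr (R i) ⟨g, hg⟩)⁻¹ * (pr (R i) ⟨u, huN⟩)⁻¹ = 1 := by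
    have e : pr (R i) ⟨g, hg⟩ * pr (R i) ⟨u, huN⟩ * (pr (R i) ⟨g, hg⟩)⁻¹ * (pr (R i) ⟨u, huN⟩)⁻¹ =
        pr (R i) ⟨g * u * g⁻¹ * u⁻¹, mul_mem (mul_mem (mul_mem hg huN) (inv_mem hg)) (inv_mem huN)⟩ := rfl
    rw [e, pr_eq_one]
    exact h1
  rw [mul_inv_eq_one, mul_inv_eq_iff_eq_mul] at h2
  exact h2

/-- `N₀` centralises `⟨A^H⟩` -/
theorem KN_comm_E (b : BTS V R) (hF : ∃ a : F, a ≠ 0 ∧ a ≠ 1) (c : Coord V R i j vv w1 w2)
    (τ : TorD V R i j vv t) (hodd : Odd ((normalizer (V : Set G)).relIndex (normalizer (R i : Set G))))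
    {n x : HQ (R i)} (hn : n ∈ KN V R i) (hx : x ∈ normalClosure (AA V R i j : Set (HQ (R i)))) : n * x = x * n := by
  have h1 : normalClosure (AA V R i j : Set (HQ (R i))) ≤ centralizer (KN V R i : Set (HQ (R i))) := by
    refine normalClosure_le_normal fun a ha => ?_
    change a ∈ centralizer (KN V R i : Set (HQ (R i)))
    rw [mem_centralizer_iff]
    exact fun n hn => KN_comm_A b hF c τ hodd hn ha
  exact mem_centralizer_iff.1 (h1 hx) n hn

end NN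

/-! ### components -/

section comp

variable {H : Type*} [Group H]

/-- a subgroup of a component `K`, normalised by `K` and not central, is `K` -/
theorem comp_le {K L : Subgroup H} (hK : IsComponent K) (hn : ∀ g ∈ K, ∀ l ∈ L, g * l * g⁻¹ ∈ L)
    {x : H} (hxL : x ∈ L) (hxK : x ∈ K) (hx : ¬ ∀ y ∈ K, x * y = y * x) : K ≤ L := by
  have hN : (L.subgroupOf K).Normal := ⟨fun y hy g => by
    rw [mem_subgroupOf] at hy ⊢
    exact hn _ g.2 _ hy⟩
  rcases SignalizersComponents.Components.quasisimple_normal hK.2 _ hN with h | h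
  · exact subgroupOf_eq_top.1 h
  · exfalso
    apply hx
    intro y hy
    have h1 := mem_center_iff.1 (h (mem_subgroupOf.2 hxL : (⟨x, hxK⟩ : K) ∈ L.subgroupOf K)) ⟨y, hy⟩
    exact (congrArg Subtype.val h1).symm

theorem comp_perf {K : Subgroup H} (hK : IsComponent K) : ⁅K, K⁆ = K := by
  have hp := hK.2.1
  have h3 : (commutator K).map K.subtype = ⁅K, K⁆ := by
    rw [_root_.commutator_def, map_commutator, ← MonoidHom.range_eq_map, K.range_subtype]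
  rw [← h3, hp.commutator_eq_top, ← MonoidHom.range_eq_map, K.range_subtype]

end comp

/-- a 2-element of a component of `H` which is central in it is `1` -/
theorem two_cen [Finite G] {R₀ : Subgroup G} {K P : Subgroup (HQ R₀)} (hK : IsComponent K) (hP : IsPGroup 2 P)
    {x : HQ R₀} (hxP : x ∈ P) (hxK : x ∈ K) (hc : ∀ y ∈ K, x * y = y * x) : x = 1 := by
  have h1 := LemmaT.comp_of_isComponent hK (pCore_HQ R₀)
  by_contra hne
  obtain ⟨n, hn⟩ := hP ⟨x, hxP⟩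
  have hn' : x ^ 2 ^ n = 1 := congrArg Subtype.val hn
  have ho := orderOf_dvd_of_pow_eq_one hn'
  obtain ⟨k, hk, hk'⟩ := (Nat.dvd_prime_pow Nat.prime_two).1 ho
  have hk0 : k ≠ 0 := by
    rintro rfl
    rw [pow_zero, orderOf_eq_one_iff] at hk'
    exact hne hk'
  obtain ⟨l, rfl⟩ := Nat.exists_eq_succ_of_ne_zero hk0
  have h2 : x ^ 2 ^ l * x ^ 2 ^ l = 1 := by
    rw [← pow_add, ← two_mul, ← pow_succ', ← hk']
    exact pow_orderOf_eq_one x
  have h3 : x ^ 2 ^ l = 1 := h1.cen _ (K.pow_mem hxK _) h2 fun y hy => (show Commute x y from hc y hy).pow_left _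
  have h4 := orderOf_dvd_of_pow_eq_one h3
  rw [hk'] at h4
  have h5 := Nat.le_of_dvd (by positivity) h4
  have h6 : 2 ^ l < 2 ^ (l + 1) := Nat.pow_lt_pow_right (by norm_num) (Nat.lt_succ_self l)
  omega

theorem S_inf_ne {τ : TorD V R i j vv t} {S : Subgroup (HQ (R i))} [Finite G] (I : SylI τ S)
    {K : Subgroup (HQ (R i))} (hK : IsComponent K) (hK0 : K ≤ H0 R i) (h2 : 2 ∣ Nat.card K) :
    ∃ x ∈ S, x ∈ K ∧ x ≠ 1 := by
  obtain ⟨x, hx⟩ := exists_prime_orderOf_dvd_card' 2 h2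
  by_contra hcon
  push Not at hcon
  have hSK : S ⊓ K = ⊥ := (Subgroup.eq_bot_iff_forall _).2 fun x hx => hcon x hx.1 hx.2
  have h1 : (zpowers (x : HQ (R i))) ≤ S := by
    refine I.syl K hK.1 hK0 _ (zpowers_le.2 x.2) ?_ (by rw [hSK]; exact bot_le)
    rw [IsPGroup.iff_card]
    refine ⟨1, ?_⟩
    rw [Nat.card_zpowers, Subgroup.orderOf_coe, hx, pow_one]
  have h3 := hcon x (h1 (mem_zpowers _)) x.2
  have h4 : x = 1 := Subtype.ext h3
  rw [h4, orderOf_one] at hx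
  exact absurd hx (by norm_num)

section main

variable [Finite G] [Finite F] [CharP F 2] (b : BTS V R) (hF : ∃ a : F, a ≠ 0 ∧ a ≠ 1)
  (c : Coord V R i j vv w1 w2) (τ : TorD V R i j vv t)
  (hodd : Odd ((normalizer (V : Set G)).relIndex (normalizer (R i : Set G))))
  (hUD : ¬ UU V R j ≤ DD V R)
  {S : Subgroup (HQ (R i))} (I : SylI τ S)

include b hF c τ hodd hUD

/-- `C_M(A) ≤ P` -/
theorem cenA {M : Type u} [AddCommGroup M] [DistribMulAction (HQ (R i)) M] {p : G → M} (m : MZ V R i M p)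
    {x : G} (hx : x ∈ WW V (R i)) (h : ∀ a ∈ AA V R i j, a • p x = p x) : x ∈ UU V R i := by
  by_contra hxU
  obtain ⟨y, hy, hyD⟩ := SetLike.not_le_iff_exists.1 hUD
  have hZU : BTwo.ZZ V R i ≤ UU V R i := zU_le i
  have hyN := U_le_N b.toBT i j hy
  -- `A` centralises `p x`, in `G`
  have h0 : ∀ u ∈ UU V R j, u * x * u⁻¹ * x⁻¹ ∈ BTwo.ZZ V R i := by
    intro u hu
    have h1 := h _ ((mem_AA b.toBT).2 ⟨u, hu, rfl⟩)
    have hN := U_le_N b.toBT i j hu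
    rw [m.p_act _ hN _ hx] at h1
    exact (m.p_eq_iff (conj_mem_of_normalizer (normalizer_le_WW V (R i) hN) hx) hx).1 h1
  -- `U i ≤ D Z i`
  have h1 : ∀ u ∈ UU V R i, ∃ d ∈ DD V R, ∃ z ∈ BTwo.ZZ V R i, u = z * d := by
    intro u hu
    obtain ⟨u', hu', h2⟩ := b.surj (Ne.symm c.ne) hx hxU hu
    refine ⟨_, h2, x * u' * x⁻¹ * u'⁻¹, ?_, by group⟩
    have h3 := inv_mem (h0 u' hu')
    rwa [show (u' * x * u'⁻¹ * x⁻¹)⁻¹ = x * u' * x⁻¹ * u'⁻¹ by group] at h3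
  -- `D ≤ V Z i`
  have h2 : ∀ d ∈ DD V R, ∃ v ∈ V, ∃ z ∈ BTwo.ZZ V R i, d = v * z := by
    intro d hd
    obtain ⟨v, hv, h3⟩ := b.cen_DU (i := i) hd fun u hu => by
      obtain ⟨d', hd', z, hz, rfl⟩ := h1 u hu
      have e1 : Commute d z := (z_comm hz (D_le_W V R i hd)).symm
      have e2 : Commute d d' := b.D_comm hd hd'
      exact (e1.mul_right e2).eq
    refine ⟨v⁻¹, inv_mem hv, v * d, ?_, by group⟩
    exact mem_inf.2 ⟨D_le_W V R i h3.1, cen_X_le i h3.2⟩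
  -- `A` centralises `U i / Z i`
  have h3 : ∀ g ∈ UU V R i, y * g * y⁻¹ * g⁻¹ ∈ BTwo.ZZ V R i := by
    intro g hg
    obtain ⟨d, hd, z, hz, rfl⟩ := h1 g hg
    obtain ⟨v, hv, z', hz', rfl⟩ := h2 d hd
    have hZN : BTwo.ZZ V R i ≤ WW V (R i) := inf_le_left
    have k1 : y * (z * (v * z')) * y⁻¹ * (z * (v * z'))⁻¹ =
        (y * z * y⁻¹) * ((y * v * y⁻¹) * (y * z' * y⁻¹) * z'⁻¹ * v⁻¹) * z⁻¹ := by group
    have k2 : y * v * y⁻¹ = v := by
      rw [← mem_centralizer_iff.1 (UU_le_cen j hy) v hv, mul_inv_cancel_right]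
    have k3 : y * z * y⁻¹ ∈ BTwo.ZZ V R i := conj_mem_of_normalizer (LemNS.N_le_NZ i hyN) hz
    have k4 : y * z' * y⁻¹ ∈ BTwo.ZZ V R i := conj_mem_of_normalizer (LemNS.N_le_NZ i hyN) hz'
    rw [k1, k2]
    have k5 := z_comm (mul_mem k4 (inv_mem hz')) (V_le_WW V (R i) (inv_mem hv))
    have k6 : v * (y * z' * y⁻¹) * z'⁻¹ * v⁻¹ = (y * z' * y⁻¹) * z'⁻¹ := by
      calc v * (y * z' * y⁻¹) * z'⁻¹ * v⁻¹ = v * (((y * z' * y⁻¹) * z'⁻¹) * v⁻¹) := by group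
        _ = v * (v⁻¹ * ((y * z' * y⁻¹) * z'⁻¹)) := by rw [k5]
        _ = _ := by group
    rw [k6]
    exact mul_mem (mul_mem k3 (mul_mem k4 (inv_mem hz'))) (inv_mem hz)
  -- `A` centralises `W i / Z i`
  have h4 : ∀ w ∈ WW V (R i), ∀ a ∈ AA V R i j, a • p w = p w := by
    intro w hw a ha
    obtain ⟨s, hs⟩ := c.W1_act x hx
    obtain ⟨s', hs'⟩ := c.W1_act w hw
    have hs0 : s ≠ 0 := by
      rintro rfl
      apply hxU
      refine mem_inf.2 ⟨hx, mem_centralizer_iff.2 fun v hv => ?_⟩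
      obtain ⟨β, γ, rfl⟩ := (c.mem_V v).1 hv
      have h5 := hs β γ
      rw [zero_mul, add_zero, mul_inv_eq_iff_eq_mul] at h5
      exact h5.symm
    -- `A` is trivial on `p g` for `g ∈ U i`
    have hU : ∀ g ∈ UU V R i, ∀ a ∈ AA V R i j, a • p g = p g := by
      have _ := h3
      intro g hg a ha
      obtain ⟨d, hd, z, hz, rfl⟩ := h1 g hg
      obtain ⟨v, hv, z', hz', rfl⟩ := h2 d hd
      have hvW := V_le_WW V (R i) hv
      have e1 : p (z * (v * z')) = p v := by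
        rw [m.p_mul _ hz.1 _ (mul_mem hvW hz'.1), m.p_mul _ hvW _ hz'.1, (m.p_ker _ hz.1).2 hz,
          (m.p_ker _ hz'.1).2 hz', zero_add, add_zero]
      obtain ⟨u, hu, rfl⟩ := (mem_AA b.toBT).1 ha
      rw [e1, m.p_act _ (U_le_N b.toBT i j hu) _ hvW, ← mem_centralizer_iff.1 (UU_le_cen j hu) v hv,
        mul_inv_cancel_right]
    by_cases h5 : s' = 0
    · apply hU _ _ a ha
      refine mem_inf.2 ⟨hw, mem_centralizer_iff.2 fun v hv => ?_⟩
      obtain ⟨β, γ, rfl⟩ := (c.mem_V v).1 hv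
      have h6 := hs' β γ
      rw [h5, zero_mul, add_zero, mul_inv_eq_iff_eq_mul] at h6
      exact h6.symm
    · obtain ⟨α, hα⟩ := FiniteField.isSquare_of_char_two (ringChar.eq F 2) (s' / s)
      have hα0 : α ≠ 0 := by
        rintro rfl
        rw [mul_zero, div_eq_zero_iff] at hα
        exact hα.elim h5 hs0
      have hTN := τ.normR hα0
      set g := t α * x * (t α)⁻¹ with hg
      have hgW : g ∈ WW V (R i) := conj_mem_of_normalizer (normalizer_le_WW V (R i) hTN) hx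
      have hgw : g⁻¹ * w ∈ UU V R i := by
        refine mem_inf.2 ⟨mul_mem (inv_mem hgW) hw, mem_centralizer_iff.2 fun v hv => ?_⟩
        obtain ⟨β, γ, rfl⟩ := (c.mem_V v).1 hv
        have k1 : ∀ β γ, g * vv β γ * g⁻¹ = vv (β + s' * γ) γ := by
          intro β γ
          have e1 : g * vv β γ * g⁻¹ = t α * (x * ((t α)⁻¹ * vv β γ * t α) * x⁻¹) * (t α)⁻¹ := by
            rw [hg]; group
          rw [e1, LemNS.t_act_inv τ hα0, hs, τ.act _ _ _ hα0]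
          congr 1
          · have e2 : s' = α * α * s := by rw [← hα, div_mul_cancel₀ _ hs0]
            rw [e2]
            field_simp
          · field_simp
        have k2 : w * vv β γ * w⁻¹ = g * vv β γ * g⁻¹ := by rw [hs', k1]
        calc vv β γ * (g⁻¹ * w) = g⁻¹ * (g * vv β γ * g⁻¹) * w := by group
          _ = g⁻¹ * (w * vv β γ * w⁻¹) * w := by rw [k2]
          _ = g⁻¹ * w * vv β γ := by group
      have e3 : w = g * (g⁻¹ * w) := by group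
      have hgt : p g = pr (R i) ⟨t α, hTN⟩ • p x := (m.p_act _ hTN _ hx).symm
      have hta : (pr (R i) ⟨t α, hTN⟩)⁻¹ * a * pr (R i) ⟨t α, hTN⟩ ∈ AA V R i j := by
        have h6 := TA_mem b.toBT τ (inv_mem ((mem_TT τ).2 ⟨α, hα0, rfl⟩)) ha
        rwa [inv_inv] at h6
      rw [e3, m.p_mul _ hgW _ (mul_mem (inv_mem hgW) hw), smul_add, hU _ hgw a ha, hgt]
      congr 1
      have h7 := h _ hta
      rw [mul_smul, mul_smul, inv_smul_eq_iff] at h7
      exact h7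
  apply hyD
  refine LemNS.faithful b hF c τ hodd hy fun w hw => ?_
  have h5 := h4 w hw _ ((mem_AA b.toBT).2 ⟨y, hy, rfl⟩)
  rw [m.p_act _ hyN _ hw] at h5
  have h6 := inv_mem ((m.p_eq_iff (conj_mem_of_normalizer (normalizer_le_WW V (R i) hyN) hw) hw).1 h5)
  rwa [show (y * w * y⁻¹ * w⁻¹)⁻¹ = w * y * w⁻¹ * y⁻¹ by group] at h6

/-- `t a` acts fixed-point-freely on `W i / D Z i` -/
theorem tfix {M : Type u} [AddCommGroup M] [DistribMulAction (HQ (R i)) M] {p : G → M} (m : MZ V R i M p)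
    {a : F} (ha : a ≠ 0) (ha1 : a ≠ 1) {x : M} (h : pr (R i) ⟨t a, τ.normR ha⟩ • x = x) : x ∈ m.sb (DD V R) := by
  have htwo := TorD.two b.toBT τ
  have hac : a + 1 ≠ 0 := by
    intro h0
    apply ha1
    exact add_right_cancel (h0.trans (htwo 1).symm)
  obtain ⟨w, hw, rfl⟩ := m.p_surj x
  have hZU : BTwo.ZZ V R i ≤ UU V R i := zU_le i
  have hN := τ.normR ha
  have hN' := τ.normR hac
  have hW := conj_mem_of_normalizer (normalizer_le_WW V (R i) hN) hw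
  rw [m.p_act _ hN _ hw, m.p_eq_iff hW hw] at h
  set z := t a * w * (t a)⁻¹ * w⁻¹ with hz
  have e1 : t a * w * (t a)⁻¹ = z * w := by rw [hz]; group
  have hsq : w * w ∈ BTwo.ZZ V R i := b.R_le_Z i (b.W_sq i hw)
  have hUt : ∀ g, t (a + 1) * g * (t (a + 1))⁻¹ ∈ UU V R i → g ∈ UU V R i := by
    intro g hg
    have h1 : cj (t (a + 1)) (UU V R i) = UU V R i :=
      b.cj_UU (b.X_le_NV (τ.memX _ hac)) (cj_eq_self_iff.2 hN')
    rw [← h1, mem_cj] at hg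
    rwa [show (t (a + 1))⁻¹ * (t (a + 1) * g * (t (a + 1))⁻¹) * t (a + 1) = g by group] at hg
  -- `w ∈ U i`
  have hwU : w ∈ UU V R i := by
    apply hUt
    have h1 := τ.wW a 1 ha one_ne_zero hac w hw
    rw [τ.one, inv_one, one_mul, mul_one, e1] at h1
    have h2 : z * w * w ∈ UU V R i := by rw [mul_assoc]; exact mul_mem (hZU h) (hZU hsq)
    have h3 := mul_mem h1 h2
    rwa [inv_mul_cancel_right] at h3
  -- `w ∈ D Z i`
  have h1 := τ.wU a 1 ha one_ne_zero hac w hwU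
  rw [τ.one, inv_one, one_mul, mul_one, e1] at h1
  set d := t (a + 1) * w * (t (a + 1))⁻¹ * (z * w * w)⁻¹ with hd
  have h2 : z * w * w ∈ BTwo.ZZ V R i := by rw [mul_assoc]; exact mul_mem h hsq
  have e2 : w = ((t (a + 1))⁻¹ * d * t (a + 1)) * ((t (a + 1))⁻¹ * (z * w * w) * t (a + 1)) := by
    rw [hd]; group
  have h3 : (t (a + 1))⁻¹ * d * t (a + 1) ∈ DD V R :=
    conj_inv_mem_of_normalizer (b.NV_le_ND (b.X_le_NV (τ.memX _ hac))) h1
  have h4 : (t (a + 1))⁻¹ * (z * w * w) * t (a + 1) ∈ BTwo.ZZ V R i :=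
    conj_inv_mem_of_normalizer (LemNS.N_le_NZ i hN') h2
  refine ⟨_, h3, D_le_W V R i h3, ?_⟩
  conv_rhs => rw [e2]
  rw [m.p_mul _ (D_le_W V R i h3) _ h4.1, (m.p_ker _ h4.1).2 h4, add_zero]

/-- **LEMMA E0**: a component `K ≤ H⁰` of even order centralised by `A` is contained in `N₀` -/
theorem comp_le_N0 {K : Subgroup (HQ (R i))} (hK : IsComponent K) (hK0 : K ≤ H0 R i)
    (h2 : 2 ∣ Nat.card K) (hKA : ∀ a ∈ AA V R i j, ∀ x ∈ K, a * x = x * a) {S : Subgroup (HQ (R i))}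
    (I : SylI τ S) : K ≤ KN V R i := by
  obtain ⟨M, _, _, p, m⟩ := exists_MZ (V := V) (R := R) b.toBT i
  obtain ⟨md, f, e, ω, σ, κ, q⟩ := m.exists_fq hF b.toBT c τ
  obtain ⟨a, ha, ha1⟩ := hF
  have hF : ∃ a : F, a ≠ 0 ∧ a ≠ 1 := ⟨a, ha, ha1⟩
  have hTN := τ.normR ha
  set x₀ := pr (R i) ⟨t a, hTN⟩ with hx₀
  have hx₀T : x₀ ∈ TT τ := (mem_TT τ).2 ⟨a, ha, rfl⟩
  -- elements of `S ⊓ K`
  have hcenS : ∀ s ∈ S, s ∈ K → (∀ y ∈ K, s * y = y * s) → s = 1 := fun s hs hsK h =>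
    two_cen hK I.S2 hs hsK h
  obtain ⟨s₀, hs₀S, hs₀K, hs₀1⟩ := S_inf_ne I hK hK0 h2
  -- `T` normalises `K`
  have hTK : ∀ k ∈ K, x₀ * k * x₀⁻¹ ∈ K := by
    rcases (LemmaT.comp_of_isComponent hK (pCore_HQ (R i))).conj x₀ with h | h
    · exact fun k hk => (h k).1 hk
    · exfalso
      apply hs₀1
      refine hcenS _ hs₀S hs₀K fun y hy => ?_
      have h1 := I.ST x₀ hx₀T s₀ hs₀S
      have c1 : Commute (x₀ * s₀ * x₀⁻¹) y := (h y hy s₀ hs₀K).symm
      have c2 : Commute (s₀⁻¹ * (x₀ * s₀ * x₀⁻¹)) y := hKA _ h1 y hy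
      have e1 : s₀ = (x₀ * s₀ * x₀⁻¹) * (s₀⁻¹ * (x₀ * s₀ * x₀⁻¹))⁻¹ := by group
      rw [e1]
      exact (c1.mul_left c2.inv_left).eq
  -- `[S ⊓ K, T] = 1`
  have hSt : ∀ s ∈ S ⊓ K, x₀ * s = s * x₀ := by
    rintro s ⟨hs, hsK⟩
    have h1 := I.ST x₀ hx₀T s hs
    have h3 : s⁻¹ * (x₀ * s * x₀⁻¹) ∈ K := mul_mem (inv_mem hsK) (hTK s hsK)
    have h4 := hcenS _ (I.AS h1) h3 fun y hy => hKA _ h1 y hy
    rw [inv_mul_eq_one, eq_mul_inv_iff_mul_eq] at h4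
    exact h4.symm
  have hfH : ∀ h ∈ H0 R i, ∀ x y : M, f (h • x) (h • y) = f x y := fun h hh x y => q.H0_isom c hh x y
  let f' : M →+ M →+ F := AddMonoidHom.mk' (fun x => (f x).toAddMonoidHom) (by
    intro x y
    apply AddMonoidHom.ext
    intro z
    change f (x + y) z = f x z + f y z
    rw [map_add, LinearMap.add_apply])
  have hf' : ∀ x y, f' x y = f x y := fun _ _ => rfl
  have hZU : BTwo.ZZ V R i ≤ UU V R i := zU_le i
  have hVe : ∀ x, x ∈ m.sb V ↔ ∃ γ, x = e γ := by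
    intro x
    constructor
    · rintro ⟨z, hz, hzW, rfl⟩
      obtain ⟨β, γ, rfl⟩ := (c.mem_V z).1 hz
      exact ⟨γ, q.e_eq β γ⟩
    · rintro ⟨γ, rfl⟩
      rw [← q.e_eq 0 γ]
      exact m.p_mem (V_le_WW V (R i) (c.v_mem 0 γ)) (c.v_mem 0 γ)
  have hP : ∀ x, x ∈ m.sb (UU V R i) ↔ ω x = 0 := by
    intro x
    obtain ⟨g, hg, rfl⟩ := m.p_surj x
    rw [q.mem_P c hg, m.p_mem_iff hg hZU]
  have hAu : ∀ a ∈ AA V R i j, ∃ (u : G) (hu : u ∈ UU V R j), pr (R i) ⟨u, U_le_N b.toBT i j hu⟩ = a :=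
    fun a ha => (mem_AA b.toBT).1 ha
  have hAH0 : AA V R i j ≤ H0 R i := Layer.A_le_H0 b.toBT
  have d : Dat (AA V R i j) (S ⊓ K) K x₀ (orderOf (t a)) (m.sb V) (m.sb (DD V R)) (m.sb (UU V R i)) f' :=
    { two := m.two b.toBT
      symm := fun x y => q.symm x y
      nd := fun x h => q.nd x h
      eD := m.sb_mono (V_le_D V R)
      DP := m.sb_mono (b.D_le_U i)
      neTop := by
        refine ⟨p (w1 1), ?_⟩
        rw [hP, q.ω_w1 c]
        exact one_ne_zero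
      perp := by
        intro x
        rw [hP]
        constructor
        · intro hx y hy
          obtain ⟨γ, rfl⟩ := (hVe y).1 hy
          rw [hf', q.fe, hx, zero_mul]
        · intro h
          have h1 := h (e 1) ((hVe _).2 ⟨1, rfl⟩)
          rwa [hf', q.fe, mul_one] at h1
      surj := by
        intro y hy x hx
        obtain ⟨w, hw, rfl⟩ := m.p_surj y
        rw [m.p_mem_iff hw hZU] at hy
        obtain ⟨u, hu, huW, rfl⟩ := hx
        obtain ⟨u', hu', h1⟩ := b.surj (Ne.symm c.ne) hw hy (inv_mem hu)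
        have hN := U_le_N b.toBT i j hu'
        refine ⟨pr (R i) ⟨u', hN⟩, (mem_AA b.toBT).2 ⟨u', hu', rfl⟩, ?_⟩
        have hcW := MZ.comm_mem_W (V := V) hN hw
        rw [m.smul_sub hN hw, ← neg_sub, sub_eq_add_neg, ← m.p_inv huW, ← m.p_mul _ hcW _ (inv_mem huW)]
        refine neg_mem (m.p_mem (mul_mem hcW (inv_mem huW)) ?_)
        have e1 : (u' * w * u'⁻¹ * w⁻¹) * u⁻¹ = (w * u' * w⁻¹ * u'⁻¹)⁻¹ * u⁻¹ := by group
        rw [e1]
        exact h1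
      A2 := by
        rintro a' ha' _ ⟨u, hu, huW, rfl⟩
        obtain ⟨u', hu', rfl⟩ := hAu a' ha'
        have hN := U_le_N b.toBT i j hu'
        rw [m.smul_sub hN huW]
        exact m.p_mem (MZ.comm_mem_W (V := V) hN huW) (b.UU_comm (Ne.symm c.ne) hu' hu)
      A3 := by
        rintro a' ha' _ ⟨u, hu, huW, rfl⟩
        obtain ⟨u', hu', rfl⟩ := hAu a' ha'
        have hN := U_le_N b.toBT i j hu'
        rw [m.smul_sub hN huW]
        refine m.p_mem (MZ.comm_mem_W (V := V) hN huW) ?_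
        have h1 := inv_mem (b.DU hu hu')
        rw [show (u * u' * u⁻¹ * u'⁻¹)⁻¹ = u' * u * u'⁻¹ * u⁻¹ by group] at h1
        exact b.R_le j h1
      A4 := by
        rintro a' ha' _ ⟨u, hu, huW, rfl⟩
        obtain ⟨u', hu', rfl⟩ := hAu a' ha'
        rw [m.p_act _ (U_le_N b.toBT i j hu') _ huW, ← mem_centralizer_iff.1 (UU_le_cen j hu') u hu,
          mul_inv_cancel_right]
      cenA := by
        intro x h
        obtain ⟨w, hw, rfl⟩ := m.p_surj x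
        exact m.p_mem hw (cenA b hF c τ hodd hUD m hw h)
      ker0 := by
        rintro _ ⟨d, hd, hdW, rfl⟩ h
        have h1 : ∀ u ∈ UU V R j, d * u = u * d := by
          intro u hu
          have hN := U_le_N b.toBT i j hu
          have h1 := h _ ((mem_AA b.toBT).2 ⟨u, hu, rfl⟩)
          rw [m.p_act _ hN _ hdW, m.p_eq_iff (conj_mem_of_normalizer (normalizer_le_WW V (R i) hN) hdW) hdW] at h1
          have h2 := inv_mem (b.DU hd hu)
          rw [show (d * u * d⁻¹ * u⁻¹)⁻¹ = u * d * u⁻¹ * d⁻¹ by group] at h2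
          have h3 := b.cen_VW (b.R_le j h2) h1.2
          have h4 := b.eq_one c.ne h3 h2
          rw [mul_inv_eq_one, mul_inv_eq_iff_eq_mul] at h4
          exact h4.symm
        obtain ⟨v, hv, h2⟩ := b.cen_DU hd h1
        refine ⟨v⁻¹, inv_mem hv, V_le_WW V (R i) (inv_mem hv), ?_⟩
        rw [m.p_eq_iff (V_le_WW V (R i) (inv_mem hv)) hdW]
        have h3 : v⁻¹ * d⁻¹ = (v * d)⁻¹ := by
          rw [mul_inv_rev, mem_centralizer_iff.1 (b.D_le_cen (inv_mem hd)) _ (inv_mem hv)]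
        rw [h3]
        exact inv_mem (mem_inf.2 ⟨D_le_W V R i h2.1, cen_X_le i h2.2⟩)
      fA := fun a' ha' x y => hfH _ (hAH0 ha') x y
      odd := τ.odd a ha
      tn := by
        rw [hx₀, ← map_pow]
        have e1 : (⟨t a, hTN⟩ : ↥(normalizer (R i : Set G))) ^ orderOf (t a) = 1 :=
          Subtype.ext (pow_orderOf_eq_one (t a))
        rw [e1, map_one]
      te := by
        intro y hy
        exact m.sb_smul hTN (b.X_le_NV (τ.memX a ha)) hy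
      tfix := fun x h => tfix b hF c τ hodd hUD m ha ha1 h
      tfix0 := by
        intro x hx h
        obtain ⟨γ, rfl⟩ := (hVe x).1 hx
        have h1 := q.t_e c τ (Units.mk0 a ha) γ
        have h3 : (a⁻¹ - 1) • e γ = 0 := by
          rw [sub_smul, one_smul, sub_eq_zero]
          exact h1.symm.trans h
        rcases smul_eq_zero.1 h3 with h4 | h4
        · exfalso
          apply ha1
          rw [← inv_inv a, sub_eq_zero.1 h4, inv_one]
        · exact h4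
      tD := by
        rintro _ ⟨d, hd, hdW, rfl⟩
        rw [m.smul_sub hTN hdW]
        exact m.p_mem (MZ.comm_mem_W (V := V) hTN hdW) (b.XD (τ.memX a ha) hd)
      tf := by
        intro x y h
        have h1 := q.t_f c τ (Units.mk0 a ha) x y
        rw [hf'] at h ⊢
        rw [h, mul_zero] at h1
        exact h1
      SK := inf_le_right
      St := hSt
      Se := by
        rintro s ⟨hs, -⟩ _ ⟨v, hv, hvW, rfl⟩
        obtain ⟨g, hg, hgV, rfl⟩ := I.rep s hs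
        rw [m.p_act _ hg _ hvW, ← mem_centralizer_iff.1 hgV v hv, mul_inv_cancel_right]
      SD := by
        rintro s ⟨hs, -⟩ x hx
        obtain ⟨g, hg, hgV, rfl⟩ := I.rep s hs
        exact m.sb_smul hg (b.NV_le_ND (cen_le_NV V hgV)) hx
      fK := fun k hk x y => hfH k (hK0 hk) x y
      KA := fun k hk a' ha' => (hKA a' ha' k hk).symm
      tK := hTK
      gen := by
        intro L hSL hLK hn
        refine le_antisymm hLK (comp_le hK hn (hSL ⟨hs₀S, hs₀K⟩) hs₀K fun h => hs₀1 (hcenS _ hs₀S hs₀K h))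
      perf := comp_perf hK }
  intro k hk
  obtain ⟨g, hg, hgC, rfl⟩ := mem_im.1 (hK0 hk)
  unfold KN
  refine mem_im.2 ⟨g, hg, mem_inf.2 ⟨hgC, LemNS.N_le_NZ i hg, fun w hw => ?_⟩, rfl⟩
  have h1 := d.fix hk (p w)
  rw [m.p_act _ hg _ hw] at h1
  exact (m.p_eq_iff (conj_mem_of_normalizer (normalizer_le_WW V (R i) hg) hw) hw).1 h1

end main

/-! ### `E = ⟨A^H⟩` -/

/-- the components in `H⁰` met by `A` -/
def Met (V : Subgroup G) (R : ι → Subgroup G) (i j : ι) (K : Subgroup (HQ (R i))) : Prop :=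
  Cps (H0 R i) K ∧ AA V R i j ⊓ K ≠ ⊥

theorem Met.exists {K : Subgroup (HQ (R i))} (h : Met V R i j K) : ∃ x ∈ AA V R i j, x ∈ K ∧ x ≠ 1 := by
  obtain ⟨x, hx1⟩ := (Subgroup.ne_bot_iff_exists_ne_one).1 h.2
  exact ⟨x, x.2.1, x.2.2, fun h => hx1 (Subtype.ext h)⟩

theorem Met.of_mem {K : Subgroup (HQ (R i))} (hK : Cps (H0 R i) K) {x : HQ (R i)} (hxA : x ∈ AA V R i j)
    (hxK : x ∈ K) (hx1 : x ≠ 1) : Met V R i j K := by
  refine ⟨hK, fun h => hx1 ?_⟩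
  have h1 : x ∈ AA V R i j ⊓ K := ⟨hxA, hxK⟩
  rw [h] at h1
  exact mem_bot.1 h1

theorem Met.two_dvd [Finite G] (b : BT V R) (hij : i ≠ j) {K : Subgroup (HQ (R i))} (h : Met V R i j K) :
    2 ∣ Nat.card K := by
  obtain ⟨x, hxA, hxK, hx1⟩ := h.exists
  have h1 : orderOf (⟨x, hxK⟩ : K) = 2 := by
    refine orderOf_eq_prime ?_ fun h => hx1 (congrArg Subtype.val h)
    rw [pow_two]
    exact Subtype.ext (A_sq b hij hxA)
  have h2 := orderOf_dvd_natCard (⟨x, hxK⟩ : K)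
  rwa [h1] at h2

/-- a component not met by `A` is centralised by `A` -/
theorem comm_of_not_met (hinn : InnC V R i j) {K : Subgroup (HQ (R i))} (hK : Cps (H0 R i) K)
    (h : ¬ Met V R i j K) : ∀ a ∈ AA V R i j, ∀ x ∈ K, a * x = x * a := by
  intro a ha x hx
  obtain ⟨d, hd, hact⟩ := hinn K hK.1 hK.2 a ha
  have h1 : d = 1 := by
    by_contra hne
    exact h (Met.of_mem hK hd.1 hd.2 hne)
  subst h1
  have h2 := hact x hx
  rw [one_mul, inv_one, mul_one, mul_inv_eq_iff_eq_mul] at h2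
  exact h2

/-- an element `≠ 1` of `A ∩ K` is not central in `K` -/
theorem Met.not_cen [Finite G] (b : BT V R) (hij : i ≠ j) {K : Subgroup (HQ (R i))} (h : Met V R i j K) :
    ∃ x ∈ AA V R i j, x ∈ K ∧ ¬ ∀ y ∈ K, x * y = y * x := by
  obtain ⟨x, hxA, hxK, hx1⟩ := h.exists
  refine ⟨x, hxA, hxK, fun hc => hx1 ?_⟩
  refine two_cen (P := AA V R i j) h.1.1 ?_ hxA hxK hc
  intro y
  refine ⟨1, Subtype.ext ?_⟩
  change (y : HQ (R i)) ^ 2 ^ 1 = 1
  rw [pow_one, pow_two]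
  exact A_sq b hij y.2

section E

variable [Finite G] [Finite F] [CharP F 2] (b : BTS V R) (hF : ∃ a : F, a ≠ 0 ∧ a ≠ 1)
  (c : Coord V R i j vv w1 w2) (τ : TorD V R i j vv t)
  (hodd : Odd ((normalizer (V : Set G)).relIndex (normalizer (R i : Set G))))
  (hUD : ¬ UU V R j ≤ DD V R)
  {S : Subgroup (HQ (R i))} (I : SylI τ S) (hinn : InnC V R i j)

include b hF c τ hodd hUD I hinn

/-- a conjugate of a component met by `A` is met by `A` -/
theorem Met.conj {K : Subgroup (HQ (R i))} (h : Met V R i j K) (g : HQ (R i)) :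
    Met V R i j (K.map (MulAut.conj g).toMonoidHom) := by
  have hH0 : (H0 R i).Normal := Layer.H0_normal R i
  have hK' : Cps (H0 R i) (K.map (MulAut.conj g).toMonoidHom) := by
    refine ⟨SignalizersComponents.Components.isComponent_conj g h.1.1, ?_⟩
    rintro _ ⟨x, hx, rfl⟩
    exact hH0.conj_mem x (h.1.2 hx) g
  by_contra hn
  have h2 : 2 ∣ Nat.card (K.map (MulAut.conj g).toMonoidHom) := by
    have e : Nat.card (K.map (MulAut.conj g).toMonoidHom) = Nat.card K :=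
      Nat.card_congr (K.equivMapOfInjective _ (MulAut.conj g).injective).toEquiv.symm
    rw [e]
    exact h.two_dvd b.toBT c.ne
  have h3 := comp_le_N0 b hF c τ hodd hUD hK'.1 hK'.2 h2 (comm_of_not_met hinn hK' hn) I
  obtain ⟨x, hxA, hxK, hx1⟩ := h.exists
  apply hx1
  refine AA_inf_KN b hF c τ hodd hxA ?_
  have h4 : g * x * g⁻¹ ∈ KN V R i := h3 ⟨x, hxK, rfl⟩
  have h5 := (KN_normal V R i).conj_mem _ h4 g⁻¹
  rwa [show g⁻¹ * (g * x * g⁻¹) * g⁻¹⁻¹ = x by group] at h5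

/-- **`⟨A^H⟩` is the product of the components met by `A`** -/
theorem E_eq (hoddC : OddC V R i j) : normalClosure (AA V R i j : Set (HQ (R i))) =
    ⨆ K ∈ {K : Subgroup (HQ (R i)) | Met V R i j K}, K := by
  apply le_antisymm
  · have hn : (⨆ K ∈ {K : Subgroup (HQ (R i)) | Met V R i j K}, K).Normal := by
      refine ⟨fun x hx g => ?_⟩
      have h1 : (⨆ K ∈ {K : Subgroup (HQ (R i)) | Met V R i j K}, K) ≤
          (⨆ K ∈ {K : Subgroup (HQ (R i)) | Met V R i j K}, K).comap (MulAut.conj g).toMonoidHom := by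
        refine iSup₂_le fun K hK => ?_
        rw [← map_le_iff_le_comap]
        exact le_iSup₂ (f := fun (K : Subgroup (HQ (R i))) (_ : K ∈ {K | Met V R i j K}) => K) _
          (Met.conj b hF c τ hodd hUD I hinn hK g)
      exact h1 hx
    refine normalClosure_le_normal fun a ha => ?_
    have h1 := Layer.A_le_iSup b.toBT c.ne hoddC hinn ha
    have h2 : (⨆ K ∈ {K : Subgroup (HQ (R i)) | Cps (H0 R i) K}, AA V R i j ⊓ K) ≤
        ⨆ K ∈ {K : Subgroup (HQ (R i)) | Met V R i j K}, K := by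
      refine iSup₂_le fun K hK => ?_
      by_cases h : AA V R i j ⊓ K = ⊥
      · rw [h]; exact bot_le
      · exact inf_le_right.trans (le_iSup₂
          (f := fun (K : Subgroup (HQ (R i))) (_ : K ∈ {K | Met V R i j K}) => K) K ⟨hK, h⟩)
    exact h2 h1
  · refine iSup₂_le fun K hK => ?_
    exact Layer.le_normalClosure (pCore_HQ (R i)) (fun a ha => A_sq b.toBT c.ne ha) hK.1.1 hK.2

theorem met_le_E (hoddC : OddC V R i j) {K : Subgroup (HQ (R i))} (hK : Met V R i j K) :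
    K ≤ normalClosure (AA V R i j : Set (HQ (R i))) := by
  rw [E_eq b hF c τ hodd hUD I hinn hoddC]
  exact le_iSup₂ (f := fun (K : Subgroup (HQ (R i))) (_ : K ∈ {K | Met V R i j K}) => K) K hK

/-- **`E = ⟨A^E⟩`** -/
theorem E_gen (hoddC : OddC V R i j) {L : Subgroup (HQ (R i))} (hAL : AA V R i j ≤ L)
    (hn : ∀ g ∈ normalClosure (AA V R i j : Set (HQ (R i))), ∀ l ∈ L, g * l * g⁻¹ ∈ L) :
    normalClosure (AA V R i j : Set (HQ (R i))) ≤ L := by
  rw [E_eq b hF c τ hodd hUD I hinn hoddC]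
  refine iSup₂_le fun K hK => ?_
  obtain ⟨x, hxA, hxK, hx⟩ := Met.not_cen b.toBT c.ne hK
  exact comp_le hK.1.1 (fun g hg l hl => hn g (met_le_E b hF c τ hodd hUD I hinn hoddC hK hg) l hl)
    (hAL hxA) hxK hx

/-- `E` is perfect -/
theorem E_perf (hoddC : OddC V R i j) :
    ⁅normalClosure (AA V R i j : Set (HQ (R i))), normalClosure (AA V R i j : Set (HQ (R i)))⁆ =
      normalClosure (AA V R i j : Set (HQ (R i))) := by
  apply le_antisymm
  · exact commutator_le_left _ _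
  · conv_lhs => rw [E_eq b hF c τ hodd hUD I hinn hoddC]
    refine iSup₂_le fun K hK => ?_
    have h1 := met_le_E b hF c τ hodd hUD I hinn hoddC hK
    calc K = ⁅K, K⁆ := (comp_perf hK.1.1).symm
      _ ≤ _ := commutator_mono h1 h1

end E

end Cfsg.Agent.Omega.HOneQ.ECen

end

section


/-!
# `SylI` from a 2-subgroup `T₁` of `N(V) ∩ N(R i)` which is Sylow in `N(R i)` (no Sylow group of `G`)

`TSyl V R i T₁` : `T₁` is a 2-subgroup of `N(V) ∩ N(R i)` of odd index in `N(R i)`.  `sylI_of` : then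
`SS R i T₁ = (T₁ ∩ C(R i))/O₂(N(R i))` satisfies `ECen.SylI`.  Also `QQ_le`, `W_le`, `Y_le`, `exists_P`.
-/

set_option autoImplicit false
set_option linter.unusedSectionVars false

namespace Cfsg.Agent.Omega.HOneQ.SylIOf

open Subgroup Cfsg Cfsg.Agent.Omega.BTwo Cfsg.Agent.Omega.Lie Cfsg.Agent.Omega.Lie.Quot
open Cfsg.Agent.Omega.HOneQ.ECen (SylI)

universe u v w

variable {G : Type u} [Group G] {ι : Type w} {V : Subgroup G} {R : ι → Subgroup G} {i j : ι}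
  {F : Type v} [Field F] {vv : F → F → G} {w1 w2 t : F → G} {T₁ : Subgroup G}

/-- `T₁` is a 2-subgroup of `N(V) ∩ N(R i)` of odd index in `N(R i)` -/
structure TSyl (V : Subgroup G) (R : ι → Subgroup G) (i : ι) (T₁ : Subgroup G) : Prop where
  p2 : IsPGroup 2 T₁
  leV : T₁ ≤ normalizer (V : Set G)
  leR : T₁ ≤ normalizer (R i : Set G)
  odd : Odd (T₁.relIndex (normalizer (R i : Set G)))

theorem TSyl.of_sylow [Finite G] (S₁ : Sylow 2 G) (hV : (S₁ : Subgroup G) ≤ normalizer (V : Set G))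
    (hR : (S₁ : Subgroup G) ≤ normalizer (R i : Set G)) : TSyl V R i (S₁ : Subgroup G) where
  p2 := S₁.isPGroup'
  leV := hV
  leR := hR
  odd := by
    have hf : Fact (Nat.Prime 2) := ⟨Nat.prime_two⟩
    have h1 := (S₁.subtype hR).not_dvd_index
    rw [← even_iff_two_dvd, Nat.not_even_iff_odd] at h1
    exact h1

namespace TSyl

variable (h : TSyl V R i T₁)
include h

/-- `T₁` as a Sylow 2-subgroup of `N(R i)` -/
theorem exists_sylow [Finite G] : ∃ P : Sylow 2 (normalizer (R i : Set G)),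
    (P : Subgroup (normalizer (R i : Set G))) = T₁.subgroupOf (normalizer (R i : Set G)) := by
  have hf : Fact (Nat.Prime 2) := ⟨Nat.prime_two⟩
  have h1 : IsPGroup 2 (T₁.subgroupOf (normalizer (R i : Set G))) :=
    h.p2.comap_of_injective _ (Subgroup.subtype_injective _)
  have h2 : ¬ 2 ∣ (T₁.subgroupOf (normalizer (R i : Set G))).index := by
    rw [← even_iff_two_dvd, Nat.not_even_iff_odd]
    exact h.odd
  exact ⟨h1.toSylow h2, rfl⟩

theorem QQ_le [Finite G] : QQ (R i) ≤ T₁ := by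
  obtain ⟨P, hP⟩ := h.exists_sylow
  rintro _ ⟨x, hx, rfl⟩
  have h1 : x ∈ (P : Subgroup (normalizer (R i : Set G))) := Lib.Cores.pCore_le_sylow P hx
  rw [hP] at h1
  exact h1

theorem W_le [Finite G] (b : BT V R) : WW V (R i) ≤ T₁ := (b.W_le_Q i).trans h.QQ_le

/-- a 2-subgroup of `N(R i)` containing `T₁` is `T₁` -/
theorem eq_of_le [Finite G] {Q : Subgroup G} (hQ : Q ≤ normalizer (R i : Set G)) (h2 : IsPGroup 2 Q)
    (hle : T₁ ≤ Q) : Q ≤ T₁ := by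
  obtain ⟨P, hP⟩ := h.exists_sylow
  have h3 := P.is_maximal' (Q := Q.subgroupOf (normalizer (R i : Set G)))
    (h2.comap_of_injective _ (Subgroup.subtype_injective _)) (by
      rw [hP]
      intro x hx
      exact mem_subgroupOf.2 (hle (mem_subgroupOf.1 hx)))
  intro x hx
  have h4 : (⟨x, hQ hx⟩ : normalizer (R i : Set G)) ∈ Q.subgroupOf (normalizer (R i : Set G)) :=
    mem_subgroupOf.2 hx
  rw [h3, hP] at h4
  exact mem_subgroupOf.1 h4

theorem Y_le [Finite G] (b : BT V R) : YY V R ≤ T₁ := by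
  have hN : T₁ ≤ normalizer (YY V R : Set G) := h.leV.trans b.NV_le_NY
  have h1 : IsPGroup 2 (T₁ ⊔ YY V R : Subgroup G) := h.p2.to_sup_of_normal_right' (Y_isPGroup b) hN
  exact le_sup_right.trans (h.eq_of_le (sup_le h.leR (YY_le_cen.trans (b.cen_le_N i))) h1 le_sup_left)

theorem A_le [Finite G] (b : BT V R) (j : ι) : AA V R i j ≤ SS R i T₁ := by
  refine im_mono (le_inf ((UU_le_YY j).trans (h.Y_le b)) ?_)
  exact (UU_le_cen j).trans (centralizer_le (b.R_le i))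

/-- `T₁ ⊓ C(R i) = (T₁ ⊓ C(V)) W i` -/
theorem S_eq [Finite G] (b : BT V R) (C : Crd V R i j vv w1 w2) :
    T₁ ⊓ centralizer (R i : Set G) = (T₁ ⊓ centralizer (V : Set G)) ⊔ WW V (R i) := by
  have hWR : WW V (R i) ≤ centralizer (R i : Set G) := (b.W_le_Q i).trans (Q_le_C b i)
  apply le_antisymm
  · intro g hg
    obtain ⟨w, hw, hwg⟩ := cen_fact b C (P := T₁ ⊓ centralizer (R i : Set G))
      (h.p2.to_le inf_le_left) (inf_le_left.trans h.leV) inf_le_right (le_inf (h.W_le b) hWR) hg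
    have e : g = w⁻¹ * (w * g) := by group
    rw [e]
    refine mul_mem (mem_sup_right (inv_mem hw)) (mem_sup_left (mem_inf.2 ⟨?_, hwg⟩))
    exact mul_mem (h.W_le b hw) (mem_inf.1 hg).1
  · refine sup_le (inf_le_inf_left _ (centralizer_le (b.R_le i))) (le_inf (h.W_le b) hWR)

theorem S_eq_im [Finite G] (b : BT V R) (C : Crd V R i j vv w1 w2) :
    SS R i T₁ = im (R i) (T₁ ⊓ centralizer (V : Set G)) := by
  unfold SS
  rw [h.S_eq b C, im_sup (inf_le_right.trans (b.cen_le_N i)) (b.W_le_N i), im_eq_bot (b.W_le_Q i), sup_bot_eq]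

theorem ST_mem [Finite G] (b : BT V R) (τ : TorD V R i j vv t) (C : Crd V R i j vv w1 w2) (hij : i ≠ j)
    {x s : HQ (R i)} (hx : x ∈ TT τ) (hs : s ∈ SS R i T₁) : s⁻¹ * (x * s * x⁻¹) ∈ AA V R i j := by
  obtain ⟨a, ha, rfl⟩ := (mem_TT τ).1 hx
  obtain ⟨g, hg, hgS, rfl⟩ := mem_im.1 hs
  rw [h.S_eq b C] at hgS
  have hle : T₁ ⊓ centralizer (V : Set G) ⊔ WW V (R i) ≤ centralizer (V : Set G) ⊔ WW V (R i) :=
    sup_le (inf_le_right.trans le_sup_left) le_sup_right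
  have hgS' : g ∈ centralizer (V : Set G) ⊔ WW V (R i) := hle hgS
  have h1 := comm_X_sup b i (inv_mem hgS') (τ.memX a ha) (τ.normR ha)
  rw [Y_sup_W b hij] at h1
  have htN := τ.normR ha
  have e : (pr (R i) ⟨g, hg⟩)⁻¹ * (pr (R i) ⟨t a, htN⟩ * pr (R i) ⟨g, hg⟩ * (pr (R i) ⟨t a, htN⟩)⁻¹) =
      pr (R i) ⟨g⁻¹ * t a * g⁻¹⁻¹ * (t a)⁻¹, mul_mem (mul_mem (mul_mem (inv_mem hg) htN) (inv_mem (inv_mem hg)))
        (inv_mem htN)⟩ := by
    have e1 : (⟨g⁻¹ * t a * g⁻¹⁻¹ * (t a)⁻¹, mul_mem (mul_mem (mul_mem (inv_mem hg) htN) (inv_mem (inv_mem hg)))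
        (inv_mem htN)⟩ : ↥(normalizer (R i : Set G))) = (⟨g, hg⟩)⁻¹ * (⟨t a, htN⟩ * ⟨g, hg⟩ * (⟨t a, htN⟩)⁻¹) := by
      apply Subtype.ext
      change g⁻¹ * t a * g⁻¹⁻¹ * (t a)⁻¹ = g⁻¹ * (t a * g * (t a)⁻¹)
      group
    rw [e1]; rfl
  rw [e]
  have h2 : im (R i) (UU V R j ⊔ WW V (R i)) = AA V R i j := by
    rw [im_sup (U_le_N b i j) (b.W_le_N i), im_eq_bot (b.W_le_Q i), sup_bot_eq]
    rfl
  rw [← h2]
  exact pr_mem_im _ h1

/-- the image of `T₁` is a Sylow 2-subgroup of `HQ (R i)` -/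
theorem exists_P [Finite G] (b : BT V R) :
    ∃ P : Sylow 2 (HQ (R i)), (P : Subgroup (HQ (R i))) ⊓ H0 R i = SS R i T₁ := by
  have hf : Fact (Nat.Prime 2) := ⟨Nat.prime_two⟩
  obtain ⟨P₁, hP₁⟩ := h.exists_sylow
  refine ⟨P₁.mapSurjective (pr_surjective (R i)), ?_⟩
  have h1 : ((P₁.mapSurjective (pr_surjective (R i)) : Sylow 2 (HQ (R i))) : Subgroup (HQ (R i))) =
      im (R i) T₁ := by
    change (P₁ : Subgroup (normalizer (R i : Set G))).map (pr (R i)) = im (R i) T₁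
    rw [hP₁]
    rfl
  rw [h1]
  exact (im_inf h.QQ_le (Q_le_C b i)).symm

/-- `S ⊓ K` is a Sylow 2-subgroup of every subnormal subgroup `K ≤ H⁰` -/
theorem syl [Finite G] (b : BT V R) {K : Subgroup (HQ (R i))} (hK : K.IsSubnormal)
    (hK0 : K ≤ H0 R i) {P : Subgroup (HQ (R i))} (hPK : P ≤ K) (hP : IsPGroup 2 P) (hSP : SS R i T₁ ⊓ K ≤ P) :
    P ≤ SS R i T₁ := by
  obtain ⟨P₀, hP₀⟩ := h.exists_P b
  obtain ⟨Q, hQ⟩ := Cfsg.Agent.S0542.result 2 K hK P₀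
  have h1 : (Q : Subgroup K) ≤ P.subgroupOf K := by
    rw [hQ]
    intro x hx
    refine mem_subgroupOf.2 (hSP ?_)
    rw [← hP₀]
    exact ⟨⟨mem_subgroupOf.1 hx, hK0 x.2⟩, x.2⟩
  have h2 : P.subgroupOf K = Q := Q.is_maximal' (hP.comap_of_injective _ K.subtype_injective) h1
  intro x hx
  have h3 : (⟨x, hPK hx⟩ : K) ∈ (Q : Subgroup K) := by
    rw [← h2]
    exact mem_subgroupOf.2 hx
  rw [hQ] at h3
  rw [← hP₀]
  exact ⟨mem_subgroupOf.1 h3, hK0 (hPK hx)⟩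

/-- **`SylI`** -/
theorem sylI [Finite G] (b : BT V R) (τ : TorD V R i j vv t) (C : Crd V R i j vv w1 w2) (hij : i ≠ j) :
    SylI τ (SS R i T₁) where
  S2 := im_isPGroup (h.p2.to_le inf_le_left)
  AS := h.A_le b j
  rep s hs := by
    rw [h.S_eq_im b C] at hs
    obtain ⟨g, hg, hgS, e⟩ := mem_im.1 hs
    exact ⟨g, hg, (mem_inf.1 hgS).2, e⟩
  ST _ hx _ hs := h.ST_mem b τ C hij hx hs
  syl _ hK hK0 _ hPK hP hSP := h.syl b hK hK0 hPK hP hSP

end TSyl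

end Cfsg.Agent.Omega.HOneQ.SylIOf

end
end

-- part: Mrg/Omega/Lie/CubSQ
section
section


/-!
# (h1), SPLIT: the cubic module `M' = W i / Z(W i)` of `H = N(R i)/O₂(N(R i))`, `b : BTS V R`, `q ≥ 4`

`fdat`: `FDat` for `H⁰`, `A`, `T` on helper811's module `MZ`, `Fq`; `exists_cubS`: the structure `LQS.CubS`.
-/

set_option autoImplicit false
set_option linter.unusedSectionVars false

namespace Cfsg.Agent.Omega.Lie.CubSQ

open Subgroup Cfsg.Agent.Omega.BTwo Cfsg.Agent.Omega.Lie Cfsg.Agent.Omega.Lie.Quot Cfsg.Agent.Omega.Lie.LQS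
open Cfsg.Agent.Omega.HOne.ModZ

universe u v w

variable {G : Type u} [Group G] {ι : Type w} {V : Subgroup G} {R : ι → Subgroup G} {i j : ι} {M : Type u}
  [AddCommGroup M] [DistribMulAction (HQ (R i)) M] {p : G → M} {F : Type v} [Field F] {vv : F → F → G}
  {w1 w2 : F → G} {t : F → G}

section mz

variable (m : MZ V R i M p) (b : BT V R)
include m b

/-- `[p w, g] = p [w, g]` -/
theorem bra_p {g : G} (hg : g ∈ normalizer (R i : Set G)) {w : G} (hw : w ∈ WW V (R i)) :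
    bra (pr (R i) ⟨g, hg⟩) (p w) = p (w * g * w⁻¹ * g⁻¹) := by
  have h1 := conj_mem_of_normalizer (normalizer_le_WW V (R i) hg) hw
  have e : w * g * w⁻¹ * g⁻¹ = w * (g * w * g⁻¹)⁻¹ := by group
  unfold bra
  rw [e, m.p_mul _ hw _ (inv_mem h1), m.p_inv h1, m.p_act g hg w hw, add_comm]
  congr 1
  exact (neg_eq_of_add_eq_zero_left (m.two b _)).symm

theorem comm_W {g : G} (hg : g ∈ normalizer (R i : Set G)) {w : G} (hw : w ∈ WW V (R i)) :
    w * g * w⁻¹ * g⁻¹ ∈ WW V (R i) := by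
  have h1 := conj_mem_of_normalizer (normalizer_le_WW V (R i) hg) hw
  have e : w * g * w⁻¹ * g⁻¹ = w * (g * w * g⁻¹)⁻¹ := by group
  rw [e]
  exact mul_mem hw (inv_mem h1)

end mz

variable [Module F M] {f : M →ₗ[F] M →ₗ[F] F} {e : F →ₗ[F] M} {ω : M →ₗ[F] F} {σ : HQ (R i) →* RingAut F}
  {κ : HQ (R i) → F}

section fq

variable (d : Fq V R i vv M p f e ω σ κ) (c : Coord V R i j vv w1 w2)
include d c

/-- `H⁰` acts linearly -/
theorem H0_one {h : HQ (R i)} (hh : h ∈ H0 R i) : κ h = 1 ∧ ∀ a, σ h a = a := by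
  obtain ⟨g, hg, hgC, rfl⟩ := mem_im.1 hh
  have key : ∀ β, κ (pr (R i) ⟨g, hg⟩) * σ (pr (R i) ⟨g, hg⟩) β = β := by
    intro β
    have h1 := d.R_act g hg β
    have h2 := mem_centralizer_iff.1 hgC _ ((c.mem_R1 _).2 ⟨β, rfl⟩)
    rw [← h2, mul_inv_cancel_right] at h1
    exact (c.v_inj h1).1.symm
  have h1 : κ (pr (R i) ⟨g, hg⟩) = 1 := by
    have := key 1
    rwa [map_one, mul_one] at this
  refine ⟨h1, fun a => ?_⟩
  have := key a
  rwa [h1, one_mul] at this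

theorem lin {h : HQ (R i)} (hh : h ∈ H0 R i) (a : F) (x : M) : h • (a • x) = a • (h • x) := by
  rw [d.semi, (H0_one d c hh).2]

theorem act {h : HQ (R i)} (hh : h ∈ H0 R i) (x y : M) : f (h • x) (h • y) = f x y := by
  rw [d.act, (H0_one d c hh).1, (H0_one d c hh).2, one_mul]

theorem ω_U (b : BT V R) {w : G} (hw : w ∈ WW V (R i)) : ω (p w) = 0 ↔ w ∈ UU V R i := by
  have _ := b
  constructor
  · intro h
    refine mem_inf.2 ⟨hw, ?_⟩
    rw [mem_centralizer_iff]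
    intro z hz
    obtain ⟨β, γ, rfl⟩ := (c.mem_V z).1 hz
    have h1 := d.ω_eq w hw β γ
    rw [h, zero_mul, add_zero, mul_inv_eq_iff_eq_mul] at h1
    exact h1.symm
  · intro h
    have h1 := d.ω_eq w hw 0 1
    rw [← mem_centralizer_iff.1 (UU_le_cen i h) _ (c.v_mem 0 1), mul_inv_cancel_right] at h1
    have h2 := (c.v_inj h1).1
    rw [zero_add, mul_one] at h2
    exact h2.symm

theorem ω_w1 : ω (p (w1 1)) = 1 := by
  have h1 := d.ω_eq _ (c.w1_mem 1) 0 1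
  rw [c.w1_act] at h1
  have h2 := (c.v_inj h1).1
  rw [zero_add, zero_add, mul_one, mul_one] at h2
  exact h2.symm

/-- elements of `V` -/
theorem p_V {x : G} (hx : x ∈ V) : ∃ γ, p x = e γ := by
  obtain ⟨β, γ, rfl⟩ := (c.mem_V x).1 hx
  exact ⟨γ, d.e_eq β γ⟩

/-- elements of `W i` which are in `Z(W i)` modulo `V` -/
theorem p_VZ {x y : G} (hx : x ∈ V) (hyW : y ∈ WW V (R i)) (hy : x * y ∈ ZZ V R i) : ∃ γ, p y = e γ := by
  obtain ⟨γ, hγ⟩ := p_V d c (inv_mem hx)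
  refine ⟨γ, ?_⟩
  rw [← hγ]
  have hxW := V_le_WW V (R i) hx
  have h1 := (d.p_ker _ (mul_mem hxW hyW)).2 hy
  rw [d.p_mul _ hxW _ hyW] at h1
  rw [d.p_inv hxW]
  exact (neg_eq_of_add_eq_zero_right h1).symm

/-- **the data** -/
theorem fdat [Finite G] [CharP F 2] (b : BTS V R) (hF : ∃ a : F, a ≠ 0 ∧ a ≠ 1) (τ : TorD V R i j vv t)
    (hidx : Odd ((normalizer (V : Set G)).relIndex (normalizer (R i : Set G)))) :
    FDat (H0 R i) (AA V R i j) (TT τ) (d.toMZ.sb (DD V R)) f e ω where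
  two := d.two b.toBT
  fe := d.fe
  symm := d.symm
  nd := d.nd
  ω1 := ⟨_, ω_w1 d c⟩
  AL := Layer.A_le_H0 b.toBT
  lin h hh a x := lin d c hh a x
  act h hh x y := act d c hh x y
  sq a ha := A_sq b.toBT c.ne ha
  TA t ht a ha := TA_mem b.toBT τ ht ha
  Ae a ha γ := by
    obtain ⟨u, hu, rfl⟩ := (mem_AA b.toBT).1 ha
    rw [← d.e_eq 0 γ, d.p_act _ _ _ (V_le_WW V (R i) (c.v_mem 0 γ)),
      ← mem_centralizer_iff.1 (UU_le_cen j hu) _ (c.v_mem 0 γ), mul_inv_cancel_right]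
  eD γ := by
    rw [← d.e_eq 0 γ]
    exact d.toMZ.p_mem (V_le_WW V (R i) (c.v_mem 0 γ)) (V_le_D V R (c.v_mem 0 γ))
  DP x hx := by
    obtain ⟨y, hy, hyW, rfl⟩ := hx
    exact (ω_U d c b.toBT hyW).2 (b.D_le_U i hy)
  AD a ha x hx := by
    obtain ⟨u, hu, rfl⟩ := (mem_AA b.toBT).1 ha
    obtain ⟨y, hy, hyW, rfl⟩ := hx
    rw [bra_p d.toMZ b.toBT _ hyW]
    exact p_V d c (b.R_le j (b.DU hy hu))
  AP a ha x hx := by
    obtain ⟨u, hu, rfl⟩ := (mem_AA b.toBT).1 ha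
    obtain ⟨y, hyW, rfl⟩ := d.p_surj x
    have hyU := (ω_U d c b.toBT hyW).1 hx
    rw [bra_p d.toMZ b.toBT _ hyW]
    have h1 := b.Y_comm (UU_le_YY i hyU) (UU_le_YY j hu)
    exact d.toMZ.p_mem (D_le_W V R i h1) h1
  Te s hs := by
    obtain ⟨a, ha, rfl⟩ := (mem_TT τ).1 hs
    refine ⟨a⁻¹, inv_ne_zero ha, fun γ => ?_⟩
    rw [← d.e_eq 0 γ, d.p_act _ _ _ (V_le_WW V (R i) (c.v_mem 0 γ)), τ.act _ _ _ ha, d.e_eq]
  TD s hs x hx := by
    obtain ⟨a, ha, rfl⟩ := (mem_TT τ).1 hs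
    obtain ⟨y, hy, hyW, rfl⟩ := hx
    rw [bra_p d.toMZ b.toBT _ hyW]
    have h1 := b.XD (τ.memX a ha) hy
    have e1 : y * t a * y⁻¹ * (t a)⁻¹ = (t a * y * (t a)⁻¹ * y⁻¹)⁻¹ := by group
    rw [e1]
    exact p_V d c (inv_mem h1)
  l0 a ha s hs x := by
    obtain ⟨u, hu, rfl⟩ := (mem_AA b.toBT).1 ha
    obtain ⟨α, hα, rfl⟩ := (mem_TT τ).1 hs
    obtain ⟨w, hw, rfl⟩ := d.p_surj x
    have hN := U_le_N b.toBT i j hu
    have ht := τ.normR hα
    have hu' := t_norm_U b.toBT τ hα hu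
    have hN' := U_le_N b.toBT i j hu'
    have e1 : pr (R i) ⟨t α, ht⟩ * pr (R i) ⟨u, hN⟩ * (pr (R i) ⟨t α, ht⟩)⁻¹ = pr (R i) ⟨_, hN'⟩ := rfl
    have hcW := comm_W d.toMZ b.toBT hN hw
    rw [e1, bra_p d.toMZ b.toBT hN hw, bra_p d.toMZ b.toBT hN' hcW]
    obtain ⟨-, y, hy, h4⟩ := ModQS.N0_T b hw hu (τ.memX α hα) (cj_eq_self_iff.2 (τ.normR hα))
      (cj_eq_self_iff.2 (τ.normR' hα))
    exact p_VZ d c hy (comm_W d.toMZ b.toBT hN' hcW) (LemNS.F0_le_ZZ i h4)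
  sub a ha ha1 γ := by
    obtain ⟨u, hu, rfl⟩ := (mem_AA b.toBT).1 ha
    have hD : u ∉ DD V R := fun hD => ha1 ((pr_eq_one _).2 ((U_inf_Q b.toBT c.ne hu).2 hD))
    obtain ⟨w, hw, ζ, hζ, h⟩ := LemNS.lemNS b hF c τ hidx hu hD (c.v_mem 0 γ)
    refine ⟨p w, ?_⟩
    rw [bra_p d.toMZ b.toBT _ hw, ← d.e_eq 0 γ, h,
      d.p_mul _ (comm_W d.toMZ b.toBT (U_le_N b.toBT i j hu) hw) _ hζ.1, (d.p_ker _ hζ.1).2 hζ, add_zero]
  gen x hx y hy := by
    obtain ⟨w, hw, rfl⟩ := d.p_surj x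
    obtain ⟨z, hz, rfl⟩ := d.p_surj y
    have hwU : w ∉ UU V R i := fun h => hx ((ω_U d c b.toBT hw).2 h)
    have hzU := (ω_U d c b.toBT hz).1 hy
    obtain ⟨u, hu, huD⟩ := b.surj (Ne.symm c.ne) hw hwU hzU
    have huN := U_le_N b.toBT i j hu
    refine ⟨pr (R i) ⟨u, huN⟩, (mem_AA b.toBT).2 ⟨u, hu, rfl⟩, ?_⟩
    have hcW := comm_W d.toMZ b.toBT huN hw
    rw [bra_p d.toMZ b.toBT huN hw]
    have h1 : p z + p (w * u * w⁻¹ * u⁻¹) = p ((w * u * w⁻¹ * u⁻¹)⁻¹ * z) := by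
      rw [d.p_mul _ (inv_mem hcW) _ hz, d.p_inv hcW, neg_eq_of_add_eq_zero_left (d.two b.toBT (p _)), add_comm]
    rw [h1]
    exact d.toMZ.p_mem (mul_mem (inv_mem hcW) hz) huD
  ker0 x hx h := by
    obtain ⟨y, hy, hyW, rfl⟩ := hx
    obtain ⟨z, hz, h4⟩ := b.cen_DU (i := j) hy fun u hu => by
      have huN := U_le_N b.toBT i j hu
      have h1 := h _ ((mem_AA b.toBT).2 ⟨u, hu, rfl⟩)
      have h2 : bra (pr (R i) ⟨u, huN⟩) (p y) = 0 := by
        unfold bra; rw [h1, d.two b.toBT]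
      rw [bra_p d.toMZ b.toBT huN hyW] at h2
      have h3 := b.DU hy hu
      obtain ⟨γ, hγ⟩ := (c.mem_R2 _).1 h3
      rw [← hγ, d.e_eq] at h2
      have hγ0 : γ = 0 := by
        have h5 := d.fe (p (w1 1)) γ
        rw [h2, map_zero, ω_w1 d c, one_mul] at h5
        exact h5.symm
      rw [hγ0, c.v_zero] at hγ
      have h6 : y * u * y⁻¹ * u⁻¹ = 1 := hγ.symm
      rw [mul_inv_eq_one, mul_inv_eq_iff_eq_mul] at h6
      exact h6
    exact p_VZ d c hz hyW (LemNS.F0_le_ZZ i h4)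

end fq

/-- **`CubS` for `H = N(R i) / O₂(N(R i))`, `b : BTS V R`** -/
theorem exists_cubS [Finite G] [Finite F] [CharP F 2] (b : BTS V R) (hq : 4 ≤ Nat.card F)
    (c : Coord V R i j vv w1 w2) (τ : TorD V R i j vv t)
    (hidx : Odd ((normalizer (V : Set G)).relIndex (normalizer (R i : Set G)))) :
    ∃ (M : Type u) (_ : CommGroup M) (_ : Finite M) (ρ : HQ (R i) →* MulAut M) (e D P : Subgroup M),
      CubS ρ (H0 R i) (AA V R i j) (TT τ) e D P ∧ Nat.card e ≤ Nat.card (TT τ) + 1 := by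
  have hF := CubQ.exists_ne' hq
  obtain ⟨M, _, _, p, m⟩ := exists_MZ b.toBT i
  obtain ⟨_, f, e, ω, σ, κ, d⟩ := m.exists_fq hF b.toBT c τ
  have D := fdat d c b hF τ hidx
  have hT := card_T b.toBT τ
  have hfin := m.finite_M
  exact ⟨Multiplicative M, inferInstance, inferInstanceAs (Finite M), mrho _ M, D.eS, D.dS, D.pS, D.cubS hT,
    D.card_eS hT⟩

end Cfsg.Agent.Omega.Lie.CubSQ

end

section


/-!
# (h1), SPLIT: the component theorem in `H = N(R i)/O₂(N(R i))`, over `BTS V R` (`C_D(X) ≠ 1` allowed), `q ≥ 4`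

For a component `K ≤ H⁰` of `H`, `K / Z(K)` known, with `[K, A] ≠ 1`: `hyp`: `CompB.Hyp` holds (so `T` normalises `K`, `A` is
inner on `K`) and `K / Z(K)` is of Lie type in characteristic 2.  `innC`, `oddC`; `A_le_iSup`: `A ≤ ∏ (A ⊓ K)`; `perf`.
-/

set_option autoImplicit false
set_option linter.unusedSectionVars false

namespace Cfsg.Agent.Omega.Lie.LayerS

open Subgroup Cfsg Cfsg.Agent.Omega.BTwo Cfsg.Agent.Omega.Lie Cfsg.Agent.Omega.Lie.Quot
open Cfsg.Agent.Omega.Lie.CompB Cfsg.Agent.Omega.Lie.CompT Cfsg.Agent.Omega.Lie.Layer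
open Cfsg.Agent.Omega.Lie.OutT Cfsg.Agent.Omega.KFacts Cfsg.Agent.Omega.Lie.LayerMain
open Cfsg.Agent.Omega.Lie.LQS

universe u v w

/-- **TEXT LIE-2** for `CubS`: no component with `[K, A] ≠ 1` and `K / Z(K)` in `OutZS`. -/
theorem false_of_outZS {H : Type u} {M : Type v} [Group H] [CommGroup M] [Finite H] [Finite M]
    {ρ : H →* MulAut M} {L A T : Subgroup H} {e D P : Subgroup M} (c : CubS ρ L A T e D P) (sc : Scal A T)
    (hT : 3 ≤ Nat.card T) {S K : Subgroup H} (h : CompB.Hyp S A T K) (hK : Cfsg.IsQuasisimple K) (hKL : K ≤ L)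
    (hne : ∃ a ∈ A, ∃ x ∈ K, a * x ≠ x * a) (hO : OutZS (K ⧸ center K)) : False := by
  obtain ⟨j, hj, h1, h2, h3⟩ := LQRows.data hO
  have hZ := LQ.odd_card_center h.zodd
  exact c.false_of_pair sc hT h hK hKL hne hj (LQRows.card_le_of_not_dvd h.S2 hZ h1) (LQ.Pair.of_quot hZ h2)
    (LQ.NoAct.of_ord hK h3)

variable {G : Type u} [Group G] [Finite G] {ι : Type w} {V : Subgroup G} {R : ι → Subgroup G} {F : Type v} [Field F]
  [Finite F] [CharP F 2] {i j : ι} {vv : F → F → G} {t : F → G} {w1 w2 : F → G}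

theorem zs_false (b : BTS V R) (c : Coord V R i j vv w1 w2) (τ : TorD V R i j vv t)
    (hidx : Odd ((normalizer (V : Set G)).relIndex (normalizer (R i : Set G)))) (hF : 4 ≤ Nat.card F)
    {S K : Subgroup (HQ (R i))} (h : CompB.Hyp S (AA V R i j) (TT τ) K) (hK : IsQuasisimple K) (hK0 : K ≤ H0 R i)
    (hne : ∃ a ∈ AA V R i j, ∃ x ∈ K, a * x ≠ x * a) (hO : OutZS (K ⧸ center K)) : False := by
  obtain ⟨M, _, _, ρ, e, D, P, C, -⟩ := CubSQ.exists_cubS b hF c τ hidx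
  have hT := card_T b.toBT τ
  exact false_of_outZS C (scal b.toBT τ c.ne) (by omega) h hK hK0 hne hO

end Cfsg.Agent.Omega.Lie.LayerS

end

section


/-!
# (h1), SPLIT: the component theorem in `H = N(R i)/O₂(N(R i))`, over `BTS V R` and `SylI τ S` (no Sylow group of `G`)

As `LayerS.lean`, but the Sylow 2-subgroup `S` of `H⁰` is given by `ECen.SylI τ S`.

* `sit`: `ExoComp.Sit (H0 R i) S (AA V R i j) (TT τ)`;
* `hyp`: for a component `K ≤ H⁰`, `K / Z(K)` known, `[K, A] ≠ 1`: `CompB.Hyp S A T K` and `K / Z(K)` of Lie type in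
  characteristic 2; `innC`, `A_le_iSup`, `perf`.
-/

set_option autoImplicit false
set_option linter.unusedSectionVars false

namespace Cfsg.Agent.Omega.Lie.LayerSI

open Subgroup Cfsg Cfsg.Agent.Omega.BTwo Cfsg.Agent.Omega.Lie Cfsg.Agent.Omega.Lie.Quot
open Cfsg.Agent.Omega.Lie.CompB Cfsg.Agent.Omega.Lie.CompT Cfsg.Agent.Omega.Lie.Layer
open Cfsg.Agent.Omega.Lie.OutT Cfsg.Agent.Omega.KFacts Cfsg.Agent.Omega.Lie.LayerMain Cfsg.Agent.Omega.Lie.InvFiveAll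
open Cfsg.Agent.Omega.Lie.LQS
open Cfsg.Agent.Omega.HOneQ.ECen (SylI)

universe u v w

variable {G : Type u} [Group G] {ι : Type w} {V : Subgroup G} {R : ι → Subgroup G} {F : Type v} [Field F]
  {i j : ι} {vv : F → F → G} {t : F → G} {w1 w2 : F → G}

theorem S_le_H0 (b : BT V R) {τ : TorD V R i j vv t} {S : Subgroup (HQ (R i))} (I : SylI τ S) : S ≤ H0 R i := by
  intro s hs
  obtain ⟨g, hg, hgV, rfl⟩ := I.rep s hs
  exact mem_im.2 ⟨g, hg, centralizer_le (b.R_le i) hgV, rfl⟩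

/-- **`ExoComp.Sit` from `SylI`** -/
theorem sit [Finite G] [Finite F] [CharP F 2] (b : BT V R) {τ : TorD V R i j vv t} (hij : i ≠ j)
    (hF : 4 ≤ Nat.card F) {S : Subgroup (HQ (R i))} (I : SylI τ S) :
    ExoComp.Sit (H0 R i) S (AA V R i j) (TT τ) where
  normal := ExoBT.H0_normal R i
  syl := by
    refine ⟨S_le_H0 b I, I.S2, fun P hSP hP0 hP => le_antisymm ?_ hSP⟩
    have := ExoBT.H0_normal R i
    exact I.syl (H0 R i) (Subgroup.Normal.isSubnormal this) le_rfl P hP0 hP (inf_le_left.trans hSP)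
  AS := I.AS
  scal := scal b τ hij
  SA s hs a ha := by
    obtain ⟨g, hg, hgV, rfl⟩ := I.rep s hs
    obtain ⟨u, hu, rfl⟩ := (mem_AA b).1 ha
    exact (mem_AA b).2 ⟨_, conj_mem_of_normalizer (b.cen_le_NU j hgV) hu, rfl⟩
  TS x hx s hs := by
    have h1 := mul_mem hs (I.AS (I.ST x hx s hs))
    rwa [mul_inv_cancel_left] at h1
  ST s hs x hx := I.ST x hx s hs
  odd := by
    have h1 := card_T b τ
    have h2 : 2 ∣ Nat.card F := by
      have := Fintype.ofFinite F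
      have h3 : (Fintype.card F : F) = 0 := Nat.cast_card_eq_zero F
      rw [Nat.card_eq_fintype_card]
      exact (CharP.cast_eq_zero_iff F 2 _).1 h3
    rw [← Nat.not_even_iff_odd, even_iff_two_dvd]
    intro h3
    have h4 : 2 ∣ Nat.card (TT τ) + 1 := h1 ▸ h2
    have h5 := (Nat.dvd_add_right h3).1 h4
    omega
  three := by
    have := card_T b τ
    omega

variable [Finite G] [Finite F] [CharP F 2]

/-- (INV5) in the exceptional case -/
theorem invFive (W : WalterThm.{u}) (b : BT V R) {τ : TorD V R i j vv t} (hij : i ≠ j) (hF : 4 ≤ Nat.card F)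
    {S : Subgroup (HQ (R i))} (I : SylI τ S) {K : Subgroup (HQ (R i))} (hK : IsComponent K)
    (hK0 : K ≤ H0 R i) (h2 : 2 ∣ Nat.card K) (h3 : Three (AA V R i j) (TT τ) K (S ⊓ K)) :
    InvFive.InvFive K := by
  have hsyl := (sit b hij hF I).sylK hK.1 hK0
  obtain ⟨P, hP⟩ := hsyl.exists_sylow
  refine InvFiveAll.of_quasisimple W hK.2 (ExoComp.odd_center (pCore_HQ (R i)) hK) h2 P fun x hx y hy => ?_
  have hx' : (x : HQ (R i)) ∈ S ⊓ K := by rw [← hP]; exact ⟨x, hx, rfl⟩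
  have hy' : (y : HQ (R i)) ∈ S ⊓ K := by rw [← hP]; exact ⟨y, hy, rfl⟩
  exact Subtype.ext (h3.ab x hx' y hy')

/-- (T2): the exceptional case is impossible. -/
theorem three_false (b : BTS V R) (c : Coord V R i j vv w1 w2) (τ : TorD V R i j vv t)
    (hidx : Odd ((normalizer (V : Set G)).relIndex (normalizer (R i : Set G))))
    (hF : 4 ≤ Nat.card F) {S : Subgroup (HQ (R i))} (I : SylI τ S) {K : Subgroup (HQ (R i))} (hK : IsComponent K)
    (hK0 : K ≤ H0 R i) (h3 : Three (AA V R i j) (TT τ) K (S ⊓ K)) (h5 : InvFive.InvFive K) : False := by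
  have hsyl := (sit b.toBT c.ne hF I).sylK hK.1 hK0
  obtain ⟨M, _, _, ρ, e, D, P, C, he⟩ := CubSQ.exists_cubS b hF c τ hidx
  refine C.three_false he hK.2 hK0 (fun z hz hc hz2 => ?_) I.S2 (fun Q hQK hQ2 hSQ => ?_) h3 h5
  · exact LQ.eq_one_of_sq_odd (ExoComp.Sit.zodd (pCore_HQ (R i)) hK z hz hc) hz2
  · rw [hsyl.2.2 Q hSQ hQK hQ2]
    exact inf_le_left

/-- **The components `K ≤ H⁰` with `[K, A] ≠ 1`**: `CompB.Hyp`, and `K / Z(K)` is of Lie type in characteristic 2. -/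
theorem hyp (KR : KRows.{u}) (b : BTS V R) (c : Coord V R i j vv w1 w2) (τ : TorD V R i j vv t)
    (hidx : Odd ((normalizer (V : Set G)).relIndex (normalizer (R i : Set G))))
    (hF : 4 ≤ Nat.card F) {S : Subgroup (HQ (R i))} (I : SylI τ S) {K : Subgroup (HQ (R i))} (hK : IsComponent K)
    (hK0 : K ≤ H0 R i) (hk : IsKnownSimple' (K ⧸ center K)) (hne : ∃ a ∈ AA V R i j, ∃ k ∈ K, a * k ≠ k * a) :
    Hyp S (AA V R i j) (TT τ) K ∧ IsLieTypeChar 2 (K ⧸ center K) := by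
  have h2 := two_dvd KR.odd hK.2
  have s := sit b.toBT c.ne hF I
  rcases s.exo_rows KR.zs (pCore_HQ _) hK hK0 h2 hk hne with ⟨-, h1, h4⟩ | h
  · have h5 := OutT.hyp h1 s.odd hK (KR.out _ h4)
    exact ⟨h5, h4.resolve_right (fun hZ => LayerS.zs_false b c τ hidx hF h5 hK.2 hK0 hne hZ)⟩
  · exact (three_false b c τ hidx hF I hK hK0 h (invFive KR.walter b.toBT c.ne hF I hK hK0 h2 h)).elim

end Cfsg.Agent.Omega.Lie.LayerSI

end

section


/-!
# LAYER over `BTS V R` and `SylI τ S` (no Sylow group of `G`)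

`lay` : `Lay V R i j (TT τ) S` from the K-facts `KRows` for `b : BTS V R`, `I : SylI τ S`.
`known` : the components of `N(R i)/O₂(N(R i))` are known if all proper subgroups have known simple sections.
-/

set_option autoImplicit false
set_option linter.unusedSectionVars false

namespace Cfsg.Agent.Omega.HOneQ.LayI

open Subgroup Cfsg Cfsg.Agent.Omega.BTwo Cfsg.Agent.Omega.Lie Cfsg.Agent.Omega.Lie.Quot
open Cfsg.Agent.Omega.Lie.LayerMain (KRows)
open Cfsg.Agent.Omega.HOneQ.ECen (SylI)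
open Cfsg.Agent.Omega.IIa4 (Lay)

universe u v w

variable {G : Type u} [Group G] [Finite G] {ι : Type w} {V : Subgroup G} {R : ι → Subgroup G} {F : Type v} [Field F]
  [Finite F] [CharP F 2] {i j : ι} {vv : F → F → G} {t : F → G} {w1 w2 : F → G}

/-- **LAYER** at `(i, j)`. -/
theorem lay (KR : KRows.{u}) (b : BTS V R) (c : Coord V R i j vv w1 w2) (τ : TorD V R i j vv t)
    (hidx : Odd ((normalizer (V : Set G)).relIndex (normalizer (R i : Set G))))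
    (hF : 4 ≤ Nat.card F) {S : Subgroup (HQ (R i))} (I : SylI τ S)
    (hk : ∀ K : Subgroup (HQ (R i)), IsComponent K → K ≤ H0 R i → IsKnownSimple' (K ⧸ center K)) :
    Lay V R i j (TT τ) S where
  odd := OddAllS.oddC b c τ hidx hF
  hyp K hK := (LayerSI.hyp KR b c τ hidx hF I hK.1 hK.2.1 (hk K hK.1 hK.2.1) hK.2.2).1
  lie K hK := (LayerSI.hyp KR b c τ hidx hF I hK.1 hK.2.1 (hk K hK.1 hK.2.1) hK.2.2).2

theorem normalizer_ne_top (b : BT V R) (hs : IsSimpleGroup G) (hnc : ¬ IsMulCommutative G) (i : ι) :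
    normalizer (R i : Set G) ≠ ⊤ := by
  intro h1
  have h2 : (R i).Normal := normalizer_eq_top_iff.mp h1
  have h3 : R i = ⊤ := h2.eq_bot_or_eq_top.resolve_left (b.R_ne i)
  have h4 : V = ⊤ := top_le_iff.1 (h3 ▸ b.R_le i)
  exact hnc ⟨⟨fun x y => b.V_comm x (h4 ▸ mem_top x) y (h4 ▸ mem_top y)⟩⟩

end Cfsg.Agent.Omega.HOneQ.LayI

end

section


/-!
# LEMMA NE: `N_H(e') = N_H(e)` (II.0h1 split, `q ≥ 4`; replaces (5.2), (5.3)), abstract form

`H` acts on `M`, `e`, `rad` subgroups of `M`, `e ∩ rad = 0`.  `Γ` normalises `e + rad`, `Γ₀ ⊴ Γ` is trivial on `(e + rad)/rad`,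
`S₀ ≤ Γ₀` of odd index fixes `e` pointwise; `A ≤ Γ₀`, `T ≤ Γ`, `T Γ₀ ⊴ Γ`, `e = [e, T]` and `C_rad(A) ≤ C_rad(T)`.
Then `Γ₀` fixes `e` pointwise and `Γ` normalises `e`.
-/

set_option autoImplicit false
set_option linter.unusedSectionVars false

namespace Cfsg.Agent.Omega.HOneQ.NormE

open Subgroup

variable {H : Type*} [Group H] {M : Type*} [AddCommGroup M] [DistribMulAction H M]

/-- averaging over the cosets of a subgroup of odd index -/
theorem exists_avg [Finite H] {K S : Subgroup H} (hodd : Odd (S.relIndex K)) (h2 : ∀ m : M, m + m = 0)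
    {x : M} (hx : ∀ s ∈ S, s • x = x) {L : AddSubgroup M} (hK : ∀ g ∈ K, g • x - x ∈ L) :
    ∃ y, (∀ g ∈ K, g • y = y) ∧ y - x ∈ L := by
  classical
  let Q := K ⧸ (S.subgroupOf K)
  have hfin : Fintype Q := Fintype.ofFinite Q
  let F : Q → M := fun q => Quotient.liftOn' q (fun g : K => (g : H) • x) (by
    intro a b hab
    rw [QuotientGroup.leftRel_apply] at hab
    have h1 := hx _ (mem_subgroupOf.1 hab)
    change ((a : H)⁻¹ * (b : H)) • x = x at h1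
    rw [mul_smul, inv_smul_eq_iff] at h1
    exact h1.symm)
  have hF : ∀ g : K, F (QuotientGroup.mk g) = (g : H) • x := fun g => rfl
  refine ⟨∑ q : Q, F q, fun g hg => ?_, ?_⟩
  · rw [Finset.smul_sum]
    have h1 : ∀ q : Q, g • F q = F ((⟨g, hg⟩ : K) • q) := by
      intro q
      induction q using QuotientGroup.induction_on with
      | H k =>
        rw [hF]
        change g • (k : H) • x = F (QuotientGroup.mk (⟨g, hg⟩ * k))
        rw [hF, smul_smul]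
        rfl
    rw [Finset.sum_congr rfl fun q _ => h1 q]
    exact Fintype.sum_bijective _ (MulAction.bijective (⟨g, hg⟩ : K)) _ _ fun q => rfl
  · have hcard : Fintype.card Q • x = x := by
      have h1 : Odd (Fintype.card Q) := by
        rw [← Nat.card_eq_fintype_card]
        exact hodd
      obtain ⟨k, hk⟩ := h1
      rw [hk, add_smul, one_smul, mul_comm, mul_smul, two_smul, h2, smul_zero, zero_add]
    have h3 : ∑ q : Q, F q - x = ∑ q : Q, (F q - x) := by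
      rw [Finset.sum_sub_distrib, Finset.sum_const, Finset.card_univ, hcard]
    rw [h3]
    refine L.sum_mem fun q _ => ?_
    induction q using QuotientGroup.induction_on with
    | H k => exact hK k k.2

/-- the data of LEMMA NE -/
structure Dat (A T Γ Γ₀ S₀ : Subgroup H) (e rad : AddSubgroup M) : Prop where
  two : ∀ m : M, m + m = 0
  disj : ∀ x ∈ e, x ∈ rad → x = 0
  inv : ∀ g ∈ Γ, ∀ x ∈ e, ∃ x' ∈ e, g • x - x' ∈ rad
  rad_inv : ∀ g ∈ Γ, ∀ x ∈ rad, g • x ∈ rad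
  le : Γ₀ ≤ Γ
  norm : ∀ g ∈ Γ, ∀ k ∈ Γ₀, g⁻¹ * k * g ∈ Γ₀
  triv : ∀ k ∈ Γ₀, ∀ x ∈ e, k • x - x ∈ rad
  S_le : S₀ ≤ Γ₀
  odd : Odd (S₀.relIndex Γ₀)
  Se : ∀ s ∈ S₀, ∀ x ∈ e, s • x = x
  A_le : A ≤ Γ₀
  Ae : ∀ a ∈ A, ∀ x ∈ e, a • x = x
  T_le : T ≤ Γ
  Te : ∀ t ∈ T, ∀ x ∈ e, t • x ∈ e
  TΓ : ∀ g ∈ Γ, ∀ t ∈ T, ∃ t' ∈ T, ∃ k ∈ Γ₀, g * t * g⁻¹ = t' * k
  fpf : e ≤ AddSubgroup.closure {y | ∃ t ∈ T, ∃ x ∈ e, y = t • x - x}
  cA : ∀ x ∈ rad, (∀ a ∈ A, a • x = x) → ∀ t ∈ T, t • x = x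

namespace Dat

variable {A T Γ Γ₀ S₀ : Subgroup H} {e rad : AddSubgroup M} (d : Dat A T Γ Γ₀ S₀ e rad)
include d

/-- the fixed points of `Γ₀` in `e + rad` -/
theorem comm_mem {x z : M} (hx : x ∈ e) (hz : z ∈ rad) (h : ∀ k ∈ Γ₀, k • (x + z) = x + z) {t : H} (ht : t ∈ T) :
    t • (x + z) - (x + z) = t • x - x := by
  have h1 : t • z = z := d.cA z hz (fun a ha => by
    have h2 := h a (d.A_le ha)
    rw [smul_add, d.Ae a ha x hx] at h2
    exact add_left_cancel h2) t ht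
  rw [smul_add, h1]
  abel

/-- **`Γ₀` fixes `e` pointwise** -/
theorem fix [Finite H] {x : M} (hx : x ∈ e) : ∀ k ∈ Γ₀, k • x = x := by
  let C : AddSubgroup M :=
    { carrier := {x | ∀ k ∈ Γ₀, k • x = x}
      zero_mem' := fun k _ => smul_zero k
      add_mem' := fun {x y} hx hy k hk => by rw [smul_add, hx k hk, hy k hk]
      neg_mem' := fun {x} hx k hk => by rw [smul_neg, hx k hk] }
  have h1 : AddSubgroup.closure {y | ∃ t ∈ T, ∃ x ∈ e, y = t • x - x} ≤ C := by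
    rw [AddSubgroup.closure_le]
    rintro _ ⟨t, ht, x, hx, rfl⟩
    obtain ⟨y, hy, hyx⟩ := exists_avg d.odd d.two (fun s hs => d.Se s hs x hx) (fun k hk => d.triv k hk x hx)
    have e1 : x + (y - x) = y := by abel
    have h2 := d.comm_mem hx hyx (fun k hk => by rw [e1]; exact hy k hk) ht
    rw [← h2, e1]
    intro k hk
    have h3 : k • t • y = t • y := by
      have h4 := hy _ (d.norm t (d.T_le ht) k hk)
      rw [mul_smul, mul_smul, inv_smul_eq_iff] at h4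
      exact h4
    rw [smul_sub, h3, hy k hk]
  exact h1 (d.fpf hx)

/-- **`Γ` normalises `e`** -/
theorem normalizes [Finite H] {g : H} (hg : g ∈ Γ) {x : M} (hx : x ∈ e) : g • x ∈ e := by
  have key : ∀ t ∈ T, ∀ x ∈ e, g • (t • x - x) ∈ e := by
    intro t ht x hx
    obtain ⟨t', ht', k, hk, e1⟩ := d.TΓ g hg t ht
    obtain ⟨x', hx', hz⟩ := d.inv g hg x hx
    have hgx : ∀ k ∈ Γ₀, k • g • x = g • x := by
      intro k hk
      have h4 := d.fix hx _ (d.norm g hg k hk)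
      rw [mul_smul, mul_smul, inv_smul_eq_iff] at h4
      exact h4
    have e2 : x' + (g • x - x') = g • x := by abel
    have h2 := d.comm_mem hx' hz (fun k hk => by rw [e2]; exact hgx k hk) ht'
    rw [e2] at h2
    have e3 : g • t • x = t' • g • x := by
      have : g * t = t' * k * g := by rw [← e1]; group
      rw [smul_smul, this, mul_smul, mul_smul, hgx k hk]
    rw [smul_sub, e3, h2]
    exact e.sub_mem (d.Te t' ht' x' hx') hx'
  have h1 : AddSubgroup.closure {y | ∃ t ∈ T, ∃ x ∈ e, y = t • x - x} ≤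
      e.comap (DistribSMul.toAddMonoidHom M g) := by
    rw [AddSubgroup.closure_le]
    rintro _ ⟨t, ht, x, hx, rfl⟩
    exact key t ht x hx
  exact h1 (d.fpf hx)

end Dat

end Cfsg.Agent.Omega.HOneQ.NormE

end

section


/-!
# II.0h1, SPLIT, `q ≥ 4` (bb #15121 (f)): `H = E N_H(e)`, abstract form

`H` acts on `M` (`= W₁ / R₁`) and on `M'` (`= W₁ / Z(W₁)`), `π : M → M'` equivariant, `rad = Ker π`, `e : F →+ M` the
line, `f` the form on `M'`; `S = S_E`, `HE = H_E`, `w ∈ E` the longest element, `t` the torus.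

* `Dat.s_act` : `t⁻¹ w⁻¹ t w` acts on `e` as `t³`;
* `Dat.fix_e` : an element normalising `S_E` and `H_E` fixes `e`;
* `Dat.frattini` : `H = E N_H(e)`.
-/

set_option autoImplicit false

namespace Cfsg.Agent.Omega.HOneQ.Five3

variable {H : Type*} [Group H] {M M' : Type*} [AddCommGroup M] [DistribMulAction H M] [AddCommGroup M']
  [DistribMulAction H M'] {F : Type*} [Field F]

/-- the data -/
structure Dat (E S HE A : Subgroup H) (t : Fˣ → H) (w : H) (e : F →+ M) (π : M →+ M') (f : M' → M' → F)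
    (ω : M' → F) : Prop where
  einj : ∀ γ, π (e γ) = 0 → γ = 0
  te : ∀ a γ, t a • e γ = e ((a⁻¹ : Fˣ) * γ)
  Se : ∀ s ∈ S, ∀ γ, s • e γ = e γ
  HEe : ∀ s ∈ HE, ∀ γ, ∃ γ', s • e γ = e γ'
  πact : ∀ (h : H) x, π (h • x) = h • π x
  fsymm : ∀ x y, f x y = f y x
  fe : ∀ x γ, f x (π (e γ)) = ω x * γ
  fw : ∀ x y, f (w • x) (w • y) = f x y
  ft : ∀ (a : Fˣ) x y, f (t a • x) (t a • y) = a * f x y
  fne : ∃ γ, ω (w • π (e γ)) ≠ 0
  wt : ∀ a, (t a)⁻¹ * w⁻¹ * t a * w ∈ HE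
  /-- `T` acts on `rad / C_rad(T)` as `F^*` -/
  rad_T : ∀ x, π x = 0 → ∀ a b c : Fˣ, (a : F) + b = c → ∀ r, t r • (t a • x + t b • x - t c • x) =
    t a • x + t b • x - t c • x
  rad_A : ∀ x, π x = 0 → (∀ a, t a • x = x) → ∀ a ∈ A, a • x = x
  A_T : ∀ x, π x = 0 → (∀ a ∈ A, a • x = x) → ∀ a, t a • x = x
  AS : A ≤ S
  gen : ∀ K : Subgroup H, A ≤ K → (∀ s ∈ S, w * s * w⁻¹ ∈ K) → E ≤ K
  CE : ∀ x, π x = 0 → (∀ g ∈ E, g • x = x) → x = 0
  cen : ∀ x : M', (∀ s ∈ S, s • x = x) → ∃ γ, x = π (e γ)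

namespace Dat

variable {E S HE A : Subgroup H} {t : Fˣ → H} {w : H} {e : F →+ M} {π : M →+ M'} {f : M' → M' → F} {ω : M' → F}
  (d : Dat E S HE A t w e π f ω)
include d

theorem fw' (x y : M') : f (w⁻¹ • x) (w⁻¹ • y) = f x y := by
  have h1 := d.fw (w⁻¹ • x) (w⁻¹ • y)
  rw [smul_inv_smul, smul_inv_smul] at h1
  exact h1.symm

/-- `f (w e γ, e δ) = c γ δ` -/
theorem beta : ∃ c : F, c ≠ 0 ∧ ∀ γ, ω (w • π (e γ)) = c * γ := by
  refine ⟨ω (w • π (e 1)), ?_, ?_⟩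
  swap
  · intro γ
    have h1 : f (w • π (e γ)) (π (e 1)) = ω (w • π (e γ)) := by rw [d.fe, mul_one]
    have h2 : f (w • π (e γ)) (π (e 1)) = ω (w⁻¹ • π (e 1)) * γ := by
      rw [← d.fw' (w • π (e γ)), inv_smul_smul, d.fsymm, d.fe]
    have h3 : ω (w • π (e 1)) = ω (w⁻¹ • π (e 1)) := by
      have h4 : f (w • π (e 1)) (π (e 1)) = ω (w • π (e 1)) := by rw [d.fe, mul_one]
      have h5 : f (w • π (e 1)) (π (e 1)) = ω (w⁻¹ • π (e 1)) * 1 := by
        rw [← d.fw' (w • π (e 1)), inv_smul_smul, d.fsymm, d.fe]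
      rw [← h4, h5, mul_one]
    rw [← h1, h2, h3]
  · obtain ⟨γ, hγ⟩ := d.fne
    intro h0
    apply hγ
    have h1 : f (w • π (e γ)) (π (e 1)) = ω (w • π (e γ)) := by rw [d.fe, mul_one]
    have h2 : f (w • π (e γ)) (π (e 1)) = ω (w⁻¹ • π (e 1)) * γ := by
      rw [← d.fw' (w • π (e γ)), inv_smul_smul, d.fsymm, d.fe]
    have h4 : f (w • π (e 1)) (π (e 1)) = ω (w • π (e 1)) := by rw [d.fe, mul_one]
    have h5 : f (w • π (e 1)) (π (e 1)) = ω (w⁻¹ • π (e 1)) * 1 := by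
      rw [← d.fw' (w • π (e 1)), inv_smul_smul, d.fsymm, d.fe]
    rw [← h1, h2, ← mul_one (ω (w⁻¹ • π (e 1))), ← h5, h4, h0, zero_mul]

theorem e_inj {γ δ : F} (h : π (e γ) = π (e δ)) : γ = δ := by
  have h1 : π (e (γ - δ)) = 0 := by rw [map_sub, map_sub, h, sub_self]
  exact sub_eq_zero.1 (d.einj _ h1)

/-- **`t⁻¹ w⁻¹ t w` acts on `e` as `t³`** -/
theorem s_act (a : Fˣ) (γ : F) : ((t a)⁻¹ * w⁻¹ * t a * w) • e γ = e ((a : F) ^ 3 * γ) := by
  obtain ⟨c, hc, hβ⟩ := d.beta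
  obtain ⟨γ', hγ'⟩ := d.HEe _ (d.wt a) γ
  have h1 : t a • w • π (e γ) = w • π (e ((a⁻¹ : Fˣ) * γ')) := by
    rw [← d.te, d.πact, ← hγ', d.πact, smul_smul, smul_smul, smul_smul]
    congr 1
    group
  have h2 : f (t a • w • π (e γ)) (t a • π (e 1)) = a * (c * γ) := by
    rw [d.ft, d.fe, hβ, mul_one]
  have h3 : t a • π (e 1) = π (e ((a⁻¹ : Fˣ) * 1)) := by
    rw [← d.te, d.πact]
  rw [h1, h3, d.fe, hβ] at h2
  have ha : ((a⁻¹ : Fˣ) : F) = (a : F)⁻¹ := Units.val_inv_eq_inv_val a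
  rw [ha, mul_one] at h2
  have ha0 : (a : F) ≠ 0 := a.ne_zero
  have h4 : γ' = (a : F) ^ 3 * γ := by
    field_simp at h2
    exact h2
  rw [hγ', h4]

/-- **An element normalising `S_E` and `H_E` fixes `e`.** -/
theorem fix_e [Finite F] [CharP F 2] (hF : ∃ b : F, b ≠ 0 ∧ b ≠ 1) {h : H} (hS : ∀ s ∈ S, h⁻¹ * s * h ∈ S)
    (hHE : ∀ s ∈ HE, h⁻¹ * s * h ∈ HE) : ∀ γ, ∃ γ', h • e γ = e γ' := by
  -- `h • e γ` is fixed by `S`
  have k1 : ∀ s ∈ S, ∀ γ, s • h • e γ = h • e γ := by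
    intro s hs γ
    have h1 := d.Se _ (hS s hs) γ
    rw [mul_smul, mul_smul, inv_smul_eq_iff] at h1
    exact h1
  have k2 : ∀ γ, ∃ γ', π (h • e γ) = π (e γ') := fun γ => d.cen _ fun s hs => by
    rw [← d.πact, k1 s hs]
  choose α hα using k2
  have hαadd : ∀ x y, α (x + y) = α x + α y := by
    intro x y
    apply d.e_inj
    rw [← hα, map_add, smul_add, map_add, hα, hα, ← map_add, ← map_add]
  have hαinj : Function.Injective α := by
    intro x y hxy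
    have h1 : π (h • e x) = π (h • e y) := by rw [hα, hα, hxy]
    rw [d.πact, d.πact] at h1
    exact d.e_inj ((smul_left_cancel h) h1)
  have hαsurj : Function.Surjective α := Finite.injective_iff_surjective.1 hαinj
  choose β hβ using hαsurj
  -- the map `φ`
  let φ : F → M := fun γ => h • e (β γ) - e γ
  have hφ : ∀ γ, h • e (β γ) = e γ + φ γ := fun γ => by simp [φ]
  have hφπ : ∀ γ, π (φ γ) = 0 := by
    intro γ
    change π (h • e (β γ) - e γ) = 0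
    rw [map_sub, hα, hβ, sub_self]
  have hφS : ∀ s ∈ S, ∀ γ, s • φ γ = φ γ := by
    intro s hs γ
    change s • (h • e (β γ) - e γ) = _
    rw [smul_sub, k1 s hs, d.Se s hs]
  have hβadd : ∀ x y, β (x + y) = β x + β y := by
    intro x y
    apply hαinj
    rw [hβ, hαadd, hβ, hβ]
  have hφadd : ∀ x y, φ (x + y) = φ x + φ y := by
    intro x y
    change h • e (β (x + y)) - e (x + y) = (h • e (β x) - e x) + (h • e (β y) - e y)
    rw [hβadd, map_add, map_add, smul_add]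
    abel
  have hφT : ∀ γ a, t a • φ γ = φ γ := fun γ => d.A_T _ (hφπ γ) fun a ha => hφS a (d.AS ha) γ
  -- equivariance
  have hφHE : ∀ s ∈ HE, ∀ γ γ', s • e γ = e γ' → s • φ γ = φ γ' := by
    intro s hs γ γ' hγ
    obtain ⟨δ, hδ⟩ := d.HEe _ (hHE s hs) (β γ)
    have h1 : s • h • e (β γ) = h • e δ := by
      rw [← hδ, smul_smul, smul_smul]
      congr 1
      group
    have h2 : s • (e γ + φ γ) = e (α δ) + φ (α δ) := by
      rw [← hφ, ← hφ, h1]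
      congr 2
      exact hαinj (hβ (α δ)).symm
    rw [smul_add, hγ] at h2
    have h3 : γ' = α δ := by
      apply d.e_inj
      have h4 := congrArg π h2
      rw [map_add, map_add, hφπ, add_zero, d.πact, hφπ, smul_zero, add_zero] at h4
      exact h4
    rw [← h3] at h2
    exact add_left_cancel h2
  -- the action of `T` on `w φ`
  have hw : ∀ (a : Fˣ) γ, t a • w • φ γ = w • φ ((a : F) ^ 3 * γ) := by
    intro a γ
    rw [← hφHE _ (d.wt a) γ _ (d.s_act a γ)]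
    have h1 : t a • w • φ γ = w • t a • ((t a)⁻¹ * w⁻¹ * t a * w) • φ γ := by
      rw [smul_smul, smul_smul, smul_smul]
      congr 1
      group
    rw [h1]
    congr 1
    rw [hφHE _ (d.wt a) γ _ (d.s_act a γ), hφT]
  have hwπ : ∀ γ, π (w • φ γ) = 0 := fun γ => by rw [d.πact, hφπ, smul_zero]
  -- `w φ` is centralised by `T`
  obtain ⟨b, hb0, hb1⟩ := hF
  have h2 : (2 : F) = 0 := CharP.cast_eq_zero F 2
  have hb2 : (1 : F) + b ≠ 0 := by
    intro h0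
    apply hb1
    have : b = 1 - 2 := by linear_combination h0
    rw [this, h2, sub_zero]
  have hwT : ∀ γ a, t a • w • φ γ = w • φ γ := by
    intro γ a
    have h3 := d.rad_T (w • φ (γ / (b * (1 + b)))) (hwπ _) 1 (Units.mk0 b hb0) (Units.mk0 (1 + b) hb2)
      (by rw [Units.val_mk0, Units.val_mk0, Units.val_one]) a
    rw [hw, hw, hw, Units.val_mk0, Units.val_mk0, Units.val_one] at h3
    have h4 : w • φ (1 ^ 3 * (γ / (b * (1 + b)))) + w • φ (b ^ 3 * (γ / (b * (1 + b)))) -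
        w • φ ((1 + b) ^ 3 * (γ / (b * (1 + b)))) = - (w • φ γ) := by
      rw [sub_eq_add_neg, ← smul_add, ← hφadd, ← smul_neg, ← smul_add, ← smul_neg]
      congr 1
      have h5 : φ ((1 + b) ^ 3 * (γ / (b * (1 + b)))) = φ (1 ^ 3 * (γ / (b * (1 + b))) + b ^ 3 * (γ / (b * (1 + b)))) + φ γ := by
        rw [← hφadd]
        congr 1
        have h6 : γ = (b * (1 + b)) * (γ / (b * (1 + b))) := by field_simp
        generalize γ / (b * (1 + b)) = δ at h6 ⊢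
        rw [h6]
        linear_combination (δ * (b + b ^ 2)) * h2
      rw [h5]
      abel
    rw [h4, smul_neg, neg_inj] at h3
    exact h3
  -- so `w φ = 0`
  have hzero : ∀ γ, φ γ = 0 := by
    intro γ
    have h3 : w • φ γ = 0 := by
      apply d.CE _ (hwπ γ)
      let K : Subgroup H :=
        { carrier := {g | g • w • φ γ = w • φ γ}
          one_mem' := one_smul _ _
          mul_mem' := fun {a b} (ha : a • w • φ γ = _) (hb : b • w • φ γ = _) => by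
            change (a * b) • w • φ γ = _
            rw [mul_smul, hb, ha]
          inv_mem' := fun {a} (ha : a • w • φ γ = _) => by
            change a⁻¹ • w • φ γ = _
            rw [inv_smul_eq_iff, ha] }
      have hK : E ≤ K := by
        refine d.gen K (fun a ha => d.rad_A _ (hwπ γ) (hwT γ) a ha) fun s hs => ?_
        change (w * s * w⁻¹) • w • φ γ = _
        rw [mul_smul, mul_smul, inv_smul_smul, hφS s hs]
      exact fun g hg => hK hg
    exact (smul_eq_zero_iff_eq w).1 h3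
  intro γ
  refine ⟨α γ, ?_⟩
  have h3 : β (α γ) = γ := hαinj (hβ (α γ))
  have h4 := hφ (α γ)
  rwa [h3, hzero, add_zero] at h4

end Dat

open Subgroup Cfsg.Agent.Omega.BTwo Cfsg.Agent.Omega.Hex in
open scoped Pointwise in
/-- two Sylow 2-subgroups of a subgroup `E` -/
theorem sylow_conj {H : Type*} [Group H] [Finite H] {E S S' : Subgroup H} (hS : S ≤ E) (hS' : S' ≤ E)
    (h2 : IsPGroup 2 S) (h2' : IsPGroup 2 S') (ho : Odd (S.relIndex E)) (ho' : Odd (S'.relIndex E)) :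
    ∃ x ∈ E, cj x S' = S := by
  have : Fact (Nat.Prime 2) := ⟨Nat.prime_two⟩
  have e1 : IsPGroup 2 (S.subgroupOf E) := h2.comap_of_injective _ E.subtype_injective
  have e2 : IsPGroup 2 (S'.subgroupOf E) := h2'.comap_of_injective _ E.subtype_injective
  have e3 : ¬ 2 ∣ (S.subgroupOf E).index := fun h => (Nat.not_even_iff_odd.2 ho) (even_iff_two_dvd.2 h)
  have e4 : ¬ 2 ∣ (S'.subgroupOf E).index := fun h => (Nat.not_even_iff_odd.2 ho') (even_iff_two_dvd.2 h)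
  obtain ⟨x, hx⟩ := MulAction.exists_smul_eq E (e2.toSylow e4) (e1.toSylow e3)
  refine ⟨x, x.2, ?_⟩
  have hx' : ∀ y : E, y ∈ S.subgroupOf E ↔ x⁻¹ * y * x ∈ S'.subgroupOf E := by
    intro y
    have h5 := congrArg (fun P : Sylow 2 E => y ∈ P) hx
    simp only [IsPGroup.mem_toSylow] at h5
    rw [← h5]
    change y ∈ (MulAut.conj x • (S'.subgroupOf E : Subgroup E)) ↔ _
    rw [Subgroup.mem_pointwise_smul_iff_inv_smul_mem, ← map_inv]
    change x⁻¹ * y * x⁻¹⁻¹ ∈ S'.subgroupOf E ↔ _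
    rw [inv_inv]
  ext y
  rw [mem_cj]
  constructor
  · intro hy
    have hyE : y ∈ E := by
      have h6 := mul_mem (mul_mem x.2 (hS' hy)) (inv_mem x.2)
      have h7 : (x : H) * ((x : H)⁻¹ * y * x) * (x : H)⁻¹ = y := by group
      rwa [h7] at h6
    exact (hx' ⟨y, hyE⟩).2 hy
  · intro hy
    exact (hx' ⟨y, hS hy⟩).1 hy

open Subgroup Cfsg.Agent.Omega.BTwo Cfsg.Agent.Omega.Hex in
/-- **`H = E N_H(e)`.** -/
theorem Dat.frattini {H : Type*} [Group H] {M M' : Type*} [AddCommGroup M] [DistribMulAction H M] [AddCommGroup M']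
    [DistribMulAction H M'] {F : Type*} [Field F] [Finite H] [Finite F] [CharP F 2] {E S HE A : Subgroup H} {t : Fˣ → H}
    {w : H} {e : F →+ M} {π : M →+ M'} {f : M' → M' → F} {ω : M' → F} (d : Dat E S HE A t w e π f ω)
    (hF : ∃ b : F, b ≠ 0 ∧ b ≠ 1) (hE : ∀ g ∈ E, ∀ h, h * g * h⁻¹ ∈ E) (hSE : S ≤ E) (two : IsPGroup 2 S)
    (odd : Odd (S.relIndex E)) (hcpl : Cpl S (E ⊓ normalizer (S : Set H)) HE) (g : H) :
    ∃ x ∈ E, ∀ γ, ∃ γ', (x * g) • e γ = e γ' := by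
  have hgE : cj g E = E := by
    apply le_antisymm
    · rintro _ ⟨y, hy, rfl⟩
      exact hE y hy g
    · intro y hy
      rw [mem_cj]
      have := hE y hy g⁻¹
      rwa [inv_inv] at this
  have hcard : Nat.card (cj g S) = Nat.card S := card_cj g S
  have hS' : cj g S ≤ E := by
    rw [← hgE]; exact cj_mono hSE
  have odd' : Odd ((cj g S).relIndex E) := by
    have h1 : (cj g S).relIndex (cj g E) = S.relIndex E :=
      relIndex_map_map_of_injective S E (MulAut.conj g).injective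
    rw [hgE] at h1
    rw [h1]
    exact odd
  obtain ⟨x, hx, hxS⟩ := sylow_conj hSE hS' two (two.map _) odd odd'
  rw [← cj_mul] at hxS
  have hxgE : cj (x * g) E = E := by rw [cj_mul, hgE, cj_of_mem hx]
  have hnt : NT S (E ⊓ normalizer (S : Set H)) :=
    ⟨le_inf hSE le_normalizer, inf_le_right, two, by
      have h1 := relIndex_mul_relIndex S (E ⊓ normalizer (S : Set H)) E (le_inf hSE le_normalizer) inf_le_left
      rw [← h1] at odd
      exact (Nat.odd_mul.1 odd).1⟩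
  have hB : cj (x * g) (E ⊓ normalizer (S : Set H)) = E ⊓ normalizer (S : Set H) := by
    rw [cj_inf, hxgE, ← normalizer_cj, hxS]
  have hc' : Cpl S (E ⊓ normalizer (S : Set H)) (cj (x * g) HE) := by
    refine ⟨?_, ?_⟩
    · rw [← hB]; exact cj_mono hcpl.HB
    · rw [card_cj, hcpl.card]
  obtain ⟨s, hs, hsx⟩ := hnt.conj hc' hcpl
  rw [← cj_mul] at hsx
  refine ⟨s * x, mul_mem (hSE hs) hx, ?_⟩
  have h1 : ∀ y ∈ S, (s * x * g)⁻¹ * y * (s * x * g) ∈ S := by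
    have h2 : cj (s * (x * g)) S = S := by rw [cj_mul, hxS, cj_of_mem hs]
    intro y hy
    rw [mul_assoc s, ← mem_cj, h2]
    exact hy
  have h2 : ∀ y ∈ HE, (s * x * g)⁻¹ * y * (s * x * g) ∈ HE := by
    intro y hy
    rw [mul_assoc s, ← mem_cj, hsx]
    exact hy
  exact d.fix_e hF h1 h2

/-- `fne` from generation of `M'` by the `S⁻`-conjugates of the line (`Fam.act_gen`) -/
theorem fne_of_gen {S : Subgroup H} {w : H} {e : F →+ M} {π : M →+ M'} {f : M' →+ M' →+ F} {ω : M' → F}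
    (Se : ∀ s ∈ S, ∀ γ, s • e γ = e γ) (πact : ∀ (h : H) x, π (h • x) = h • π x)
    (fsymm : ∀ x y, f x y = f y x) (fe : ∀ x γ, f x (π (e γ)) = ω x * γ) (fw : ∀ x y, f (w • x) (w • y) = f x y)
    (fS : ∀ s ∈ S, ∀ x y, f (s • x) (s • y) = f x y) (ωne : ∃ x, ω x ≠ 0)
    (hgen : ∀ L : AddSubgroup M', (∀ s ∈ S, ∀ γ, (w * s * w⁻¹) • π (e γ) ∈ L) → L = ⊤) :
    ∃ γ, ω (w • π (e γ)) ≠ 0 := by
  by_contra hc
  push Not at hc
  obtain ⟨x, hx⟩ := ωne
  apply hx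
  have hse : ∀ s ∈ S, ∀ γ, s • π (e γ) = π (e γ) := fun s hs γ => by rw [← πact, Se s hs]
  have key : ∀ y : M', f y (w • π (e 1)) = 0 := by
    intro y
    let L : AddSubgroup M' := (f.flip (w • π (e 1))).ker
    have hL : L = ⊤ := by
      refine hgen L fun s hs γ => ?_
      change f ((w * s * w⁻¹) • π (e γ)) (w • π (e 1)) = 0
      have h1 : (w * s * w⁻¹) • π (e γ) = w • s • w⁻¹ • π (e γ) := by rw [mul_smul, mul_smul]
      rw [h1, fw, ← hse s hs 1, fS s hs, ← fw, smul_inv_smul, fsymm, fe, hc, zero_mul]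
    have : y ∈ L := by rw [hL]; trivial
    exact this
  have h1 := key (w • x)
  rw [fw, fe, mul_one] at h1
  exact h1

end Cfsg.Agent.Omega.HOneQ.Five3

end

section


/-!
# LEMMA NE for the real situation (II.0h1 split, `q ≥ 4`), and the Frattini statement (Fr)

`M = W i / R i`, `M' = W i / Z(W i)` (`Fq`), `e`, `e'` the images of `V`, `rad = Z(W i) / R i`.

* `normE` : if `C_rad(A) ≤ C_rad(T)`, then an element of `N(R i)` normalising `e'` normalises `V`;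
* `frat` : if moreover `C_{M'}(S_E) = e'` for a Sylow 2-subgroup `S_E` of the normal subgroup `E` of `H`, then
  `H = E N_H(e)`: for `g ∈ N(R i)` there is `x` in the preimage of `E` with `x g ∈ N(V)`.
-/

set_option autoImplicit false
set_option linter.unusedSectionVars false

namespace Cfsg.Agent.Omega.HOneQ.NormE

open Subgroup Cfsg.Agent.Omega.BTwo Cfsg.Agent.Omega.Lie Cfsg.Agent.Omega.Lie.Quot
open Cfsg.Agent.Omega.HOne.ModZ (MZ Fq)

universe u v w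

/-- `|K : N ∩ K|` is odd if `K` is normal in `Γ` and `|Γ : N|` is odd -/
theorem odd_inf {H : Type*} [Group H] [Finite H] {N K Γ : Subgroup H} (hK : K ≤ Γ)
    (hn : (K.subgroupOf Γ).Normal) (hodd : Odd (N.relIndex Γ)) : Odd ((N ⊓ K).relIndex K) := by
  have h1 := ThmD.relIndex_inf (N.subgroupOf Γ) (K.subgroupOf Γ)
  have e1 : N.subgroupOf Γ ⊓ K.subgroupOf Γ = (N ⊓ K).subgroupOf Γ := by
    ext x
    simp only [mem_inf, mem_subgroupOf]
  rw [e1, relIndex_subgroupOf hK] at h1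
  rw [h1]
  have h2 : (N.subgroupOf Γ).relIndex (N.subgroupOf Γ ⊔ K.subgroupOf Γ) ∣ (N.subgroupOf Γ).index :=
    relIndex_dvd_index_of_le le_sup_left
  exact Odd.of_dvd_nat hodd h2

variable {G : Type u} [Group G] [Finite G] {ι : Type w} {V : Subgroup G} {R : ι → Subgroup G} {i j : ι}
  {F : Type v} [Field F] {v : F → F → G} {w1 w2 t : F → G}
  {M : Type u} [AddCommGroup M] [Module F M] [DistribMulAction (HQ (R i)) M] {p : G → M}
  {f : M →ₗ[F] M →ₗ[F] F} {e : F →ₗ[F] M} {ω : M →ₗ[F] F} {σ : HQ (R i) →* RingAut F} {κ : HQ (R i) → F}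

/-- the stabiliser of `e'` -/
def Gam (e : F →ₗ[F] M) : Subgroup (HQ (R i)) where
  carrier := {h | (∀ γ, ∃ γ', h • e γ = e γ') ∧ ∀ γ, ∃ γ', h⁻¹ • e γ = e γ'}
  one_mem' := ⟨fun γ => ⟨γ, one_smul _ _⟩, fun γ => ⟨γ, by rw [inv_one, one_smul]⟩⟩
  mul_mem' := by
    rintro g h ⟨hg, hg'⟩ ⟨hh, hh'⟩
    refine ⟨fun γ => ?_, fun γ => ?_⟩
    · obtain ⟨γ', e1⟩ := hh γ
      obtain ⟨γ'', e2⟩ := hg γ'
      exact ⟨γ'', by rw [mul_smul, e1, e2]⟩
    · obtain ⟨γ', e1⟩ := hg' γ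
      obtain ⟨γ'', e2⟩ := hh' γ'
      exact ⟨γ'', by rw [mul_inv_rev, mul_smul, e1, e2]⟩
  inv_mem' := by
    rintro g ⟨hg, hg'⟩
    exact ⟨hg', fun γ => by rw [inv_inv]; exact hg γ⟩

/-- the pointwise stabiliser of `e'` -/
def Gam0 (e : F →ₗ[F] M) : Subgroup (HQ (R i)) where
  carrier := {h | ∀ γ, h • e γ = e γ}
  one_mem' := fun γ => one_smul _ _
  mul_mem' := fun {g h} hg hh γ => by rw [mul_smul, hh, hg]
  inv_mem' := fun {g} hg γ => by rw [inv_smul_eq_iff, hg]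

theorem Gam0_le : (Gam0 e : Subgroup (HQ (R i))) ≤ Gam e := fun _ hh =>
  ⟨fun γ => ⟨γ, hh γ⟩, fun γ => ⟨γ, (Gam0 e).inv_mem hh γ⟩⟩

theorem Gam0_norm {g k : HQ (R i)} (hg : g ∈ Gam e) (hk : k ∈ Gam0 e) : g⁻¹ * k * g ∈ Gam0 e := by
  intro γ
  obtain ⟨γ', h1⟩ := hg.1 γ
  rw [mul_smul, mul_smul, h1, hk γ', ← h1, inv_smul_smul]

theorem mem_Gam [Finite F] (q : Fq V R i v M p f e ω σ κ) (b : BT V R) (c : Coord V R i j v w1 w2)
    {h : HQ (R i)} (hh : ∃ γ', h • e 1 = e γ') : h ∈ Gam e := by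
  obtain ⟨γ₁, h1⟩ := hh
  have h2 : ∀ γ, h • e γ = e (σ h γ * γ₁) := by
    intro γ
    have e1 : e γ = γ • e 1 := by rw [← LinearMap.map_smul e, smul_eq_mul, mul_one]
    rw [e1, q.semi, h1, ← LinearMap.map_smul e, smul_eq_mul]
  have hinj : Function.Injective (fun γ => σ h γ * γ₁) := by
    intro x y hxy
    have h3 : h • e x = h • e y := by rw [h2, h2]; exact congrArg e hxy
    exact q.e_inj c b (smul_left_cancel h h3)
  have hsurj := Finite.injective_iff_surjective.1 hinj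
  refine ⟨fun γ => ⟨_, h2 γ⟩, fun γ => ?_⟩
  obtain ⟨δ, hδ⟩ := hsurj γ
  refine ⟨δ, ?_⟩
  rw [inv_smul_eq_iff, h2]
  exact congrArg e hδ.symm

theorem im_NV_le [Finite F] (q : Fq V R i v M p f e ω σ κ) (b : BT V R) (c : Coord V R i j v w1 w2) :
    im (R i) (normalizer (V : Set G)) ≤ Gam e := by
  intro h hh
  obtain ⟨g, hg, hgV, rfl⟩ := mem_im.1 hh
  apply mem_Gam q b c
  have h1 := q.toMZ.sb_smul hg hgV ((q.mem_e c).1 ⟨(1 : F), rfl⟩)
  obtain ⟨γ', h2⟩ := (q.mem_e c).2 h1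
  exact ⟨γ', h2.symm⟩

theorem relIndex_im (hodd : Odd ((normalizer (V : Set G)).relIndex (normalizer (R i : Set G)))) :
    Odd (im (R i) (normalizer (V : Set G))).index := by
  have h1 : (im (R i) (normalizer (V : Set G))).index ∣ ((normalizer (V : Set G)).subgroupOf (normalizer (R i : Set G))).index :=
    index_map_dvd _ (pr_surjective (R i))
  exact Odd.of_dvd_nat hodd h1

/-- **LEMMA NE** in `H` -/
theorem dat [Finite F] [CharP F 2] (q : Fq V R i v M p f e ω σ κ) (b : BT V R) (c : Coord V R i j v w1 w2)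
    (τ : TorD V R i j v t) (hF : ∃ a : F, a ≠ 0 ∧ a ≠ 1)
    (hodd : Odd ((normalizer (V : Set G)).relIndex (normalizer (R i : Set G))))
    (hd : ∀ z ∈ ZZ V R i, (∀ u ∈ UU V R j, u * z * u⁻¹ * z⁻¹ ∈ R i) →
      ∀ a, a ≠ 0 → t a * z * (t a)⁻¹ * z⁻¹ ∈ R i)
    {M₁ B₁ : Type u} [AddCommGroup M₁] [AddCommGroup B₁] [DistribMulAction (NR R i) M₁]
    [DistribMulAction (NR R i) B₁] [DistribMulAction (HQ (R i)) M₁] {p₁ : G → M₁} {r₁ : G → B₁}
    {f₁ : M₁ →+ M₁ →+ B₁} (m : ModQ V R i M₁ B₁ p₁ r₁ f₁) :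
    Dat (AA V R i j) (TT τ) (Gam e) (Gam0 e) (im (R i) (normalizer (V : Set G)) ⊓ Gam0 e) (m.sb V)
      (m.sb (ZZ V R i)) := by
  have hVW := V_le_WW V (R i)
  have hZW : ZZ V R i ≤ WW V (R i) := inf_le_left
  have hNW := normalizer_le_WW V (R i)
  -- elements of `e` and `e'`
  have hp : ∀ x ∈ V, ∃ γ, p x = e γ := by
    intro x hx
    obtain ⟨β, γ, rfl⟩ := (c.mem_V x).1 hx
    exact ⟨γ, q.e_eq β γ⟩
  have hpe : ∀ γ, ∃ x ∈ V, p x = e γ := fun γ => ⟨v 0 γ, c.v_mem 0 γ, q.e_eq 0 γ⟩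
  have hsub : ∀ x ∈ WW V (R i), ∀ y ∈ WW V (R i), p x = p y → p₁ x - p₁ y ∈ m.sb (ZZ V R i) := by
    intro x hx y hy hxy
    have h1 := (q.toMZ.p_eq_iff hx hy).1 hxy
    refine ⟨x * y⁻¹, h1, hZW h1, ?_⟩
    rw [m.p_mul x hx _ (inv_mem hy), m.p_inv hy, sub_eq_add_neg]
  have hdisj : ∀ x ∈ m.sb V, x ∈ m.sb (ZZ V R i) → x = 0 := by
    rintro x ⟨y, hy, hyW, rfl⟩ hx
    rw [m.p_mem_iff hyW (b.R_le_Z i)] at hx
    exact (m.p_ker y hyW).2 (b.cen_VW hy hx.2)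
  have hNV : ∀ s ∈ im (R i) (normalizer (V : Set G)), ∀ x ∈ m.sb V, s • x ∈ m.sb V := by
    intro s hs x hx
    obtain ⟨g, hg, hgV, rfl⟩ := mem_im.1 hs
    rw [m.pr_smul]
    exact m.sb_smul (h := ⟨g, hg⟩) hgV hx
  have htriv : ∀ k ∈ (Gam0 e : Subgroup (HQ (R i))), ∀ x ∈ m.sb V, k • x - x ∈ m.sb (ZZ V R i) := by
    rintro k hk x ⟨y, hy, hyW, rfl⟩
    obtain ⟨g, hg, rfl⟩ := exists_pr k
    have h1 := conj_mem_of_normalizer (hNW hg) hyW
    rw [m.act hg hyW]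
    apply hsub _ h1 _ hyW
    obtain ⟨γ, hγ⟩ := hp y hy
    rw [← q.p_act g hg y hyW, hγ, hk γ]
  exact
    { two := m.two_M b
      disj := hdisj
      inv := by
        rintro h hh x ⟨y, hy, hyW, rfl⟩
        obtain ⟨g, hg, rfl⟩ := exists_pr h
        obtain ⟨γ, hγ⟩ := hp y hy
        obtain ⟨γ', hγ'⟩ := hh.1 γ
        obtain ⟨y', hy', hy''⟩ := hpe γ'
        refine ⟨p₁ y', m.p_mem (hVW hy') hy', ?_⟩
        rw [m.act hg hyW]
        apply hsub _ (conj_mem_of_normalizer (hNW hg) hyW) _ (hVW hy')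
        rw [← q.p_act g hg y hyW, hγ, hγ', hy'']
      rad_inv := by
        intro h _ x hx
        obtain ⟨g, hg, rfl⟩ := exists_pr h
        rw [m.pr_smul]
        exact m.sb_smul (h := ⟨g, hg⟩) (N_le_NZ i hg) hx
      le := Gam0_le
      norm := fun g hg k hk => Gam0_norm hg hk
      triv := htriv
      S_le := inf_le_right
      odd := by
        refine odd_inf Gam0_le ⟨fun x hx g => ?_⟩ ?_
        · rw [mem_subgroupOf] at hx ⊢
          have := Gam0_norm (inv_mem g.2) hx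
          rwa [inv_inv] at this
        · exact Odd.of_dvd_nat (relIndex_im hodd) (relIndex_dvd_index_of_le (im_NV_le q b c))
      Se := fun s hs x hx =>
        sub_eq_zero.1 (hdisj _ ((m.sb V).sub_mem (hNV s hs.1 x hx) hx) (htriv s hs.2 x hx))
      A_le := by
        intro a ha γ
        obtain ⟨u, hu, rfl⟩ := (mem_AA b).1 ha
        exact q.cenV_e c _ (UU_le_cen j hu) γ
      Ae := by
        intro a ha x hx
        obtain ⟨u, hu, rfl⟩ := (mem_AA b).1 ha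
        rw [m.pr_smul]
        exact m.cen_e b (UU_le_cen j hu) hx
      T_le := by
        intro x hx
        obtain ⟨a, ha, rfl⟩ := (mem_TT τ).1 hx
        exact im_NV_le q b c (pr_mem_im _ (b.X_le_NV (τ.memX a ha)))
      Te := by
        intro x hx
        obtain ⟨a, ha, rfl⟩ := (mem_TT τ).1 hx
        exact hNV _ (pr_mem_im _ (b.X_le_NV (τ.memX a ha)))
      TΓ := by
        intro g hg x hx
        obtain ⟨a, ha, rfl⟩ := (mem_TT τ).1 hx
        have ha' : σ g a ≠ 0 := (map_ne_zero_iff _ (σ g).injective).2 ha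
        refine ⟨_, (mem_TT τ).2 ⟨σ g a, ha', rfl⟩,
          (pr (R i) ⟨t (σ g a), τ.normR ha'⟩)⁻¹ * (g * pr (R i) ⟨t a, τ.normR ha⟩ * g⁻¹), ?_,
          by rw [mul_inv_cancel_left]⟩
        intro γ
        obtain ⟨δ, hδ⟩ := hg.2 γ
        have h1 : g • e δ = e γ := by rw [← hδ, smul_inv_smul]
        have h2 : pr (R i) ⟨t a, τ.normR ha⟩ • e δ = a⁻¹ • e δ := q.t_e c τ (Units.mk0 a ha) δ
        have h3 : pr (R i) ⟨t (σ g a), τ.normR ha'⟩ • e γ = (σ g a)⁻¹ • e γ :=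
          q.t_e c τ (Units.mk0 (σ g a) ha') γ
        rw [mul_smul, inv_smul_eq_iff, h3, mul_smul, mul_smul, hδ, h2, q.semi, h1, map_inv₀]
      fpf := by
        rintro x ⟨y, hy, hyW, rfl⟩
        obtain ⟨β, γ, rfl⟩ := (c.mem_V y).1 hy
        obtain ⟨a, ha, ha1⟩ := hF
        have ha2 : a⁻¹ - 1 ≠ 0 := by
          intro h0
          apply ha1
          rw [← inv_inv a, sub_eq_zero.1 h0, inv_one]
        refine AddSubgroup.subset_closure ⟨_, (mem_TT τ).2 ⟨a, ha, rfl⟩, p₁ (v 0 (γ * (a⁻¹ - 1)⁻¹)),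
          m.p_mem (hVW (c.v_mem _ _)) (c.v_mem _ _), ?_⟩
        rw [m.act _ (hVW (c.v_mem _ _)), τ.act _ _ _ ha, mul_zero, ← sub_eq_zero]
        have e1 : ∀ β γ, p₁ (v β γ) = p₁ (v 0 γ) := by
          intro β γ
          have h1 := c.v_add β 0 0 γ
          rw [add_zero, zero_add] at h1
          rw [h1, m.p_mul _ (hVW (c.v_mem _ _)) _ (hVW (c.v_mem _ _)),
            (m.p_ker _ (hVW (c.v_mem _ _))).2 ((c.mem_R1 _).2 ⟨β, rfl⟩), zero_add]
        have e2 : ∀ γ γ', p₁ (v 0 (γ + γ')) = p₁ (v 0 γ) + p₁ (v 0 γ') := by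
          intro γ γ'
          have h1 := c.v_add 0 γ 0 γ'
          rw [add_zero] at h1
          rw [h1, m.p_mul _ (hVW (c.v_mem _ _)) _ (hVW (c.v_mem _ _))]
        have e3 : ∀ γ γ', p₁ (v 0 γ) - p₁ (v 0 γ') = p₁ (v 0 (γ - γ')) := by
          intro γ γ'
          rw [sub_eq_iff_eq_add, ← e2, sub_add_cancel]
        rw [e1 β, e3, e3]
        have h4 : γ - (a⁻¹ * (γ * (a⁻¹ - 1)⁻¹) - γ * (a⁻¹ - 1)⁻¹) = 0 := by
          have : a⁻¹ * (γ * (a⁻¹ - 1)⁻¹) - γ * (a⁻¹ - 1)⁻¹ = γ * ((a⁻¹ - 1) * (a⁻¹ - 1)⁻¹) := by ring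
          rw [this, mul_inv_cancel₀ ha2, mul_one, sub_self]
        rw [h4]
        exact (m.p_ker _ (hVW (c.v_mem _ _))).2 ((c.mem_R1 _).2 ⟨0, rfl⟩)
      cA := by
        rintro x ⟨z, hz, hzW, rfl⟩ hA s hs
        obtain ⟨a, ha, rfl⟩ := (mem_TT τ).1 hs
        have h1 : ∀ u ∈ UU V R j, u * z * u⁻¹ * z⁻¹ ∈ R i := by
          intro u hu
          have hN := U_le_N b i j hu
          have h2 := hA _ ((mem_AA b).2 ⟨u, hu, rfl⟩)
          rw [m.act hN hzW] at h2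
          exact (m.p_eq_iff (conj_mem_of_normalizer (hNW hN) hzW) hzW).1 h2
        have h2 := hd z hz h1 a ha
        rw [m.act (τ.normR ha) hzW]
        exact (m.p_eq_iff (conj_mem_of_normalizer (hNW (τ.normR ha)) hzW) hzW).2 h2 }

/-- **LEMMA NE**: an element of `N(R i)` normalising `e'` normalises `V` -/
theorem normE [Finite F] [CharP F 2] (q : Fq V R i v M p f e ω σ κ) (b : BT V R) (c : Coord V R i j v w1 w2)
    (τ : TorD V R i j v t) (hF : ∃ a : F, a ≠ 0 ∧ a ≠ 1)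
    (hodd : Odd ((normalizer (V : Set G)).relIndex (normalizer (R i : Set G))))
    (hd : ∀ z ∈ ZZ V R i, (∀ u ∈ UU V R j, u * z * u⁻¹ * z⁻¹ ∈ R i) →
      ∀ a, a ≠ 0 → t a * z * (t a)⁻¹ * z⁻¹ ∈ R i)
    {g : G} (hg : g ∈ normalizer (R i : Set G)) (h : ∃ γ, pr (R i) ⟨g, hg⟩ • e 1 = e γ) :
    g ∈ normalizer (V : Set G) := by
  obtain ⟨M₁, B₁, _, _, _, _, _, p₁, r₁, f₁, m⟩ := exists_modQ b i
  have d := dat q b c τ hF hodd hd m
  have hVW := V_le_WW V (R i)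
  refine mem_normalizer_of_conj fun z hz => ?_
  have h1 := d.normalizes (mem_Gam q b c h) (m.p_mem (hVW hz) hz)
  rw [m.act hg (hVW hz)] at h1
  exact (m.p_mem_iff (conj_mem_of_normalizer (normalizer_le_WW V (R i) hg) (hVW hz)) (b.R_le i)).1 h1

open Cfsg.Agent.Omega.HOneQ.Five3 Cfsg.Agent.Omega.Hex in
/-- Frattini for a Sylow 2-subgroup of a normal subgroup -/
theorem exists_norm {H : Type*} [Group H] [Finite H] {E S : Subgroup H} (hE : E.Normal) (hSE : S ≤ E)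
    (two : IsPGroup 2 S) (odd : Odd (S.relIndex E)) (g : H) :
    ∃ x ∈ E, ∀ s ∈ S, (x * g)⁻¹ * s * (x * g) ∈ S := by
  have hgE : cj g E = E := by
    apply le_antisymm
    · rintro _ ⟨y, hy, rfl⟩
      exact hE.conj_mem y hy g
    · intro y hy
      rw [mem_cj]
      have := hE.conj_mem y hy g⁻¹
      rwa [inv_inv] at this
  have hS' : cj g S ≤ E := by
    rw [← hgE]; exact cj_mono hSE
  have odd' : Odd ((cj g S).relIndex E) := by
    have h1 : (cj g S).relIndex (cj g E) = S.relIndex E :=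
      relIndex_map_map_of_injective S E (MulAut.conj g).injective
    rw [hgE] at h1
    rw [h1]
    exact odd
  obtain ⟨x, hx, hxS⟩ := sylow_conj hSE hS' two (two.map _) odd odd'
  rw [← cj_mul] at hxS
  refine ⟨x, hx, fun s hs => ?_⟩
  rw [← mem_cj, hxS]
  exact hs

/-- **(Fr)**: `H = E N_H(e)` -/
theorem frat [Finite F] [CharP F 2] (q : Fq V R i v M p f e ω σ κ) (b : BT V R) (c : Coord V R i j v w1 w2)
    (τ : TorD V R i j v t) (hF : ∃ a : F, a ≠ 0 ∧ a ≠ 1)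
    (hodd : Odd ((normalizer (V : Set G)).relIndex (normalizer (R i : Set G))))
    (hd : ∀ z ∈ ZZ V R i, (∀ u ∈ UU V R j, u * z * u⁻¹ * z⁻¹ ∈ R i) →
      ∀ a, a ≠ 0 → t a * z * (t a)⁻¹ * z⁻¹ ∈ R i)
    {E S : Subgroup (HQ (R i))} (hE : E.Normal) (hSE : S ≤ E) (two : IsPGroup 2 S) (odd : Odd (S.relIndex E))
    (hS : ∀ s ∈ S, s • e 1 = e 1) (hcen : ∀ x : M, (∀ s ∈ S, s • x = x) → ∃ γ, x = e γ)
    {g : G} (hg : g ∈ normalizer (R i : Set G)) :
    ∃ (x : G) (hx : x ∈ normalizer (R i : Set G)), pr (R i) ⟨x, hx⟩ ∈ E ∧ x * g ∈ normalizer (V : Set G) := by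
  obtain ⟨y, hy, hyS⟩ := exists_norm hE hSE two odd (pr (R i) ⟨g, hg⟩)
  obtain ⟨x, hx, rfl⟩ := exists_pr y
  refine ⟨x, hx, hy, ?_⟩
  refine normE q b c τ hF hodd hd (mul_mem hx hg) (hcen _ fun s hs => ?_)
  have h1 := hS _ (hyS s hs)
  rw [mul_smul, mul_smul, inv_smul_eq_iff] at h1
  exact h1

end Cfsg.Agent.Omega.HOneQ.NormE

end

section


/-!
# II.0h1, SPLIT, `q ≥ 4` (bb #15121 (d), (e)): `C_rad(A) = C_rad(T)`, and who fixes `e`

Abstract form.  `H` acts on the 2-group `M` (`= rad`), `A ≤ S ≤ E`, `S` a Sylow 2-subgroup of `E`, `T` of odd order,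
`[S,T] ≤ A`, `[M,A] ≤ C_M(T)`, `C_M(E) = 0`.  `Dat.CR`: the (sectional) Curtis–Richen property of `E T`: in a section
`X/Y` of `M` simple for `E T`, the fixed points of `S` are simple for `N` (`N` normalises `S` and `A`, e.g. `N = T H_E`).

* `Dat.fix_T`: `C_M(A) ≤ C_M(T)`;
* `mem_of_fix`: an element normalising `A`, commuting with `T` modulo `A` and fixing `e + rad` fixes `e`.
-/

set_option autoImplicit false

namespace Cfsg.Agent.Omega.HOneQ.CRad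

open Subgroup

variable {H : Type*} [Group H] {M : Type*} [AddCommGroup M] [DistribMulAction H M]

/-- invariance of a subgroup of `M` -/
def Inv (K : Subgroup H) (L : AddSubgroup M) : Prop := ∀ g ∈ K, ∀ x ∈ L, g • x ∈ L

/-- `[L, K]` -/
def com (K : Subgroup H) (L : AddSubgroup M) : AddSubgroup M :=
  AddSubgroup.closure {y | ∃ g ∈ K, ∃ x ∈ L, y = g • x - x}

/-- the sectional Curtis–Richen property: `S`-fixed points of a simple `E T`-section are `N`-simple -/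
def SecCR (E T S N : Subgroup H) (M : Type*) [AddCommGroup M] [DistribMulAction H M] : Prop :=
  ∀ X Y : AddSubgroup M, Inv E X → Inv T X → Inv E Y → Inv T Y → Y < X →
    (∀ Z : AddSubgroup M, Inv E Z → Inv T Z → Y ≤ Z → Z ≤ X → Z = Y ∨ Z = X) →
    ∀ D : AddSubgroup M, Y < D → D ≤ X → Inv N D → (∀ s ∈ S, ∀ x ∈ D, s • x - x ∈ Y) →
      ∀ x ∈ X, (∀ s ∈ S, s • x - x ∈ Y) → x ∈ D

/-- the data of (d) -/
structure Dat (A S E T N : Subgroup H) (M : Type*) [AddCommGroup M] [DistribMulAction H M] : Prop where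
  SE : S ≤ E
  /-- `E = ⟨A^E⟩` -/
  gen : ∀ K : Subgroup H, A ≤ K → (∀ g ∈ E, ∀ k ∈ K, g * k * g⁻¹ ∈ K) → E ≤ K
  AE : A ≤ E
  two : IsPGroup 2 S
  odd : Odd (S.relIndex E)
  TE : ∀ t ∈ T, ∀ g ∈ E, t * g * t⁻¹ ∈ E
  TA : ∀ t ∈ T, ∀ a ∈ A, t * a * t⁻¹ ∈ A
  SA : ∀ s ∈ S, ∀ a ∈ A, s * a * s⁻¹ ∈ A
  NA : ∀ n ∈ N, ∀ a ∈ A, n * a * n⁻¹ ∈ A
  NS : ∀ n ∈ N, ∀ s ∈ S, n * s * n⁻¹ ∈ S
  NE : N ≤ E ⊔ T
  ST : ∀ s ∈ S, ∀ t ∈ T, s * t * s⁻¹ * t⁻¹ ∈ A
  Todd : Odd (Nat.card T)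
  exp : ∀ m : M, m + m = 0
  AT : ∀ a ∈ A, ∀ m : M, ∀ t ∈ T, t • (a • m - m) = a • m - m
  CE : ∀ m : M, (∀ g ∈ E, g • m = m) → m = 0
  CR : SecCR E T S N M

theorem inv_sup {K L : Subgroup H} {X : AddSubgroup M} (hK : Inv K X) (hL : Inv L X) : Inv (K ⊔ L) X := by
  let P : Subgroup H :=
    { carrier := {g | (∀ x ∈ X, g • x ∈ X) ∧ ∀ x ∈ X, g⁻¹ • x ∈ X}
      one_mem' := ⟨fun x hx => by rwa [one_smul], fun x hx => by rwa [inv_one, one_smul]⟩
      mul_mem' := by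
        rintro a b ⟨ha, ha'⟩ ⟨hb, hb'⟩
        refine ⟨fun x hx => ?_, fun x hx => ?_⟩
        · rw [mul_smul]; exact ha _ (hb _ hx)
        · rw [mul_inv_rev, mul_smul]; exact hb' _ (ha' _ hx)
      inv_mem' := by
        rintro a ⟨ha, ha'⟩
        exact ⟨ha', fun x hx => by rw [inv_inv]; exact ha _ hx⟩ }
  have h1 : K ≤ P := fun g hg => ⟨hK g hg, hK _ (inv_mem hg)⟩
  have h2 : L ≤ P := fun g hg => ⟨hL g hg, hL _ (inv_mem hg)⟩
  intro g hg
  exact ((sup_le h1 h2) hg).1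

section exp

variable (exp : ∀ m : M, m + m = 0)
include exp

theorem nsmul_odd {n : ℕ} (hn : Odd n) (m : M) : n • m = m := by
  obtain ⟨k, rfl⟩ := hn
  rw [add_smul, one_smul, mul_smul, two_smul, ← smul_add, exp, smul_zero, zero_add]

/-- a 2-group acting on a section `Y < X` of `M` has fixed points -/
theorem exists_fixed [Finite M] {S : Subgroup H} (hS : IsPGroup 2 S) {X Y : AddSubgroup M} (hX : Inv S X)
    (hY : Inv S Y) (h : Y < X) : ∃ x ∈ X, x ∉ Y ∧ ∀ s ∈ S, s • x - x ∈ Y := by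
  -- induction on `X`: choose `X` minimal with `Y < X`, `S`-invariant; or use the action on the quotient
  have hfin : Finite (↥X ⧸ Y.addSubgroupOf X) := inferInstance
  let act : MulAction S (↥X ⧸ Y.addSubgroupOf X) :=
    { smul := fun s => Quotient.map' (fun x : ↥X => (⟨(s : H) • (x : M), hX _ s.2 _ x.2⟩ : ↥X)) (by
        intro a b hab
        rw [QuotientAddGroup.leftRel_apply, AddSubgroup.mem_addSubgroupOf] at hab ⊢
        have h1 := hY _ s.2 _ hab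
        rw [AddSubgroup.coe_add, AddSubgroup.coe_neg, smul_add, smul_neg] at h1
        exact h1)
      one_smul := by
        intro x
        induction x using Quotient.inductionOn' with
        | h x =>
          show Quotient.mk'' _ = Quotient.mk'' _
          congr 1
          exact Subtype.ext (one_smul H (x : M))
      mul_smul := by
        intro a b x
        induction x using Quotient.inductionOn' with
        | h x =>
          show Quotient.mk'' _ = Quotient.mk'' _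
          congr 1
          exact Subtype.ext (mul_smul (a : H) (b : H) (x : M)) }
  have hcard : 2 ∣ Nat.card (↥X ⧸ Y.addSubgroupOf X) := by
    obtain ⟨x, hx, hxY⟩ := SetLike.exists_of_lt h
    have h1 : addOrderOf ((⟨x, hx⟩ : ↥X) : ↥X ⧸ Y.addSubgroupOf X) = 2 := by
      have : Fact (Nat.Prime 2) := ⟨Nat.prime_two⟩
      apply addOrderOf_eq_prime
      · rw [two_nsmul, ← QuotientAddGroup.mk_add]
        have : (⟨x, hx⟩ : ↥X) + ⟨x, hx⟩ = 0 := Subtype.ext (exp x)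
        rw [this, QuotientAddGroup.mk_zero]
      · rw [Ne, QuotientAddGroup.eq_zero_iff, AddSubgroup.mem_addSubgroupOf]
        exact hxY
    rw [← h1]
    exact addOrderOf_dvd_natCard _
  have : Fact (Nat.Prime 2) := ⟨Nat.prime_two⟩
  have h0 : ((0 : ↥X ⧸ Y.addSubgroupOf X)) ∈ MulAction.fixedPoints S (↥X ⧸ Y.addSubgroupOf X) := by
    intro s
    show Quotient.mk'' _ = Quotient.mk'' _
    congr 1
    exact Subtype.ext (smul_zero (s : H))
  obtain ⟨y, hy, hne⟩ := hS.exists_fixed_point_of_prime_dvd_card_of_fixed_point (↥X ⧸ Y.addSubgroupOf X) hcard h0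
  induction y using Quotient.inductionOn' with
  | h x =>
    refine ⟨x, x.2, ?_, ?_⟩
    · intro hxY
      apply hne
      symm
      exact (QuotientAddGroup.eq_zero_iff (N := Y.addSubgroupOf X) x).2 hxY
    · intro s hs
      have h2 := hy ⟨s, hs⟩
      have h3 : ((⟨s • (x : M), hX _ hs _ x.2⟩ : ↥X) : ↥X ⧸ Y.addSubgroupOf X) = (x : ↥X ⧸ Y.addSubgroupOf X) := h2
      rw [eq_comm, QuotientAddGroup.eq, AddSubgroup.mem_addSubgroupOf] at h3
      rw [sub_eq_neg_add]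
      exact h3

end exp

namespace Dat

variable {A S E T N : Subgroup H} (d : Dat A S E T N M)
include d

/-- if `A` centralises the section `X / Y`, so does `E` -/
theorem cen_E {X Y : AddSubgroup M} (hX : Inv E X) (hY : Inv E Y) (h : ∀ a ∈ A, ∀ x ∈ X, a • x - x ∈ Y) :
    ∀ g ∈ E, ∀ x ∈ X, g • x - x ∈ Y := by
  let K : Subgroup H :=
    { carrier := {k | (k ∈ E) ∧ ∀ x ∈ X, k • x - x ∈ Y}
      one_mem' := ⟨one_mem _, fun x _ => by rw [one_smul, sub_self]; exact zero_mem _⟩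
      mul_mem' := by
        rintro a b ⟨haE, ha⟩ ⟨hbE, hb⟩
        refine ⟨mul_mem haE hbE, fun x hx => ?_⟩
        rw [mul_smul]
        have h1 := ha _ (hX b hbE x hx)
        have h2 := hb _ hx
        have h3 := add_mem h1 h2
        rwa [sub_add_sub_cancel] at h3
      inv_mem' := by
        rintro a ⟨haE, ha⟩
        refine ⟨inv_mem haE, fun x hx => ?_⟩
        have h1 := ha _ (hX _ (inv_mem haE) x hx)
        rw [smul_inv_smul] at h1
        have h2 := neg_mem h1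
        rwa [neg_sub] at h2 }
  have hAK : A ≤ K := fun a ha => ⟨d.AE ha, h a ha⟩
  have h1 := d.gen K hAK (by
    rintro g hg k ⟨hkE, hk⟩
    refine ⟨mul_mem (mul_mem hg hkE) (inv_mem hg), fun x hx => ?_⟩
    have h2 := hk _ (hX _ (inv_mem hg) x hx)
    have h3 := hY _ hg _ h2
    rwa [smul_sub, smul_inv_smul, ← mul_smul, ← mul_smul] at h3)
  exact fun g hg x hx => (h1 hg).2 x hx

theorem cA_T {m : M} (hm : ∀ a ∈ A, a • m = m) {t : H} (ht : t ∈ T) : ∀ a ∈ A, a • t • m = t • m := by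
  intro a ha
  have h1 : t⁻¹ * a * t ∈ A := by
    have := d.TA _ (inv_mem ht) a ha
    rwa [inv_inv] at this
  have h2 := hm _ h1
  rw [mul_smul, mul_smul, inv_smul_eq_iff] at h2
  exact h2

theorem cA_S {m : M} (hm : ∀ a ∈ A, a • m = m) {s : H} (hs : s ∈ S) : ∀ a ∈ A, a • s • m = s • m := by
  intro a ha
  have h1 : s⁻¹ * a * s ∈ A := by
    have := d.SA _ (inv_mem hs) a ha
    rwa [inv_inv] at this
  have h2 := hm _ h1
  rw [mul_smul, mul_smul, inv_smul_eq_iff] at h2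
  exact h2

/-- `S` and `T` commute on `C_M(A)` -/
theorem smul_comm_cA {m : M} (hm : ∀ a ∈ A, a • m = m) {s t : H} (hs : s ∈ S) (ht : t ∈ T) :
    t • s • m = s • t • m := by
  have h1 := d.cA_T (d.cA_S hm hs) ht _ (d.ST s hs t ht)
  rw [← h1, ← mul_smul, ← mul_smul, ← mul_smul]
  congr 1
  group

theorem inv_com {K : Subgroup H} (hK : ∀ g ∈ K, ∀ a ∈ A, g * a * g⁻¹ ∈ A) {X : AddSubgroup M} (hX : Inv K X) :
    Inv K (com A X) := by
  have _ := d
  intro g hg x hx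
  induction hx using AddSubgroup.closure_induction with
  | mem x hx =>
    obtain ⟨a, ha, y, hy, rfl⟩ := hx
    refine AddSubgroup.subset_closure ⟨g * a * g⁻¹, hK g hg a ha, g • y, hX g hg y hy, ?_⟩
    rw [smul_sub, mul_smul, mul_smul, inv_smul_smul]
  | zero => rw [smul_zero]; exact zero_mem _
  | add x y _ _ hx hy => rw [smul_add]; exact add_mem hx hy
  | neg x _ hx => rw [smul_neg]; exact neg_mem hx

theorem com_T {X : AddSubgroup M} {y : M} (hy : y ∈ com A X) : ∀ t ∈ T, t • y = y := by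
  induction hy using AddSubgroup.closure_induction with
  | mem x hx =>
    obtain ⟨a, ha, y, hy, rfl⟩ := hx
    exact d.AT a ha y
  | zero => exact fun t _ => smul_zero t
  | add x y _ _ hx hy => exact fun t ht => by rw [smul_add, hx t ht, hy t ht]
  | neg x _ hx => exact fun t ht => by rw [smul_neg, hx t ht]

theorem com_le {K : Subgroup H} {X : AddSubgroup M} (hX : Inv K X) : com K X ≤ X := by
  have _ := d
  rw [com, AddSubgroup.closure_le]
  rintro y ⟨g, hg, x, hx, rfl⟩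
  exact sub_mem (hX g hg x hx) hx

/-- **(d)**: `C_M(A) ≤ C_M(T)` -/
theorem fix_T [Finite M] [Finite H] {m : M} (hm : ∀ a ∈ A, a • m = m) : ∀ t ∈ T, t • m = m := by
  classical
  have : Fintype T := Fintype.ofFinite T
  have hexp := d.exp
  have hTc : Odd (Fintype.card T) := by
    have := d.Todd
    rwa [Nat.card_eq_fintype_card] at this
  -- the average
  have eps_T : ∀ (t : T) (x : M), ∑ t' : T, (t' : H) • (t : H) • x = ∑ t' : T, (t' : H) • x := by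
    intro t x
    rw [← Equiv.sum_comp (Equiv.mulRight t) (fun t' : T => (t' : H) • x)]
    refine Finset.sum_congr rfl fun t' _ => ?_
    rw [Equiv.coe_mulRight, Subgroup.coe_mul, mul_smul]
  have T_eps : ∀ (t : T) (x : M), (t : H) • ∑ t' : T, (t' : H) • x = ∑ t' : T, (t' : H) • x := by
    intro t x
    conv_rhs => rw [← Equiv.sum_comp (Equiv.mulLeft t) (fun t' : T => (t' : H) • x)]
    rw [Finset.smul_sum]
    refine Finset.sum_congr rfl fun t' _ => ?_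
    rw [Equiv.coe_mulLeft, Subgroup.coe_mul, mul_smul]
  let r1 : AddSubgroup M :=
    { carrier := {x | (∀ a ∈ A, a • x = x) ∧ ∑ t' : T, (t' : H) • x = 0}
      zero_mem' := ⟨fun a _ => smul_zero a, by simp⟩
      add_mem' := by
        rintro x y ⟨h1, h2⟩ ⟨h3, h4⟩
        refine ⟨fun a ha => by rw [smul_add, h1 a ha, h3 a ha], ?_⟩
        simp only [smul_add, Finset.sum_add_distrib, h2, h4, add_zero]
      neg_mem' := by
        rintro x ⟨h1, h2⟩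
        refine ⟨fun a ha => by rw [smul_neg, h1 a ha], ?_⟩
        simp only [smul_neg, Finset.sum_neg_distrib, h2, neg_zero] }
  have hr1T : Inv T r1 := by
    rintro t ht x ⟨h1, h2⟩
    exact ⟨d.cA_T h1 ht, by rw [eps_T ⟨t, ht⟩ x, h2]⟩
  have hr1S : Inv S r1 := by
    rintro s hs x ⟨h1, h2⟩
    refine ⟨d.cA_S h1 hs, ?_⟩
    have h3 : ∀ t' : T, (t' : H) • s • x = s • (t' : H) • x := fun t' => d.smul_comm_cA h1 hs t'.2
    simp only [h3]
    rw [← Finset.smul_sum, h2, smul_zero]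
  -- it is enough to show `r1 = 0`
  by_cases hr1 : r1 = ⊥
  · intro t ht
    have h1 : m - ∑ t' : T, (t' : H) • m ∈ r1 := by
      refine ⟨fun a ha => ?_, ?_⟩
      · rw [smul_sub, hm a ha, Finset.smul_sum]
        congr 1
        exact Finset.sum_congr rfl fun t' _ => d.cA_T hm t'.2 a ha
      · simp only [smul_sub, Finset.sum_sub_distrib]
        rw [Finset.sum_congr rfl (fun t' _ => T_eps t' m), Finset.sum_const, Finset.card_univ,
          nsmul_odd hexp hTc, sub_self]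
    rw [hr1, AddSubgroup.mem_bot, sub_eq_zero] at h1
    rw [h1]
    exact T_eps ⟨t, ht⟩ m
  exfalso
  -- `r2`
  let r2 : AddSubgroup M :=
    { carrier := {x | x ∈ r1 ∧ ∀ s ∈ S, s • x = x}
      zero_mem' := ⟨zero_mem _, fun s _ => smul_zero s⟩
      add_mem' := by
        rintro x y ⟨h1, h2⟩ ⟨h3, h4⟩
        exact ⟨add_mem h1 h3, fun a ha => by rw [smul_add, h2 a ha, h4 a ha]⟩
      neg_mem' := by
        rintro x ⟨h1, h2⟩
        exact ⟨neg_mem h1, fun a ha => by rw [smul_neg, h2 a ha]⟩ }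
  have hr2T : Inv T r2 := by
    rintro t ht x ⟨h1, h2⟩
    exact ⟨hr1T t ht x h1, fun s hs => by rw [← d.smul_comm_cA h1.1 hs ht, h2 s hs]⟩
  obtain ⟨x0, hx0, hx0'⟩ : ∃ x ∈ r2, x ≠ 0 := by
    obtain ⟨x, hx, hx0, hxS⟩ := exists_fixed hexp d.two hr1S (Y := ⊥)
      (fun g _ x hx => by rw [AddSubgroup.mem_bot] at hx ⊢; rw [hx, smul_zero]) (bot_lt_iff_ne_bot.2 hr1)
    exact ⟨x, ⟨hx, fun s hs => sub_eq_zero.1 (AddSubgroup.mem_bot.1 (hxS s hs))⟩, hx0⟩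
  -- `X2`
  set X2 : AddSubgroup M := AddSubgroup.closure {y | ∃ g ∈ E, ∃ x ∈ r2, y = g • x} with hX2
  have hr2X : r2 ≤ X2 := fun x hx => AddSubgroup.subset_closure ⟨1, one_mem _, x, hx, (one_smul _ _).symm⟩
  have hX2E : Inv E X2 := by
    intro g hg x hx
    induction hx using AddSubgroup.closure_induction with
    | mem x hx =>
      obtain ⟨g', hg', y, hy, rfl⟩ := hx
      exact AddSubgroup.subset_closure ⟨g * g', mul_mem hg hg', y, hy, (mul_smul _ _ _).symm⟩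
    | zero => rw [smul_zero]; exact zero_mem _
    | add x y _ _ hx hy => rw [smul_add]; exact add_mem hx hy
    | neg x _ hx => rw [smul_neg]; exact neg_mem hx
  have hX2T : Inv T X2 := by
    intro t ht x hx
    induction hx using AddSubgroup.closure_induction with
    | mem x hx =>
      obtain ⟨g', hg', y, hy, rfl⟩ := hx
      refine AddSubgroup.subset_closure ⟨t * g' * t⁻¹, d.TE t ht g' hg', t • y, hr2T t ht y hy, ?_⟩
      rw [mul_smul, mul_smul, inv_smul_smul]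
    | zero => rw [smul_zero]; exact zero_mem _
    | add x y _ _ hx hy => rw [smul_add]; exact add_mem hx hy
    | neg x _ hx => rw [smul_neg]; exact neg_mem hx
  have hX2A : Inv A X2 := fun a ha => hX2E a (d.AE ha)
  -- `r2 ≤ [X2, E]` (transfer)
  have htr : r2 ≤ com E X2 := by
    intro x hx
    have hfin : Finite (↥E ⧸ S.subgroupOf E) := inferInstance
    have hft : Fintype (↥E ⧸ S.subgroupOf E) := Fintype.ofFinite _
    let φ : ↥E ⧸ S.subgroupOf E → M := Quotient.lift (fun g : ↥E => (g : H) • x) (by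
      intro a b hab
      have h1 : a⁻¹ * b ∈ S.subgroupOf E := QuotientGroup.leftRel_apply.1 hab
      rw [mem_subgroupOf] at h1
      have h2 := hx.2 _ h1
      rw [coe_mul, coe_inv, mul_smul, inv_smul_eq_iff] at h2
      exact h2.symm)
    have hφ : ∀ g : ↥E, φ (g : ↥E ⧸ S.subgroupOf E) = (g : H) • x := fun g => rfl
    have hφE : ∀ (g : ↥E) (q : ↥E ⧸ S.subgroupOf E), (g : H) • φ q = φ (g • q) := by
      intro g q
      induction q using Quotient.inductionOn' with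
      | h q => exact (mul_smul (g : H) (q : H) x).symm
    have h1 : ∑ q, φ q = 0 := by
      apply d.CE
      intro g hg
      rw [Finset.smul_sum, ← Equiv.sum_comp (MulAction.toPerm (⟨g, hg⟩ : ↥E)) φ]
      exact Finset.sum_congr rfl fun q _ => hφE ⟨g, hg⟩ q
    have h2 : ∑ q, (φ q - x) ∈ com E X2 := by
      refine sum_mem fun q _ => ?_
      induction q using Quotient.inductionOn' with
      | h q => exact AddSubgroup.subset_closure ⟨q, q.2, x, hr2X hx, rfl⟩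
    rw [Finset.sum_sub_distrib, h1, Finset.sum_const, Finset.card_univ, zero_sub] at h2
    have h3 : Odd (Fintype.card (↥E ⧸ S.subgroupOf E)) := by
      have := d.odd
      rwa [relIndex, index, Nat.card_eq_fintype_card] at this
    rw [nsmul_odd hexp h3] at h2
    exact (neg_mem_iff).1 h2
  -- a maximal invariant subgroup
  have hX2ne : X2 ≠ ⊥ := fun h => hx0' (by
    have := hr2X hx0
    rw [h] at this
    exact this)
  obtain ⟨Y, hYmax⟩ := Set.Finite.exists_maximal (s := {Y : AddSubgroup M | Inv E Y ∧ Inv T Y ∧ Y < X2})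
    (Set.toFinite _) ⟨⊥, fun g _ x hx => by rw [AddSubgroup.mem_bot] at hx ⊢; rw [hx, smul_zero],
      fun g _ x hx => by rw [AddSubgroup.mem_bot] at hx ⊢; rw [hx, smul_zero], bot_lt_iff_ne_bot.2 hX2ne⟩
  obtain ⟨⟨hYE, hYT, hYX⟩, hYm⟩ := hYmax
  have hYS : Inv S Y := fun s hs => hYE s (d.SE hs)
  have hYA : Inv A Y := fun a ha => hYE a (d.AE ha)
  -- if `r2 ≤ Y` then `X2 ≤ Y`
  have hr2Y : ¬ r2 ≤ Y := by
    intro h
    apply hYX.not_ge
    rw [hX2, AddSubgroup.closure_le]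
    rintro y ⟨g, hg, x, hx, rfl⟩
    exact hYE g hg x (h hx)
  -- `[X2, A]` is not in `Y`
  have hcom : ¬ com A X2 ≤ Y := by
    intro h
    apply hr2Y
    refine htr.trans ?_
    rw [com, AddSubgroup.closure_le]
    rintro y ⟨g, hg, x, hx, rfl⟩
    exact d.cen_E hX2E hYE (fun a ha x hx => h (AddSubgroup.subset_closure ⟨a, ha, x, hx, rfl⟩)) g hg x hx
  have hXN : Inv N X2 := fun n hn => inv_sup hX2E hX2T n (d.NE hn)
  have hYN : Inv N Y := fun n hn => inv_sup hYE hYT n (d.NE hn)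
  have hcomX : com A X2 ≤ X2 := d.com_le hX2A
  have hcomN : Inv N (com A X2) := d.inv_com d.NA hXN
  have hcomS : Inv S (com A X2) := d.inv_com d.SA (fun s hs => hX2E s (d.SE hs))
  let D : AddSubgroup M :=
    { carrier := {x | x ∈ X2 ∧ (∃ y ∈ com A X2, x - y ∈ Y) ∧ ∀ s ∈ S, s • x - x ∈ Y}
      zero_mem' := ⟨zero_mem _, ⟨0, zero_mem _, by rw [sub_zero]; exact zero_mem _⟩, fun s _ => by
        rw [smul_zero, sub_zero]; exact zero_mem _⟩
      add_mem' := by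
        rintro x y ⟨h1, ⟨u, hu, h2⟩, h3⟩ ⟨h4, ⟨v, hv, h5⟩, h6⟩
        refine ⟨add_mem h1 h4, ⟨u + v, add_mem hu hv, ?_⟩, fun s hs => ?_⟩
        · rw [add_sub_add_comm]; exact add_mem h2 h5
        · rw [smul_add, add_sub_add_comm]; exact add_mem (h3 s hs) (h6 s hs)
      neg_mem' := by
        rintro x ⟨h1, ⟨u, hu, h2⟩, h3⟩
        refine ⟨neg_mem h1, ⟨-u, neg_mem hu, ?_⟩, fun s hs => ?_⟩
        · have := neg_mem h2
          rwa [neg_sub, ← neg_sub_neg] at this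
        · have := neg_mem (h3 s hs)
          rwa [neg_sub, ← neg_sub_neg, ← smul_neg] at this }
  have hYD : Y ≤ D := fun x hx => ⟨hYX.le hx, ⟨0, zero_mem _, by rwa [sub_zero]⟩, fun s hs =>
    sub_mem (hYS s hs x hx) hx⟩
  have hDlt : Y < D := by
    refine lt_of_le_of_ne hYD fun h => ?_
    obtain ⟨x, hx, hxY, hxS⟩ := exists_fixed hexp d.two (X := com A X2 ⊔ Y) (Y := Y) (by
      intro s hs x hx
      obtain ⟨u, hu, v, hv, rfl⟩ := AddSubgroup.mem_sup.1 hx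
      rw [smul_add]
      exact AddSubgroup.add_mem_sup (hcomS s hs u hu) (hYS s hs v hv)) hYS
      (lt_of_le_of_ne le_sup_right fun h1 => hcom (by rw [h1]; exact le_sup_left))
    apply hxY
    rw [h]
    obtain ⟨u, hu, v, hv, rfl⟩ := AddSubgroup.mem_sup.1 hx
    refine ⟨add_mem (hcomX hu) (hYX.le hv), ⟨u, hu, by rwa [add_sub_cancel_left]⟩, hxS⟩
  have hDN : Inv N D := by
    rintro n hn x ⟨h1, ⟨u, hu, h2⟩, h3⟩
    refine ⟨hXN n hn x h1, ⟨n • u, hcomN n hn u hu, ?_⟩, fun s hs => ?_⟩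
    · rw [← smul_sub]; exact hYN n hn _ h2
    · have h4 : n⁻¹ * s * n ∈ S := by
        have := d.NS _ (inv_mem hn) s hs
        rwa [inv_inv] at this
      have h5 := hYN n hn _ (h3 _ h4)
      rwa [smul_sub, ← mul_smul, show n * (n⁻¹ * s * n) = s * n by group, mul_smul] at h5
  -- Curtis–Richen
  apply hr2Y
  intro x hx
  have hxD : x ∈ D := d.CR X2 Y hX2E hX2T hYE hYT hYX (by
    intro Z hZE hZT hYZ hZX
    by_cases h : Z = X2
    · exact Or.inr h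
    · exact Or.inl (le_antisymm (hYm ⟨hZE, hZT, lt_of_le_of_ne hZX h⟩ hYZ) hYZ)) D hDlt (fun x hx => hx.1) hDN
    (fun s hs x hx => hx.2.2 s hs) x (hr2X hx) (fun s hs => by rw [hx.2 s hs, sub_self]; exact zero_mem _)
  obtain ⟨-, ⟨y, hy, hxy⟩, -⟩ := hxD
  have h1 : ∀ t' : T, (t' : H) • x - x ∈ Y := by
    intro t'
    have h2 := sub_mem (hYT _ t'.2 _ hxy) hxy
    rw [smul_sub, d.com_T hy _ t'.2] at h2
    rwa [show (t' : H) • x - y - (x - y) = (t' : H) • x - x by abel] at h2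
  have h2 : ∑ t' : T, ((t' : H) • x - x) ∈ Y := sum_mem fun t' _ => h1 t'
  rw [Finset.sum_sub_distrib, hx.1.2, Finset.sum_const, Finset.card_univ, nsmul_odd hexp hTc, zero_sub] at h2
  exact neg_mem_iff.1 h2

end Dat

/-! ### (e) -/

/-- **(e)**: an element normalising `A`, commuting with `T` modulo `A`, fixing `e + rad`, fixes `e`. -/
theorem mem_of_fix {A T : Subgroup H} {e rad : AddSubgroup M} {g : H} (hgA : ∀ a ∈ A, g⁻¹ * a * g ∈ A)
    (hgT : ∀ t ∈ T, g * t * g⁻¹ * t⁻¹ ∈ A) (hTA : ∀ t ∈ T, ∀ a ∈ A, t * a * t⁻¹ ∈ A)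
    (hTe : Inv T e) (hAe : ∀ a ∈ A, ∀ x ∈ e, a • x = x)
    (heT : e ≤ com T e) (hrad : ∀ m ∈ rad, (∀ a ∈ A, a • m = m) → ∀ t ∈ T, t • m = m)
    (hg : ∀ x ∈ e, g • x ∈ e ⊔ rad) : ∀ x ∈ e, g • x ∈ e := by
  intro x hx
  have h1 := heT hx
  clear hx
  induction h1 using AddSubgroup.closure_induction with
  | mem x hx =>
    obtain ⟨t, ht, y, hy, rfl⟩ := hx
    -- `g • y` and `t • g • y` are fixed by `A`
    have k1 : ∀ a ∈ A, ∀ y ∈ e, a • g • y = g • y := by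
      intro a ha y hy
      have := hAe _ (hgA a ha) y hy
      rw [mul_smul, mul_smul, inv_smul_eq_iff] at this
      exact this
    have k2 : ∀ a ∈ A, a • t • g • y = t • g • y := by
      intro a ha
      have h2 : t⁻¹ * a * t ∈ A := by
        have := hTA _ (inv_mem ht) a ha
        rwa [inv_inv] at this
      have h3 := k1 _ h2 y hy
      rw [mul_smul, mul_smul, inv_smul_eq_iff] at h3
      exact h3
    have k3 : g • t • y = t • g • y := by
      have h2 := k2 _ (hgT t ht)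
      rw [← h2, ← mul_smul, ← mul_smul, ← mul_smul]
      congr 1
      group
    obtain ⟨u, hu, r, hr, hur⟩ := AddSubgroup.mem_sup.1 (hg y hy)
    have k4 : ∀ a ∈ A, a • r = r := by
      intro a ha
      have h2 := k1 a ha y hy
      rw [← hur, smul_add, hAe a ha u hu] at h2
      exact add_left_cancel h2
    have k5 := hrad r hr k4 t ht
    rw [smul_sub, k3, ← hur, smul_add, k5, add_sub_add_right_eq_sub]
    exact sub_mem (hTe t ht u hu) hu
  | zero => rw [smul_zero]; exact zero_mem _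
  | add x y _ _ hx hy => rw [smul_add]; exact add_mem hx hy
  | neg x _ hx => rw [smul_neg]; exact neg_mem hx

end Cfsg.Agent.Omega.HOneQ.CRad

end

section


/-!
# II.0h1, SPLIT, `q ≥ 4` (bb #15121 (d)-(f)): what is used of the group `E = ⟨A^H⟩`

`KD E S HE A T w` : `S` a Sylow 2-subgroup of `E`, `HE` a complement of `S` in `N_E(S)`, `w` the longest element, `T` the
torus, with the theorem of Curtis and Richen for `E T` (sections of modules over the field of two elements).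
-/

set_option autoImplicit false

namespace Cfsg.Agent.Omega.HOneQ.Fr

open Subgroup Cfsg.Agent.Omega.Hex

universe u

/-- **The K-side data.** -/
structure KD {H : Type u} [Group H] (E S HE A T : Subgroup H) (w : H) : Prop where
  /-- `HE` is a complement of `S` in `N_E(S)` -/
  cpl : Cpl S (E ⊓ normalizer (S : Set H)) HE
  /-- `[HE, T] ≤ A` -/
  com : ∀ n ∈ HE, ∀ t ∈ T, n * t * n⁻¹ * t⁻¹ ∈ A
  w_mem : w ∈ E
  wt : ∀ t ∈ T, t⁻¹ * w⁻¹ * t * w ∈ HE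
  /-- `⟨A, w S w⁻¹⟩ = E` -/
  gen : ∀ K : Subgroup H, A ≤ K → (∀ s ∈ S, w * s * w⁻¹ ∈ K) → E ≤ K
  /-- Curtis–Richen -/
  CR : ∀ (M : Type u) [AddCommGroup M] [DistribMulAction H M] [Finite M], (∀ m : M, m + m = 0) →
    CRad.SecCR E T S (T ⊔ HE) M
  span : ∀ (M : Type u) [AddCommGroup M] [DistribMulAction H M] [Finite M], (∀ m : M, m + m = 0) →
    (∀ L : AddSubgroup M, CRad.Inv E L → CRad.Inv T L → L = ⊥ ∨ L = ⊤) →
    ∀ L : AddSubgroup M, (∀ s ∈ S, ∀ x : M, (∀ s' ∈ S, s' • x = x) → (w * s * w⁻¹) • x ∈ L) → L = ⊤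

end Cfsg.Agent.Omega.HOneQ.Fr

end

section


/-!
# II.0h1, SPLIT, all `q ≥ 4` (bb #15121 (b), (c))

`H = HQ (R i)`, `A = AA V R i j`, `E` a normal subgroup of `H` with `A ≤ E ≤ H⁰`, `E` perfect (`E = ⟨A^H⟩`).

* `cen_rad`: **(b)** an element of `Z(W i)` centralised by `E` modulo `R i` lies in `R i`;
* `S_inf_KN`: **(c)** `S ∩ N₀ = 1`; `KN_odd`: `N₀` has odd order; `met_of_even`: every component `K ≤ H⁰` of even order
  is met by `A`.
-/

set_option autoImplicit false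
set_option linter.unusedSectionVars false

namespace Cfsg.Agent.Omega.HOneQ.ECen

open Subgroup Cfsg Cfsg.Agent.Omega.BTwo Cfsg.Agent.Omega.Lie Cfsg.Agent.Omega.Lie.Quot
open Cfsg.Agent.Omega.Lie.Layer (OddC InnC InnA Cps)

universe u v w

variable {G : Type u} [Group G] {ι : Type w} {V : Subgroup G} {R : ι → Subgroup G} {i j : ι}
  {F : Type v} [Field F] {vv : F → F → G} {w1 w2 t : F → G}

/-! ### exchange of `i` and `j` -/

theorem coord_swap (c : Coord V R i j vv w1 w2) : Coord V R j i (fun b c => vv c b) w2 w1 :=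
  (Crd.of_coord c).swap.to_coord

theorem torD_swap (τ : TorD V R i j vv t) : TorD V R j i (fun b c => vv c b) (fun a => (t a)⁻¹) where
  ne := τ.ne.symm
  v_add b c b' c' := τ.v_add c b c' b'
  v_inj b c h := (τ.v_inj c b h).symm
  v_mem g := by
    rw [τ.v_mem g]
    exact ⟨fun ⟨b, c, h⟩ => ⟨c, b, h⟩, fun ⟨b, c, h⟩ => ⟨c, b, h⟩⟩
  Ri := τ.Rj
  Rj := τ.Ri
  one := by rw [τ.one, inv_one]
  mul a b ha hb := by rw [τ.mul a b ha hb, mul_inv_rev, ← mul_inv_rev, ← mul_inv_rev, τ.comm ha hb]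
  memX a ha := inv_mem (τ.memX a ha)
  odd a ha := by rw [orderOf_inv]; exact τ.odd a ha
  act a b c ha := by
    change (t a)⁻¹ * vv c b * (t a)⁻¹⁻¹ = vv (a⁻¹ * c) (a * b)
    rw [inv_inv, LemNS.t_act_inv τ ha]
  wU a b ha hb hab u hu := by
    rw [inv_inv, inv_inv, inv_inv]
    exact τ.wU' a b ha hb hab u hu
  wU' a b ha hb hab u hu := by
    rw [inv_inv, inv_inv, inv_inv]
    exact τ.wU a b ha hb hab u hu
  wW a b ha hb hab u hu := by
    rw [inv_inv, inv_inv, inv_inv]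
    exact τ.wW' a b ha hb hab u hu
  wW' a b ha hb hab u hu := by
    rw [inv_inv, inv_inv, inv_inv]
    exact τ.wW a b ha hb hab u hu

theorem relIndex_cj (g : G) (A B : Subgroup G) : (cj g A).relIndex (cj g B) = A.relIndex B := by
  unfold cj
  exact relIndex_map_map_of_injective _ _ (MulAut.conj g).injective

/-- the index of `N(V) ∩ N(R i)` in `N(R i)` does not depend on `i` -/
theorem relIndex_eq (b : BT V R) (i j : ι) : (normalizer (V : Set G)).relIndex (normalizer (R j : Set G)) =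
    (normalizer (V : Set G)).relIndex (normalizer (R i : Set G)) := by
  obtain ⟨x, hx, e⟩ := b.trans_X_one i j
  have hxV : cj x V = V := cj_eq_self_iff.2 (b.X_le_NV hx)
  rw [← relIndex_cj x (normalizer (V : Set G)) (normalizer (R i : Set G)), ← normalizer_cj, ← normalizer_cj, hxV, e]

/-! ### (b) -/

/-- if `L` centralises `R₀` and `Z / R₀` then `[L, L]` centralises `Z` -/
theorem comm_cen {R₀ Z L : Subgroup G} (hRR : ∀ a ∈ R₀, ∀ b ∈ R₀, a * b = b * a)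
    (hR : ∀ x ∈ L, ∀ r ∈ R₀, x * r * x⁻¹ = r) (hZ : ∀ x ∈ L, ∀ z ∈ Z, x * z * x⁻¹ * z⁻¹ ∈ R₀) :
    ⁅L, L⁆ ≤ centralizer (Z : Set G) := by
  rw [commutator_le]
  intro x hx y hy
  rw [mem_centralizer_iff]
  intro z hz
  have g1 := hZ _ (inv_mem hx) z hz
  have g2 := hZ _ (inv_mem hy) z hz
  have l1 : x⁻¹ * z * x⁻¹⁻¹ = (x⁻¹ * z * x⁻¹⁻¹ * z⁻¹) * z := by group
  have l2 : y⁻¹ * z * y⁻¹⁻¹ = (y⁻¹ * z * y⁻¹⁻¹ * z⁻¹) * z := by group
  have g3 := hRR _ g1 _ g2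
  set r' := x⁻¹ * z * x⁻¹⁻¹ * z⁻¹
  set s' := y⁻¹ * z * y⁻¹⁻¹ * z⁻¹
  have f1 : x⁻¹ * y⁻¹ * z * (x⁻¹ * y⁻¹)⁻¹ = s' * r' * z := by
    calc x⁻¹ * y⁻¹ * z * (x⁻¹ * y⁻¹)⁻¹ = x⁻¹ * (y⁻¹ * z * y⁻¹⁻¹) * x⁻¹⁻¹ := by group
      _ = x⁻¹ * (s' * z) * x⁻¹⁻¹ := by rw [l2]
      _ = (x⁻¹ * s' * x⁻¹⁻¹) * (x⁻¹ * z * x⁻¹⁻¹) := by group
      _ = s' * (r' * z) := by rw [hR _ (inv_mem hx) s' g2, l1]
      _ = _ := by group
  have f2 : y⁻¹ * x⁻¹ * z * (y⁻¹ * x⁻¹)⁻¹ = r' * s' * z := by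
    calc y⁻¹ * x⁻¹ * z * (y⁻¹ * x⁻¹)⁻¹ = y⁻¹ * (x⁻¹ * z * x⁻¹⁻¹) * y⁻¹⁻¹ := by group
      _ = y⁻¹ * (r' * z) * y⁻¹⁻¹ := by rw [l1]
      _ = (y⁻¹ * r' * y⁻¹⁻¹) * (y⁻¹ * z * y⁻¹⁻¹) := by group
      _ = r' * (s' * z) := by rw [hR _ (inv_mem hy) r' g1, l2]
      _ = _ := by group
  have f3 : x⁻¹ * y⁻¹ * z * (x⁻¹ * y⁻¹)⁻¹ = y⁻¹ * x⁻¹ * z * (y⁻¹ * x⁻¹)⁻¹ := by rw [f1, f2, g3]
  rw [commutatorElement_def]
  calc z * (x * y * x⁻¹ * y⁻¹) = (x * y) * ((x * y)⁻¹ * z * (x * y)) * (x⁻¹ * y⁻¹) := by group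
    _ = (x * y) * (y⁻¹ * x⁻¹ * z * (y⁻¹ * x⁻¹)⁻¹) * (x⁻¹ * y⁻¹) := by group
    _ = (x * y) * (x⁻¹ * y⁻¹ * z * (x⁻¹ * y⁻¹)⁻¹) * (x⁻¹ * y⁻¹) := by rw [f3]
    _ = x * y * x⁻¹ * y⁻¹ * z := by group

/-- the preimage of a subgroup of `H` in `N(R i)` -/
def lift (R₀ : Subgroup G) (E : Subgroup (HQ R₀)) : Subgroup G :=
  (E.comap (pr R₀)).map (normalizer (R₀ : Set G)).subtype

theorem mem_lift {R₀ : Subgroup G} {E : Subgroup (HQ R₀)} {g : G} :
    g ∈ lift R₀ E ↔ ∃ hg : g ∈ normalizer (R₀ : Set G), pr R₀ ⟨g, hg⟩ ∈ E := by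
  unfold lift
  constructor
  · rintro ⟨x, hx, rfl⟩
    exact ⟨x.2, hx⟩
  · rintro ⟨hg, h⟩
    exact ⟨⟨g, hg⟩, h, rfl⟩

theorem lift_le {R₀ : Subgroup G} {E : Subgroup (HQ R₀)} : lift R₀ E ≤ normalizer (R₀ : Set G) := fun _ h =>
  (mem_lift.1 h).1

theorem im_lift {R₀ : Subgroup G} {E : Subgroup (HQ R₀)} : im R₀ (lift R₀ E) = E := by
  ext x
  constructor
  · intro hx
    obtain ⟨g, hg, hgL, rfl⟩ := mem_im.1 hx
    exact (mem_lift.1 hgL).2
  · intro hx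
    obtain ⟨g, hg, rfl⟩ := exists_pr x
    exact pr_mem_im hg (mem_lift.2 ⟨hg, hx⟩)

/-- `{z ∈ Z(W i) : [z, E] ≤ R i}` -/
def Z00 (b : BT V R) (E : Subgroup (HQ (R i))) : Subgroup G where
  carrier := {z | z ∈ BTwo.ZZ V R i ∧ ∀ g ∈ lift (R i) E, g * z * g⁻¹ * z⁻¹ ∈ R i}
  one_mem' := ⟨one_mem _, fun g _ => by
    rw [show g * 1 * g⁻¹ * 1⁻¹ = 1 by group]; exact one_mem _⟩
  mul_mem' := by
    rintro x y ⟨hx, hx'⟩ ⟨hy, hy'⟩
    refine ⟨mul_mem hx hy, fun g hg => ?_⟩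
    have e : g * (x * y) * g⁻¹ * (x * y)⁻¹ = (g * x * g⁻¹ * x⁻¹) * (x * (g * y * g⁻¹ * y⁻¹) * x⁻¹) := by group
    rw [e]
    exact mul_mem (hx' g hg) (conj_mem_of_normalizer (b.W_le_N i hx.1) (hy' g hg))
  inv_mem' := by
    rintro x ⟨hx, hx'⟩
    refine ⟨inv_mem hx, fun g hg => ?_⟩
    have e : g * x⁻¹ * g⁻¹ * x⁻¹⁻¹ = x⁻¹ * (g * x * g⁻¹ * x⁻¹)⁻¹ * x := by
      have h1 : Commute (g * x * g⁻¹ * x⁻¹) x := by
        have h2 := mem_centralizer_iff.1 hx.2 _ (b.R_le_W i i (hx' g hg))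
        exact h2
      have h3 : g * x * g⁻¹ = (g * x * g⁻¹ * x⁻¹) * x := by group
      have h4 : g * x⁻¹ * g⁻¹ = x⁻¹ * (g * x * g⁻¹ * x⁻¹)⁻¹ := by
        rw [← mul_inv_rev, ← h3]; group
      rw [h4, inv_inv]
    rw [e]
    exact conj_inv_mem_of_normalizer (b.W_le_N i hx.1) (inv_mem (hx' g hg))

section main

variable [Finite G] [Finite F] [CharP F 2] (b : BTS V R) (hF : ∃ a : F, a ≠ 0 ∧ a ≠ 1)
  (c : Coord V R i j vv w1 w2) (τ : TorD V R i j vv t)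
  (hodd : Odd ((normalizer (V : Set G)).relIndex (normalizer (R i : Set G))))
  {E : Subgroup (HQ (R i))} (hEn : E.Normal) (hAE : AA V R i j ≤ E) (hE0 : E ≤ H0 R i) (hEp : E ≤ ⁅E, E⁆)

include b hF c τ hodd hEn hAE hE0 hEp

/-- **(b)** `C_{Z(W i)/R i}(E) = 1` -/
theorem cen_rad : Z00 b.toBT E ≤ R i := by
  have b' := b.toBT
  set Z := Z00 b.toBT E with hZ
  have hZZ : Z ≤ BTwo.ZZ V R i := fun _ h => h.1
  -- `N(R i)` normalises `Z`
  have hNZ : normalizer (R i : Set G) ≤ normalizer (Z : Set G) := by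
    refine le_normalizer_of fun g hg z hz => ?_
    refine ⟨conj_mem_of_normalizer (LemNS.N_le_NZ i hg) hz.1, fun x hx => ?_⟩
    obtain ⟨hxN, hxE⟩ := mem_lift.1 hx
    have h1 : g⁻¹ * x * g ∈ lift (R i) E := by
      refine mem_lift.2 ⟨mul_mem (mul_mem (inv_mem hg) hxN) hg, ?_⟩
      have h2 := hEn.conj_mem _ hxE (pr (R i) ⟨g, hg⟩)⁻¹
      rw [inv_inv] at h2
      exact h2
    have h2 := conj_mem_of_normalizer hg (hz.2 _ h1)
    rwa [show g * (g⁻¹ * x * g * z * (g⁻¹ * x * g)⁻¹ * z⁻¹) * g⁻¹ =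
      x * (g * z * g⁻¹) * x⁻¹ * (g * z * g⁻¹)⁻¹ by group] at h2
  have hNC : normalizer (R i : Set G) ≤ normalizer (centralizer (Z : Set G) : Set G) :=
    hNZ.trans (normalizer_le_normalizer_centralizer _)
  have hWC : WW V (R i) ≤ centralizer (Z : Set G) := by
    intro w hw
    rw [mem_centralizer_iff]
    exact fun z hz => z_comm (hZZ hz) hw
  -- `[L, L]` centralises `Z`
  have hLC : ⁅lift (R i) E, lift (R i) E⁆ ≤ centralizer (Z : Set G) := by
    refine comm_cen (R₀ := R i) (b.R_comm i) (fun x hx r hr => ?_) (fun x hx z hz => hz.2 x hx)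
    obtain ⟨hxN, hxE⟩ := mem_lift.1 hx
    have h1 : x ∈ centralizer (R i : Set G) := (pr_mem_im_iff (Q_le_C b.toBT i) hxN).1 (hE0 hxE)
    rw [← mem_centralizer_iff.1 h1 r hr, mul_inv_cancel_right]
  obtain ⟨a, ha, ha1⟩ := hF
  have hTN := τ.normR ha
  have hTX := τ.memX a ha
  -- `[t, u]` centralises `Z`
  have key : ∀ u ∈ UU V R j, t a * u * (t a)⁻¹ * u⁻¹ ∈ centralizer (Z : Set G) := by
    intro u hu
    have huN := U_le_N b.toBT i j hu
    have h1 : pr (R i) ⟨u, huN⟩ ∈ ⁅im (R i) (lift (R i) E), im (R i) (lift (R i) E)⁆ := by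
      rw [im_lift]
      exact hEp (hAE ((mem_AA b.toBT).2 ⟨u, hu, rfl⟩))
    obtain ⟨x, hxN, hx, e⟩ := mem_im.1 (Layer.commutator_im_le lift_le lift_le h1)
    have hq := (pr_eq_pr hxN huN).1 e
    have hx' := hLC hx
    have h2 := hWC (b.XQ hTX hTN hq)
    have e1 : t a * u * (t a)⁻¹ * u⁻¹ =
        (t a * x * (t a)⁻¹) * (t a * (x⁻¹ * u) * (t a)⁻¹ * (x⁻¹ * u)⁻¹) * x⁻¹ := by group
    rw [e1]
    exact mul_mem (mul_mem (conj_mem_of_normalizer (hNC hTN) hx') h2) (inv_mem hx')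
  have hUZ : ∀ u ∈ UU V R j, u ∈ centralizer (Z : Set G) := by
    intro u hu
    obtain ⟨u', hu', h1⟩ := τ.exists_comm b.toBT ha ha1 hu
    have e1 : u = (u * (t a * u' * (t a)⁻¹ * u'⁻¹)⁻¹) * (t a * u' * (t a)⁻¹ * u'⁻¹) := by group
    rw [e1]
    exact mul_mem (hWC (D_le_W V R i h1)) (key u' hu')
  refine core_le_of_coord b c ⟨a, ha, ha1⟩ (S := normalizer (V : Set G) ⊓ normalizer (R i : Set G)) inf_le_right
    inf_le_left (by rwa [inf_relIndex_right]) hNZ fun z hz => ?_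
  -- `z ∈ D`
  have hzD : z ∈ DD V R := by
    by_contra hzD
    obtain ⟨u, hu, h1⟩ := LemNS.beta_ne b ⟨a, ha, ha1⟩ (coord_swap c) (torD_swap τ)
      (by rw [relIndex_eq b.toBT i j]; exact hodd) (hZZ hz) hzD
    apply h1
    have h2 := mem_centralizer_iff.1 (hUZ u hu) z hz
    rw [h2, mul_inv_cancel_right, mul_inv_cancel]
    exact one_mem _
  obtain ⟨r, hr, h1⟩ := b.cen_DW hzD (hZZ hz).2
  exact ⟨r, hr, h1.2⟩

/-! ### (c) -/

omit hF hodd τ hEn hAE hE0 hEp in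
/-- if `g ∈ C(V)` centralises `W i / Z(W i)` and commutes with `A` then `[g, Z(W i)] ≤ D` -/
theorem comm_mem_D {g : G} (hgV : g ∈ centralizer (V : Set G)) (hg0 : g ∈ LemNS.N0 V R i)
    (hgA : ∀ a ∈ AA V R i j, pr (R i) ⟨g, b.cen_le_N i hgV⟩ * a = a * pr (R i) ⟨g, b.cen_le_N i hgV⟩)
    {z : G} (hz : z ∈ BTwo.ZZ V R i) : g * z * g⁻¹ * z⁻¹ ∈ DD V R := by
  have hgND : g ∈ normalizer (DD V R : Set G) := b.NV_le_ND (cen_le_NV V hgV)
  have hw := c.w1_mem 1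
  have hwU := LemNS.w1_not_mem c
  set w := w1 1
  obtain ⟨y, hy, hd⟩ := b.surj (Ne.symm c.ne) hw hwU (zU_le i hz)
  have hyN := U_le_N b.toBT i j hy
  set k := w * y * w⁻¹ * y⁻¹ with hk
  set d := k⁻¹ * z with hdd
  have hkU : k ∈ UU V R i := b.WU' hw hy
  -- `g w g⁻¹ = ζ w`
  set ζ := g * w * g⁻¹ * w⁻¹ with hζ
  have hζZ : ζ ∈ BTwo.ZZ V R i := hg0.2.2 w hw
  -- `g y g⁻¹ = δ y`
  set δ := g * y * g⁻¹ * y⁻¹ with hδ
  have hδU : δ ∈ UU V R j := mul_mem (conj_mem_of_normalizer (b.cen_le_NU j hgV) hy) (inv_mem hy)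
  have hδD : δ ∈ DD V R := by
    rw [← U_inf_Q b.toBT c.ne hδU]
    have h1 := hgA _ ((mem_AA b.toBT).2 ⟨y, hy, rfl⟩)
    have hgN := b.cen_le_N i hgV
    rw [← pr_eq_one (mul_mem (mul_mem (mul_mem hgN hyN) (inv_mem hgN)) (inv_mem hyN))]
    have e : pr (R i) ⟨δ, mul_mem (mul_mem (mul_mem hgN hyN) (inv_mem hgN)) (inv_mem hyN)⟩ =
        pr (R i) ⟨g, hgN⟩ * pr (R i) ⟨y, hyN⟩ * (pr (R i) ⟨g, hgN⟩)⁻¹ * (pr (R i) ⟨y, hyN⟩)⁻¹ := rfl
    rw [e, h1, mul_inv_cancel_right, mul_inv_cancel]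
  have c1 : Commute ζ (w * δ * w⁻¹) := z_comm hζZ
    (mul_mem (mul_mem hw (D_le_W V R i hδD)) (inv_mem hw))
  have c2 : Commute ζ k := z_comm hζZ (UU_le_WW i hkU)
  have hζy : ζ * y * ζ⁻¹ * y⁻¹ ∈ DD V R := (b.cen_W_U c.ne hζZ.2 hy).1
  have e1 : g * k * g⁻¹ = (w * δ * w⁻¹) * k * (ζ * y * ζ⁻¹ * y⁻¹) * δ⁻¹ := by
    have k1 : g * k * g⁻¹ = (g * w * g⁻¹) * (g * y * g⁻¹) * (g * w * g⁻¹)⁻¹ * (g * y * g⁻¹)⁻¹ := by
      rw [hk]; group
    have k2 : g * w * g⁻¹ = ζ * w := by rw [hζ]; group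
    have k3 : g * y * g⁻¹ = δ * y := by rw [hδ]; group
    rw [k1, k2, k3]
    calc ζ * w * (δ * y) * (ζ * w)⁻¹ * (δ * y)⁻¹
        = (ζ * (w * δ * w⁻¹)) * (w * y * w⁻¹ * y⁻¹) * y * ζ⁻¹ * y⁻¹ * δ⁻¹ := by group
      _ = (w * δ * w⁻¹ * ζ) * k * y * ζ⁻¹ * y⁻¹ * δ⁻¹ := by rw [c1.eq, ← hk]
      _ = (w * δ * w⁻¹) * (ζ * k) * y * ζ⁻¹ * y⁻¹ * δ⁻¹ := by simp only [mul_assoc]
      _ = (w * δ * w⁻¹) * (k * ζ) * y * ζ⁻¹ * y⁻¹ * δ⁻¹ := by rw [c2.eq]
      _ = (w * δ * w⁻¹) * k * (ζ * y * ζ⁻¹ * y⁻¹) * δ⁻¹ := by simp only [mul_assoc]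
  have e2 : z = k * d := by rw [hdd]; group
  have hwND : w ∈ normalizer (DD V R : Set G) := b.NV_le_ND (b.W_le_NV i hw)
  have hkND : k ∈ normalizer (DD V R : Set G) := b.Y_le_ND (UU_le_YY i hkU)
  have h1 : w * δ * w⁻¹ ∈ DD V R := conj_mem_of_normalizer hwND hδD
  have h2 : (ζ * y * ζ⁻¹ * y⁻¹) * δ⁻¹ * (g * d * g⁻¹) * d⁻¹ ∈ DD V R :=
    mul_mem (mul_mem (mul_mem hζy (inv_mem hδD)) (conj_mem_of_normalizer hgND hd)) (inv_mem hd)
  have h3 := conj_mem_of_normalizer hkND h2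
  have e3 : g * z * g⁻¹ * z⁻¹ = (w * δ * w⁻¹) * (k * ((ζ * y * ζ⁻¹ * y⁻¹) * δ⁻¹ * (g * d * g⁻¹) * d⁻¹) * k⁻¹) := by
    calc g * z * g⁻¹ * z⁻¹ = (g * k * g⁻¹) * (g * d * g⁻¹) * d⁻¹ * k⁻¹ := by rw [e2]; group
      _ = _ := by rw [e1]; group
  rw [e3]
  exact mul_mem h1 h3

omit hF hodd τ hEn hAE hE0 hEp c in
/-- the elements of `N₀` trivial on `Z(W i) / R i` lie in `O₂(N(R i))` -/
theorem N0_le_Q {x : G} (hx : x ∈ LemNS.N0 V R i) (h : ∀ z ∈ BTwo.ZZ V R i, x * z * x⁻¹ * z⁻¹ ∈ R i) :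
    x ∈ QQ (R i) := by
  let X0 : Subgroup G :=
    { carrier := {x | x ∈ LemNS.N0 V R i ∧ ∀ z ∈ BTwo.ZZ V R i, x * z * x⁻¹ * z⁻¹ ∈ R i}
      one_mem' := ⟨one_mem _, fun z _ => by
        rw [show 1 * z * 1⁻¹ * z⁻¹ = 1 by group]; exact one_mem _⟩
      mul_mem' := by
        rintro x y ⟨hx, hx'⟩ ⟨hy, hy'⟩
        refine ⟨mul_mem hx hy, fun z hz => ?_⟩
        have e : x * y * z * (x * y)⁻¹ * z⁻¹ = (x * (y * z * y⁻¹ * z⁻¹) * x⁻¹) * (x * z * x⁻¹ * z⁻¹) := by group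
        rw [e]
        exact mul_mem (conj_mem_of_normalizer (LemNS.N0_le_N i hx) (hy' z hz)) (hx' z hz)
      inv_mem' := by
        rintro x ⟨hx, hx'⟩
        refine ⟨inv_mem hx, fun z hz => ?_⟩
        have e : x⁻¹ * z * x⁻¹⁻¹ * z⁻¹ = x⁻¹ * (x * z * x⁻¹ * z⁻¹)⁻¹ * x := by group
        rw [e]
        exact conj_inv_mem_of_normalizer (LemNS.N0_le_N i hx) (inv_mem (hx' z hz)) }
  have key : X0 ≤ QQ (R i) := by
    refine le_O2_of_normal (fun x hx => LemNS.N0_le_N i hx.1) ?_ ?_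
    · refine isPGroup_of_odd fun x hx ho => ?_
      have hRP : IsPGroup 2 (R i) := (b.W_isPGroup i).to_le (b.R_le_W i i)
      have hZP : IsPGroup 2 (BTwo.ZZ V R i) := (b.W_isPGroup i).to_le inf_le_left
      have h1 : ∀ r ∈ R i, x * r = r * x := fun r hr => (mem_centralizer_iff.1 hx.1.1 r hr).symm
      have h2 : ∀ s ∈ BTwo.ZZ V R i, x * s = s * x := fun s hs =>
        comm_of_odd ho hRP (hx.2 s hs) (h1 _ (hx.2 s hs))
      have h3 : ∀ w ∈ WW V (R i), x * w = w * x := fun w hw =>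
        comm_of_odd ho hZP (hx.1.2.2 w hw) (h2 _ (hx.1.2.2 w hw))
      have h4 : x ∈ centralizer (WW V (R i) : Set G) := by
        rw [mem_centralizer_iff]; exact fun w hw => (h3 w hw).symm
      obtain ⟨n, hn⟩ := b.cen_W_isPGroup i ⟨x, h4⟩
      have hn' : x ^ 2 ^ n = 1 := congrArg Subtype.val hn
      have hd := Nat.dvd_gcd (dvd_refl (orderOf x)) (orderOf_dvd_of_pow_eq_one hn')
      have hco : Nat.gcd (orderOf x) (2 ^ n) = 1 := (Nat.coprime_two_right.2 ho).pow_right n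
      rw [hco, Nat.dvd_one, orderOf_eq_one_iff] at hd
      exact hd
    · rintro g hg x hx
      refine ⟨LemNS.N_le_NN0 i hg hx.1, fun z hz => ?_⟩
      have h1 := hx.2 _ (conj_inv_mem_of_normalizer (LemNS.N_le_NZ i hg) hz)
      have h2 := conj_mem_of_normalizer hg h1
      rwa [show g * (x * (g⁻¹ * z * g) * x⁻¹ * (g⁻¹ * z * g)⁻¹) * g⁻¹ =
        g * x * g⁻¹ * z * (g * x * g⁻¹)⁻¹ * z⁻¹ by group] at h2
  exact key ⟨hx, h⟩

variable {S : Subgroup (HQ (R i))} (I : SylI τ S)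
  (hEg : ∀ L : Subgroup (HQ (R i)), AA V R i j ≤ L → (∀ g ∈ E, ∀ l ∈ L, g * l * g⁻¹ ∈ L) → E ≤ L)
  (hNE : ∀ n ∈ KN V R i, ∀ x ∈ E, n * x = x * n)
include I hEg hNE

/-- **(c)** `S ∩ N₀ = 1` -/
theorem S_inf_KN {s : HQ (R i)} (hs : s ∈ S) (hs0 : s ∈ KN V R i) : s = 1 := by
  obtain ⟨g, hg, hgV, rfl⟩ := I.rep s hs
  have hg0 := (pr_mem_KN b.toBT hg).1 hs0
  have hZD : ∀ z ∈ BTwo.ZZ V R i, g * z * g⁻¹ * z⁻¹ ∈ DD V R := fun z hz =>
    comm_mem_D b c hgV hg0 (fun a ha => KN_comm_A b hF c τ hodd hs0 ha) hz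
  obtain ⟨M, B, _, _, _, _, _, p, r, f, m⟩ := exists_modQ b.toBT i
  -- `K = [rad, s]`
  let φ : M →+ M :=
    { toFun := fun x => pr (R i) ⟨g, hg⟩ • x - x
      map_zero' := by rw [smul_zero, sub_zero]
      map_add' := fun x y => by rw [smul_add]; abel }
  set K : AddSubgroup M := m.rad.map φ with hK
  have hKr : ∀ y ∈ K, ∃ d ∈ DD V R ⊓ BTwo.ZZ V R i, y = p d := by
    rintro _ ⟨x, hx, rfl⟩
    obtain ⟨z, hz, rfl⟩ := (m.mem_rad b.toBT).1 hx
    refine ⟨g * z * g⁻¹ * z⁻¹, mem_inf.2 ⟨hZD z hz, mul_mem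
      (conj_mem_of_normalizer (LemNS.N_le_NZ i hg) hz) (inv_mem hz)⟩, ?_⟩
    change pr (R i) ⟨g, hg⟩ • p z - p z = _
    have hzW : z ∈ WW V (R i) := hz.1
    have h1 := conj_mem_of_normalizer (normalizer_le_WW V (R i) hg) hzW
    rw [m.act hg hzW, m.p_mul _ h1 _ (inv_mem hzW), m.p_inv hzW, sub_eq_add_neg]
  have hEK : ∀ x ∈ E, ∀ y ∈ K, x • y ∈ K := by
    rintro x hx _ ⟨y, hy, rfl⟩
    refine ⟨x • y, m.smul_rad b.toBT (hE0 hx) hy, ?_⟩
    change pr (R i) ⟨g, hg⟩ • x • y - x • y = x • (pr (R i) ⟨g, hg⟩ • y - y)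
    rw [smul_sub, smul_smul, smul_smul, hNE _ hs0 x hx]
  have hAK : ∀ a ∈ AA V R i j, ∀ y ∈ K, a • y = y := by
    intro a ha y hy
    obtain ⟨d, hd, rfl⟩ := hKr y hy
    obtain ⟨u, hu, rfl⟩ := (mem_AA b.toBT).1 ha
    obtain ⟨r', hr', h1⟩ := b.cen_DW (mem_inf.1 hd).1 (mem_inf.1 hd).2.2
    have hdW : d ∈ WW V (R i) := D_le_W V R i (mem_inf.1 hd).1
    have huN := U_le_N b.toBT i j hu
    rw [m.act huN hdW, m.p_eq_iff (conj_mem_of_normalizer (normalizer_le_WW V (R i) huN) hdW) hdW]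
    have c1 : Commute u (r' * d) := LemNS.CenX_comm (W_le_X V R j (UU_le_WW j hu)) h1.2
    have c2 : Commute u r' := (mem_centralizer_iff.1 (UU_le_cen j hu) r' (b.R_le i hr')).symm
    have c3 : Commute u d := by
      have h3 := c2.inv_right.mul_right c1
      rwa [inv_mul_cancel_left] at h3
    rw [c3.eq, mul_inv_cancel_right, mul_inv_cancel]
    exact one_mem _
  -- `E` centralises `K`
  have hE : ∀ x ∈ E, ∀ y ∈ K, x • y = y := by
    let L : Subgroup (HQ (R i)) :=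
      { carrier := {x | ∀ y ∈ K, x • y = y}
        one_mem' := fun y _ => one_smul _ y
        mul_mem' := fun {x x'} hx hx' y hy => by rw [mul_smul, hx' y hy, hx y hy]
        inv_mem' := fun {x} hx y hy => by rw [inv_smul_eq_iff, hx y hy] }
    have hL : E ≤ L := hEg L (fun a ha => hAK a ha) fun x hx l hl y hy => by
      have h1 : x⁻¹ • y ∈ K := hEK _ (inv_mem hx) y hy
      rw [mul_smul, mul_smul, hl _ h1, smul_inv_smul]
    exact fun x hx => hL hx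
  -- `K = 0`
  have hK0 : ∀ y ∈ K, y = 0 := by
    intro y hy
    obtain ⟨d, hd, rfl⟩ := hKr y hy
    have hdW : d ∈ WW V (R i) := (mem_inf.1 hd).2.1
    rw [m.p_ker d hdW]
    refine cen_rad b hF c τ hodd hEn hAE hE0 hEp ⟨(mem_inf.1 hd).2, fun x hx => ?_⟩
    obtain ⟨hxN, hxE⟩ := mem_lift.1 hx
    have h1 := hE _ hxE _ hy
    rwa [m.act hxN hdW, m.p_eq_iff (conj_mem_of_normalizer (normalizer_le_WW V (R i) hxN) hdW) hdW] at h1
  rw [pr_eq_one]
  refine N0_le_Q b hg0 fun z hz => ?_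
  have hzW : z ∈ WW V (R i) := hz.1
  have h1 := hK0 _ ⟨p z, (m.mem_rad b.toBT).2 ⟨z, hz, rfl⟩, rfl⟩
  change pr (R i) ⟨g, hg⟩ • p z - p z = 0 at h1
  rwa [sub_eq_zero, m.act hg hzW,
    m.p_eq_iff (conj_mem_of_normalizer (normalizer_le_WW V (R i) hg) hzW) hzW] at h1

end main

end Cfsg.Agent.Omega.HOneQ.ECen

end
end

private theorem dce_05833dabf8f4 : _root_.True := by
  try have : _root_.True := by simp only [_root_.IsPGroup.toSylow.congr_simp]
  try have : _root_.True := by simp only [_root_.Cfsg.Agent.Omega.HOneQ.CRad.com.eq_1]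
  try have : _root_.True := by simp only [_root_.Cfsg.Agent.Omega.Lie.ModQ.tq.congr_simp]
  exact _root_.True.intro
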